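import Mathlib
import Cfsg.Agent.H10.Small
import Cfsg.Agent.H10.MAut

/-! Combinatorics of the minimal vectors of the Leech lattice. -/

set_option autoImplicit false
set_option linter.all false
set_option maxRecDepth 100000

open Cfsg H9 H10 H10.Mon MulAction

namespace H4.TL

/-- minimal vector -/
abbrev Mv (x : L) : Prop := sqNorm (x : V) = 32
/-- inner product -/
abbrev dt (x y : L) : ℤ := dotInt (x : V) (y : V)
/-- adjacency -/
def Ad (x y : L) : Prop := dt x y = 16 ∨ dt x y = -16

/-- the class of a minimal vector -/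
noncomputable def cl (x : L) (h : Mv x) : S := ⟨kap x, x, h, rfl⟩

variable {x y z w u v a b x' y' w' : L}

theorem Ad.symm (h : Ad x y) : Ad y x := by unfold Ad dt at *; rwa [dot_comm]

theorem Mv.neg (h : Mv x) : Mv (-x) := by rw [Mv, AddSubgroup.coe_neg, sqNorm_neg]; exact h

theorem Mv.smul (h : Mv x) (g : G0) : Mv (g • x) := (co_norm g x).trans h

theorem dt_neg_l : dt (-x) y = -dt x y := by rw [dt, AddSubgroup.coe_neg, dot_neg_left]
theorem dt_neg_r : dt x (-y) = -dt x y := by rw [dt, AddSubgroup.coe_neg, dot_neg_right]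
theorem dt_sub_l : dt (x - y) z = dt x z - dt y z := by rw [dt, AddSubgroup.coe_sub, dot_sub_left]
theorem dt_sub_r : dt x (y - z) = dt x y - dt x z := by rw [dt, AddSubgroup.coe_sub, dot_sub_right]
theorem dt_add_l : dt (x + y) z = dt x z + dt y z := by rw [dt, AddSubgroup.coe_add, dot_add_left]
theorem dt_add_r : dt x (y + z) = dt x y + dt x z := by rw [dt, AddSubgroup.coe_add, dot_add_right]
theorem dt_comm (x y : L) : dt x y = dt y x := dot_comm _ _
theorem dt_self (h : Mv x) : dt x x = 32 := (dot_self _).trans h
theorem mv_of (h : dt x x = 32) : Mv x := (dot_self _).symm.trans h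

theorem ad_neg_l : Ad (-x) y ↔ Ad x y := by unfold Ad; rw [dt_neg_l]; omega
theorem ad_neg_r : Ad x (-y) ↔ Ad x y := by unfold Ad; rw [dt_neg_r]; omega
theorem ad_smul (g : G0) : Ad (g • x) (g • y) ↔ Ad x y := by unfold Ad dt; rw [co_dot]

theorem kap_sub (x y : L) : kap (x - y) = kap x + kap y := by
  rw [sub_eq_add_neg, map_add, kap_neg]

theorem ad_iff (hx : Mv x) (hy : Mv y) : (∃ e : S, kap x + kap y = e.1) ↔ Ad x y := by
  have n1 : sqNorm ((x + y : L) : V) = 64 + 2 * dt x y := by
    rw [AddSubgroup.coe_add, sqNorm_add, hx, hy]; rfl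
  have n2 : sqNorm ((x - y : L) : V) = 64 - 2 * dt x y := by
    rw [AddSubgroup.coe_sub, sqNorm_sub, hx, hy]; rfl
  refine ⟨fun ⟨⟨_, z, hz, rfl⟩, e⟩ => ?_, fun h => ?_⟩
  · have k : ∀ t : L, sqNorm (t : V) ≤ 64 → kap z = kap t → sqNorm (t : V) = 32 := fun t h1 h2 => by
      rcases eq_or_neg hz h1 h2 with rfl | rfl
      · exact hz
      · exact Mv.neg hz
    rcases le_total (dt x y) 0 with h | h
    · have := k (x + y) (by omega) (by rw [map_add]; exact e.symm)
      right; omega
    · have := k (x - y) (by omega) (by rw [kap_sub]; exact e.symm)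
      left; omega
  · rcases h with h | h
    · exact ⟨cl (x - y) (by rw [Mv, n2, h]; rfl), (kap_sub x y).symm⟩
    · exact ⟨cl (x + y) (by rw [Mv, n1, h]; rfl), (map_add kap x y).symm⟩

theorem pair_U (hx : Mv x) : ∃ g : G0, g • x = vU ∧ ∀ y, dU (g • y) = dt x y := by
  obtain ⟨g, e⟩ := tr_C0 x vU hx norm_vU
  exact ⟨g, e, fun y => by rw [dU, ← e, co_dot]⟩

theorem pair_tr (hx : Mv x) (hy : Mv y) (hx' : Mv x') (hy' : Mv y') (h : dt x y = dt x' y') :
    ∃ g : G0, g • x = x' ∧ g • y = y' := by
  obtain ⟨g, e, f⟩ := pair_U hx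
  obtain ⟨g', e', f'⟩ := pair_U hx'
  obtain ⟨k, hk, e2⟩ := tr_C2 _ _ (hy.smul g) (hy'.smul g') (by rw [f, f', h])
  refine ⟨g'⁻¹ * k * g, ?_, ?_⟩
  · rw [mul_smul, mul_smul, e, show k • vU = vU from hk, inv_smul_eq_iff, e']
  · rw [mul_smul, mul_smul, e2, inv_smul_smul]

theorem dots (hx : Mv x) (hy : Mv y) (h : ¬ Ad x y) :
    dt x y = 32 ∨ dt x y = -32 ∨ dt x y = 0 ∨ dt x y = 8 ∨ dt x y = -8 := by
  obtain ⟨g, -, f⟩ := pair_U hx
  have := forall_min (fun a _ _ _ => a = 16 ∨ a = -16 ∨ a = 32 ∨ a = -32 ∨ a = 0 ∨ a = 8 ∨ a = -8)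
    (by decide +kernel) _ (hy.smul g)
  rw [f] at this
  unfold Ad at h
  tauto

/-- `U + V` -/
noncomputable def vZ : L := vU + vV

theorem dt_Z (y : L) : dt vZ y = dU y + dV y := dt_add_l

theorem mv_Z : Mv vZ := by
  rw [Mv, vZ, AddSubgroup.coe_add, sqNorm_add, norm_vU, norm_vV, dot_vU_vV]; rfl

theorem dU_Z : dt vU vZ = 8 := by rw [dt_comm, dt_Z, dU_vU, dV_vU]; rfl

theorem std (hx : Mv x) (hu : Mv u) (h : ¬ Ad x u) : ∃ g : G0, ∃ x0, (x0 = vU ∨ x0 = vU' ∨ x0 = vZ) ∧
    (∀ y, Ad u y ↔ Ad vU (g • y)) ∧ ∀ y, Ad x y ↔ Ad x0 (g • y) := by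
  have k : ∀ x1 x0 : L, Mv x1 → Mv x0 → (∀ y, Ad x y ↔ Ad x1 y) → dt u x1 = dt vU x0 →
      ∃ g : G0, (∀ y, Ad u y ↔ Ad vU (g • y)) ∧ ∀ y, Ad x y ↔ Ad x0 (g • y) := by
    intro x1 x0 h1 h0 e hd
    obtain ⟨g, e1, e2⟩ := pair_tr hu h1 norm_vU h0 hd
    exact ⟨g, fun y => by rw [← e1, ad_smul], fun y => by rw [← e2, ad_smul, e]⟩
  have d := dots hu hx fun e => h e.symm
  have p := k x
  have n := k (-x)
  rcases d with d | d | d | d | d
  · obtain ⟨g, e⟩ := p vU hx norm_vU (fun _ => Iff.rfl) (d.trans dU_vU.symm)
    exact ⟨g, _, .inl rfl, e⟩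
  · obtain ⟨g, e⟩ := n vU hx.neg norm_vU (fun _ => ad_neg_l.symm) (by rw [dt_neg_r, d]; exact dU_vU.symm)
    exact ⟨g, _, .inl rfl, e⟩
  · obtain ⟨g, e⟩ := p vU' hx norm_vU' (fun _ => Iff.rfl) (d.trans dU_vU'.symm)
    exact ⟨g, _, .inr (.inl rfl), e⟩
  · obtain ⟨g, e⟩ := p vZ hx mv_Z (fun _ => Iff.rfl) (d.trans dU_Z.symm)
    exact ⟨g, _, .inr (.inr rfl), e⟩
  · obtain ⟨g, e⟩ := n vZ hx.neg mv_Z (fun _ => ad_neg_l.symm) (by rw [dt_neg_r, d, dU_Z]; rfl)
    exact ⟨g, _, .inr (.inr rfl), e⟩

/-! ### The two lists -/

def pm16 (a : ℤ) : Bool := decide (a = 16) || decide (a = -16)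

theorem pm16_iff {a : ℤ} : pm16 a = true ↔ a = 16 ∨ a = -16 := by simp [pm16]

def adC (a b : ℕ) : Bool := pm16 (dotC a b)

theorem ad_of {c d : ℕ} (hx : (x : V) = vc c) (hy : (y : V) = vc d) (h : adC c d = true) : Ad x y := by
  unfold Ad dt; rw [hx, hy, dot_vc]; exact pm16_iff.1 h

def l88 : List ℕ := [0x0010000c0010001000100010001000100010001000100010001000100010001000100010001000100010001000100014,
  0x00100010000c001000100010001000100010001000100010001000100010001000100010001000100010001000100014,
  0x001000100010000c00100010001000100010001000100010001000100010001000100010001000100010001000100014,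
  0x0010001000100010000c0010001000100010001000100010001000100010001000100010001000100010001000100014,
  0x00100010001000100010000c001000100010001000100010001000100010001000100010001000100010001000100014,
  0x001000100010001000100010000c00100010001000100010001000100010001000100010001000100010001000100014,
  0x0010001000100010001000100010000c0010001000100010001000100010001000100010001000100010001000100014,
  0x00100010001000100010001000100010000c001000100010001000100010001000100010001000100010001000100014,
  0x001000100010001000100010001000100010000c00100010001000100010001000100010001000100010001000100014,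
  0x0010001000100010001000100010001000100010000c0010001000100010001000100010001000100010001000100014,
  0x00100010001000100010001000100010001000100010000c001000100010001000100010001000100010001000100014,
  0x001000100010001000100010001000100010001000100010000c00100010001000100010001000100010001000100014,
  0x0010001000100010001000100010001000100010001000100010000c0010001000100010001000100010001000100014,
  0x00100010001000100010001000100010001000100010001000100010000c001000100010001000100010001000100014,
  0x001000100010001000100010001000100010001000100010001000100010000c00100010001000100010001000100014,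
  0x0010001000100010001000100010001000100010001000100010001000100010000c0010001000100010001000100014,
  0x00100010001000100010001000100010001000100010001000100010001000100010000c001000100010001000100014,
  0x001000100010001000100010001000100010001000100010001000100010001000100010000c00100010001000100014,
  0x0010001000100010001000100010001000100010001000100010001000100010001000100010000c0010001000100014,
  0x00100010001000100010001000100010001000100010001000100010001000100010001000100010000c001000100014,
  0x001000100010001000100010001000100010001000100010001000100010001000100010001000100010000c00100014,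
  0x0010001000100010001000100010001000100010001000100010001000100010001000100010001000100010000c0014,
  0x001000100010001000100010001000100010001000100010001000100010001000100010001000100010001000140014,
  0x001000100010001000100010001000100010001000100010001000100010001000100010001000100010001400100014,
  0x001000100010001000100010001000100010001000100010001000100010001000100010001000100014001000100014,
  0x001000100010001000100010001000100010001000100010001000100010001000100010001000140010001000100014,
  0x001000100010001000100010001000100010001000100010001000100010001000100010001400100010001000100014,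
  0x001000100010001000100010001000100010001000100010001000100010001000100014001000100010001000100014,
  0x001000100010001000100010001000100010001000100010001000100010001000140010001000100010001000100014,
  0x001000100010001000100010001000100010001000100010001000100010001400100010001000100010001000100014,
  0x001000100010001000100010001000100010001000100010001000100014001000100010001000100010001000100014,
  0x001000100010001000100010001000100010001000100010001000140010001000100010001000100010001000100014,
  0x001000100010001000100010001000100010001000100010001400100010001000100010001000100010001000100014,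
  0x001000100010001000100010001000100010001000100014001000100010001000100010001000100010001000100014,
  0x001000100010001000100010001000100010001000140010001000100010001000100010001000100010001000100014,
  0x001000100010001000100010001000100010001400100010001000100010001000100010001000100010001000100014,
  0x001000100010001000100010001000100014001000100010001000100010001000100010001000100010001000100014,
  0x001000100010001000100010001000140010001000100010001000100010001000100010001000100010001000100014,
  0x001000100010001000100010001400100010001000100010001000100010001000100010001000100010001000100014,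
  0x001000100010001000100014001000100010001000100010001000100010001000100010001000100010001000100014,
  0x001000100010001000140010001000100010001000100010001000100010001000100010001000100010001000100014,
  0x001000100010001400100010001000100010001000100010001000100010001000100010001000100010001000100014,
  0x001000100014001000100010001000100010001000100010001000100010001000100010001000100010001000100014,
  0x001000140010001000100010001000100010001000100010001000100010001000100010001000100010001000100014,
  0x0014000c0010001000100010001000100010001000100010001000100010001000100010001000100010001000100010,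
  0x00140010000c001000100010001000100010001000100010001000100010001000100010001000100010001000100010,
  0x001400100010000c00100010001000100010001000100010001000100010001000100010001000100010001000100010,
  0x0014001000100010000c0010001000100010001000100010001000100010001000100010001000100010001000100010,
  0x00140010001000100010000c001000100010001000100010001000100010001000100010001000100010001000100010,
  0x001400100010001000100010000c00100010001000100010001000100010001000100010001000100010001000100010,
  0x0014001000100010001000100010000c0010001000100010001000100010001000100010001000100010001000100010,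
  0x00140010001000100010001000100010000c001000100010001000100010001000100010001000100010001000100010,
  0x001400100010001000100010001000100010000c00100010001000100010001000100010001000100010001000100010,
  0x0014001000100010001000100010001000100010000c0010001000100010001000100010001000100010001000100010,
  0x00140010001000100010001000100010001000100010000c001000100010001000100010001000100010001000100010,
  0x001400100010001000100010001000100010001000100010000c00100010001000100010001000100010001000100010,
  0x0014001000100010001000100010001000100010001000100010000c0010001000100010001000100010001000100010,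
  0x00140010001000100010001000100010001000100010001000100010000c001000100010001000100010001000100010,
  0x001400100010001000100010001000100010001000100010001000100010000c00100010001000100010001000100010,
  0x0014001000100010001000100010001000100010001000100010001000100010000c0010001000100010001000100010,
  0x00140010001000100010001000100010001000100010001000100010001000100010000c001000100010001000100010,
  0x001400100010001000100010001000100010001000100010001000100010001000100010000c00100010001000100010,
  0x0014001000100010001000100010001000100010001000100010001000100010001000100010000c0010001000100010,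
  0x00140010001000100010001000100010001000100010001000100010001000100010001000100010000c001000100010,
  0x001400100010001000100010001000100010001000100010001000100010001000100010001000100010000c00100010,
  0x0014001000100010001000100010001000100010001000100010001000100010001000100010001000100010000c0010,
  0x001400100010001000100010001000100010001000100010001000100010001000100010001000100010001000140010,
  0x001400100010001000100010001000100010001000100010001000100010001000100010001000100010001400100010,
  0x001400100010001000100010001000100010001000100010001000100010001000100010001000100014001000100010,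
  0x001400100010001000100010001000100010001000100010001000100010001000100010001000140010001000100010,
  0x001400100010001000100010001000100010001000100010001000100010001000100010001400100010001000100010,
  0x001400100010001000100010001000100010001000100010001000100010001000100014001000100010001000100010,
  0x001400100010001000100010001000100010001000100010001000100010001000140010001000100010001000100010,
  0x001400100010001000100010001000100010001000100010001000100010001400100010001000100010001000100010,
  0x001400100010001000100010001000100010001000100010001000100014001000100010001000100010001000100010,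
  0x001400100010001000100010001000100010001000100010001000140010001000100010001000100010001000100010,
  0x001400100010001000100010001000100010001000100010001400100010001000100010001000100010001000100010,
  0x001400100010001000100010001000100010001000100014001000100010001000100010001000100010001000100010,
  0x001400100010001000100010001000100010001000140010001000100010001000100010001000100010001000100010,
  0x001400100010001000100010001000100010001400100010001000100010001000100010001000100010001000100010,
  0x001400100010001000100010001000100014001000100010001000100010001000100010001000100010001000100010,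
  0x001400100010001000100010001000140010001000100010001000100010001000100010001000100010001000100010,
  0x001400100010001000100010001400100010001000100010001000100010001000100010001000100010001000100010,
  0x001400100010001000100014001000100010001000100010001000100010001000100010001000100010001000100010,
  0x001400100010001000140010001000100010001000100010001000100010001000100010001000100010001000100010,
  0x001400100010001400100010001000100010001000100010001000100010001000100010001000100010001000100010,
  0x001400100014001000100010001000100010001000100010001000100010001000100010001000100010001000100010,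
  0x001400140010001000100010001000100010001000100010001000100010001000100010001000100010001000100010]

def S88 : Set L := {y | Mv y ∧ dU y = 16 ∧ (dU' y = 16 ∨ dU' y = -16)}

theorem l88_chk : l88.all (fun c => inL c && decide (dotC c c = 32) && decide (dotC cU c = 16) &&
    adC cU' c && Nat.beq (shpC c) 0) = true := by decide +kernel

theorem l88_spec : ∀ c ∈ l88, inL c = true ∧ shpC c = 0 ∧ ∀ y : L, (y : V) = vc c → y ∈ S88 := by
  intro c hc
  have := List.all_eq_true.1 l88_chk c hc
  simp only [Bool.and_eq_true, decide_eq_true_eq, beq_iff, adC, pm16_iff] at this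
  obtain ⟨⟨⟨⟨h1, h2⟩, h3⟩, h4⟩, h5⟩ := this
  exact ⟨h1, h5, fun y e => ⟨(norm_of e).trans h2, (dU_of e).trans h3, by rwa [dU'_of e]⟩⟩

theorem cover88 : ∀ y ∈ S88, ∃ c ∈ l88, (y : V) = vc c :=
  mem_list_of_ncard S88 ((finite_normL 32).subset fun _ hx => hx.1) _ (by decide +kernel)
    (fun c hc => (l88_spec c hc).1) (fun c hc => (l88_spec c hc).2.2)
    (ncard_of_P _ (fun a b _ => decide (a = 16) && pm16 b) (by decide +kernel) (by
      simp [S88, pm16_iff]))

def connC (l : List ℕ) (r : ℕ) : Bool := l.all fun c => adC r c || l.any fun d => adC r d && adC d c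

theorem conn_list {l : List ℕ} {T : Set L} (hL : ∀ c ∈ l, inL c = true)
    (hm : ∀ c ∈ l, ∀ y : L, (y : V) = vc c → y ∈ T) (hc : ∀ y ∈ T, ∃ c ∈ l, (y : V) = vc c) {r : ℕ}
    (hr : r ∈ l) (chk : connC l r = true) (Q : L → Prop)
    (hQ : ∀ a ∈ T, ∀ b ∈ T, Ad a b → Q a → Q b) : ∀ a ∈ T, ∀ b ∈ T, Q a → Q b := by
  have e0 := lv_coe (hL r hr)
  have i : ∀ a ∈ T, ∀ b ∈ T, Ad a b → (Q a ↔ Q b) := fun a ha b hb h =>
    ⟨hQ a ha b hb h, hQ b hb a ha h.symm⟩
  have k : ∀ a ∈ T, (Q (lv r) ↔ Q a) := fun a ha => by
    obtain ⟨c, h1, e⟩ := hc a ha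
    have := List.all_eq_true.1 chk c h1
    simp only [Bool.or_eq_true, List.any_eq_true, Bool.and_eq_true] at this
    rcases this with h | ⟨d, hd, h2, h3⟩
    · exact i _ (hm r hr _ e0) a ha (ad_of e0 e h)
    · have e1 := lv_coe (hL d hd)
      exact (i _ (hm r hr _ e0) _ (hm d hd _ e1) (ad_of e0 e1 h2)).trans
        (i _ (hm d hd _ e1) a ha (ad_of e1 e h3))
  exact fun a ha b hb h => (k b hb).1 ((k a ha).2 h)

theorem conn88_chk : connC l88 (l88.getD 0 0) = true := by decide +kernel

theorem conn88_mem : l88.getD 0 0 ∈ l88 := List.contains_iff_mem.1 (by decide +kernel)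

theorem conn88 (Q : L → Prop) (hQ : ∀ a ∈ S88, ∀ b ∈ S88, Ad a b → Q a → Q b) :
    ∀ a ∈ S88, ∀ b ∈ S88, Q a → Q b :=
  conn_list (fun c hc => (l88_spec c hc).1) (fun c hc => (l88_spec c hc).2.2) cover88
    conn88_mem conn88_chk Q hQ

theorem conn275 (Q : L → Prop) (hQ : ∀ a ∈ S275, ∀ b ∈ S275, Ad a b → Q a → Q b) :
    ∀ a ∈ S275, ∀ b ∈ S275, Q a → Q b :=
  conn_list (fun c hc => (l275_spec c hc).1) mem275 cover275
    (r := (l275.map Prod.fst).getD 0 0) (by decide +kernel) (by decide +kernel) Q hQ

theorem chk88 : reps.all (fun r => cond (pm16 r.2.1 || (Nat.beq r.2.2.2.2 0 && !pm16 r.2.2.1))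
    (l88.any (adC r.1)) true) = true := by decide +kernel

theorem chk275 : reps.all (fun r => cond (pm16 r.2.1)
    ((l275.map Prod.fst).any fun c => pm16 (r.2.1 - dotC r.1 c)) true) = true := by decide +kernel

theorem near88 (hv : Mv v) (h : Ad vU v ∨ (shp (v : V) = 0 ∧ ¬ Ad vU' v)) :
    ∃ a ∈ S88, shp (a : V) = 0 ∧ Ad a v := by
  obtain ⟨g, hg, r, hr, e1, e2⟩ := classify v hv
  have := List.all_eq_true.1 chk88 r hr
  have c : (pm16 r.2.1 || (Nat.beq r.2.2.2.2 0 && !pm16 r.2.2.1)) = true := by
    rw [e2]
    simp only [Bool.or_eq_true, Bool.and_eq_true, beq_iff, Bool.not_eq_true', ← Bool.not_eq_true,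
      pm16_iff]
    exact h
  rw [c, cond_true, List.any_eq_true] at this
  obtain ⟨c, hc, h1⟩ := this
  obtain ⟨h2, h3, h4⟩ := l88_spec c hc
  have e0 := lv_coe h2
  obtain ⟨k1, k2, k3⟩ := h4 _ e0
  obtain ⟨f1, f2, f3⟩ := mem_H22.1 (inv_mem hg)
  refine ⟨g⁻¹ • lv c, ⟨k1.smul _, (dot_of_fix f1 _).trans k2, by rwa [dU', dot_of_fix f2]⟩, ?_, ?_⟩
  · rw [shp_N0 (H22_le_N0 (inv_mem hg)), e0, shp_vc, h3]
  · rw [← ad_smul g, smul_inv_smul]; exact (ad_of e1 e0 h1).symm

theorem sub275 (hy : y ∈ S275) : Mv (vU - y) ∧ Ad vU (vU - y) ∧ Ad vZ (vU - y) := by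
  obtain ⟨h1, h2, h3⟩ := hy
  have e : dt vU (vU - y) = 16 := by
    rw [dt_sub_r, dt_self norm_vU, show dt vU y = 16 from h3]; rfl
  refine ⟨mv_of ?_, .inl e, .inl ?_⟩
  · rw [dt_sub_l, e, dt_sub_r, dt_self h1, dt_comm, show dt vU y = 16 from h3]; rfl
  · rw [dt_sub_r, dt_Z, dt_Z, h2, h3, dU_vU, dV_vU]; rfl

theorem near275 (hv : Mv v) (h : Ad vU v) : ∃ y ∈ S275, Ad (vU - y) v := by
  obtain ⟨g, hg, r, hr, e1, e2⟩ := classify v hv
  have := List.all_eq_true.1 chk275 r hr
  have e3 : r.2.1 = dU v := by rw [e2]
  rw [e3, pm16_iff.2 h, cond_true, List.any_eq_true] at this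
  obtain ⟨c, hc, h1⟩ := this
  have e0 := lv_coe (l275_spec c hc).1
  obtain ⟨k1, k2, k3⟩ := mem275 c hc _ e0
  obtain ⟨f1, f2, f3⟩ := mem_H22.1 (inv_mem hg)
  refine ⟨g⁻¹ • lv c, ⟨Mv.smul k1 _, (dot_of_fix f3 _).trans k2, (dot_of_fix f1 _).trans k3⟩, ?_⟩
  have : dt (g⁻¹ • lv c) v = dotC r.1 c := by
    rw [dt, co_dot_left, inv_inv, e0, e1, dot_comm, dot_vc]
  unfold Ad
  rw [dt_sub_l, this]
  exact pm16_iff.1 h1

theorem S88.ad (h : a ∈ S88) : Mv a ∧ Ad vU a ∧ Ad vU' a := ⟨h.1, .inl h.2.1, h.2.2⟩

theorem vcover (hx : Mv x) (hu : Mv u) (h : ¬ Ad x u) (hv : Mv v) (huv : Ad u v) :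
    ∃ a, Mv a ∧ Ad x a ∧ Ad u a ∧ Ad a v := by
  obtain ⟨g, x0, h0, e1, e2⟩ := std hx hu h
  obtain ⟨a, h1, h2, h3, h4⟩ : ∃ a, Mv a ∧ Ad x0 a ∧ Ad vU a ∧ Ad a (g • v) := by
    obtain ⟨a, ha, -, h4⟩ := near88 (hv.smul g) (.inl ((e1 v).1 huv))
    obtain ⟨y, hy, h5⟩ := near275 (hv.smul g) ((e1 v).1 huv)
    rcases h0 with rfl | rfl | rfl
    · exact ⟨a, ha.1, (S88.ad ha).2.1, (S88.ad ha).2.1, h4⟩
    · exact ⟨a, ha.1, (S88.ad ha).2.2, (S88.ad ha).2.1, h4⟩
    · exact ⟨_, (sub275 hy).1, (sub275 hy).2.2, (sub275 hy).2.1, h5⟩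
  refine ⟨g⁻¹ • a, h1.smul _, ?_, ?_, ?_⟩
  · rwa [e2, smul_inv_smul]
  · rwa [e1, smul_inv_smul]
  · rwa [← ad_smul g, smul_inv_smul]

theorem sgn16 (h : Ad x y) : ∃ y', (y' = y ∨ y' = -y) ∧ dt x y' = 16 := by
  rcases h with h | h
  · exact ⟨y, .inl rfl, h⟩
  · exact ⟨-y, .inr rfl, by rw [dt_neg_r, h]; rfl⟩

theorem vconn0 {x0 : L} (h0 : x0 = vU ∨ x0 = vU' ∨ x0 = vZ) (Q : L → Prop) (hn : ∀ a, Q (-a) ↔ Q a)
    (hQ : ∀ a b, Mv a → Mv b → Ad x0 a → Ad vU a → Ad x0 b → Ad vU b → Ad a b → Q a → Q b)
    (ha : Mv a) (hb : Mv b) (h1 : Ad x0 a) (h2 : Ad vU a) (h3 : Ad x0 b) (h4 : Ad vU b) (q : Q a) :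
    Q b := by
  have nm : ∀ a, Mv a → Ad x0 a → Ad vU a → ∃ a', Mv a' ∧ Ad x0 a' ∧ dU a' = 16 ∧ (Q a' ↔ Q a) :=
    fun a h1 h2 h3 => by
      obtain ⟨a', rfl | rfl, e⟩ := sgn16 h3
      · exact ⟨_, h1, h2, e, Iff.rfl⟩
      · exact ⟨_, h1.neg, ad_neg_r.2 h2, e, hn a⟩
  rcases h0 with rfl | rfl | rfl
  · obtain ⟨a', ha', -, k1⟩ := near88 ha (.inl h2)
    obtain ⟨b', hb', -, k2⟩ := near88 hb (.inl h4)
    have s1 := S88.ad ha'
    have s2 := S88.ad hb'
    exact hQ _ _ s2.1 hb s2.2.1 s2.2.1 h4 h4 k2 (conn88 Q (fun a ha b hb =>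
      hQ a b ha.1 hb.1 (S88.ad ha).2.1 (S88.ad ha).2.1 (S88.ad hb).2.1 (S88.ad hb).2.1) _ ha' _ hb'
      (hQ _ _ ha s1.1 h2 h2 s1.2.1 s1.2.1 k1.symm q))
  · obtain ⟨a', p1, p2, p3, p4⟩ := nm a ha h1 h2
    obtain ⟨b', q1, q2, q3, q4⟩ := nm b hb h3 h4
    exact q4.1 (conn88 Q (fun a ha b hb => hQ a b ha.1 hb.1 ha.2.2 (S88.ad ha).2.1 hb.2.2
      (S88.ad hb).2.1) _ ⟨p1, p3, p2⟩ _ ⟨q1, q3, q2⟩ (p4.2 q))
  · have k : ∀ a, Mv a → Ad vZ a → dU a = 16 → vU - a ∈ S275 := fun a h1 h2 h3 => by
      have h4 := forall_min (fun a _ c _ => a = 16 → c ≠ -32) (by decide +kernel) a h1 h3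
      have h5 : dV a = 0 := by
        unfold Ad at h2; rw [dt_Z, h3] at h2; omega
      have e : dt vU (vU - a) = 16 := by
        rw [dt_sub_r, dt_self norm_vU, show dt vU a = 16 from h3]; rfl
      refine ⟨mv_of ?_, ?_, e⟩
      · rw [dt_sub_l, e, dt_sub_r, dt_self h1, dt_comm, show dt vU a = 16 from h3]; rfl
      · exact (dt_sub_r (x := vV)).trans (by
          rw [show dt vV vU = -24 from dV_vU, show dt vV a = 0 from h5]; rfl)
    obtain ⟨a', p1, p2, p3, p4⟩ := nm a ha h1 h2
    obtain ⟨b', q1, q2, q3, q4⟩ := nm b hb h3 h4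
    have := conn275 (fun y => Q (vU - y)) (fun y hy y' hy' h => hQ _ _ (sub275 hy).1 (sub275 hy').1
      (sub275 hy).2.2 (sub275 hy).2.1 (sub275 hy').2.2 (sub275 hy').2.1 (by
        have : dt (vU - y) (vU - y') = dt y y' := by
          rw [dt_sub_l, dt_sub_r, dt_sub_r, dt_self norm_vU, dt_comm y vU, show dt vU y = 16 from hy.2.2,
            show dt vU y' = 16 from hy'.2.2]; ring
        unfold Ad; rwa [this])) _ (k a' p1 p2 p3) _ (k b' q1 q2 q3) (by
          rw [sub_sub_cancel]; exact p4.2 q)
    rw [sub_sub_cancel] at this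
    exact q4.1 this

theorem vconn (hx : Mv x) (hu : Mv u) (h : ¬ Ad x u) (Q : L → Prop) (hn : ∀ a, Q (-a) ↔ Q a)
    (hQ : ∀ a b, Mv a → Mv b → Ad x b → Ad u b → Ad a b → Q a → Q b)
    (ha : Mv a) (hb : Mv b) (h1 : Ad x a) (h2 : Ad u a) (h3 : Ad x b) (h4 : Ad u b) (q : Q a) :
    Q b := by
  obtain ⟨g, x0, h0, e1, e2⟩ := std hx hu h
  have := vconn0 h0 (fun a => Q (g⁻¹ • a)) (fun a => by rw [co_neg, hn])
    (fun a b ha hb _ _ k3 k4 k5 => hQ _ _ (ha.smul _) (hb.smul _) (by rwa [e2, smul_inv_smul])
      (by rwa [e1, smul_inv_smul]) ((ad_smul _).2 k5)) (ha.smul g) (hb.smul g) ((e2 a).1 h1)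
    ((e1 a).1 h2) ((e2 b).1 h3) ((e1 b).1 h4) (by rwa [inv_smul_smul])
  rwa [inv_smul_smul] at this

/-- the root of the orbit of length `44` -/
def cR : ℕ := 0x0010001000100010001000100010001000100010001000100010001000100010001000100010001000100010000c000c

theorem tri_std (hx : Mv x) (hy : Mv y) (hw : Mv w) (h1 : dt x y = -16) (h2 : dt x w = -16)
    (h3 : dt y w = 16) : ∃ g : G0, g • x = vU ∧ g • (y - w) = vU' ∧ ((g • y : L) : V) = vc cR := by
  have e0 : dt (y - w) y = 16 := by rw [dt_sub_l, dt_self hy, dt_comm w y, h3]; rfl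
  obtain ⟨g, e1, e2⟩ := pair_tr hx (y := y - w) (mv_of (by
    rw [dt_sub_r, e0, dt_sub_l, dt_self hw, h3]; rfl)) norm_vU norm_vU' (by
      rw [dt_sub_r, h1, h2]; exact dU_vU'.symm)
  obtain ⟨k, hk, e3⟩ := fuse (gens := gM ++ [gEp]) (H := stabilizer G0 vU ⊓ stabilizer G0 vU')
    ((gM_in.mono fun _ h => h.1).append (.cons isCo_gEp ⟨coM_fixU isCo_gEp (by decide +kernel),
      coM_fixU' isCo_gEp (by decide +kernel)⟩ .nil)) (fun _ h => h.1)
    (fun a b _ _ => decide (a = -16) && decide (b = 16)) cR [0, 9] (by decide +kernel) (g • y)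
    (hy.smul g) (by
      rw [dU, dU', ← e1, ← e2, co_dot, co_dot]
      simp only [Bool.and_eq_true, decide_eq_true_eq]
      exact ⟨h1, e0⟩)
  exact ⟨k * g, by rw [mul_smul, e1]; exact hk.1, by rw [mul_smul, e2]; exact hk.2, by
    rw [mul_smul, e3]⟩

theorem vtri (hx : Mv x) (hy : Mv y) (hw : Mv w) (h1 : dt x y = -16) (h2 : dt x w = -16)
    (h3 : dt y w = 16) (hx' : Mv x') (hy' : Mv y') (hw' : Mv w') (h1' : dt x' y' = -16)
    (h2' : dt x' w' = -16) (h3' : dt y' w' = 16) : ∃ g : G0, g • x = x' ∧ g • y = y' ∧ g • w = w' := by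
  obtain ⟨g, e1, e2, e3⟩ := tri_std hx hy hw h1 h2 h3
  obtain ⟨g', f1, f2, f3⟩ := tri_std hx' hy' hw' h1' h2' h3'
  have e4 : g • y = g' • y' := Subtype.ext (e3.trans f3.symm)
  have e5 : g • w = g' • w' := by
    have := e2.trans f2.symm
    rwa [co_sub, co_sub, e4, sub_right_inj] at this
  exact ⟨g'⁻¹ * g, by rw [mul_smul, e1, ← f1, inv_smul_smul], by rw [mul_smul, e4, inv_smul_smul],
    by rw [mul_smul, e5, inv_smul_smul]⟩

/-! ### Classes -/

theorem ad_rep {c d : S} : (∃ e : S, c.1 + d.1 = e.1) ↔ Ad (rep c) (rep d) := by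
  rw [← ad_iff (rep_norm c) (rep_norm d), kap_rep, kap_rep]

theorem ad_cl {c : S} (h : Mv a) : (∃ e : S, c.1 + (cl a h).1 = e.1) ↔ Ad (rep c) a := by
  rw [← ad_iff (rep_norm c) h, kap_rep]; rfl

theorem cl_rep (c : S) : cl (rep c) (rep_norm c) = c := Subtype.ext (kap_rep c)

theorem smul_of {c d : S} {g : G0} (hx : kap x = c.1) (hy : kap y = d.1) (e : g • x = y) : g • c = d :=
  Subtype.ext (by rw [smul_val, ← hx, smul_kap, e, hy])

theorem sgnS {d : S} (h : Ad x (rep d)) : ∃ y, Mv y ∧ kap y = d.1 ∧ dt x y = -16 := by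
  rcases h with h | h
  · exact ⟨-rep d, Mv.neg (rep_norm d), by rw [kap_neg, kap_rep], by rw [dt_neg_r, h]⟩
  · exact ⟨rep d, rep_norm d, kap_rep d, h⟩

theorem tri_rep {c d e : S} (h1 : ∃ f : S, c.1 + d.1 = f.1) (h2 : ∃ f : S, c.1 + e.1 = f.1)
    (h3 : ∃ f : S, d.1 + e.1 = f.1) (h4 : c.1 + d.1 ≠ e.1) : ∃ y w : L, Mv y ∧ Mv w ∧ kap y = d.1 ∧
      kap w = e.1 ∧ dt (rep c) y = -16 ∧ dt (rep c) w = -16 ∧ dt y w = 16 := by
  obtain ⟨y, p1, p2, p3⟩ := sgnS (ad_rep.1 h1)
  obtain ⟨w, q1, q2, q3⟩ := sgnS (ad_rep.1 h2)
  refine ⟨y, w, p1, q1, p2, q2, p3, q3, ?_⟩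
  rw [← p2, ← q2] at h3
  refine ((ad_iff p1 q1).1 h3).resolve_right fun h => h4 ?_
  have : rep c + y + w = 0 := Subtype.ext (sqNorm_eq_zero (by
    rw [← dot_self]
    change dt _ _ = 0
    simp only [dt_add_l, dt_add_r]
    rw [dt_self (rep_norm c), dt_self p1, dt_self q1, dt_comm y (rep c), dt_comm w (rep c), dt_comm w y,
      p3, q3, h]; rfl))
  rw [← kap_rep c, ← p2, ← q2, ← map_add, eq_neg_of_add_eq_zero_left this, kap_neg]

theorem shp_neg (x : L) : shp ((-x : L) : V) = shp (x : V) := by
  unfold shp
  simp only [AddSubgroup.coe_neg, Pi.neg_apply]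
  have e1 : ∀ t : ℤ, -t % 4 = 0 ↔ t % 4 = 0 := fun t => by omega
  have e2 : ∀ t : ℤ, -t % 2 = 1 ↔ t % 2 = 1 := fun t => by omega
  simp only [e1, e2]

theorem shp_U' : shp (vU' : V) = 0 := by rw [vU'_eq, shp_vc]; decide +kernel

end H4.TL
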