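import Mathlib
import Cfsg.Agent.H0.BS0
import Cfsg.Agent.H11.LF0
import Cfsg.Agent.H4.TLc

/-! Duads and odd classes of the Leech lattice modulo 2. -/

set_option autoImplicit false
set_option linter.all false
set_option maxRecDepth 100000

open Cfsg H9 H10 H10.Mon H10.Mon.MG H4.TL
open scoped symmDiff Pointwise

namespace H4.LR

/-- `4 e_p + 4 e_q` -/
def du (p q : P) : L := ⟨Pi.single p 4 + Pi.single q 4, pair_mem_L p q dvd_rfl dvd_rfl (by norm_num)⟩

theorem du_apply (p q i : P) :
    (du p q : V) i = (if i = p then 4 else 0) + if i = q then 4 else 0 := by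
  simp only [du, Pi.add_apply, Pi.single_apply]

theorem e8_apply (p i : P) : (e8 p : V) i = if i = p then 8 else 0 := by
  simp only [e8_coe, Pi.single_apply]

/-- the class of a duad -/
noncomputable def D (p q : P) : C := kap (du p q)

theorem D_fst (p q : P) : (D p q).1 = 0 :=
  kap_fst_zero fun i => by rw [du_apply]; split_ifs <;> rfl

theorem D_add (p q r : P) : D p q + D q r = D p r + Om := by
  rw [D, D, D, ← LFt.kap_e8 q, ← map_add, ← map_add]
  refine congrArg kap (Subtype.ext (funext fun i => ?_))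
  simp only [AddSubgroup.coe_add, Pi.add_apply, du_apply, e8_apply]
  split_ifs <;> rfl

theorem D_comm (p q : P) : D p q = D q p := congrArg kap (Subtype.ext (add_comm _ _))

theorem D_self (p : P) : D p p = Om := by
  rw [D, ← LFt.kap_e8 p]
  refine congrArg kap (Subtype.ext (funext fun i => ?_))
  rw [du_apply, e8_apply]; split_ifs <;> rfl

theorem D_eq (p q : P) : D p q = D p none + D q none + Om := by
  rw [D_comm q, D_add, add_assoc, cc2, add_zero]

theorem sh0_D {p q : P} (h : p ≠ q) : Sh0 (D p q) := by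
  refine ⟨⟨du p q, ?_, rfl⟩, D_fst p q⟩
  change sqNorm (Pi.single p 4 + Pi.single q 4 : V) = 32
  rw [sqNorm_add, sqNorm_single, sqNorm_single, dot_single_left, Pi.single_eq_of_ne h]
  norm_num

theorem perm_D (σ : M24) (p q : P) : permHom σ • D p q = D (σ.1 p) (σ.1 q) := by
  rw [D, smul_kap]
  refine congrArg kap (Subtype.ext (funext fun i => ?_))
  rw [permHom_coe]
  simp only [du_apply, Equiv.symm_apply_eq]

/-- indicator -/
def ind2 (o : Finset P) (p : P) : ZMod 2 := if p ∈ o then 1 else 0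

theorem sign_D (o : GC) (p q : P) : mono 1 o • D p q = D p q + (ind2 o.1 p + ind2 o.1 q) • Om := by
  have e : mono 1 o • du p q = du p q - (if p ∈ o.1 then e8 p else 0) - if q ∈ o.1 then e8 q else 0 := by
    refine Subtype.ext (funext fun i => ?_)
    have := mono_apply 1 o (du p q) i
    rw [show (((1 : M24) : Equiv.Perm P) i) = i from rfl] at this
    rw [this]
    simp only [AddSubgroup.coe_sub, Pi.sub_apply, du_apply, apply_ite (fun x : L => (x : V) i), e8_apply,
      AddSubgroup.coe_zero, Pi.zero_apply]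
    by_cases h1 : i = p <;> by_cases h2 : i = q <;> simp_all <;> split_ifs <;> simp_all
  rw [D, smul_kap, e, kap_sub, kap_sub, add_assoc, add_smul, ind2, ind2]
  congr 2 <;> split_ifs <;> simp [LFt.kap_e8]

theorem c0_D : c0.1 = D (some 0) none + Om := by
  rw [D, ← LFt.kap_e8 (some 0), ← kap_sub, c0_val]
  refine congrArg kap (Subtype.ext ?_)
  rw [vU'_eq]
  funext i
  simp only [AddSubgroup.coe_sub, Pi.sub_apply, du_apply, e8_apply]
  revert i; decide +kernel

theorem or_Om (c : C) (s : ZMod 2) : c + s • Om = c ∨ c + s • Om = c + Om := by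
  rcases z2 s with rfl | rfl <;> simp

theorem sh0_ex {c : C} (h : Sh0 c) : ∃ p q, p ≠ q ∧ (c = D p q ∨ c = D p q + Om) := by
  obtain ⟨g, g1, g2⟩ := trans_N0 (c := c0) (d := toS c h.1) ⟨fun _ => h.2, fun _ => c0_fst⟩
    (by rw [c0_fst, toS_val, h.2])
  have e : c = g • c0.1 := (congrArg Subtype.val g2).symm
  have hO := fix_Om.2 g1
  obtain ⟨σ, o, rfl⟩ := mem_N0_iff.1 g1
  have e2 : mono σ o = mono 1 o * permHom σ := by
    rw [permHom_apply, mono_mul, one_mul]
    congr 1
    exact Subtype.ext (by simpa [gc0] using (symmDiff_bot o.1).symm)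
  refine ⟨σ.1 (some 0), σ.1 none, fun h => by simpa using σ.1.injective h, ?_⟩
  rw [e, c0_D, smul_add, hO, e2, mul_smul, perm_D, sign_D]
  rcases or_Om (D (σ.1 (some 0)) (σ.1 none)) (ind2 o.1 (σ.1 (some 0)) + ind2 o.1 (σ.1 none)) with k | k
  · right; rw [k]
  · left; rw [k, add_assoc, cc2, add_zero]

/-- reduction modulo `Om` -/
noncomputable def pr : C →+ C := AddMonoidHom.mk' (fun c => c + c.2 11 • Om) fun a b => by
  rw [Prod.snd_add, Pi.add_apply, add_smul]; abel

theorem pr_Om : pr Om = 0 := by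
  change Om + Om.2 11 • Om = 0
  rw [show Om.2 11 = 1 by rw [Om_eq]; rfl, one_smul, cc2]

theorem pr_zero {c : C} (h : pr c = 0) : c = 0 ∨ c = Om := by
  have : c = c.2 11 • Om := add_eq_zero_C.1 h
  rcases z2 (c.2 11) with e | e <;> rw [e] at this
  exacts [.inl (this.trans (zero_smul _ _)), .inr (this.trans (one_smul _ _))]

theorem pr_eq {c d : C} (h : pr c = pr d) : c = d ∨ c = d + Om := by
  rcases pr_zero (c := c + d) (by rw [map_add, h, cc2]) with e | e
  · exact .inl (add_eq_zero_C.1 e)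
  · exact .inr (by rw [← e, add_comm c, ← add_assoc, cc2, zero_add])

theorem pr_or {c d : C} (h : c = d ∨ c = d + Om) : pr c = pr d := by
  rcases h with rfl | rfl
  · rfl
  · rw [map_add, pr_Om, add_zero]

noncomputable def dl (p : P) : C := pr (D p none)

noncomputable def SM (S : Finset P) : C := ∑ p ∈ S, dl p

theorem pr_D (p q : P) : pr (D p q) = dl p + dl q := by
  rw [D_eq, map_add, map_add, pr_Om, add_zero]; rfl

theorem SM_pair {p q : P} (h : p ≠ q) : SM {p, q} = pr (D p q) := by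
  rw [SM, Finset.sum_pair h, pr_D]

theorem SM_symmDiff (A B : Finset P) : SM (A ∆ B) = SM A + SM B := by
  simp only [SM, ← Finset.sum_ite_mem_eq _ dl]
  rw [← Finset.sum_add_distrib]
  refine Finset.sum_congr rfl fun p _ => ?_
  by_cases h1 : p ∈ A <;> by_cases h2 : p ∈ B <;> simp [Finset.mem_symmDiff, h1, h2, cc2]

theorem wS_apply (S : Finset P) (i : P) : ((∑ p ∈ S, du p none : L) : V) i =
    (if i ∈ S then 4 else 0) + if i = none then 4 * (S.card : ℤ) else 0 := by
  rw [AddSubgroup.val_finset_sum, Finset.sum_apply]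
  simp only [du_apply, Finset.sum_add_distrib, Finset.sum_ite_eq, Finset.sum_const, nsmul_eq_mul]
  split_ifs <;> simp [mul_comm]

theorem sum_D {S : Finset P} (h : S ∈ GC) : ∑ p ∈ S, D p none = 0 := by
  have hc : S.card % 4 = 0 := by have := card_of_mem_GC h; omega
  have hz : (two S + Pi.single none (2 * (S.card : ℤ)) : V) ∈ leechLattice :=
    add_mem (two_LD h).mem (single_mem_L none (by omega))
  simp only [D]
  rw [← map_sum, kap_eq_zero]
  refine ⟨⟨_, hz⟩, Subtype.ext (funext fun i => ?_)⟩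
  rw [wS_apply]
  simp only [AddSubgroup.coe_nsmul, Pi.smul_apply, Pi.add_apply, two, Pi.single_apply, nsmul_eq_mul]
  split_ifs <;> push_cast <;> ring

theorem mem_GC_of {S : Finset P} (h : S.card % 2 = 0) (h0 : SM S = 0) : S ∈ GC := by
  have h1 : pr (kap (∑ p ∈ S, du p none)) = 0 := by rw [map_sum, map_sum]; exact h0
  obtain ⟨z, k, hz⟩ : ∃ (z : L) (k : ℤ), ∀ i, (z : V) i =
      (if i ∈ S then 2 else 0) + if i = none then 4 * k else 0 := by
    rcases pr_zero h1 with e | e
    · obtain ⟨z, hz⟩ := kap_eq_zero.1 e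
      refine ⟨z, S.card / 2, fun i => ?_⟩
      have := congrFun (congrArg Subtype.val hz) i
      rw [wS_apply, AddSubgroup.coe_nsmul, Pi.smul_apply, nsmul_eq_mul] at this
      split_ifs at this ⊢ <;> push_cast at this <;> omega
    · obtain ⟨z, hz⟩ := kap_eq.1 (e.trans (LFt.kap_e8 none).symm)
      refine ⟨z, S.card / 2 - 1, fun i => ?_⟩
      have := congrFun (congrArg Subtype.val hz) i
      rw [AddSubgroup.coe_sub, Pi.sub_apply, wS_apply, e8_apply, AddSubgroup.coe_nsmul, Pi.smul_apply,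
        nsmul_eq_mul] at this
      split_ifs at this ⊢ <;> push_cast at this <;> omega
  obtain ⟨c, hc | hc⟩ := (mem_L_iff01 _).1 z.2
  · convert hc.1
    ext i
    have := hc.2.1 i
    rw [hz, res] at this
    split_ifs at this <;> first | tauto | omega
  · have := hc.2.1 none
    rw [hz, res] at this
    split_ifs at this <;> omega

theorem SM_inj {A B : Finset P} (h : (A.card + B.card) % 2 = 0) (h8 : A.card + B.card < 8)
    (e : SM A = SM B) : A = B := by
  have h1 := card_symmDiff_add A B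
  have := card_of_mem_GC (mem_GC_of (S := A ∆ B) (by omega) (by rw [SM_symmDiff, e, cc2]))
  exact symmDiff_eq_bot.1 (Finset.card_eq_zero.1 (by omega))

theorem pair_inj {p q r s : P} (h1 : p ≠ q) (h2 : r ≠ s) (e : pr (D p q) = pr (D r s)) :
    (p = r ∧ q = s) ∨ (p = s ∧ q = r) := by
  have := SM_inj (A := {p, q}) (B := {r, s}) (by rw [Finset.card_pair h1, Finset.card_pair h2])
    (by rw [Finset.card_pair h1, Finset.card_pair h2]; norm_num) (by rw [SM_pair h1, SM_pair h2, e])
  have k1 : p ∈ ({r, s} : Finset P) := this ▸ Finset.mem_insert_self _ _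
  have k2 : q ∈ ({r, s} : Finset P) := this ▸ by simp
  simp only [Finset.mem_insert, Finset.mem_singleton] at k1 k2
  rcases k1 with rfl | rfl <;> rcases k2 with rfl | rfl <;> tauto

theorem one {A B : Finset P} (h : (A ∩ B).card = 1) : (∃ y, y ∈ A ∧ y ∈ B) ∧
      ∀ y ∈ A, y ∈ B → ∀ z ∈ A, z ∈ B → y = z :=
  ⟨(Finset.card_pos.1 (h ▸ one_pos)).imp fun y hy => Finset.mem_inter.1 hy, fun y a b z c d =>
    Finset.card_le_one.1 h.le y (Finset.mem_inter.2 ⟨a, b⟩) z (Finset.mem_inter.2 ⟨c, d⟩)⟩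

theorem two' {A : Finset P} (h : A.card = 2) : ∀ y ∈ A, ∀ z ∈ A, y ≠ z → ∀ w ∈ A, w = y ∨ w = z := by
  intro y hy z hz e w hw
  obtain ⟨a, b, -, rfl⟩ := Finset.card_eq_two.1 h
  simp only [Finset.mem_insert, Finset.mem_singleton] at hy hz hw
  rcases hy with rfl | rfl <;> rcases hz with rfl | rfl
  exacts [absurd rfl e, hw, hw.symm, absurd rfl e]

theorem four (c : P) : ∃ d : P, d ≠ none ∧ d ≠ some 0 ∧ d ≠ some 1 ∧ d ≠ c := by
  by_cases h : c = some 2
  · exact ⟨some 3, by simp, by decide, by decide, by rw [h]; decide⟩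
  · exact ⟨some 2, by simp, by decide, by decide, Ne.symm h⟩

/-- a family of pairs that meet in one point has a common point -/
theorem common (T : P → Finset P) (h2 : ∀ p, p ≠ none → (T p).card = 2)
    (h1 : ∀ p q, p ≠ none → q ≠ none → p ≠ q → (T p ∩ T q).card = 1) :
    ∃ o, ∀ p, p ≠ none → o ∈ T p := by
  obtain ⟨x, hx⟩ := Finset.card_eq_one.1 (h1 (some 0) (some 1) (by simp) (by simp) (by decide))
  have xa : x ∈ T (some 0) ∩ T (some 1) := hx ▸ Finset.mem_singleton_self x
  rw [Finset.mem_inter] at xa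
  refine ⟨x, fun c hc => by_contra fun hn => ?_⟩
  have ca : some 0 ≠ c := fun e => hn (e ▸ xa.1)
  have cb : some 1 ≠ c := fun e => hn (e ▸ xa.2)
  obtain ⟨d, d0, da, db, dc⟩ := four c
  have two : ∀ {p : P}, p ≠ none → ∀ y ∈ T p, ∀ z ∈ T p, y ≠ z → ∀ w ∈ T p, w = y ∨ w = z :=
    fun {p} hp => two' (h2 p hp)
  obtain ⟨y, y1, y2⟩ := (one (h1 _ c (by simp) hc ca)).1
  obtain ⟨z, z1, z2⟩ := (one (h1 _ c (by simp) hc cb)).1
  have xy : x ≠ y := fun e => hn (e ▸ y2)
  have xz : x ≠ z := fun e => hn (e ▸ z2)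
  have yz : y ≠ z := fun e => xy ((one (h1 (some 0) (some 1) (by simp) (by simp) (by decide))).2
    x xa.1 xa.2 y y1 (e ▸ z1))
  obtain ⟨⟨a, a1, a2⟩, ua⟩ := one (h1 d _ d0 (by simp) da)
  obtain ⟨⟨b, b1, b2⟩, ub⟩ := one (h1 d _ d0 (by simp) db)
  obtain ⟨⟨e, e1, e2⟩, uc⟩ := one (h1 d c d0 hc dc)
  by_cases hx : x ∈ T d
  · rcases two hc y y2 z z2 yz e e2 with rfl | rfl
    · exact xy (ua x hx xa.1 _ e1 y1)
    · exact xz (ub x hx xa.2 _ e1 z1)
  · rcases two (by simp) x xa.1 y y1 xy a a2 with rfl | rfl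
    · exact hx a1
    rcases two (by simp) x xa.2 z z1 xz b b2 with rfl | rfl
    · exact hx b1
    exact yz (uc _ a1 y2 _ b1 z2)

/-! ### Odd classes -/

/-- an odd minimal vector with its entry `± 3` at `p` -/
def Od (x : L) (p : P) : Prop :=
  ((x : V) p = 3 ∨ (x : V) p = -3) ∧ ∀ i, i ≠ p → (x : V) i = 1 ∨ (x : V) i = -1

theorem Od.neg {x : L} {p : P} (h : Od x p) : Od (-x) p := by
  refine ⟨?_, fun i hi => ?_⟩ <;> rw [AddSubgroup.coe_neg, Pi.neg_apply]
  · have := h.1; omega
  · have := h.2 i hi; omega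

theorem od_of {x : L} (hx : H4.TL.Mv x) (h : ∀ i, (x : V) i % 2 = 1) : ∃ p, Od x p := by
  have k : ∀ t : ℤ, t % 2 = 1 → (t = 1 ∨ t = -1) ∨ 9 ≤ t ^ 2 := fun t ht => by
    by_contra! hc
    have : t ≤ -3 ∨ 3 ≤ t := by omega
    rcases this with e | e <;> nlinarith [hc.2]
  have k1 : ∀ i, 0 ≤ (x : V) i ^ 2 - 1 := fun i => by
    rcases k _ (h i) with (e | e) | e
    · rw [e]; norm_num
    · rw [e]; norm_num
    · omega
  have s : ∑ i, ((x : V) i ^ 2 - 1) = 8 := by
    rw [Finset.sum_sub_distrib, show ∑ i, (x : V) i ^ 2 = 32 from hx]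
    simp [card_golayPt]
  obtain ⟨p, hp⟩ : ∃ p, 9 ≤ (x : V) p ^ 2 := by
    by_contra! hc
    rw [Finset.sum_eq_zero fun i _ => by
      rcases (k _ (h i)).resolve_right (not_le.2 (hc i)) with e | e <;> rw [e] <;> norm_num] at s
    omega
  rw [← Finset.add_sum_erase _ _ (Finset.mem_univ p)] at s
  have s1 := Finset.sum_nonneg fun i (_ : i ∈ Finset.univ.erase p) => k1 i
  have s2 := (Finset.sum_eq_zero_iff_of_nonneg fun i (_ : i ∈ Finset.univ.erase p) => k1 i).1 (by omega)
  refine ⟨p, ?_, fun i hi => (k _ (h i)).resolve_right ?_⟩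
  · exact sq_eq_sq_iff_eq_or_eq_neg.1 (show (x : V) p ^ 2 = 3 ^ 2 by omega)
  · have := s2 i (Finset.mem_erase.2 ⟨hi, Finset.mem_univ i⟩); omega

theorem od_ex {c : C} (h : IsS c) (h1 : c.1 11 = 1) : ∃ x p, Od x p ∧ kap x = c := by
  have k : shp (rep (toS c h) : V) = 1 := by
    rcases shp_cases (toS c h) with e | e | e
    · rw [toS_val] at e; rw [e.2] at h1; exact absurd h1 zero_ne_one
    · exact e.1
    · rw [toS_val] at e; rw [e.2.2] at h1; exact absurd h1 zero_ne_one
  obtain ⟨p, hp⟩ := od_of (rep_norm (toS c h)) (by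
    unfold shp at k
    split_ifs at k with a b
    · exact b
    · omega)
  exact ⟨_, p, hp, kap_rep _⟩

theorem od_four {x y : L} {p q : P} (hx : Od x p) (hy : Od y q) (h : ∀ i, 4 ∣ (x : V) i - (y : V) i) :
    (p = q → kap x = kap y) ∧ (p ≠ q → pr (kap x + kap y) = pr (D p q)) := by
  constructor
  · rintro rfl
    refine congrArg kap (Subtype.ext (funext fun i => ?_))
    have := h i
    by_cases e : i = p
    · subst e; have := hx.1; have := hy.1; omega
    · have := hx.2 i e; have := hy.2 i e; omega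
  · intro hpq
    have e : x - y = du p q - (if (x : V) p = -3 then e8 p else 0) -
        if (y : V) q = 3 then e8 q else 0 := by
      refine Subtype.ext (funext fun i => ?_)
      simp only [AddSubgroup.coe_sub, Pi.sub_apply, du_apply, apply_ite (fun x : L => (x : V) i),
        e8_apply, AddSubgroup.coe_zero, Pi.zero_apply]
      have := h i
      by_cases h1 : i = p
      · subst h1
        have := hx.1; have := hy.2 i hpq
        simp only [if_true, if_neg hpq, ite_self]
        split_ifs <;> omega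
      by_cases h2 : i = q
      · subst h2
        have := hy.1; have := hx.2 i h1
        simp only [if_true, if_neg h1, ite_self]
        split_ifs <;> omega
      have := hx.2 i h1; have := hy.2 i h2
      simp only [if_neg h1, if_neg h2, ite_self]
      omega
    rw [← kap_sub, e, kap_sub, kap_sub, map_add, map_add]
    split_ifs <;> simp [LFt.kap_e8, pr_Om, D]

theorem od_cmp {x y : L} {p q : P} (hx : Od x p) (hy : Od y q) (h : (kap x + kap y).1 = 0) :
    (p = q → kap x = kap y) ∧ (p ≠ q → pr (kap x + kap y) = pr (D p q)) := by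
  obtain ⟨t, e, ht⟩ := exists_four h
  obtain ⟨z, hz⟩ := kap_eq.1 ((kap_sub x y).trans e.symm)
  have k : ∀ i, (x : V) i - (y : V) i - (t : V) i = 2 * (z : V) i := fun i => by
    have := congrFun (congrArg Subtype.val hz) i
    simpa using this
  obtain ⟨c, hc | hc⟩ := (mem_L_iff01 _).1 z.2
  · refine od_four hx hy fun i => ?_
    have h1 := hc.2.1 i
    have h2 := k i
    have h3 := ht i
    rw [res] at h1
    split_ifs at h1 <;> omega
  · rw [← kap_neg y]
    refine od_four hx hy.neg fun i => ?_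
    have h1 := hc.2.1 i
    have h2 := k i
    have h3 := ht i
    have h4 : (y : V) i % 2 = 1 := by
      by_cases e : i = q
      · subst e; have := hy.1; omega
      · have := hy.2 i e; omega
    rw [res] at h1
    rw [AddSubgroup.coe_neg, Pi.neg_apply]
    split_ifs at h1 <;> omega

/-- no parallelogram in an odd coset -/
theorem no_par {a b c m : C} (ha : IsS a) (hb : IsS b) (hc : IsS c) (o : a.1 11 = 1)
    (ab : (a + b).1 = 0) (ac : (a + c).1 = 0) (n1 : a ≠ b) (n2 : a ≠ c) (n3 : b ≠ c) (hm : m.1 = 0)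
    (ha' : IsS (a + m)) (hb' : IsS (b + m)) (hc' : IsS (c + m)) : m = 0 := by
  by_contra m0
  have fst : ∀ {u v : C}, (u + v).1 = 0 → v.1 = u.1 := fun {u v} h => by
    rw [Prod.fst_add] at h
    exact (add_left_cancel ((two_zmod u.1).trans h.symm)).symm
  have k : ∀ {u : C}, IsS u → u.1 = a.1 → IsS (u + m) →
      ∃ x p q, Od x p ∧ kap x = u ∧ p ≠ q ∧ pr m = pr (D p q) := by
    intro u h1 h2 h3
    obtain ⟨x, p, x1, rfl⟩ := od_ex h1 (h2 ▸ o)
    obtain ⟨y, q, y1, e⟩ := od_ex h3 (by rw [Prod.fst_add, hm, add_zero, h2, o])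
    have e2 : kap x + kap y = m := by rw [e, ← add_assoc, cc2, zero_add]
    have := od_cmp x1 y1 (e2 ▸ hm)
    have n : p ≠ q := fun h => m0 (by rw [← e2, this.1 h, cc2])
    exact ⟨x, p, q, x1, rfl, n, e2 ▸ this.2 n⟩
  obtain ⟨x, p, q, x1, rfl, x2, x3⟩ := k ha rfl ha'
  obtain ⟨y, r, s, y1, rfl, y2, y3⟩ := k hb (fst ab) hb'
  obtain ⟨z, t, u, z1, rfl, z2, z3⟩ := k hc (fst ac) hc'
  have d1 : p ≠ r := fun h => n1 ((od_cmp x1 y1 ab).1 h)
  have d2 : p ≠ t := fun h => n2 ((od_cmp x1 z1 ac).1 h)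
  have d3 : r ≠ t := fun h => n3 ((od_cmp y1 z1 (by
    rw [Prod.fst_add, fst ab, fst ac, two_zmod])).1 h)
  have e1 := ((pair_inj x2 y2 (x3.symm.trans y3)).resolve_left fun h => d1 h.1).2
  have e2 := ((pair_inj x2 z2 (x3.symm.trans z3)).resolve_left fun h => d2 h.1).2
  exact d3 (e1.symm.trans e2)

end H4.LR
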