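import Mathlib
import Cfsg.Agent.H0.BSL1
import Cfsg.Agent.H4.LR1

/-! Linear rigidity of `c0^⊥` in the Leech lattice modulo 2. -/

set_option autoImplicit false
set_option linter.all false
set_option maxRecDepth 100000

open Cfsg H9 H10 H10.Mon H10.Mon.MG H4.TL
open scoped symmDiff Pointwise

namespace H4.LR

theorem pl_kap (x y : L) : pl (kap x) (kap y) = ((dt x y / 8 : ℤ) : ZMod 2) := by
  rw [pl, ← ip_kap]; rfl

theorem mv_U' : H4.TL.Mv vU' := norm_vU'

theorem cA_iff {x : L} (hx : H4.TL.Mv x) : cA (kap x) ↔ dt x vU' = 0 := by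
  have k := LS.isS_add hx norm_vU'
  have n : kap x = c0.1 → dt x vU' ≠ 0 := fun e => by
    have := dt_self mv_U'
    rcases eq_or_neg norm_vU' (by rw [show sqNorm (x : V) = 32 from hx]; norm_num) e.symm with e | e <;>
      rw [e]
    · omega
    · rw [dt_neg_l]; omega
  constructor
  · rintro ⟨-, h2, h3, h4⟩
    rw [c0_val, pl_kap, ZMod.intCast_zmod_eq_zero_iff_dvd] at h2
    rw [c0_val, k] at h4
    have := dots hx mv_U' h4
    have m : dt x vU' ≠ 32 ∧ dt x vU' ≠ -32 := by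
      have a1 := min_norm (x - vU').2 fun h => h3 (by
        rw [c0_val, sub_eq_zero.1 (Subtype.ext h : x - vU' = 0)])
      have a2 := min_norm (x + vU').2 fun h => h3 (by
        rw [c0_val, add_eq_zero_iff_eq_neg.1 (Subtype.ext h : x + vU' = 0), kap_neg])
      rw [AddSubgroup.coe_sub, sqNorm_sub, show sqNorm (x : V) = 32 from hx, norm_vU'] at a1
      rw [AddSubgroup.coe_add, sqNorm_add, show sqNorm (x : V) = 32 from hx, norm_vU'] at a2
      unfold dt
      omega
    push_cast at h2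
    omega
  · intro h
    exact ⟨⟨x, hx, rfl⟩, by rw [c0_val, pl_kap, h]; rfl, fun e => n e h, fun e => by
      have := k.1 e
      change dt x vU' = 16 ∨ dt x vU' = -16 at this
      omega⟩

theorem cA_add {a b : C} (ha : cA a) (hb : cA b) (h : IsS (a + b)) : cA (a + b) := by
  obtain ⟨x, hx, rfl⟩ := ha.1
  obtain ⟨y, hy, rfl⟩ := hb.1
  have a1 := (cA_iff hx).1 ha
  have a2 := (cA_iff hy).1 hb
  rcases (LS.isS_add hx hy).1 h with e | e
  · rw [← kap_sub, cA_iff (show sqNorm _ = 32 by rw [AddSubgroup.coe_sub, sqNorm_sub, hx, hy, e]; rfl),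
      dt_sub_l, a1, a2, sub_zero]
  · rw [← map_add, cA_iff (show sqNorm _ = 32 by rw [AddSubgroup.coe_add, sqNorm_add, hx, hy, e]; rfl),
      dt_add_l, a1, a2, add_zero]

theorem dt_U' (x : L) : dt x vU' = 4 * (x : V) none - 4 * (x : V) (some 0) := by
  rw [dt, show (vU' : V) = Pi.single none 4 - Pi.single (some 0) 4 by
    rw [vU'_eq]; funext i; revert i; decide +kernel, dot_sub_right, dot_single_right, dot_single_right]

theorem fst_of {u v : C} (h : (u + v).1 = 0) : v.1 = u.1 := by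
  rw [Prod.fst_add] at h
  exact (add_left_cancel ((two_zmod u.1).trans h.symm)).symm

/-- every odd coset in `c0^⊥` contains many classes of `cA` -/
theorem many {c : C} (h1 : c.1 11 = 1) (h0 : pl c c0.1 = 0) :
    ∃ y : P → C, (∀ p q, p ≠ q → y p ≠ y q) ∧ ∀ p, (c + y p).1 = 0 ∧
      (p ≠ none → p ≠ some 0 → cA (y p)) := by
  obtain ⟨x, rfl⟩ := kap_surj c
  obtain ⟨w, hw | hw⟩ := (mem_L_iff01 _).1 x.2
  · exfalso
    rw [← pl_Om, ← LFt.kap_e8 none, pl_kap, dt, e8_coe, dot_single_right] at h1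
    have := hw.2.1 none
    obtain ⟨k, hk⟩ : ∃ k : ℤ, (x : V) none = 2 * k := ⟨(x : V) none / 2, by
      rw [res] at this; split_ifs at this <;> omega⟩
    rw [hk, show 8 * (2 * k) / 8 = 2 * k by omega] at h1
    push_cast at h1
    rw [show (2 : ZMod 2) = 0 from rfl, zero_mul] at h1
    exact zero_ne_one h1
  let y : P → L := fun p => mono 1 ⟨w, hw.1⟩ • (⟨odd3 p, (odd3_LD p).mem⟩ : L)
  have e : ∀ p i, (y p : V) i = if i ∈ w then -odd3 p i else odd3 p i := fun p i =>
    mono_apply 1 ⟨w, hw.1⟩ _ i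
  have od : ∀ p, Od (y p) p := fun p =>
    ⟨by rw [e, odd3, if_pos rfl]; split_ifs <;> simp, fun i hi => by
      rw [e, odd3, if_neg hi]; split_ifs <;> simp⟩
  have mv : ∀ p, H4.TL.Mv (y p) := fun p => (co_norm _ _).trans (sqNorm_odd3 p)
  have f0 : ∀ p, (kap x + kap (y p)).1 = 0 := fun p => by
    rw [← kap_sub]
    refine kap_fst_zero fun i => ?_
    have := hw.2.1 i
    rw [AddSubgroup.coe_sub, Pi.sub_apply, e, odd3]
    rw [res] at this
    split_ifs at this ⊢ <;> omega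
  refine ⟨fun p => kap (y p), fun p q n h => ?_, fun p => ⟨f0 p, fun n1 n2 => (cA_iff (mv p)).2 ?_⟩⟩
  · have h : kap (y p) = kap (y q) := h
    have := (od_cmp (od p) (od q) (by rw [h, cc2]; rfl)).2 n
    rw [h, cc2, map_zero] at this
    rcases pr_zero this.symm with k | k
    · exact S_ne_zero (toS _ (sh0_D n).1) k
    · exact not_isS_Om (k ▸ (sh0_D n).1)
  · have k := pl_fst (f0 p) LS.c0_fst
    rw [pl_add', h0, zero_add, c0_val, pl_kap, ZMod.intCast_zmod_eq_zero_iff_dvd] at k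
    have a1 := (od p).2 none n1.symm
    have a2 := (od p).2 (some 0) n2.symm
    rw [dt_U'] at k ⊢
    push_cast at k
    omega

/-- the hypotheses -/
structure Gd (F : C →+ C) : Prop where
  mem : ∀ c, pl c c0.1 = 0 → pl (F c) c0.1 = 0
  inj : ∀ c, pl c c0.1 = 0 → F c = 0 → c = 0
  f0 : F c0.1 = c0.1
  ip : ∀ c d, pl c c0.1 = 0 → pl d c0.1 = 0 → pl (F c) (F d) = pl c d
  hA : ∀ c, cA c → cA (F c)

theorem Gd.smul {F : C →+ C} (H : Gd F) {h : G0} (e : h • c0.1 = c0.1) :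
    Gd ((DistribSMul.toAddMonoidHom C h).comp F) where
  mem c hc := by
    change pl (h • F c) _ = 0
    rw [← e, pl_smul, H.mem c hc]
  inj c hc k := H.inj c hc ((smul_eq_zero_iff_eq h).1 k)
  f0 := by
    change h • F _ = _
    rw [H.f0, e]
  ip c d hc hd := (pl_smul h _ _).trans (H.ip c d hc hd)
  hA c hc := (H.hA c hc).smul e

theorem perp0 {c : C} (h : c.1 = 0) : pl c c0.1 = 0 := pl_fst h LS.c0_fst

theorem Gd.inj' {F : C →+ C} (H : Gd F) {c d : C} (hc : pl c c0.1 = 0) (hd : pl d c0.1 = 0)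
    (e : F c = F d) : c = d :=
  add_eq_zero_C.1 (H.inj _ (by rw [pl_add', hc, hd, add_zero]) (by rw [map_add, e, cc2]))

theorem Gd.id {F : C →+ C} (H : Gd F) (h : ∀ c : C, c.1 = 0 → F c = c) {c : C} (hc : pl c c0.1 = 0) :
    F c = c := by
  have odd : ∀ c : C, c.1 11 = 1 → pl c c0.1 = 0 → F c = c := fun c h1 h0 => by
    obtain ⟨y, y1, y2⟩ := many h1 h0
    have m0 : (F c + c).1 = 0 := funext fun j => by
      have k : ∀ d : C, pl d (0, Pi.single j 1) = d.1 j := fun d => by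
        rw [pl, bb_fst (c := (0, Pi.single j 1)) rfl, add_zero, bb, dotProduct_single, mul_one]
      have := H.ip c (0, Pi.single j 1) h0 (perp0 rfl)
      rw [h (0, Pi.single j 1) rfl, k, k] at this
      rw [Prod.fst_add, Pi.add_apply, this, zz2]; rfl
    have s : ∀ p, p ≠ none → p ≠ some 0 → IsS (y p) ∧ IsS (y p + (F c + c)) := fun p n1 n2 => by
      have k := h _ (y2 p).1
      rw [map_add] at k
      refine ⟨((y2 p).2 n1 n2).1, ?_⟩
      rw [show y p + (F c + c) = F c + (c + y p) by abel, ← k, ← add_assoc, cc2, zero_add]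
      exact (H.hA _ ((y2 p).2 n1 n2)).1
    have f : ∀ p q, (y p + y q).1 = 0 := fun p q => by
      rw [Prod.fst_add, fst_of (y2 p).1, fst_of (y2 q).1, two_zmod]
    have s1 := s (some 1) (by simp) (by decide)
    have s2 := s (some 2) (by simp) (by decide)
    have s3 := s (some 3) (by simp) (by decide)
    exact add_eq_zero_C.1 (no_par s1.1 s2.1 s3.1 (by rw [fst_of (y2 _).1, h1]) (f _ _) (f _ _)
      (y1 _ _ (by decide)) (y1 _ _ (by decide)) (y1 _ _ (by decide)) m0 s1.2 s2.2 s3.2)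
  rcases z2 (c.1 11) with k | k
  · obtain ⟨v, v1, v2⟩ := ex_oddA
    rw [pl_Om] at v2
    have := odd (c + v) (by rw [Prod.fst_add, Pi.add_apply, k, v2, zero_add])
      (by rw [pl_add', hc, v1.2.1, add_zero])
    rw [map_add, odd v v2 v1.2.1] at this
    exact add_right_cancel this
  · exact odd c k hc

/-! ### The classes orthogonal to `c0` and `c0 + Om` -/

def Ds : Set C := {c | cA c ∧ cA (c + Om)}

theorem ds_fst {c : C} (h : c ∈ Ds) : c.1 = 0 := by
  by_contra n
  rcases z2 (c.1 11) with k | k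
  · exact sh2_Om h.1.1 n k h.2.1
  · have := bb_isS h.2.1
    rw [bb_add_self, bb_isS h.1.1, bb_fst Om_fst, pl_Om, k] at this
    exact absurd this (by decide)

def dB (a : ℕ) : Bool := LFt.SH.testBit a && (LFt.SH.testBit (a ^^^ 2048) &&
  (!LFt.SH.testBit (a ^^^ 0xbe0) && (!LFt.SH.testBit (a ^^^ 2048 ^^^ 0xbe0) &&
    (decide (a ≠ 0xbe0) && decide (a ^^^ 2048 ≠ 0xbe0)))))

theorem ds_of {a : ℕ} (h : dB a = true) : dec a ∈ Ds := by
  simp only [dB, Bool.and_eq_true, Bool.not_eq_true', decide_eq_true_eq] at h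
  have k : ∀ {a}, LFt.SH.testBit a = true → LFt.SH.testBit (a ^^^ 0xbe0) = false → a ≠ 0xbe0 →
      cA (dec a) := fun {a} h1 h2 h3 => cA_dec ⟨h1, fun e => h3 (dec_inj ((LFt.SH_lt h1).trans
        (by norm_num)) (by norm_num) e), Nat.xor_lt_two_pow (n := 12) (LFt.SH_lt h1) (by norm_num), h2⟩
  exact ⟨k h.1 h.2.2.1 h.2.2.2.2.1, by
    rw [← dec_Om, ← dec_xor]; exact k h.2.1 h.2.2.2.1 h.2.2.2.2.2⟩

def bl : List (List ℕ) :=
  [[1], [1, 3], [1, 5], [8], [32, 48], [32], [32, 96], [5, 133], [256], [512], [1024], [1, 2049]]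

theorem bl_ok : (∀ j : Fin 12, ((0, Pi.single j 1) : C) = ((bl.getD j []).map dec).sum) ∧
    ∀ j : Fin 12, ∀ a ∈ bl.getD j [], dB a = true := by decide +kernel

theorem span_ds (W : AddSubgroup C) (h : ∀ c ∈ Ds, c ∈ W) {c : C} (hc : c.1 = 0) : c ∈ W := by
  have := C_basis (W.comap ((AddMonoidHom.inr K K).comp (AddMonoidHom.snd K K)))
    (fun j => W.zero_mem) (fun j => by
      change ((0, Pi.single j 1) : C) ∈ W
      rw [bl_ok.1]
      refine W.list_sum_mem fun x hx => ?_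
      obtain ⟨n, hn, rfl⟩ := List.mem_map.1 hx
      exact h _ (ds_of (bl_ok.2 j n hn))) c
  rwa [show c = (0, c.2) from Prod.ext hc rfl]

theorem tab : treeAll (fun n => LFt.SH.testBit n || (Nat.beq n 0 || (Nat.beq n 2048 ||
    H9.anyL [1, 5, 116, 136, 140, 249, 253, 282, 403, 486, 256, 373, 396, 505, 513, 628, 512, 629, 919,
      994, 799, 874, 32, 133, 160] fun a => dB a && dB (a ^^^ n)))) 12 0 = true := by decide +kernel

theorem e0_cases {c : C} (h : c.1 = 0) : IsS c ∨ c = 0 ∨ c = Om ∨ ∃ a ∈ Ds, ∃ b ∈ Ds, c = a + b := by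
  obtain ⟨n, h1, e⟩ := dK_surj c.2
  obtain rfl : c = dec n := Prod.ext (h.trans (fst_dec h1).symm) e.symm
  have := (treeAll_iff _ 12).1 tab n h1
  simp only [Bool.or_eq_true, Bool.and_eq_true, H9.anyL_iff, Nat.beq_eq] at this
  rcases this with k | rfl | rfl | ⟨a, -, k1, k2⟩
  · exact .inl (LFt.sh0_of k).1
  · exact .inr (.inl dec_zero)
  · exact .inr (.inr (.inl dec_Om))
  · exact .inr (.inr (.inr ⟨_, ds_of k1, _, ds_of k2, by rw [dec_xor, ← add_assoc, cc2, zero_add]⟩))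

variable {F : C →+ C}

theorem Gd.ds (H : Gd F) (hO : F Om = Om) : Set.MapsTo F Ds Ds := fun c hc =>
  ⟨H.hA c hc.1, by rw [← hO, ← map_add]; exact H.hA _ hc.2⟩

theorem Gd.fst (H : Gd F) (hO : F Om = Om) {c : C} (h : c.1 = 0) : (F c).1 = 0 :=
  span_ds ((AddMonoidHom.fst K K).comp F).ker (fun c hc => ds_fst (H.ds hO hc)) h

theorem Gd.sh0 (H : Gd F) (hO : F Om = Om) {c : C} (h : Sh0 c) : Sh0 (F c) := by
  refine ⟨?_, H.fst hO h.2⟩
  have bij := (Set.Finite.injOn_iff_bijOn_of_mapsTo (Set.toFinite Ds) (H.ds hO)).1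
    fun a ha b hb e => H.inj' ha.1.2.1 hb.1.2.1 e
  rcases e0_cases (H.fst hO h.2) with k | k | k | ⟨a, ha, b, hb, k⟩
  · exact k
  · exact absurd (H.inj c (perp0 h.2) k) (S_ne_zero (toS c h.1))
  · exact absurd (H.inj' (perp0 h.2) (perp0 Om_fst) (k.trans hO.symm) ▸ h.1) not_isS_Om
  obtain ⟨a, a1, rfl⟩ := bij.surjOn ha
  obtain ⟨b, b1, rfl⟩ := bij.surjOn hb
  obtain rfl : c = a + b := H.inj' (perp0 h.2) (by rw [pl_add', a1.1.2.1, b1.1.2.1, add_zero])
    (k.trans (map_add _ _ _).symm)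
  exact (H.hA _ (cA_add a1.1 b1.1 h.1)).1

theorem Gd.pair (H : Gd F) (hO : F Om = Om) {p q : P} (h : p ≠ q) :
    ∃ T : Finset P, T.card = 2 ∧ pr (F (D p q)) = SM T := by
  obtain ⟨r, s, n, k⟩ := sh0_ex (H.sh0 hO (sh0_D h))
  exact ⟨{r, s}, Finset.card_pair n, by rw [pr_or k, SM_pair n]⟩

theorem pr_F (hO : F Om = Om) (p q : P) : pr (F (D p q)) = pr (F (D p none)) + pr (F (D q none)) := by
  rw [D_eq, map_add, map_add, map_add, map_add, hO, pr_Om, add_zero]

theorem Gd.perm (H : Gd F) (hO : F Om = Om) :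
    ∃ σ : M24, ∀ p, pr (F (D p none)) = dl (σ.1 p) + dl (σ.1 none) := by
  choose! T T1 T2 using fun p (h : p ≠ none) => H.pair hO h
  obtain ⟨o, ho⟩ := common T T1 fun p q h1 h2 h3 => by
    obtain ⟨U, U1, U2⟩ := H.pair hO h3
    have k := card_symmDiff_add (T p) (T q)
    rw [T1 p h1, T1 q h2] at k
    rw [pr_F hO, T2 p h1, T2 q h2, ← SM_symmDiff] at U2
    rw [SM_inj (by omega) (by omega) U2] at k
    omega
  have ex : ∀ p, ∃ r, (p = none → r = o) ∧ pr (F (D p none)) = dl r + dl o := fun p => by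
    by_cases h : p = none
    · exact ⟨o, fun _ => rfl, by rw [h, D_self, hO, pr_Om, cc2]⟩
    obtain ⟨a, b, n, k⟩ := Finset.card_eq_two.1 (T1 p h)
    have := ho p h
    rw [k, Finset.mem_insert, Finset.mem_singleton] at this
    rw [T2 p h, k, SM, Finset.sum_pair n]
    rcases this with rfl | rfl
    exacts [⟨b, fun e => absurd e h, add_comm _ _⟩, ⟨a, fun e => absurd e h, rfl⟩]
  choose π π1 π2 using ex
  have inj : Function.Injective π := fun p q e => by_contra fun n => by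
    have k := H.sh0 hO (sh0_D n)
    rcases pr_zero (c := F (D p q)) (by rw [pr_F hO, π2, π2, e, cc2]) with l | l
    · exact S_ne_zero (toS _ k.1) l
    · exact not_isS_Om (l ▸ k.1)
  refine ⟨⟨Equiv.ofBijective π (Finite.injective_iff_bijective.1 inj), mem_M24_iff.2 fun S hS => ?_⟩,
    fun p => by rw [π2, ← π1 none rfl]; rfl⟩
  have hc : S.card % 2 = 0 := by have := card_of_mem_GC hS; omega
  refine mem_GC_of (by rwa [Finset.card_smul_finset]) ?_
  have k := congrArg (fun c => pr (F c)) (sum_D hS)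
  simp only [map_sum, map_zero, π2, Finset.sum_add_distrib, Finset.sum_const] at k
  rw [show S.card = 2 * (S.card / 2) by omega, mul_nsmul, two_nsmul, cc2, nsmul_zero, add_zero] at k
  exact (Finset.sum_image fun a _ b _ e => inj e).trans k

theorem Gd.e0 (H : Gd F) (hO : F Om = Om) : ∃ h : G0, ∀ c : C, c.1 = 0 → F c = h • c := by
  classical
  obtain ⟨σ, hσ⟩ := H.perm hO
  have hs : permHom σ • Om = Om := fix_Om.2 (LFt.perm_mem σ)
  let o : Finset P := Finset.univ.filter fun p => F (D p none) ≠ permHom σ • D p none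
  have k : ∀ p, F (D p none) = permHom σ • D p none + ind2 o p • Om := fun p => by
    by_cases h : F (D p none) = permHom σ • D p none
    · rw [ind2, if_neg (by simpa [o] using h), zero_smul, add_zero, h]
    · rw [ind2, if_pos (by simpa [o] using h), one_smul]
      exact (pr_eq (by rw [hσ, perm_D, pr_D])).resolve_left h
  have o0 : ind2 o none = 0 := if_neg (by simp [o, D_self, hO, hs])
  have oG : o ∈ GC := mem_GC_of_even o fun S hS => by
    have e := congrArg F (sum_D hS.1)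
    rw [map_sum, map_zero, Finset.sum_congr rfl fun p _ => k p, Finset.sum_add_distrib,
      ← Finset.smul_sum, sum_D hS.1, smul_zero, zero_add, ← Finset.sum_smul] at e
    have e2 : ∑ p ∈ S, ind2 o p = ((S ∩ o).card : ZMod 2) := by
      simp only [ind2, Finset.sum_ite_mem, Finset.sum_const, nsmul_one]
    rw [e2] at e
    rcases z2 ((S ∩ o).card : ZMod 2) with l | l
    · exact Nat.mod_eq_zero_of_dvd ((ZMod.natCast_eq_zero_iff _ _).1 l)
    · rw [l, one_smul] at e; exact absurd e Om_ne_zero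
  have hm : (permHom σ * mono 1 ⟨o, oG⟩) • Om = Om :=
    fix_Om.2 (mul_mem (LFt.perm_mem σ) (mono_mem_N0 _ _))
  have k1 : ∀ p, F (D p none) = (permHom σ * mono 1 ⟨o, oG⟩) • D p none := fun p => by
    rw [mul_smul, sign_D, o0, add_zero, smul_add, k]
    rcases z2 (ind2 o p) with l | l <;> simp only [l, zero_smul, one_smul, smul_zero, hs]
  have k2 : ∀ p q, F (D p q) = (permHom σ * mono 1 ⟨o, oG⟩) • D p q := fun p q => by
    rw [D_eq, map_add, map_add, smul_add, smul_add, k1, k1, hO, hm]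
  refine ⟨permHom σ * mono 1 ⟨o, oG⟩, fun c hc => span_sh0
    (F.eqLocus (DistribSMul.toAddMonoidHom C (permHom σ * mono 1 ⟨o, oG⟩))) (fun c hc => ?_) hc⟩
  change F c = (permHom σ * mono 1 ⟨o, oG⟩) • c
  obtain ⟨p, q, -, rfl | rfl⟩ := sh0_ex hc
  · exact k2 p q
  · rw [map_add, smul_add, k2, hO, hm]

theorem Gd.rig (H : Gd F) : ∃ h : G0, h • c0.1 = c0.1 ∧ ∀ c, pl c c0.1 = 0 → F c = h • c := by
  have a := H.hA _ cA_Om
  obtain ⟨g, g1, g2⟩ := tr_perp a.1 a.2.1 a.2.2.1 a.2.2.2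
  have H1 := H.smul g1
  obtain ⟨h, hh⟩ := H1.e0 (by
    rw [map_add, smul_add, H.f0, g1] at g2
    exact add_left_cancel g2)
  have h0 : h • c0.1 = c0.1 := (hh _ LS.c0_fst).symm.trans H1.f0
  have H2 := H1.smul (h := h⁻¹) (inv_smul_eq_iff.2 h0.symm)
  refine ⟨g⁻¹ * h, by rw [mul_smul, h0, inv_smul_eq_iff, g1], fun c hc => ?_⟩
  have := H2.id (fun c hc => inv_smul_eq_iff.2 (hh c hc)) hc
  rw [mul_smul, eq_inv_smul_iff]
  exact inv_smul_eq_iff.1 this

end H4.LR
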