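import Mathlib
import Cfsg.Prelude.Def_Characters

/-!
# Representation-level lemmas (helper4 core, part 1)

Diagonalisation of elements of finite order, values of characters, transport of representations,
Maschke decomposition, Schur's lemma in the form "class sums act as scalars".
-/

set_option autoImplicit false

open Cfsg Module
open scoped ComplexConjugate

namespace H4

section Diag

variable {K : Type*} [Field K] {V : Type*} [AddCommGroup V] [Module K V] [FiniteDimensional K V]

/-- An endomorphism of finite order (prime to the characteristic) has an eigenbasis. -/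
theorem exists_eigenbasis [IsAlgClosed K] (f : Module.End K V) {n : ℕ} (hn : (n : K) ≠ 0)
    (hf : f ^ n = 1) :
    ∃ (b : Basis (Fin (finrank K V)) K V) (ω : Fin (finrank K V) → K),
      (∀ i, ω i ^ n = 1) ∧ ∀ i, f (b i) = ω i • b i := by
  classical
  have hsep : (Polynomial.X ^ n - Polynomial.C (1 : K)).Separable :=
    Polynomial.separable_X_pow_sub_C 1 hn one_ne_zero
  have hss : f.IsSemisimple :=
    Module.End.isSemisimple_of_squarefree_aeval_eq_zero hsep.squarefree (by simp [hf])
  have htop := hss.iSup_eigenspace_eq_top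
  let S : Set V := {v | ∃ μ : K, f v = μ • v}
  have hS : ⊤ ≤ Submodule.span K S := by
    rw [← htop]
    refine iSup_le fun μ => fun v hv => Submodule.subset_span ⟨μ, ?_⟩
    exact Module.End.mem_eigenspace_iff.mp hv
  let b0 := Basis.ofSpan hS
  have hb0 : ∀ i, b0 i ∈ S := fun i => Basis.ofSpan_subset hS ⟨i, rfl⟩
  have := Module.Finite.finite_basis b0
  have := Fintype.ofFinite (↑((linearIndepOn_empty K id).extend (Set.empty_subset S)))
  let e := Fintype.equivFinOfCardEq (finrank_eq_card_basis b0).symm
  let b := b0.reindex e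
  have hb : ∀ i, b i ∈ S := fun i => by
    simp only [b, Basis.reindex_apply]; exact hb0 _
  choose ω hω using hb
  refine ⟨b, ω, fun i => ?_, hω⟩
  have h1 : ∀ k : ℕ, (f ^ k) (b i) = ω i ^ k • b i := by
    intro k
    induction k with
    | zero => simp
    | succ k ih => rw [pow_succ', Module.End.mul_apply, ih, map_smul, hω, smul_smul, pow_succ]
  have h2 := h1 n
  rw [hf, Module.End.one_apply] at h2
  have h3 : (ω i ^ n - 1) • b i = 0 := by rw [sub_smul, ← h2, one_smul, sub_self]
  rcases smul_eq_zero.mp h3 with h | h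
  · exact sub_eq_zero.mp h
  · exact absurd h (b.ne_zero i)

omit [FiniteDimensional K V] in
theorem trace_eq_sum_of_eigenbasis {ι : Type*} [Fintype ι] (b : Basis ι K V) (f : Module.End K V)
    (ω : ι → K) (h : ∀ i, f (b i) = ω i • b i) : LinearMap.trace K V f = ∑ i, ω i := by
  classical
  rw [LinearMap.trace_eq_matrix_trace K b, Matrix.trace]
  refine Finset.sum_congr rfl fun i _ => ?_
  simp [LinearMap.toMatrix_apply, h]

omit [FiniteDimensional K V] in
theorem pow_apply_of_eigen (f : Module.End K V) (v : V) (ω : K) (h : f v = ω • v) (k : ℕ) :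
    (f ^ k) v = ω ^ k • v := by
  induction k with
  | zero => simp
  | succ k ih => rw [pow_succ', Module.End.mul_apply, ih, map_smul, h, smul_smul, pow_succ]

end Diag

theorem norm_eq_one_of_pow_eq_one {z : ℂ} {n : ℕ} (hn : n ≠ 0) (h : z ^ n = 1) : ‖z‖ = 1 :=
  Complex.norm_eq_one_of_pow_eq_one h hn

theorem conj_eq_inv_of_pow_eq_one {z : ℂ} {n : ℕ} (hn : n ≠ 0) (h : z ^ n = 1) : conj z = z⁻¹ :=
  (Complex.inv_eq_conj (norm_eq_one_of_pow_eq_one hn h)).symm

section Values

variable {G : Type*} [Group G] {V : Type*} [AddCommGroup V] [Module ℂ V] [FiniteDimensional ℂ V]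

/-- Eigenbasis for `ρ g` when `g ^ n = 1`. -/
theorem rep_eigenbasis' (ρ : Representation ℂ G V) (g : G) {n : ℕ} (hn : n ≠ 0) (hg : g ^ n = 1) :
    ∃ (b : Basis (Fin (finrank ℂ V)) ℂ V) (ω : Fin (finrank ℂ V) → ℂ),
      (∀ i, ω i ^ n = 1) ∧ (∀ i, ρ g (b i) = ω i • b i) ∧
      (∀ k : ℕ, ρ.character (g ^ k) = ∑ i, ω i ^ k) ∧ ρ.character g⁻¹ = ∑ i, (ω i)⁻¹ := by
  obtain ⟨b, ω, h1, h2⟩ := exists_eigenbasis (K := ℂ) (ρ g) (n := n)
    (by exact_mod_cast hn) (by rw [← map_pow, hg, map_one])
  refine ⟨b, ω, h1, h2, fun k => ?_, ?_⟩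
  · refine trace_eq_sum_of_eigenbasis b _ _ fun i => ?_
    rw [map_pow]; exact pow_apply_of_eigen _ _ _ (h2 i) k
  · refine trace_eq_sum_of_eigenbasis b _ _ fun i => ?_
    have hω : ω i ≠ 0 := by
      intro h; have := h1 i; rw [h, zero_pow hn] at this; exact zero_ne_one this
    have : ρ g⁻¹ (ρ g (b i)) = b i := by simp
    rw [h2, map_smul] at this
    calc ρ g⁻¹ (b i) = (ω i)⁻¹ • (ω i • ρ g⁻¹ (b i)) := by
            rw [smul_smul, inv_mul_cancel₀ hω, one_smul]
      _ = _ := by rw [this]

variable [Finite G]

theorem rep_eigenbasis (ρ : Representation ℂ G V) (g : G) :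
    ∃ (b : Basis (Fin (finrank ℂ V)) ℂ V) (ω : Fin (finrank ℂ V) → ℂ),
      (∀ i, ω i ^ orderOf g = 1) ∧ (∀ i, ρ g (b i) = ω i • b i) ∧
      (∀ k : ℕ, ρ.character (g ^ k) = ∑ i, ω i ^ k) ∧ ρ.character g⁻¹ = ∑ i, (ω i)⁻¹ :=
  rep_eigenbasis' ρ g (orderOf_pos g).ne' (pow_orderOf_eq_one g)

theorem rep_char_inv (ρ : Representation ℂ G V) (g : G) :
    ρ.character g⁻¹ = conj (ρ.character g) := by
  obtain ⟨b, ω, h1, -, h3, h4⟩ := rep_eigenbasis ρ g
  have := h3 1
  simp only [pow_one] at this
  rw [h4, this, map_sum]
  exact Finset.sum_congr rfl fun i _ => (conj_eq_inv_of_pow_eq_one (orderOf_pos g).ne' (h1 i)).symm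

theorem rep_norm_char_le (ρ : Representation ℂ G V) (g : G) :
    ‖ρ.character g‖ ≤ (finrank ℂ V : ℝ) := by
  obtain ⟨b, ω, h1, -, h3, -⟩ := rep_eigenbasis ρ g
  have := h3 1
  simp only [pow_one] at this
  rw [this]
  refine (norm_sum_le _ _).trans (le_of_eq ?_)
  simp [norm_eq_one_of_pow_eq_one (orderOf_pos g).ne' (h1 _)]

theorem rep_char_isIntegral (ρ : Representation ℂ G V) (g : G) : IsIntegral ℤ (ρ.character g) := by
  obtain ⟨b, ω, h1, -, h3, -⟩ := rep_eigenbasis ρ g
  have := h3 1
  simp only [pow_one] at this
  rw [this]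
  refine IsIntegral.sum _ fun i _ => ?_
  exact IsIntegral.of_pow (orderOf_pos g) (by rw [h1]; exact isIntegral_one)

/-- If unit complex numbers have a sum of norm equal to their number, they are all equal. -/
theorem eq_of_norm_sum_eq_card {ι : Type*} [Fintype ι] (ω : ι → ℂ) (h1 : ∀ i, ‖ω i‖ = 1)
    (h : ‖∑ i, ω i‖ = Fintype.card ι) (i j : ι) : ω i = ω j := by
  set s := ∑ i, ω i with hs
  have hpos : (0 : ℝ) < Fintype.card ι := by
    have : Nonempty ι := ⟨i⟩
    exact_mod_cast Fintype.card_pos
  set u : ℂ := s / (Fintype.card ι : ℂ) with hu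
  have hun : ‖u‖ = 1 := by
    rw [hu, norm_div, h, Complex.norm_natCast, div_self hpos.ne']
  have hsu : s = (Fintype.card ι : ℂ) * u := by
    rw [hu, mul_div_cancel₀]; exact_mod_cast hpos.ne'
  have hsum : ∑ k, ‖ω k - u‖ ^ 2 = 0 := by
    have e1 : ∀ k, ‖ω k - u‖ ^ 2 = 2 - 2 * (ω k * conj u).re := by
      intro k
      have a1 := h1 k
      have a2 := hun
      rw [← Complex.normSq_eq_norm_sq, Complex.normSq_sub, Complex.normSq_eq_norm_sq,
        Complex.normSq_eq_norm_sq, a1, a2]
      ring
    simp_rw [e1]
    rw [Finset.sum_sub_distrib, ← Finset.mul_sum, ← Complex.re_sum, ← Finset.sum_mul, ← hs, hsu,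
      mul_assoc, Complex.mul_conj, Complex.normSq_eq_norm_sq, hun]
    simp
    ring
  have hk : ∀ k, ω k = u := by
    intro k
    have := (Finset.sum_eq_zero_iff_of_nonneg (fun k _ => sq_nonneg ‖ω k - u‖)).mp hsum k
      (Finset.mem_univ k)
    simpa [sub_eq_zero] using this
  rw [hk i, hk j]

theorem rep_norm_char_eq_iff (ρ : Representation ℂ G V) (g : G) :
    ‖ρ.character g‖ = (finrank ℂ V : ℝ) ↔ ∃ ω : ℂ, ρ g = ω • (LinearMap.id : V →ₗ[ℂ] V) := by
  obtain ⟨b, ω, h1, h2, h3, -⟩ := rep_eigenbasis ρ g
  have h4 := h3 1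
  simp only [pow_one] at h4
  have hn : ∀ i, ‖ω i‖ = 1 := fun i => norm_eq_one_of_pow_eq_one (orderOf_pos g).ne' (h1 i)
  constructor
  · intro h
    rw [h4] at h
    have := eq_of_norm_sum_eq_card ω hn (by simpa using h)
    rcases isEmpty_or_nonempty (Fin (finrank ℂ V)) with he | ⟨⟨i⟩⟩
    · exact ⟨1, b.ext fun i => he.elim i⟩
    · exact ⟨ω i, b.ext fun j => by simp [h2, this i j]⟩
  · rintro ⟨c, hc⟩
    have hci : ∀ i, ω i = c := by
      intro i
      have := h2 i
      rw [hc] at this
      simp only [LinearMap.smul_apply, LinearMap.id_coe, id_eq] at this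
      exact (smul_left_injective ℂ (b.ne_zero i) this).symm
    rcases isEmpty_or_nonempty (Fin (finrank ℂ V)) with he | ⟨⟨i⟩⟩
    · have h0 : finrank ℂ V = 0 := by
        have := Fintype.card_eq_zero_iff.mpr he
        rwa [Fintype.card_fin] at this
      rw [h4]; simp [h0]
    · have hc1 : ‖c‖ = 1 := by rw [← hci i]; exact hn i
      rw [h4]; simp [hci, hc1]

theorem rep_char_eq_iff (ρ : Representation ℂ G V) (g : G) :
    ρ.character g = (finrank ℂ V : ℂ) ↔ ρ g = LinearMap.id := by
  constructor
  · intro h
    obtain ⟨c, hc⟩ := (rep_norm_char_eq_iff ρ g).mp (by rw [h]; simp)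
    have h2 : ρ.character g = c * finrank ℂ V := by
      simp [Representation.character, hc]
    rcases Nat.eq_zero_or_pos (finrank ℂ V) with h0 | h0
    · have : Subsingleton V := Module.finrank_zero_iff.mp h0
      exact LinearMap.ext fun v => Subsingleton.elim _ _
    · have : c = 1 := by
        have h3 : (finrank ℂ V : ℂ) ≠ 0 := by exact_mod_cast h0.ne'
        apply mul_right_cancel₀ h3
        rw [← h2, h, one_mul]
      rw [hc, this, one_smul]
  · intro h
    simp [Representation.character, h]

end Values

section Transport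

variable {k : Type*} [Field k] {G : Type*} [Monoid G] {V W : Type*} [AddCommGroup V] [Module k V]
  [AddCommGroup W] [Module k W]

/-- Transport of a representation along a linear equivalence. -/
noncomputable def repTransport (ρ : Representation k G V) (e : V ≃ₗ[k] W) :
    Representation k G W where
  toFun g := e.conj (ρ g)
  map_one' := by ext; simp
  map_mul' g h := by ext; simp

@[simp] theorem repTransport_apply (ρ : Representation k G V) (e : V ≃ₗ[k] W) (g : G) (w : W) :
    repTransport ρ e g w = e (ρ g (e.symm w)) := rfl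

/-- The equivalence between a representation and its transport. -/
noncomputable def repTransportEquiv (ρ : Representation k G V) (e : V ≃ₗ[k] W) :
    ρ.Equiv (repTransport ρ e) :=
  Representation.Equiv.mk e fun g => by ext; simp

/-- Order isomorphism of subrepresentation lattices induced by an equivalence. -/
noncomputable def subrepOrderIso {ρ : Representation k G V} {σ : Representation k G W}
    (φ : ρ.Equiv σ) : Subrepresentation ρ ≃o Subrepresentation σ where
  toFun U := ⟨U.toSubmodule.comap φ.symm.toLinearMap, fun g v hv => by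
    simp only [Submodule.mem_comap] at hv ⊢
    have := φ.symm.toIntertwiningMap.isIntertwining _ _ g v
    erw [this]
    exact U.apply_mem_toSubmodule g hv⟩
  invFun U := ⟨U.toSubmodule.comap φ.toLinearMap, fun g v hv => by
    simp only [Submodule.mem_comap] at hv ⊢
    have := φ.toIntertwiningMap.isIntertwining _ _ g v
    erw [this]
    exact U.apply_mem_toSubmodule g hv⟩
  left_inv U := by ext v; simp
  right_inv U := by ext v; simp
  map_rel_iff' {U U'} := by
    constructor
    · intro h v hv
      have h1 : φ v ∈ (U.toSubmodule.comap φ.symm.toLinearMap) := by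
        simp only [Submodule.mem_comap, Representation.Equiv.coe_toLinearMap,
          Representation.Equiv.symm_apply_apply]
        exact hv
      have h2 : φ v ∈ (U'.toSubmodule.comap φ.symm.toLinearMap) := h h1
      simp only [Submodule.mem_comap, Representation.Equiv.coe_toLinearMap,
          Representation.Equiv.symm_apply_apply] at h2
      exact h2
    · intro h v hv
      exact h hv

theorem irreducible_of_equiv {ρ : Representation k G V} {σ : Representation k G W}
    (φ : ρ.Equiv σ) [h : ρ.IsIrreducible] : σ.IsIrreducible :=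
  (subrepOrderIso φ).isSimpleOrder_iff.mp h

theorem nontrivial_of_irreducible (ρ : Representation k G V) [h : ρ.IsIrreducible] :
    Nontrivial V := by
  by_contra hV
  rw [not_nontrivial_iff_subsingleton] at hV
  have : (⊥ : Subrepresentation ρ) = ⊤ := by
    ext v; simp [Subsingleton.elim v 0]
  exact bot_ne_top this

theorem finrank_pos_of_irreducible (ρ : Representation k G V) [ρ.IsIrreducible]
    [FiniteDimensional k V] : 0 < finrank k V :=
  have := nontrivial_of_irreducible ρ
  finrank_pos

/-- A representation of dimension one is irreducible. -/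
theorem irreducible_of_finrank_eq_one (ρ : Representation k G V) (h : finrank k V = 1) :
    ρ.IsIrreducible := by
  have : IsSimpleOrder (Submodule k V) := is_simple_module_of_finrank_eq_one h
  have : Nontrivial (Subrepresentation ρ) := ⟨⊥, ⊤, fun hh => by
    have : (⊥ : Submodule k V) = ⊤ := congrArg Subrepresentation.toSubmodule hh
    exact bot_ne_top this⟩
  refine ⟨fun U => ?_⟩
  rcases eq_bot_or_eq_top U.toSubmodule with h | h
  · left; exact Subrepresentation.toSubmodule_injective h
  · right; exact Subrepresentation.toSubmodule_injective h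

theorem rep_char_prod [FiniteDimensional k V] [FiniteDimensional k W] (ρ : Representation k G V)
    (σ : Representation k G W) : (ρ.prod σ).character = ρ.character + σ.character := by
  ext g
  exact LinearMap.trace_prodMap' (ρ g) (σ g)

/-- A representation is equivalent to the product of complementary subrepresentations. -/
noncomputable def equivProdOfIsCompl (ρ : Representation k G V) (U U' : Subrepresentation ρ)
    (h : IsCompl U.toSubmodule U'.toSubmodule) :
    (U.toRepresentation.prod U'.toRepresentation).Equiv ρ :=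
  Representation.Equiv.mk (Submodule.prodEquivOfIsCompl _ _ h) fun g => by
    ext v <;> simp [Subrepresentation.toRepresentation]

theorem isCompl_toSubmodule {ρ : Representation k G V} {U U' : Subrepresentation ρ}
    (h : IsCompl U U') : IsCompl U.toSubmodule U'.toSubmodule := by
  constructor
  · rw [disjoint_iff]
    exact congrArg Subrepresentation.toSubmodule (disjoint_iff.mp h.1)
  · rw [codisjoint_iff]
    exact congrArg Subrepresentation.toSubmodule (codisjoint_iff.mp h.2)

theorem rep_char_eq_add_of_isCompl [FiniteDimensional k V] (ρ : Representation k G V)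
    (U U' : Subrepresentation ρ) (h : IsCompl U U') :
    ρ.character = U.toRepresentation.character + U'.toRepresentation.character := by
  rw [← rep_char_prod]
  exact (Representation.char_iso (equivProdOfIsCompl ρ U U' (isCompl_toSubmodule h))).symm

/-- Schur's lemma: an endomorphism commuting with an irreducible representation is a scalar. -/
theorem schur_scalar [IsAlgClosed k] [FiniteDimensional k V] (ρ : Representation k G V)
    [ρ.IsIrreducible] (T : V →ₗ[k] V) (hT : ∀ g, T ∘ₗ ρ g = ρ g ∘ₗ T) :
    ∃ c : k, T = c • (LinearMap.id : V →ₗ[k] V) := by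
  obtain ⟨c, hc⟩ :=
    (Representation.IsIrreducible.algebraMap_intertwiningMap_bijective_of_isAlgClosed
      (ρ := ρ)).2 ⟨T, hT⟩
  refine ⟨c, ?_⟩
  have := congrArg Representation.IntertwiningMap.toLinearMap hc
  exact this.symm

end Transport

section Induction

universe v

/-- Induction principle over finite-dimensional representations (Maschke). -/
theorem rep_induction {k : Type*} [Field k] {G : Type*} [Group G] [Finite G]
    [NeZero (Nat.card G : k)]
    (P : ∀ (V : Type v) [AddCommGroup V] [Module k V] [FiniteDimensional k V],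
      Representation k G V → Prop)
    (h0 : ∀ (V : Type v) [AddCommGroup V] [Module k V] [FiniteDimensional k V] [Subsingleton V]
      (ρ : Representation k G V), P V ρ)
    (hirr : ∀ (V : Type v) [AddCommGroup V] [Module k V] [FiniteDimensional k V]
      (ρ : Representation k G V) [ρ.IsIrreducible], P V ρ)
    (hadd : ∀ (V : Type v) [AddCommGroup V] [Module k V] [FiniteDimensional k V]
      (ρ : Representation k G V) (U U' : Subrepresentation ρ), IsCompl U U' →
      P _ U.toRepresentation → P _ U'.toRepresentation → P V ρ)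
    (V : Type v) [AddCommGroup V] [Module k V] [FiniteDimensional k V]
    (ρ : Representation k G V) : P V ρ := by
  induction hn : finrank k V using Nat.strong_induction_on generalizing V with
  | _ n ih =>
  rcases subsingleton_or_nontrivial V with hV | hV
  · exact h0 V ρ
  by_cases hρ : ρ.IsIrreducible
  · exact hirr V ρ
  have hnt : Nontrivial (Subrepresentation ρ) := ⟨⊥, ⊤, fun hh => by
    have : (⊥ : Submodule k V) = ⊤ := congrArg Subrepresentation.toSubmodule hh
    exact bot_ne_top this⟩
  have : ∃ U : Subrepresentation ρ, U ≠ ⊥ ∧ U ≠ ⊤ := by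
    by_contra hc
    push Not at hc
    exact hρ ⟨fun U => by
      by_cases h : U = ⊥
      · exact Or.inl h
      · exact Or.inr (hc U h)⟩
  obtain ⟨U, hU0, hU1⟩ := this
  obtain ⟨U', hUU'⟩ := exists_isCompl U
  have hU'1 : U' ≠ ⊤ := by
    rintro rfl
    exact hU0 (by simpa using hUU'.disjoint)
  refine hadd V ρ U U' hUU' (ih _ ?_ _ _ rfl) (ih _ ?_ _ _ rfl)
  · rw [← hn]
    exact Submodule.finrank_lt fun h => hU1 (Subrepresentation.toSubmodule_injective h)
  · rw [← hn]
    exact Submodule.finrank_lt fun h => hU'1 (Subrepresentation.toSubmodule_injective h)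

end Induction

section ClassSum

variable {k : Type*} [Field k] [IsAlgClosed k] {G : Type*} [Group G] [Fintype G]
  {V : Type*} [AddCommGroup V] [Module k V] [FiniteDimensional k V]

/-- For a class function `f`, `∑ f g • ρ g` is a scalar in an irreducible representation. -/
theorem classSum_scalar (ρ : Representation k G V) [ρ.IsIrreducible] (f : G → k)
    (hf : ∀ g h : G, f (h * g * h⁻¹) = f g) :
    ∃ c : k, (∑ g, f g • ρ g) = c • (LinearMap.id : V →ₗ[k] V) ∧
      c * finrank k V = ∑ g, f g * ρ.character g := by
  obtain ⟨c, hc⟩ := schur_scalar ρ (∑ g, f g • ρ g) (fun h => by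
    rw [← Module.End.mul_eq_comp, ← Module.End.mul_eq_comp, Finset.sum_mul, Finset.mul_sum]
    refine Fintype.sum_equiv (MulAut.conj h⁻¹).toEquiv _ _ fun g => ?_
    simp only [smul_mul_assoc, mul_smul_comm, ← map_mul, MulEquiv.toEquiv_eq_coe, EquivLike.coe_coe,
      MulAut.conj_apply, hf]
    congr 2
    group)
  refine ⟨c, hc, ?_⟩
  have := congrArg (LinearMap.trace k V) hc
  simpa [map_sum, Representation.character] using this.symm

end ClassSum

end H4
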