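import Mathlib
import Cfsg.Prelude.Def_Characters
import Cfsg.Agent.H4.Rep

/-!
# Core character theory (helper4 core, part 2)

`open H4` to get dot notation such as `hχ.add hψ`, `hχ.classFun`, `hχ.inner_self`.
-/

set_option autoImplicit false

open Cfsg Module
open scoped ComplexConjugate

namespace H4
open H4

/-! ## The inner product -/

section Inner

variable {G : Type*} [Group G] [Fintype G]

theorem card_ne_zero (G : Type*) [Group G] [Finite G] : (Nat.card G : ℂ) ≠ 0 := by
  exact_mod_cast (Nat.card_pos (α := G)).ne'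

theorem classInner_def (φ ψ : G → ℂ) :
    classInner φ ψ = (Nat.card G : ℂ)⁻¹ * ∑ g : G, φ g * conj (ψ g) := rfl

theorem card_mul_classInner (φ ψ : G → ℂ) :
    (Nat.card G : ℂ) * classInner φ ψ = ∑ g : G, φ g * conj (ψ g) := by
  rw [classInner_def, ← mul_assoc, mul_inv_cancel₀ (card_ne_zero G), one_mul]

/-- `classInner` does not depend on the `Fintype` instance. -/
theorem classInner_irrel {G : Type*} [Group G] (i j : Fintype G) (φ ψ : G → ℂ) :
    @classInner G _ i φ ψ = @classInner G _ j φ ψ := by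
  congr; exact Subsingleton.elim _ _

theorem classInner_add_left (φ φ' ψ : G → ℂ) :
    classInner (φ + φ') ψ = classInner φ ψ + classInner φ' ψ := by
  simp [classInner, add_mul, Finset.sum_add_distrib, mul_add]

theorem classInner_add_right (φ ψ ψ' : G → ℂ) :
    classInner φ (ψ + ψ') = classInner φ ψ + classInner φ ψ' := by
  simp [classInner, Finset.sum_add_distrib, mul_add]

theorem classInner_neg_left (φ ψ : G → ℂ) : classInner (-φ) ψ = -classInner φ ψ := by
  simp [classInner]

theorem classInner_neg_right (φ ψ : G → ℂ) : classInner φ (-ψ) = -classInner φ ψ := by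
  simp [classInner]

theorem classInner_sub_left (φ φ' ψ : G → ℂ) :
    classInner (φ - φ') ψ = classInner φ ψ - classInner φ' ψ := by
  simp [classInner, sub_mul, Finset.sum_sub_distrib, mul_sub]

theorem classInner_sub_right (φ ψ ψ' : G → ℂ) :
    classInner φ (ψ - ψ') = classInner φ ψ - classInner φ ψ' := by
  simp [classInner, Finset.sum_sub_distrib, mul_sub]

theorem classInner_smul_left (c : ℂ) (φ ψ : G → ℂ) :
    classInner (c • φ) ψ = c * classInner φ ψ := by
  simp only [classInner, Pi.smul_apply, smul_eq_mul, mul_assoc, ← Finset.mul_sum]; ring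

theorem classInner_smul_right (c : ℂ) (φ ψ : G → ℂ) :
    classInner φ (c • ψ) = conj c * classInner φ ψ := by
  simp only [classInner, Pi.smul_apply, smul_eq_mul, map_mul, Finset.mul_sum]
  exact Finset.sum_congr rfl fun g _ => by ring

theorem classInner_zsmul_left (n : ℤ) (φ ψ : G → ℂ) :
    classInner (n • φ) ψ = n * classInner φ ψ := by
  rw [← Int.cast_smul_eq_zsmul ℂ, classInner_smul_left]

theorem classInner_zsmul_right (n : ℤ) (φ ψ : G → ℂ) :
    classInner φ (n • ψ) = n * classInner φ ψ := by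
  rw [← Int.cast_smul_eq_zsmul ℂ, classInner_smul_right, map_intCast]

theorem classInner_nsmul_left (n : ℕ) (φ ψ : G → ℂ) :
    classInner (n • φ) ψ = n * classInner φ ψ := by
  rw [← Nat.cast_smul_eq_nsmul ℂ, classInner_smul_left]

theorem classInner_nsmul_right (n : ℕ) (φ ψ : G → ℂ) :
    classInner φ (n • ψ) = n * classInner φ ψ := by
  rw [← Nat.cast_smul_eq_nsmul ℂ, classInner_smul_right, map_natCast]

theorem classInner_zero_left (ψ : G → ℂ) : classInner 0 ψ = 0 := by simp [classInner]

theorem classInner_zero_right (φ : G → ℂ) : classInner φ 0 = 0 := by simp [classInner]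

theorem classInner_sum_left {ι : Type*} (s : Finset ι) (φ : ι → G → ℂ) (ψ : G → ℂ) :
    classInner (∑ i ∈ s, φ i) ψ = ∑ i ∈ s, classInner (φ i) ψ := by
  classical
  induction s using Finset.induction_on with
  | empty => simp [classInner_zero_left]
  | insert a s ha ih => rw [Finset.sum_insert ha, Finset.sum_insert ha, classInner_add_left, ih]

theorem classInner_sum_right {ι : Type*} (s : Finset ι) (φ : G → ℂ) (ψ : ι → G → ℂ) :
    classInner φ (∑ i ∈ s, ψ i) = ∑ i ∈ s, classInner φ (ψ i) := by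
  classical
  induction s using Finset.induction_on with
  | empty => simp [classInner_zero_right]
  | insert a s ha ih => rw [Finset.sum_insert ha, Finset.sum_insert ha, classInner_add_right, ih]

theorem conj_classInner (φ ψ : G → ℂ) : conj (classInner φ ψ) = classInner ψ φ := by
  simp [classInner, mul_comm]

theorem classInner_comm_of_eq_zero {φ ψ : G → ℂ} (h : classInner φ ψ = 0) :
    classInner ψ φ = 0 := by
  rw [← conj_classInner, h, map_zero]

theorem classInner_conj_conj (φ ψ : G → ℂ) :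
    classInner (fun g => conj (φ g)) (fun g => conj (ψ g)) = classInner ψ φ := by
  simp [classInner, mul_comm]

theorem classInner_mul_left (φ η ψ : G → ℂ) :
    classInner (φ * η) ψ = classInner φ (ψ * fun g => conj (η g)) := by
  simp only [classInner, Pi.mul_apply, map_mul, Complex.conj_conj]
  congr 1
  exact Finset.sum_congr rfl fun g _ => by ring

theorem classInner_self_eq (φ : G → ℂ) :
    classInner φ φ = (((Nat.card G : ℝ)⁻¹ * ∑ g : G, ‖φ g‖ ^ 2 : ℝ) : ℂ) := by
  simp [classInner, Complex.mul_conj, Complex.normSq_eq_norm_sq]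

theorem classInner_self_re (φ : G → ℂ) :
    (classInner φ φ).re = (Nat.card G : ℝ)⁻¹ * ∑ g : G, ‖φ g‖ ^ 2 := by
  rw [classInner_self_eq, Complex.ofReal_re]

theorem classInner_self_im (φ : G → ℂ) : (classInner φ φ).im = 0 := by
  rw [classInner_self_eq, Complex.ofReal_im]

theorem classInner_self_re_nonneg (φ : G → ℂ) : 0 ≤ (classInner φ φ).re := by
  rw [classInner_self_re]; positivity

theorem classInner_self_eq_zero {φ : G → ℂ} : classInner φ φ = 0 ↔ φ = 0 := by
  constructor
  · intro h
    rw [classInner_self_eq] at h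
    have h1 : (Nat.card G : ℝ)⁻¹ * ∑ g : G, ‖φ g‖ ^ 2 = 0 := by exact_mod_cast h
    have h2 : (Nat.card G : ℝ)⁻¹ ≠ 0 := by
      have : (0 : ℝ) < Nat.card G := by exact_mod_cast (Nat.card_pos (α := G))
      positivity
    have h3 := (mul_eq_zero.mp h1).resolve_left h2
    ext g
    have := (Finset.sum_eq_zero_iff_of_nonneg (fun k _ => sq_nonneg ‖φ k‖)).mp h3 g
      (Finset.mem_univ g)
    simpa using this
  · rintro rfl; exact classInner_zero_left _

theorem classInner_comp_equiv {H : Type*} [Group H] [Fintype H] (e : H ≃ G) (φ ψ : G → ℂ) :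
    classInner (fun h => φ (e h)) (fun h => ψ (e h)) = classInner φ ψ := by
  rw [classInner, classInner, Nat.card_congr e]
  congr 1
  exact Fintype.sum_equiv e _ _ fun _ => rfl

theorem classInner_one_one : classInner (fun _ : G => (1 : ℂ)) (fun _ => 1) = 1 := by
  simp [classInner, ← Nat.card_eq_fintype_card]

/-- Inner products are preserved by inflation along a surjective homomorphism. -/
theorem classInner_comp_surjective {H : Type*} [Group H] [Fintype H] (f : H →* G)
    (hf : Function.Surjective f) (φ ψ : G → ℂ) :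
    classInner (fun h => φ (f h)) (fun h => ψ (f h)) = classInner φ ψ := by
  classical
  have key : ∀ F : G → ℂ, ∑ h : H, F (f h) = (Nat.card f.ker : ℂ) * ∑ g : G, F g := by
    intro F
    rw [← Finset.sum_fiberwise (s := Finset.univ) (g := f), Finset.mul_sum]
    refine Finset.sum_congr rfl fun g _ => ?_
    rw [Finset.sum_congr rfl (g := fun _ => F g) (fun x hx => by
      rw [(Finset.mem_filter.mp hx).2]), Finset.sum_const, nsmul_eq_mul]
    congr 2
    obtain ⟨x, rfl⟩ := hf g
    rw [← Fintype.card_subtype, ← Nat.card_eq_fintype_card]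
    exact Nat.card_congr (MonoidHom.fiberEquivKer f x)
  have hcard : (Nat.card H : ℂ) = Nat.card f.ker * Nat.card G := by
    have := Subgroup.card_eq_card_quotient_mul_card_subgroup f.ker
    rw [Nat.card_congr (QuotientGroup.quotientKerEquivOfSurjective f hf).toEquiv] at this
    rw [this]; push_cast; ring
  rw [classInner, classInner, key (fun g => φ g * conj (ψ g)), hcard]
  have h1 := card_ne_zero f.ker
  have h2 := card_ne_zero G
  field_simp

end Inner

/-! ## Class functions -/

section ClassFun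

variable {G : Type*} [Group G]

theorem Cfsg.IsClassFunction.apply_of_isConj {θ : G → ℂ} (hθ : IsClassFunction G θ) {g h : G}
    (hgh : IsConj g h) : θ g = θ h := by
  obtain ⟨c, rfl⟩ := isConj_iff.mp hgh
  exact (hθ g c).symm

theorem Cfsg.IsClassFunction.conj_inv {θ : G → ℂ} (hθ : IsClassFunction G θ) (g h : G) :
    θ (h⁻¹ * g * h) = θ g := by
  simpa using hθ g h⁻¹

theorem Cfsg.IsClassFunction.mul_comm {θ : G → ℂ} (hθ : IsClassFunction G θ) (g h : G) :
    θ (g * h) = θ (h * g) := by
  rw [← hθ (g * h) h]; congr 1; group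

theorem isClassFunction_of_isConj {θ : G → ℂ} (h : ∀ g h, IsConj g h → θ g = θ h) :
    IsClassFunction G θ := fun _ x => (h _ _ (isConj_iff.mpr ⟨x, rfl⟩)).symm

theorem isClassFunction_const (c : ℂ) : IsClassFunction G (fun _ => c) := fun _ _ => rfl

theorem isClassFunction_zero : IsClassFunction G 0 := fun _ _ => rfl

theorem isClassFunction_of_comm (h : ∀ a b : G, a * b = b * a) (θ : G → ℂ) :
    IsClassFunction G θ := fun g x => by rw [h x g, mul_inv_cancel_right]

theorem Cfsg.IsClassFunction.add {θ η : G → ℂ} (hθ : IsClassFunction G θ)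
    (hη : IsClassFunction G η) : IsClassFunction G (θ + η) := fun g h => by
  simp [hθ g h, hη g h]

theorem Cfsg.IsClassFunction.sub {θ η : G → ℂ} (hθ : IsClassFunction G θ)
    (hη : IsClassFunction G η) : IsClassFunction G (θ - η) := fun g h => by
  simp [hθ g h, hη g h]

theorem Cfsg.IsClassFunction.mul {θ η : G → ℂ} (hθ : IsClassFunction G θ)
    (hη : IsClassFunction G η) : IsClassFunction G (θ * η) := fun g h => by
  simp [hθ g h, hη g h]

theorem Cfsg.IsClassFunction.neg {θ : G → ℂ} (hθ : IsClassFunction G θ) :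
    IsClassFunction G (-θ) := fun g h => by simp [hθ g h]

theorem Cfsg.IsClassFunction.smul {θ : G → ℂ} (hθ : IsClassFunction G θ) (c : ℂ) :
    IsClassFunction G (c • θ) := fun g h => by simp [hθ g h]

theorem Cfsg.IsClassFunction.zsmul {θ : G → ℂ} (hθ : IsClassFunction G θ) (c : ℤ) :
    IsClassFunction G (c • θ) := fun g h => by simp [hθ g h]

theorem Cfsg.IsClassFunction.nsmul {θ : G → ℂ} (hθ : IsClassFunction G θ) (c : ℕ) :
    IsClassFunction G (c • θ) := fun g h => by simp [hθ g h]

theorem Cfsg.IsClassFunction.conj {θ : G → ℂ} (hθ : IsClassFunction G θ) :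
    IsClassFunction G (fun g => conj (θ g)) := fun g h => by simp [hθ g h]

theorem Cfsg.IsClassFunction.map {θ : G → ℂ} (hθ : IsClassFunction G θ) (F : ℂ → ℂ) :
    IsClassFunction G (fun g => F (θ g)) := fun g h => by simp [hθ g h]

theorem Cfsg.IsClassFunction.inv {θ : G → ℂ} (hθ : IsClassFunction G θ) :
    IsClassFunction G (fun g => θ g⁻¹) := fun g h => by
  have := hθ g⁻¹ h
  simpa [mul_assoc] using this

theorem Cfsg.IsClassFunction.pow_arg {θ : G → ℂ} (hθ : IsClassFunction G θ) (m : ℕ) :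
    IsClassFunction G (fun g => θ (g ^ m)) := fun g h => by
  simp only [conj_pow]; exact hθ _ _

theorem Cfsg.IsClassFunction.comp {H : Type*} [Group H] {θ : G → ℂ} (hθ : IsClassFunction G θ)
    (f : H →* G) : IsClassFunction H (fun h => θ (f h)) := fun g h => by
  simp [hθ (f g) (f h)]

theorem Cfsg.IsClassFunction.restrict {θ : G → ℂ} (hθ : IsClassFunction G θ) (H : Subgroup G) :
    IsClassFunction H (fun h : H => θ h) := hθ.comp H.subtype

theorem isClassFunction_sum {ι : Type*} (s : Finset ι) (θ : ι → G → ℂ)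
    (h : ∀ i ∈ s, IsClassFunction G (θ i)) : IsClassFunction G (∑ i ∈ s, θ i) := fun g x => by
  simp only [Finset.sum_apply]
  exact Finset.sum_congr rfl fun i hi => h i hi g x

end ClassFun

/-! ## Characters: closure properties -/

section Closure

variable {G : Type*} [Group G]

theorem isCharacter_of_rep {V : Type*} [AddCommGroup V] [Module ℂ V] [FiniteDimensional ℂ V]
    (ρ : Representation ℂ G V) : IsCharacter G ρ.character :=
  ⟨finrank ℂ V, repTransport ρ (Module.finBasis ℂ V).equivFun,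
    (Representation.char_iso (repTransportEquiv ρ _)).symm⟩

theorem isIrrCharacter_of_rep {V : Type*} [AddCommGroup V] [Module ℂ V] [FiniteDimensional ℂ V]
    (ρ : Representation ℂ G V) [ρ.IsIrreducible] : IsIrrCharacter G ρ.character :=
  ⟨finrank ℂ V, repTransport ρ (Module.finBasis ℂ V).equivFun,
    irreducible_of_equiv (repTransportEquiv ρ _),
    (Representation.char_iso (repTransportEquiv ρ _)).symm⟩

theorem Cfsg.IsIrrCharacter.isCharacter {χ : G → ℂ} (h : IsIrrCharacter G χ) :
    IsCharacter G χ := by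
  obtain ⟨n, ρ, -, h⟩ := h; exact ⟨n, ρ, h⟩

theorem Cfsg.IsCharacter.classFun {χ : G → ℂ} (h : IsCharacter G χ) : IsClassFunction G χ := by
  obtain ⟨n, ρ, rfl⟩ := h; exact fun g x => ρ.char_conj g x

theorem Cfsg.IsIrrCharacter.classFun {χ : G → ℂ} (h : IsIrrCharacter G χ) :
    IsClassFunction G χ := h.isCharacter.classFun

theorem isCharacter_zero : IsCharacter G 0 :=
  ⟨0, 1, by ext g; simp [Representation.character]⟩

theorem Cfsg.IsCharacter.add {χ ψ : G → ℂ} (hχ : IsCharacter G χ) (hψ : IsCharacter G ψ) :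
    IsCharacter G (χ + ψ) := by
  obtain ⟨n, ρ, rfl⟩ := hχ
  obtain ⟨m, σ, rfl⟩ := hψ
  rw [← rep_char_prod]; exact isCharacter_of_rep _

theorem Cfsg.IsCharacter.mul {χ ψ : G → ℂ} (hχ : IsCharacter G χ) (hψ : IsCharacter G ψ) :
    IsCharacter G (χ * ψ) := by
  obtain ⟨n, ρ, rfl⟩ := hχ
  obtain ⟨m, σ, rfl⟩ := hψ
  rw [← Representation.char_tensor]; exact isCharacter_of_rep _

theorem Cfsg.IsCharacter.inv {χ : G → ℂ} (hχ : IsCharacter G χ) :
    IsCharacter G (fun g => χ g⁻¹) := by
  obtain ⟨n, ρ, rfl⟩ := hχ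
  have : (fun g => ρ.character g⁻¹) = ρ.dual.character := by ext g; simp
  rw [this]; exact isCharacter_of_rep _

theorem Cfsg.IsCharacter.comp {H : Type*} [Group H] {χ : G → ℂ} (hχ : IsCharacter G χ)
    (f : H →* G) : IsCharacter H (fun h => χ (f h)) := by
  obtain ⟨n, ρ, rfl⟩ := hχ
  exact ⟨n, ρ.comp f, rfl⟩

theorem Cfsg.IsCharacter.restrict {χ : G → ℂ} (hχ : IsCharacter G χ) (H : Subgroup G) :
    IsCharacter H (fun h : H => χ h) := hχ.comp H.subtype

theorem isCharacter_sum {ι : Type*} (s : Finset ι) (χ : ι → G → ℂ)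
    (h : ∀ i ∈ s, IsCharacter G (χ i)) : IsCharacter G (∑ i ∈ s, χ i) :=
  Finset.sum_induction _ _ (fun _ _ ha hb => ha.add hb) isCharacter_zero h

theorem Cfsg.IsCharacter.nsmul {χ : G → ℂ} (hχ : IsCharacter G χ) (n : ℕ) :
    IsCharacter G (n • χ) := by
  induction n with
  | zero => simpa using isCharacter_zero
  | succ n ih => rw [succ_nsmul]; exact ih.add hχ

theorem Cfsg.IsCharacter.natCast_smul {χ : G → ℂ} (hχ : IsCharacter G χ) (n : ℕ) :
    IsCharacter G ((n : ℂ) • χ) := by
  rw [Nat.cast_smul_eq_nsmul]; exact hχ.nsmul n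

/-- The one-dimensional representation attached to a homomorphism `G →* ℂ`. -/
noncomputable def linRep (lam : G →* ℂ) : Representation ℂ G ℂ where
  toFun g := lam g • LinearMap.id
  map_one' := by ext; simp
  map_mul' g h := by ext; simp [mul_comm]

theorem linRep_character (lam : G →* ℂ) : (linRep lam).character = lam := by
  ext g; simp [Representation.character, linRep]

/-- A homomorphism `G →* ℂ` is an irreducible character. -/
theorem isIrrCharacter_monoidHom (lam : G →* ℂ) : IsIrrCharacter G lam := by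
  have := irreducible_of_finrank_eq_one (linRep lam) (by simp)
  rw [← linRep_character]; exact isIrrCharacter_of_rep _

/-- A homomorphism `G →* ℂˣ` gives an irreducible character. -/
theorem isIrrCharacter_linear (lam : G →* ℂˣ) : IsIrrCharacter G (fun g => (lam g : ℂ)) :=
  isIrrCharacter_monoidHom ((Units.coeHom ℂ).comp lam)

theorem isIrrCharacter_one : IsIrrCharacter G (fun _ => 1) := isIrrCharacter_monoidHom 1

theorem isCharacter_one : IsCharacter G (fun _ => 1) := isIrrCharacter_one.isCharacter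

theorem Cfsg.IsCharacter.pow {χ : G → ℂ} (hχ : IsCharacter G χ) (n : ℕ) :
    IsCharacter G (χ ^ n) := by
  induction n with
  | zero => exact isCharacter_one
  | succ n ih => rw [pow_succ]; exact ih.mul hχ

theorem isCharacter_prod {ι : Type*} (s : Finset ι) (χ : ι → G → ℂ)
    (h : ∀ i ∈ s, IsCharacter G (χ i)) : IsCharacter G (∏ i ∈ s, χ i) :=
  Finset.prod_induction _ _ (fun _ _ ha hb => ha.mul hb) isCharacter_one h

theorem Cfsg.IsCharacter.exists_nat_apply_one {χ : G → ℂ} (hχ : IsCharacter G χ) :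
    ∃ n : ℕ, χ 1 = n := by
  obtain ⟨n, ρ, rfl⟩ := hχ
  exact ⟨n, by simp⟩

theorem Cfsg.IsIrrCharacter.exists_nat_apply_one {χ : G → ℂ} (hχ : IsIrrCharacter G χ) :
    ∃ n : ℕ, 0 < n ∧ χ 1 = n := by
  obtain ⟨n, ρ, hρ, rfl⟩ := hχ
  have := finrank_pos_of_irreducible ρ
  exact ⟨n, by simpa using this, by simp⟩

theorem Cfsg.IsIrrCharacter.apply_one_ne_zero {χ : G → ℂ} (hχ : IsIrrCharacter G χ) :
    χ 1 ≠ 0 := by
  obtain ⟨n, hn, h⟩ := hχ.exists_nat_apply_one
  rw [h]; exact_mod_cast hn.ne'

theorem Cfsg.IsIrrCharacter.ne_zero {χ : G → ℂ} (hχ : IsIrrCharacter G χ) : χ ≠ 0 :=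
  fun h => hχ.apply_one_ne_zero (by rw [h]; rfl)

theorem Cfsg.IsIrrCharacter.one_le_apply_one_re {χ : G → ℂ} (hχ : IsIrrCharacter G χ) :
    1 ≤ (χ 1).re := by
  obtain ⟨n, hn, h⟩ := hχ.exists_nat_apply_one
  rw [h, Complex.natCast_re]; exact_mod_cast hn

theorem Cfsg.IsCharacter.apply_one_re_nonneg {χ : G → ℂ} (hχ : IsCharacter G χ) :
    0 ≤ (χ 1).re := by
  obtain ⟨n, h⟩ := hχ.exists_nat_apply_one
  rw [h, Complex.natCast_re]; positivity

theorem Cfsg.IsCharacter.eq_zero_of_apply_one {χ : G → ℂ} (hχ : IsCharacter G χ)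
    (h : χ 1 = 0) : χ = 0 := by
  obtain ⟨n, ρ, rfl⟩ := hχ
  have : n = 0 := by simpa using h
  subst this
  ext g
  simp [Representation.character, Subsingleton.elim (ρ g) 0]

/-- A character of degree one is (the coercion of) a homomorphism to `ℂˣ`. -/
theorem Cfsg.IsCharacter.exists_linear {χ : G → ℂ} (hχ : IsCharacter G χ) (h1 : χ 1 = 1) :
    ∃ lam : G →* ℂˣ, χ = fun g => (lam g : ℂ) := by
  obtain ⟨n, ρ, rfl⟩ := hχ
  have : n = 1 := by simpa using h1
  subst this
  refine ⟨MonoidHom.toHomUnits ((LinearMap.det (A := ℂ)).comp ρ), ?_⟩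
  ext g
  simp only [Representation.character, MonoidHom.coe_toHomUnits, MonoidHom.coe_comp,
    Function.comp_apply]
  rw [LinearMap.trace_eq_matrix_trace ℂ (Pi.basisFun ℂ (Fin 1)),
    ← LinearMap.det_toMatrix (Pi.basisFun ℂ (Fin 1)), Matrix.det_unique, Matrix.trace_fin_one]
  rfl

theorem Cfsg.IsCharacter.isIrr_of_apply_one {χ : G → ℂ} (hχ : IsCharacter G χ) (h1 : χ 1 = 1) :
    IsIrrCharacter G χ := by
  obtain ⟨lam, rfl⟩ := hχ.exists_linear h1
  exact isIrrCharacter_linear lam

theorem Cfsg.IsCharacter.map_mul_of_apply_one {χ : G → ℂ} (hχ : IsCharacter G χ) (h1 : χ 1 = 1)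
    (g h : G) : χ (g * h) = χ g * χ h := by
  obtain ⟨lam, rfl⟩ := hχ.exists_linear h1
  simp

/-- Irreducible characters of commutative groups have degree one. -/
theorem Cfsg.IsIrrCharacter.apply_one_of_comm {χ : G → ℂ} (hχ : IsIrrCharacter G χ)
    (h : ∀ a b : G, a * b = b * a) : χ 1 = 1 := by
  obtain ⟨n, ρ, hρ, rfl⟩ := hχ
  have : IsMulCommutative G := ⟨⟨h⟩⟩
  have := Representation.IsIrreducible.finrank_eq_one_of_isMulCommutative ρ
  rw [Representation.char_one, this, Nat.cast_one]

variable [Finite G]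

theorem Cfsg.IsCharacter.apply_inv {χ : G → ℂ} (hχ : IsCharacter G χ) (g : G) :
    χ g⁻¹ = conj (χ g) := by
  obtain ⟨n, ρ, rfl⟩ := hχ; exact rep_char_inv ρ g

theorem Cfsg.IsIrrCharacter.apply_inv {χ : G → ℂ} (hχ : IsIrrCharacter G χ) (g : G) :
    χ g⁻¹ = conj (χ g) := hχ.isCharacter.apply_inv g

theorem Cfsg.IsCharacter.conj {χ : G → ℂ} (hχ : IsCharacter G χ) :
    IsCharacter G (fun g => conj (χ g)) := by
  have := hχ.inv
  simpa only [hχ.apply_inv] using this

theorem Cfsg.IsCharacter.isIntegral {χ : G → ℂ} (hχ : IsCharacter G χ) (g : G) :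
    IsIntegral ℤ (χ g) := by
  obtain ⟨n, ρ, rfl⟩ := hχ; exact rep_char_isIntegral ρ g

theorem Cfsg.IsCharacter.norm_le {χ : G → ℂ} (hχ : IsCharacter G χ) (g : G) :
    ‖χ g‖ ≤ (χ 1).re := by
  obtain ⟨n, ρ, rfl⟩ := hχ
  simpa using rep_norm_char_le ρ g

/-- The values of a character at the powers of `g` are power sums of roots of unity. -/
theorem Cfsg.IsCharacter.exists_eigenvalues {χ : G → ℂ} (hχ : IsCharacter G χ) (g : G) :
    ∃ (n : ℕ) (ω : Fin n → ℂ), χ 1 = n ∧ (∀ i, ω i ^ orderOf g = 1) ∧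
      ∀ k : ℕ, χ (g ^ k) = ∑ i, ω i ^ k := by
  obtain ⟨n, ρ, rfl⟩ := hχ
  obtain ⟨b, ω, h1, -, h3, -⟩ := rep_eigenbasis ρ g
  exact ⟨_, ω, by simp, h1, h3⟩

/-- Induction principle for characters. -/
theorem Cfsg.IsCharacter.induction {P : (G → ℂ) → Prop} {χ : G → ℂ} (hχ : IsCharacter G χ)
    (h0 : P 0) (hirr : ∀ ψ, IsIrrCharacter G ψ → P ψ)
    (hadd : ∀ φ ψ, IsCharacter G φ → IsCharacter G ψ → P φ → P ψ → P (φ + ψ)) : P χ := by
  obtain ⟨n, ρ, rfl⟩ := hχ
  have : NeZero (Nat.card G : ℂ) := ⟨card_ne_zero G⟩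
  refine rep_induction (k := ℂ) (G := G) (fun V _ _ _ ρ => P ρ.character) ?_ ?_ ?_ _ ρ
  · intro V _ _ _ _ ρ
    have : ρ.character = 0 := by
      ext g; simp [Representation.character, Subsingleton.elim (ρ g) 0]
    rw [this]; exact h0
  · intro V _ _ _ ρ _
    exact hirr _ (isIrrCharacter_of_rep ρ)
  · intro V _ _ _ ρ U U' h h1 h2
    rw [rep_char_eq_add_of_isCompl ρ U U' h]
    exact hadd _ _ (isCharacter_of_rep _) (isCharacter_of_rep _) h1 h2

end Closure

/-! ## Orthogonality -/

section Orth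

variable {G : Type*} [Group G]

theorem rep_classInner_eq_finrank [Fintype G] {V W : Type*} [AddCommGroup V] [Module ℂ V]
    [FiniteDimensional ℂ V] [AddCommGroup W] [Module ℂ W] [FiniteDimensional ℂ W]
    (ρ : Representation ℂ G V) (σ : Representation ℂ G W) :
    classInner σ.character ρ.character = finrank ℂ (ρ.IntertwiningMap σ) := by
  have := invertibleOfNonzero (card_ne_zero G)
  rw [← Representation.card_inv_mul_sum_char_mul_char_eq_finrank, classInner]
  simp_rw [rep_char_inv]

theorem rep_classInner_one_eq_finrank [Fintype G] {V : Type*} [AddCommGroup V] [Module ℂ V]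
    [FiniteDimensional ℂ V] (ρ : Representation ℂ G V) :
    classInner ρ.character (fun _ => 1) = finrank ℂ ρ.invariants := by
  have := invertibleOfNonzero (card_ne_zero G)
  rw [← Representation.card_inv_mul_sum_char_eq_finrank, classInner]
  simp

theorem Cfsg.IsCharacter.inner_nat [Fintype G] {χ ψ : G → ℂ} (hχ : IsCharacter G χ)
    (hψ : IsCharacter G ψ) : ∃ n : ℕ, classInner χ ψ = n := by
  obtain ⟨n, ρ, rfl⟩ := hχ
  obtain ⟨m, σ, rfl⟩ := hψ
  exact ⟨_, rep_classInner_eq_finrank σ ρ⟩

theorem Cfsg.IsCharacter.inner_comm [Fintype G] {χ ψ : G → ℂ} (hχ : IsCharacter G χ)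
    (hψ : IsCharacter G ψ) : classInner χ ψ = classInner ψ χ := by
  obtain ⟨n, hn⟩ := hχ.inner_nat hψ
  rw [← conj_classInner χ ψ, hn, map_natCast]

theorem Cfsg.IsIrrCharacter.inner_self [Fintype G] {χ : G → ℂ} (hχ : IsIrrCharacter G χ) :
    classInner χ χ = 1 := by
  obtain ⟨n, ρ, hρ, rfl⟩ := hχ
  rw [rep_classInner_eq_finrank]; simp

theorem Cfsg.IsIrrCharacter.inner_of_ne [Fintype G] {χ ψ : G → ℂ} (hχ : IsIrrCharacter G χ)
    (hψ : IsIrrCharacter G ψ) (h : χ ≠ ψ) : classInner χ ψ = 0 := by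
  obtain ⟨n, ρ, hρ, rfl⟩ := hχ
  obtain ⟨m, σ, hσ, rfl⟩ := hψ
  have : IsEmpty (σ.Equiv ρ) := ⟨fun e => h (Representation.char_iso e).symm⟩
  rw [rep_classInner_eq_finrank]
  simp [finrank_eq_zero_of_subsingleton]

open Classical in
theorem Cfsg.IsIrrCharacter.inner_eq_ite [Fintype G] {χ ψ : G → ℂ} (hχ : IsIrrCharacter G χ)
    (hψ : IsIrrCharacter G ψ) : classInner χ ψ = if χ = ψ then 1 else 0 := by
  split_ifs with h
  · subst h; exact hχ.inner_self
  · exact hχ.inner_of_ne hψ h

theorem Cfsg.IsIrrCharacter.eq_of_inner_ne_zero [Fintype G] {χ ψ : G → ℂ}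
    (hχ : IsIrrCharacter G χ) (hψ : IsIrrCharacter G ψ) (h : classInner χ ψ ≠ 0) : χ = ψ := by
  by_contra hne; exact h (hχ.inner_of_ne hψ hne)

open Classical in
theorem irr_inner [Fintype G] (χ ψ : IrrCharacter G) :
    classInner (χ : G → ℂ) ψ = if χ = ψ then 1 else 0 := by
  rw [χ.2.inner_eq_ite ψ.2]
  simp only [Subtype.ext_iff]

theorem irr_linearIndependent (G : Type*) [Group G] [Finite G] :
    LinearIndependent ℂ (fun χ : IrrCharacter G => (χ : G → ℂ)) := by
  classical
  have := Fintype.ofFinite G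
  rw [linearIndependent_iff']
  intro s c hc ψ hψ
  have := congrArg (fun f => classInner f (ψ : G → ℂ)) hc
  simp only [classInner_sum_left, classInner_smul_left, irr_inner, classInner_zero_left] at this
  simpa [hψ] using this

instance finiteIrr [Finite G] : Finite (IrrCharacter G) :=
  (irr_linearIndependent G).finite

noncomputable instance fintypeIrr [Finite G] : Fintype (IrrCharacter G) := Fintype.ofFinite _

/-- The principal character as an element of `IrrCharacter G`. -/
def irrOne (G : Type*) [Group G] : IrrCharacter G := ⟨fun _ => 1, isIrrCharacter_one⟩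

@[simp] theorem irrOne_apply (g : G) : (irrOne G : G → ℂ) g = 1 := rfl

theorem irrOne_coe : (irrOne G : G → ℂ) = fun _ => 1 := rfl

theorem classInner_sum_smul_irr [Fintype G] (c : IrrCharacter G → ℂ) (ψ : IrrCharacter G) :
    classInner (∑ χ : IrrCharacter G, c χ • (χ : G → ℂ)) ψ = c ψ := by
  classical
  simp [classInner_sum_left, classInner_smul_left, irr_inner]

/-- Central character formula: convolution of a class function with an irreducible character. -/
theorem Cfsg.IsIrrCharacter.sum_classFun_mul [Fintype G] {χ : G → ℂ} (hχ : IsIrrCharacter G χ)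
    {f : G → ℂ} (hf : IsClassFunction G f) (h : G) :
    ∑ g, f g * χ (g * h) = (∑ g, f g * χ g) / χ 1 * χ h := by
  have h1 := hχ.apply_one_ne_zero
  obtain ⟨n, ρ, hρ, rfl⟩ := hχ
  obtain ⟨c, hc, hc'⟩ := classSum_scalar ρ f hf
  have := congrArg (fun T => LinearMap.trace ℂ _ (T ∘ₗ ρ h)) hc
  simp only [← Module.End.mul_eq_comp, Finset.sum_mul, smul_mul_assoc, ← map_mul, map_sum,
    map_smul, smul_eq_mul] at this
  rw [← hc', ← ρ.char_one, mul_div_assoc, div_self h1, mul_one]
  simpa [Representation.character, ← Module.End.one_eq_id] using this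

open Classical in
/-- The regular character. -/
theorem isCharacter_regular [Finite G] :
    IsCharacter G (fun g => if g = 1 then (Nat.card G : ℂ) else 0) := by
  have := Fintype.ofFinite G
  have : (fun g => if g = 1 then (Nat.card G : ℂ) else 0) =
      (Representation.leftRegular ℂ G).character := by
    ext g
    rw [Representation.character, LinearMap.trace_eq_matrix_trace ℂ (MonoidAlgebra.basis G ℂ),
      Matrix.trace]
    simp [LinearMap.toMatrix_apply, Finsupp.single_apply, MonoidAlgebra.basis]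
  rw [this]; exact isCharacter_of_rep _

/-- Completeness: a class function orthogonal to all irreducible characters vanishes. -/
theorem Cfsg.IsClassFunction.eq_zero_of_inner [Fintype G] {f : G → ℂ} (hf : IsClassFunction G f)
    (h : ∀ χ : G → ℂ, IsIrrCharacter G χ → classInner f χ = 0) : f = 0 := by
  classical
  have key : ∀ χ : G → ℂ, IsCharacter G χ → ∀ x, ∑ g, f g⁻¹ * χ (g * x) = 0 := by
    intro χ hχ
    refine hχ.induction (P := fun χ => ∀ x, ∑ g, f g⁻¹ * χ (g * x) = 0) (by simp) ?_ ?_
    · intro ψ hψ x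
      rw [hψ.sum_classFun_mul hf.inv]
      have h1 := card_mul_classInner f ψ
      rw [h ψ hψ, mul_zero] at h1
      have h2 : ∑ g, f g⁻¹ * ψ g = ∑ g, f g * conj (ψ g) :=
        Fintype.sum_equiv (Equiv.inv G) _ _ fun g => by simp [hψ.apply_inv]
      rw [h2, ← h1]; simp
    · intro φ ψ _ _ h1 h2 x
      simp [mul_add, Finset.sum_add_distrib, h1 x, h2 x]
  ext x
  have := key _ isCharacter_regular x
  simp only [mul_ite, mul_zero, mul_eq_one_iff_eq_inv, Finset.sum_ite_eq', Finset.mem_univ,
    if_true, inv_inv] at this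
  exact (mul_eq_zero.mp this).resolve_right (card_ne_zero G)

theorem Cfsg.IsClassFunction.ext_inner [Fintype G] {f f' : G → ℂ} (hf : IsClassFunction G f)
    (hf' : IsClassFunction G f')
    (h : ∀ χ : G → ℂ, IsIrrCharacter G χ → classInner f χ = classInner f' χ) : f = f' := by
  rw [← sub_eq_zero]
  exact (hf.sub hf').eq_zero_of_inner fun χ hχ => by rw [classInner_sub_left, h χ hχ, sub_self]

theorem isClassFunction_sum_smul_irr [Finite G] (c : IrrCharacter G → ℂ) :
    IsClassFunction G (∑ χ : IrrCharacter G, c χ • (χ : G → ℂ)) :=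
  isClassFunction_sum _ _ fun χ _ => χ.2.classFun.smul _

/-- Fourier expansion of a class function. -/
theorem Cfsg.IsClassFunction.eq_sum [Fintype G] {f : G → ℂ} (hf : IsClassFunction G f) :
    f = ∑ χ : IrrCharacter G, classInner f χ • (χ : G → ℂ) := by
  refine hf.ext_inner (isClassFunction_sum_smul_irr
    (fun χ : IrrCharacter G => classInner f (χ : G → ℂ))) fun χ hχ => ?_
  have := classInner_sum_smul_irr (fun χ : IrrCharacter G => classInner f (χ : G → ℂ)) ⟨χ, hχ⟩
  exact this.symm

theorem Cfsg.IsClassFunction.apply_eq_sum [Fintype G] {f : G → ℂ} (hf : IsClassFunction G f)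
    (g : G) : f g = ∑ χ : IrrCharacter G, classInner f χ * (χ : G → ℂ) g := by
  conv_lhs => rw [hf.eq_sum]
  simp [Finset.sum_apply]

/-- Parseval's identity. -/
theorem Cfsg.IsClassFunction.inner_eq_sum [Fintype G] {f : G → ℂ} (hf : IsClassFunction G f)
    (f' : G → ℂ) :
    classInner f f' = ∑ χ : IrrCharacter G, classInner f χ * conj (classInner f' χ) := by
  conv_lhs => rw [hf.eq_sum]
  simp [classInner_sum_left, classInner_smul_left, conj_classInner]

theorem Cfsg.IsClassFunction.inner_self_re_eq_sum [Fintype G] {f : G → ℂ}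
    (hf : IsClassFunction G f) :
    (classInner f f).re = ∑ χ : IrrCharacter G, ‖classInner f χ‖ ^ 2 := by
  rw [hf.inner_eq_sum, Complex.re_sum]
  refine Finset.sum_congr rfl fun χ _ => ?_
  rw [Complex.mul_conj, Complex.normSq_eq_norm_sq, Complex.ofReal_re]

theorem isCharacter_sum_nat [Finite G] (n : IrrCharacter G → ℕ) :
    IsCharacter G (∑ χ : IrrCharacter G, (n χ : ℂ) • (χ : G → ℂ)) :=
  isCharacter_sum _ _ fun χ _ => χ.2.isCharacter.natCast_smul _

/-- A class function whose Fourier coefficients are natural numbers is a character. -/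
theorem Cfsg.IsClassFunction.isCharacter_of_inner_nat [Fintype G] {f : G → ℂ}
    (hf : IsClassFunction G f)
    (h : ∀ χ : G → ℂ, IsIrrCharacter G χ → ∃ n : ℕ, classInner f χ = n) : IsCharacter G f := by
  choose n hn using h
  rw [hf.eq_sum]
  simp_rw [fun χ : IrrCharacter G => hn χ χ.2]
  exact isCharacter_sum_nat _

theorem Cfsg.IsCharacter.exists_eq_sum_nat [Finite G] {χ : G → ℂ} (hχ : IsCharacter G χ) :
    ∃ n : IrrCharacter G → ℕ, χ = ∑ ψ : IrrCharacter G, (n ψ : ℂ) • (ψ : G → ℂ) := by
  have := Fintype.ofFinite G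
  choose n hn using fun ψ : IrrCharacter G => hχ.inner_nat ψ.2.isCharacter
  refine ⟨n, ?_⟩
  conv_lhs => rw [hχ.classFun.eq_sum]
  simp_rw [hn]

/-- A nonzero class function has an irreducible constituent. -/
theorem Cfsg.IsClassFunction.exists_irr_inner_ne_zero [Fintype G] {f : G → ℂ}
    (hf : IsClassFunction G f) (h0 : f ≠ 0) :
    ∃ χ : G → ℂ, IsIrrCharacter G χ ∧ classInner f χ ≠ 0 := by
  by_contra hc
  push Not at hc
  exact h0 (hf.eq_zero_of_inner hc)

/-- Removing an irreducible constituent from a character leaves a character. -/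
theorem Cfsg.IsCharacter.sub_irr [Fintype G] {χ ψ : G → ℂ} (hχ : IsCharacter G χ)
    (hψ : IsIrrCharacter G ψ) (h : classInner χ ψ ≠ 0) : IsCharacter G (χ - ψ) := by
  classical
  refine (hχ.classFun.sub hψ.classFun).isCharacter_of_inner_nat fun η hη => ?_
  obtain ⟨n, hn⟩ := hχ.inner_nat hη.isCharacter
  rw [classInner_sub_left, hψ.inner_eq_ite hη, hn]
  split_ifs with h1
  · subst h1
    have : n ≠ 0 := by rintro rfl; exact h (by simpa using hn)
    obtain ⟨m, rfl⟩ := Nat.exists_eq_succ_of_ne_zero this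
    exact ⟨m, by simp⟩
  · exact ⟨n, by simp⟩

/-- Removing an irreducible constituent with its full multiplicity leaves a character. -/
theorem Cfsg.IsCharacter.sub_inner_smul [Fintype G] {χ ψ : G → ℂ} (hχ : IsCharacter G χ)
    (hψ : IsIrrCharacter G ψ) : IsCharacter G (χ - classInner χ ψ • ψ) := by
  classical
  refine (hχ.classFun.sub (hψ.classFun.smul _)).isCharacter_of_inner_nat fun η hη => ?_
  obtain ⟨n, hn⟩ := hχ.inner_nat hη.isCharacter
  rw [classInner_sub_left, classInner_smul_left, hψ.inner_eq_ite hη]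
  split_ifs with h1
  · subst h1
    exact ⟨0, by simp⟩
  · exact ⟨n, by simp [hn]⟩

/-- Degree of a constituent times multiplicity is at most the degree. -/
theorem Cfsg.IsCharacter.inner_mul_degree_le [Fintype G] {χ ψ : G → ℂ} (hχ : IsCharacter G χ)
    (hψ : IsIrrCharacter G ψ) : (classInner χ ψ).re * (ψ 1).re ≤ (χ 1).re := by
  have h1 := (hχ.sub_inner_smul hψ).apply_one_re_nonneg
  obtain ⟨n, hn⟩ := hχ.inner_nat hψ.isCharacter
  rw [hn] at h1 ⊢
  simp at h1 ⊢
  linarith

theorem Cfsg.IsCharacter.degree_le_of_inner_ne_zero [Fintype G] {χ ψ : G → ℂ}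
    (hχ : IsCharacter G χ) (hψ : IsIrrCharacter G ψ) (h : classInner χ ψ ≠ 0) :
    (ψ 1).re ≤ (χ 1).re := by
  have h1 := (hχ.sub_irr hψ h).apply_one_re_nonneg
  simp at h1
  linarith

/-- A constituent of the same degree is the whole character. -/
theorem Cfsg.IsCharacter.eq_of_inner_ne_zero_of_degree [Fintype G] {χ ψ : G → ℂ}
    (hχ : IsCharacter G χ) (hψ : IsIrrCharacter G ψ) (h : classInner χ ψ ≠ 0)
    (hd : χ 1 = ψ 1) : χ = ψ := by
  have := (hχ.sub_irr hψ h).eq_zero_of_apply_one (by simp [hd])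
  exact sub_eq_zero.mp this

end Orth

end H4
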