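import Mathlib
import Cfsg.Prelude.Def_Characters
import Cfsg.Agent.H4.Core

/-!
# Generalized characters, norm criteria, column orthogonality, kernels (helper4 core, part 3)
-/

set_option autoImplicit false

open Cfsg Module
open scoped ComplexConjugate

namespace H4
open H4

/-! ## Generalized characters -/

section Gen

variable {G : Type*} [Group G]

theorem Cfsg.IsCharacter.isGen {χ : G → ℂ} (h : IsCharacter G χ) : IsGeneralizedCharacter G χ :=
  ⟨χ, 0, h, isCharacter_zero, by simp⟩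

theorem Cfsg.IsIrrCharacter.isGen {χ : G → ℂ} (h : IsIrrCharacter G χ) :
    IsGeneralizedCharacter G χ := h.isCharacter.isGen

theorem isGen_zero : IsGeneralizedCharacter G 0 := isCharacter_zero.isGen

theorem isGen_one : IsGeneralizedCharacter G (fun _ => 1) := isCharacter_one.isGen

theorem Cfsg.IsGeneralizedCharacter.classFun {θ : G → ℂ} (h : IsGeneralizedCharacter G θ) :
    IsClassFunction G θ := by
  obtain ⟨χ, ψ, hχ, hψ, rfl⟩ := h; exact hχ.classFun.sub hψ.classFun

theorem Cfsg.IsGeneralizedCharacter.add {θ η : G → ℂ} (h : IsGeneralizedCharacter G θ)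
    (h' : IsGeneralizedCharacter G η) : IsGeneralizedCharacter G (θ + η) := by
  obtain ⟨χ, ψ, hχ, hψ, rfl⟩ := h
  obtain ⟨χ', ψ', hχ', hψ', rfl⟩ := h'
  exact ⟨_, _, hχ.add hχ', hψ.add hψ', by abel⟩

theorem Cfsg.IsGeneralizedCharacter.neg {θ : G → ℂ} (h : IsGeneralizedCharacter G θ) :
    IsGeneralizedCharacter G (-θ) := by
  obtain ⟨χ, ψ, hχ, hψ, rfl⟩ := h
  exact ⟨_, _, hψ, hχ, by abel⟩

theorem Cfsg.IsGeneralizedCharacter.sub {θ η : G → ℂ} (h : IsGeneralizedCharacter G θ)
    (h' : IsGeneralizedCharacter G η) : IsGeneralizedCharacter G (θ - η) := by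
  rw [sub_eq_add_neg]; exact h.add h'.neg

theorem Cfsg.IsGeneralizedCharacter.mul {θ η : G → ℂ} (h : IsGeneralizedCharacter G θ)
    (h' : IsGeneralizedCharacter G η) : IsGeneralizedCharacter G (θ * η) := by
  obtain ⟨χ, ψ, hχ, hψ, rfl⟩ := h
  obtain ⟨χ', ψ', hχ', hψ', rfl⟩ := h'
  exact ⟨_, _, (hχ.mul hχ').add (hψ.mul hψ'), (hχ.mul hψ').add (hψ.mul hχ'), by ring⟩

theorem Cfsg.IsGeneralizedCharacter.nsmul {θ : G → ℂ} (h : IsGeneralizedCharacter G θ) (n : ℕ) :
    IsGeneralizedCharacter G (n • θ) := by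
  obtain ⟨χ, ψ, hχ, hψ, rfl⟩ := h
  exact ⟨_, _, hχ.nsmul n, hψ.nsmul n, by rw [smul_sub]⟩

theorem Cfsg.IsGeneralizedCharacter.zsmul {θ : G → ℂ} (h : IsGeneralizedCharacter G θ) (n : ℤ) :
    IsGeneralizedCharacter G (n • θ) := by
  obtain ⟨m, rfl | rfl⟩ := n.eq_nat_or_neg
  · simpa using h.nsmul m
  · simpa using (h.nsmul m).neg

theorem Cfsg.IsGeneralizedCharacter.intCast_smul {θ : G → ℂ} (h : IsGeneralizedCharacter G θ)
    (n : ℤ) : IsGeneralizedCharacter G ((n : ℂ) • θ) := by
  rw [Int.cast_smul_eq_zsmul]; exact h.zsmul n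

theorem Cfsg.IsGeneralizedCharacter.natCast_smul {θ : G → ℂ} (h : IsGeneralizedCharacter G θ)
    (n : ℕ) : IsGeneralizedCharacter G ((n : ℂ) • θ) := by
  rw [Nat.cast_smul_eq_nsmul]; exact h.nsmul n

theorem Cfsg.IsGeneralizedCharacter.pow {θ : G → ℂ} (h : IsGeneralizedCharacter G θ) (n : ℕ) :
    IsGeneralizedCharacter G (θ ^ n) := by
  induction n with
  | zero => exact isGen_one
  | succ n ih => rw [pow_succ]; exact ih.mul h

theorem isGen_sum {ι : Type*} (s : Finset ι) (θ : ι → G → ℂ)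
    (h : ∀ i ∈ s, IsGeneralizedCharacter G (θ i)) : IsGeneralizedCharacter G (∑ i ∈ s, θ i) :=
  Finset.sum_induction _ _ (fun _ _ ha hb => ha.add hb) isGen_zero h

theorem Cfsg.IsGeneralizedCharacter.comp {H : Type*} [Group H] {θ : G → ℂ}
    (h : IsGeneralizedCharacter G θ) (f : H →* G) :
    IsGeneralizedCharacter H (fun x => θ (f x)) := by
  obtain ⟨χ, ψ, hχ, hψ, rfl⟩ := h
  exact ⟨_, _, hχ.comp f, hψ.comp f, rfl⟩

theorem Cfsg.IsGeneralizedCharacter.restrict {θ : G → ℂ} (h : IsGeneralizedCharacter G θ)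
    (H : Subgroup G) : IsGeneralizedCharacter H (fun x : H => θ x) := h.comp H.subtype

theorem Cfsg.IsGeneralizedCharacter.exists_int_apply_one {θ : G → ℂ}
    (h : IsGeneralizedCharacter G θ) : ∃ n : ℤ, θ 1 = n := by
  obtain ⟨χ, ψ, hχ, hψ, rfl⟩ := h
  obtain ⟨a, ha⟩ := hχ.exists_nat_apply_one
  obtain ⟨b, hb⟩ := hψ.exists_nat_apply_one
  exact ⟨a - b, by simp [ha, hb]⟩

theorem Cfsg.IsGeneralizedCharacter.apply_inv [Finite G] {θ : G → ℂ}
    (h : IsGeneralizedCharacter G θ) (g : G) : θ g⁻¹ = conj (θ g) := by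
  obtain ⟨χ, ψ, hχ, hψ, rfl⟩ := h
  simp [hχ.apply_inv, hψ.apply_inv]

theorem Cfsg.IsGeneralizedCharacter.conj [Finite G] {θ : G → ℂ}
    (h : IsGeneralizedCharacter G θ) : IsGeneralizedCharacter G (fun g => conj (θ g)) := by
  obtain ⟨χ, ψ, hχ, hψ, rfl⟩ := h
  exact ⟨_, _, hχ.conj, hψ.conj, by ext; simp⟩

theorem Cfsg.IsGeneralizedCharacter.isIntegral [Finite G] {θ : G → ℂ}
    (h : IsGeneralizedCharacter G θ) (g : G) : IsIntegral ℤ (θ g) := by
  obtain ⟨χ, ψ, hχ, hψ, rfl⟩ := h
  exact (hχ.isIntegral g).sub (hψ.isIntegral g)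

theorem Cfsg.IsGeneralizedCharacter.inner_int [Fintype G] {θ η : G → ℂ}
    (h : IsGeneralizedCharacter G θ) (h' : IsGeneralizedCharacter G η) :
    ∃ n : ℤ, classInner θ η = n := by
  obtain ⟨χ, ψ, hχ, hψ, rfl⟩ := h
  obtain ⟨χ', ψ', hχ', hψ', rfl⟩ := h'
  obtain ⟨a, ha⟩ := hχ.inner_nat hχ'
  obtain ⟨b, hb⟩ := hχ.inner_nat hψ'
  obtain ⟨c, hc⟩ := hψ.inner_nat hχ'
  obtain ⟨d, hd⟩ := hψ.inner_nat hψ'
  exact ⟨a - b - (c - d), by
    simp [classInner_sub_left, classInner_sub_right, ha, hb, hc, hd]; ring⟩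

theorem Cfsg.IsGeneralizedCharacter.inner_comm [Fintype G] {θ η : G → ℂ}
    (h : IsGeneralizedCharacter G θ) (h' : IsGeneralizedCharacter G η) :
    classInner θ η = classInner η θ := by
  obtain ⟨n, hn⟩ := h.inner_int h'
  rw [← conj_classInner θ η, hn, map_intCast]

theorem isGen_sum_int [Finite G] (n : IrrCharacter G → ℤ) :
    IsGeneralizedCharacter G (∑ χ : IrrCharacter G, (n χ : ℂ) • (χ : G → ℂ)) :=
  isGen_sum _ _ fun χ _ => χ.2.isGen.intCast_smul _

/-- A class function with integral Fourier coefficients is a generalized character. -/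
theorem Cfsg.IsClassFunction.isGen_of_inner_int [Fintype G] {f : G → ℂ}
    (hf : IsClassFunction G f)
    (h : ∀ χ : G → ℂ, IsIrrCharacter G χ → ∃ n : ℤ, classInner f χ = n) :
    IsGeneralizedCharacter G f := by
  choose n hn using h
  rw [hf.eq_sum]
  simp_rw [fun χ : IrrCharacter G => hn χ χ.2]
  exact isGen_sum_int _

theorem Cfsg.IsGeneralizedCharacter.exists_eq_sum_int [Finite G] {θ : G → ℂ}
    (h : IsGeneralizedCharacter G θ) :
    ∃ n : IrrCharacter G → ℤ, θ = ∑ ψ : IrrCharacter G, (n ψ : ℂ) • (ψ : G → ℂ) := by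
  have := Fintype.ofFinite G
  choose n hn using fun ψ : IrrCharacter G => h.inner_int ψ.2.isGen
  refine ⟨n, ?_⟩
  conv_lhs => rw [h.classFun.eq_sum]
  simp_rw [hn]

/-- Coefficients and norm of a generalized character. -/
theorem Cfsg.IsGeneralizedCharacter.exists_coeff [Fintype G] {θ : G → ℂ}
    (h : IsGeneralizedCharacter G θ) :
    ∃ n : IrrCharacter G → ℤ, (∀ ψ : IrrCharacter G, classInner θ ψ = n ψ) ∧
      θ = ∑ ψ : IrrCharacter G, (n ψ : ℂ) • (ψ : G → ℂ) ∧
      classInner θ θ = ((∑ ψ : IrrCharacter G, n ψ ^ 2 : ℤ) : ℂ) := by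
  choose n hn using fun ψ : IrrCharacter G => h.inner_int ψ.2.isGen
  refine ⟨n, hn, ?_, ?_⟩
  · conv_lhs => rw [h.classFun.eq_sum]
    simp_rw [hn]
  · rw [h.classFun.inner_eq_sum]
    simp [hn, sq]

theorem isGen_iff_mem_span [Finite G] {θ : G → ℂ} :
    IsGeneralizedCharacter G θ ↔ θ ∈ Submodule.span ℤ {χ : G → ℂ | IsIrrCharacter G χ} := by
  constructor
  · intro h
    obtain ⟨n, rfl⟩ := h.exists_eq_sum_int
    refine Submodule.sum_mem _ fun ψ _ => ?_
    rw [Int.cast_smul_eq_zsmul]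
    exact Submodule.smul_mem _ _ (Submodule.subset_span ψ.2)
  · intro h
    induction h using Submodule.span_induction with
    | mem x hx => exact (show IsIrrCharacter G x from hx).isGen
    | zero => exact isGen_zero
    | add x y _ _ hx hy => exact hx.add hy
    | smul n x _ hx => exact hx.zsmul n

theorem Cfsg.IsGeneralizedCharacter.inner_self_nat [Fintype G] {θ : G → ℂ}
    (h : IsGeneralizedCharacter G θ) : ∃ n : ℕ, classInner θ θ = n := by
  obtain ⟨n, -, -, h3⟩ := h.exists_coeff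
  have : 0 ≤ ∑ ψ : IrrCharacter G, n ψ ^ 2 := Finset.sum_nonneg fun _ _ => sq_nonneg _
  obtain ⟨m, hm⟩ := Int.eq_ofNat_of_zero_le this
  exact ⟨m, by rw [h3, hm]; simp⟩

/-- Splitting off an irreducible constituent lowers the norm by the square of its coefficient. -/
theorem classInner_sub_irr_self [Fintype G] (θ : G → ℂ) {χ : G → ℂ} (hχ : IsIrrCharacter G χ) :
    classInner (θ - classInner θ χ • χ) (θ - classInner θ χ • χ) =
      classInner θ θ - classInner θ χ * conj (classInner θ χ) := by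
  simp only [classInner_sub_left, classInner_sub_right, classInner_smul_left,
    classInner_smul_right, hχ.inner_self, ← conj_classInner θ χ]
  ring

theorem classInner_sub_irr_irr [Fintype G] (θ : G → ℂ) {χ : G → ℂ} (hχ : IsIrrCharacter G χ) :
    classInner (θ - classInner θ χ • χ) χ = 0 := by
  simp [classInner_sub_left, classInner_smul_left, hχ.inner_self]

theorem inner_irr_sq_le [Fintype G] (θ : G → ℂ) {χ : G → ℂ} (hχ : IsIrrCharacter G χ) :
    ‖classInner θ χ‖ ^ 2 ≤ (classInner θ θ).re := by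
  have := classInner_self_re_nonneg (θ - classInner θ χ • χ)
  rw [classInner_sub_irr_self θ hχ, Complex.mul_conj, Complex.normSq_eq_norm_sq, Complex.sub_re,
    Complex.ofReal_re] at this
  linarith

/-- A generalized character of norm `n + 1 ≤ 3` has a constituent of multiplicity `±1`, and the
rest has norm `n`. -/
theorem Cfsg.IsGeneralizedCharacter.exists_split [Fintype G] {θ : G → ℂ}
    (h : IsGeneralizedCharacter G θ) {n : ℕ} (hn : n ≤ 2) (hθ : classInner θ θ = (n + 1 : ℕ)) :
    ∃ (χ : G → ℂ) (ε : ℤ), IsIrrCharacter G χ ∧ (ε = 1 ∨ ε = -1) ∧ classInner θ χ = ε ∧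
      classInner (θ - (ε : ℂ) • χ) (θ - (ε : ℂ) • χ) = n := by
  have h0 : θ ≠ 0 := by
    rintro rfl
    rw [classInner_zero_left] at hθ
    exact absurd hθ (by exact_mod_cast (Nat.succ_ne_zero n).symm)
  obtain ⟨χ, hχ, hne⟩ := h.classFun.exists_irr_inner_ne_zero h0
  obtain ⟨a, ha⟩ := h.inner_int hχ.isGen
  have h1 := inner_irr_sq_le θ hχ
  rw [ha, hθ, Complex.natCast_re, Complex.norm_intCast, sq_abs] at h1
  have h2 : a ^ 2 ≤ ((n + 1 : ℕ) : ℤ) := by exact_mod_cast h1
  have h3 : a ≠ 0 := by rintro rfl; exact hne (by simpa using ha)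
  have h4 : a = 1 ∨ a = -1 := by
    have h5 : a ^ 2 ≤ 3 := h2.trans (by exact_mod_cast (by omega : n + 1 ≤ 3))
    have : a ≤ 1 := by nlinarith
    have : -1 ≤ a := by nlinarith
    omega
  refine ⟨χ, a, hχ, h4, ha, ?_⟩
  have := classInner_sub_irr_self θ hχ
  rw [ha, hθ] at this
  rw [this]
  rcases h4 with rfl | rfl <;> simp

/-- Norm-one criterion. -/
theorem Cfsg.IsGeneralizedCharacter.irr_or_neg_of_inner_self [Fintype G] {θ : G → ℂ}
    (h : IsGeneralizedCharacter G θ) (hθ : classInner θ θ = 1) :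
    IsIrrCharacter G θ ∨ IsIrrCharacter G (-θ) := by
  obtain ⟨χ, ε, hχ, hε, -, h2⟩ := h.exists_split (n := 0) (by norm_num) (by simpa using hθ)
  rw [Nat.cast_zero, classInner_self_eq_zero, sub_eq_zero] at h2
  rcases hε with rfl | rfl
  · left; rw [h2]; simpa using hχ
  · right; rw [h2]; simpa using hχ

theorem Cfsg.IsGeneralizedCharacter.isIrr_of_inner_self [Fintype G] {θ : G → ℂ}
    (h : IsGeneralizedCharacter G θ) (hθ : classInner θ θ = 1) (h1 : 0 ≤ (θ 1).re) :
    IsIrrCharacter G θ := by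
  rcases h.irr_or_neg_of_inner_self hθ with h2 | h2
  · exact h2
  · have := h2.one_le_apply_one_re
    simp at this
    linarith

theorem Cfsg.IsCharacter.isIrr_of_inner_self [Fintype G] {χ : G → ℂ} (h : IsCharacter G χ)
    (hχ : classInner χ χ = 1) : IsIrrCharacter G χ :=
  h.isGen.isIrr_of_inner_self hχ h.apply_one_re_nonneg

theorem isIrr_iff [Fintype G] {χ : G → ℂ} :
    IsIrrCharacter G χ ↔ IsCharacter G χ ∧ classInner χ χ = 1 :=
  ⟨fun h => ⟨h.isCharacter, h.inner_self⟩, fun h => h.1.isIrr_of_inner_self h.2⟩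

/-- Norm-two generalized characters. -/
theorem Cfsg.IsGeneralizedCharacter.exists_of_inner_self_two [Fintype G] {θ : G → ℂ}
    (h : IsGeneralizedCharacter G θ) (hθ : classInner θ θ = 2) :
    ∃ (χ ψ : G → ℂ) (ε δ : ℤ), IsIrrCharacter G χ ∧ IsIrrCharacter G ψ ∧ χ ≠ ψ ∧
      (ε = 1 ∨ ε = -1) ∧ (δ = 1 ∨ δ = -1) ∧ θ = (ε : ℂ) • χ + (δ : ℂ) • ψ := by
  obtain ⟨χ, ε, hχ, hε, h1, h2⟩ := h.exists_split (n := 1) (by norm_num) (by simpa using hθ)
  obtain ⟨ψ, δ, hψ, hδ, h3, h4⟩ := (h.sub (hχ.isGen.intCast_smul ε)).exists_split (n := 0)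
    (by norm_num) (by simpa using h2)
  rw [Nat.cast_zero, classInner_self_eq_zero, sub_eq_zero] at h4
  refine ⟨χ, ψ, ε, δ, hχ, hψ, ?_, hε, hδ, by rw [← h4]; abel⟩
  rintro rfl
  rw [classInner_sub_left, classInner_smul_left, hχ.inner_self, h1] at h3
  rcases hδ with rfl | rfl <;> simp at h3

/-- Norm-two generalized characters vanishing at `1` are differences of irreducibles. -/
theorem Cfsg.IsGeneralizedCharacter.exists_sub_of_inner_self_two [Fintype G] {θ : G → ℂ}
    (h : IsGeneralizedCharacter G θ) (hθ : classInner θ θ = 2) (h1 : θ 1 = 0) :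
    ∃ χ ψ : G → ℂ, IsIrrCharacter G χ ∧ IsIrrCharacter G ψ ∧ χ ≠ ψ ∧ θ = χ - ψ := by
  obtain ⟨χ, ψ, ε, δ, hχ, hψ, hne, hε, hδ, rfl⟩ := h.exists_of_inner_self_two hθ
  have a1 := hχ.one_le_apply_one_re
  have a2 := hψ.one_le_apply_one_re
  have a3 := congrArg Complex.re h1
  rcases hε with rfl | rfl <;> rcases hδ with rfl | rfl
  · simp at a3; linarith
  · exact ⟨χ, ψ, hχ, hψ, hne, by simp [sub_eq_add_neg]⟩
  · exact ⟨ψ, χ, hψ, hχ, hne.symm, by simp [sub_eq_add_neg, add_comm]⟩
  · simp at a3; linarith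

/-- Norm-three generalized characters. -/
theorem Cfsg.IsGeneralizedCharacter.exists_of_inner_self_three [Fintype G] {θ : G → ℂ}
    (h : IsGeneralizedCharacter G θ) (hθ : classInner θ θ = 3) :
    ∃ (χ₁ χ₂ χ₃ : G → ℂ) (ε₁ ε₂ ε₃ : ℤ), IsIrrCharacter G χ₁ ∧ IsIrrCharacter G χ₂ ∧
      IsIrrCharacter G χ₃ ∧ χ₁ ≠ χ₂ ∧ χ₁ ≠ χ₃ ∧ χ₂ ≠ χ₃ ∧ (ε₁ = 1 ∨ ε₁ = -1) ∧
      (ε₂ = 1 ∨ ε₂ = -1) ∧ (ε₃ = 1 ∨ ε₃ = -1) ∧
      θ = (ε₁ : ℂ) • χ₁ + (ε₂ : ℂ) • χ₂ + (ε₃ : ℂ) • χ₃ := by
  obtain ⟨χ, ε, hχ, hε, h1, h2⟩ := h.exists_split (n := 2) (by norm_num) (by simpa using hθ)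
  obtain ⟨χ₂, χ₃, ε₂, ε₃, h₂, h₃, hne, hε₂, hε₃, h4⟩ :=
    (h.sub (hχ.isGen.intCast_smul ε)).exists_of_inner_self_two (by simpa using h2)
  have h5 : classInner (θ - (ε : ℂ) • χ) χ = 0 := by
    rw [classInner_sub_left, classInner_smul_left, hχ.inner_self, h1]; simp
  rw [h4, classInner_add_left, classInner_smul_left, classInner_smul_left] at h5
  refine ⟨χ, χ₂, χ₃, ε, ε₂, ε₃, hχ, h₂, h₃, ?_, ?_, hne, hε, hε₂, hε₃, by
    rw [add_assoc, ← h4]; abel⟩
  · rintro rfl
    rw [hχ.inner_self, h₃.inner_of_ne hχ hne.symm] at h5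
    rcases hε₂ with rfl | rfl <;> simp at h5
  · rintro rfl
    rw [hχ.inner_self, h₂.inner_of_ne hχ hne] at h5
    rcases hε₃ with rfl | rfl <;> simp at h5

/-- A representation whose character is irreducible is irreducible. -/
theorem rep_irreducible_of_isIrr [Finite G] {V : Type*} [AddCommGroup V] [Module ℂ V]
    [FiniteDimensional ℂ V] (ρ : Representation ℂ G V) (h : IsIrrCharacter G ρ.character) :
    ρ.IsIrreducible := by
  have := Fintype.ofFinite G
  have : NeZero (Nat.card G : ℂ) := ⟨card_ne_zero G⟩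
  have hV : Nontrivial V := by
    have := h.apply_one_ne_zero
    rw [Representation.char_one, Nat.cast_ne_zero] at this
    exact Module.nontrivial_of_finrank_pos (Nat.pos_of_ne_zero this)
  have hnt : Nontrivial (Subrepresentation ρ) := ⟨⊥, ⊤, fun hh => by
    have : (⊥ : Submodule ℂ V) = ⊤ := congrArg Subrepresentation.toSubmodule hh
    exact bot_ne_top this⟩
  refine ⟨fun U => ?_⟩
  obtain ⟨U', hU⟩ := exists_isCompl U
  have h1 := h.inner_self
  rw [rep_char_eq_add_of_isCompl ρ U U' hU, classInner_add_left, classInner_add_right,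
    classInner_add_right] at h1
  have c1 := isCharacter_of_rep U.toRepresentation
  have c2 := isCharacter_of_rep U'.toRepresentation
  obtain ⟨a, ha⟩ := c1.inner_nat c1
  obtain ⟨b, hb⟩ := c1.inner_nat c2
  obtain ⟨c, hc⟩ := c2.inner_nat c1
  obtain ⟨d, hd⟩ := c2.inner_nat c2
  rw [ha, hb, hc, hd] at h1
  have h2 : a + b + (c + d) = 1 := by exact_mod_cast h1
  have key : ∀ W : Subrepresentation ρ,
      classInner W.toRepresentation.character W.toRepresentation.character = 0 → W = ⊥ := by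
    intro W hW
    rw [classInner_self_eq_zero] at hW
    have := congrFun hW 1
    rw [Representation.char_one, Pi.zero_apply, Nat.cast_eq_zero, Submodule.finrank_eq_zero] at this
    exact Subrepresentation.toSubmodule_injective this
  rcases Nat.eq_zero_or_pos a with h3 | h3
  · left; exact key U (by rw [ha, h3, Nat.cast_zero])
  · right
    have : U' = ⊥ := key U' (by rw [hd, show d = 0 by omega, Nat.cast_zero])
    subst this
    simpa using hU.codisjoint

theorem Cfsg.IsIrrCharacter.conj [Finite G] {χ : G → ℂ} (h : IsIrrCharacter G χ) :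
    IsIrrCharacter G (fun g => conj (χ g)) := by
  have := Fintype.ofFinite G
  exact h.isCharacter.conj.isIrr_of_inner_self (by rw [classInner_conj_conj, h.inner_self])

theorem Cfsg.IsIrrCharacter.inv [Finite G] {χ : G → ℂ} (h : IsIrrCharacter G χ) :
    IsIrrCharacter G (fun g => χ g⁻¹) := by
  simpa only [h.apply_inv] using h.conj

/-- Inflation along a surjective homomorphism preserves irreducibility. -/
theorem Cfsg.IsIrrCharacter.comp_surjective {H : Type*} [Group H] [Finite H] {χ : G → ℂ}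
    (h : IsIrrCharacter G χ) (f : H →* G) (hf : Function.Surjective f) :
    IsIrrCharacter H (fun x => χ (f x)) := by
  have := Fintype.ofFinite H
  have : Finite G := Finite.of_surjective f hf
  have := Fintype.ofFinite G
  exact (h.isCharacter.comp f).isIrr_of_inner_self
    (by rw [classInner_comp_surjective f hf, h.inner_self])

theorem Cfsg.IsIrrCharacter.comp_mulEquiv {H : Type*} [Group H] [Finite G] {χ : G → ℂ}
    (h : IsIrrCharacter G χ) (e : H ≃* G) : IsIrrCharacter H (fun x => χ (e x)) := by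
  have : Finite H := Finite.of_equiv G e.symm.toEquiv
  exact h.comp_surjective e.toMonoidHom e.surjective

/-- A character whose pull-back is irreducible is irreducible. -/
theorem Cfsg.IsCharacter.isIrr_of_comp {H : Type*} [Group H] [Finite H] {χ : G → ℂ}
    (hχ : IsCharacter G χ) (f : H →* G) (h : IsIrrCharacter H (fun x => χ (f x))) :
    IsIrrCharacter G χ := by
  obtain ⟨n, ρ, rfl⟩ := hχ
  have h1 : Representation.IsIrreducible (ρ.comp f) := rep_irreducible_of_isIrr _ h
  refine ⟨n, ρ, ?_, rfl⟩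
  have hV := nontrivial_of_irreducible (ρ.comp f)
  have hnt : Nontrivial (Subrepresentation ρ) := ⟨⊥, ⊤, fun hh => by
    have : (⊥ : Submodule ℂ _) = ⊤ := congrArg Subrepresentation.toSubmodule hh
    exact bot_ne_top this⟩
  refine ⟨fun U => ?_⟩
  let U' : Subrepresentation (ρ.comp f) := ⟨U.toSubmodule, fun g v hv =>
    U.apply_mem_toSubmodule (f g) hv⟩
  rcases eq_bot_or_eq_top U' with h | h
  · left
    have h' : U'.toSubmodule = ⊥ := congrArg Subrepresentation.toSubmodule h
    exact Subrepresentation.toSubmodule_injective h'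
  · right
    have h' : U'.toSubmodule = ⊤ := congrArg Subrepresentation.toSubmodule h
    exact Subrepresentation.toSubmodule_injective h'

theorem Cfsg.IsCharacter.isIrr_of_restrict [Finite G] {χ : G → ℂ} (hχ : IsCharacter G χ)
    (H : Subgroup G) (h : IsIrrCharacter H (fun x : H => χ x)) : IsIrrCharacter G χ :=
  hχ.isIrr_of_comp H.subtype h

/-- The product of an irreducible character and a character of degree one is irreducible. -/
theorem Cfsg.IsIrrCharacter.mul_linear [Finite G] {χ lam : G → ℂ} (h : IsIrrCharacter G χ)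
    (hl : IsCharacter G lam) (h1 : lam 1 = 1) : IsIrrCharacter G (χ * lam) := by
  have := Fintype.ofFinite G
  refine (h.isCharacter.mul hl).isIrr_of_inner_self ?_
  rw [classInner_mul_left]
  have : (χ * lam * fun g => (starRingEnd ℂ) (lam g)) = χ := by
    ext g
    rw [Pi.mul_apply, Pi.mul_apply, ← hl.apply_inv, mul_assoc, ← hl.map_mul_of_apply_one h1]
    simp [h1]
  rw [this, h.inner_self]

end Gen

/-! ## Column orthogonality and counting -/

section Column

variable {G : Type*} [Group G]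

theorem card_conj_solutions [Finite G] {g h : G} (hgh : IsConj h g) :
    Nat.card {x : G // x * h * x⁻¹ = g} = Nat.card (Subgroup.centralizer ({g} : Set G)) := by
  obtain ⟨c, hc⟩ := isConj_iff.mp hgh
  refine Nat.card_congr
    { toFun := fun x => ⟨x.1 * c⁻¹, by
        rw [Subgroup.mem_centralizer_singleton_iff]
        have := x.2
        calc x.1 * c⁻¹ * g = x.1 * c⁻¹ * (c * h * c⁻¹) := by rw [hc]
          _ = (x.1 * h * x.1⁻¹) * (x.1 * c⁻¹) := by group
          _ = _ := by rw [this]⟩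
      invFun := fun y => ⟨y.1 * c, by
        have := Subgroup.mem_centralizer_singleton_iff.mp y.2
        calc y.1 * c * h * (y.1 * c)⁻¹ = y.1 * (c * h * c⁻¹) * y.1⁻¹ := by group
          _ = g := by rw [hc, this]; group⟩
      left_inv := fun x => by simp
      right_inv := fun y => by simp }

theorem card_centralizer_of_isConj [Finite G] {g h : G} (hgh : IsConj g h) :
    Nat.card (Subgroup.centralizer ({g} : Set G)) =
      Nat.card (Subgroup.centralizer ({h} : Set G)) := by
  rw [← card_conj_solutions (IsConj.refl g), ← card_conj_solutions hgh]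
  obtain ⟨c, hc⟩ := isConj_iff.mp hgh
  refine Nat.card_congr
    { toFun := fun x => ⟨c * x.1, by
        calc c * x.1 * g * (c * x.1)⁻¹ = c * (x.1 * g * x.1⁻¹) * c⁻¹ := by group
          _ = h := by rw [x.2, hc]⟩
      invFun := fun y => ⟨c⁻¹ * y.1, by
        calc c⁻¹ * y.1 * g * (c⁻¹ * y.1)⁻¹ = c⁻¹ * (y.1 * g * y.1⁻¹) * c := by group
          _ = g := by rw [y.2, ← hc]; group⟩
      left_inv := fun x => by simp
      right_inv := fun y => by simp }

/-- Summing over conjugators. -/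
theorem sum_conj_eq {M : Type*} [AddCommMonoid M] [Fintype G] (h : G) (F : G → M) :
    ∑ x : G, F (x * h * x⁻¹) = ∑ g : G, Nat.card {x : G // x * h * x⁻¹ = g} • F g := by
  classical
  rw [← Finset.sum_fiberwise (s := Finset.univ) (g := fun x => x * h * x⁻¹)]
  refine Finset.sum_congr rfl fun g _ => ?_
  rw [Finset.sum_congr rfl (g := fun _ => F g) (fun x hx => by
    rw [(Finset.mem_filter.mp hx).2]), Finset.sum_const, Nat.card_eq_fintype_card,
    Fintype.card_subtype]

open Classical in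
theorem sum_conj_eq_card_mul_sum [Fintype G] (h : G) (F : G → ℂ) :
    ∑ x : G, F (x * h * x⁻¹) = (Nat.card (Subgroup.centralizer ({h} : Set G)) : ℂ) *
      ∑ g ∈ Finset.univ.filter (fun g => IsConj h g), F g := by
  rw [sum_conj_eq, Finset.mul_sum, Finset.sum_filter]
  refine Finset.sum_congr rfl fun g _ => ?_
  split_ifs with hg
  · rw [card_conj_solutions hg, ← card_centralizer_of_isConj hg, nsmul_eq_mul]
  · have : IsEmpty {x : G // x * h * x⁻¹ = g} := ⟨fun x => hg (isConj_iff.mpr ⟨x.1, x.2⟩)⟩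
    simp

/-- The size of a conjugacy class is the index of the centralizer. -/
theorem card_isConj_eq_index [Finite G] (g : G) :
    Nat.card {x : G // IsConj g x} = (Subgroup.centralizer ({g} : Set G)).index := by
  classical
  have := Fintype.ofFinite G
  have h1 := sum_conj_eq_card_mul_sum g (fun _ => 1)
  simp only [Finset.sum_const, Finset.card_univ, nsmul_eq_mul, mul_one] at h1
  have h2 := (Subgroup.centralizer ({g} : Set G)).card_mul_index
  rw [← Fintype.card_subtype, ← Nat.card_eq_fintype_card, ← Nat.card_eq_fintype_card, ← h2] at h1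
  have h3 : Nat.card (Subgroup.centralizer ({g} : Set G)) * (Subgroup.centralizer {g}).index =
      Nat.card (Subgroup.centralizer ({g} : Set G)) * Nat.card {x : G // IsConj g x} := by
    exact_mod_cast h1
  exact (Nat.eq_of_mul_eq_mul_left Nat.card_pos h3).symm

theorem isClassFunction_card_conj (h : G) :
    IsClassFunction G (fun g => (Nat.card {x : G // x * h * x⁻¹ = g} : ℂ)) := by
  intro g y
  simp only [Nat.cast_inj]
  refine Nat.card_congr
    { toFun := fun x => ⟨y⁻¹ * x.1, by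
        calc y⁻¹ * x.1 * h * (y⁻¹ * x.1)⁻¹ = y⁻¹ * (x.1 * h * x.1⁻¹) * y := by group
          _ = g := by rw [x.2]; group⟩
      invFun := fun x => ⟨y * x.1, by
        calc y * x.1 * h * (y * x.1)⁻¹ = y * (x.1 * h * x.1⁻¹) * y⁻¹ := by group
          _ = _ := by rw [x.2]⟩
      left_inv := fun x => by simp
      right_inv := fun y => by simp }

theorem column_orth_card [Finite G] (g h : G) :
    ∑ χ : IrrCharacter G, (χ : G → ℂ) g * conj ((χ : G → ℂ) h) =
      (Nat.card {x : G // x * h * x⁻¹ = g} : ℂ) := by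
  have := Fintype.ofFinite G
  rw [(isClassFunction_card_conj h).apply_eq_sum g]
  refine Finset.sum_congr rfl fun χ _ => ?_
  rw [mul_comm]
  congr 1
  have h1 := sum_conj_eq h (fun g => conj ((χ : G → ℂ) g))
  simp only [χ.2.classFun h, Finset.sum_const, Finset.card_univ, nsmul_eq_mul] at h1
  rw [classInner, ← h1, ← Nat.card_eq_fintype_card, ← mul_assoc,
    inv_mul_cancel₀ (card_ne_zero G), one_mul]

/-- Column orthogonality, conjugate case. -/
theorem column_orth_of_isConj [Finite G] {g h : G} (hgh : IsConj g h) :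
    ∑ χ : IrrCharacter G, (χ : G → ℂ) g * conj ((χ : G → ℂ) h) =
      (Nat.card (Subgroup.centralizer ({g} : Set G)) : ℂ) := by
  rw [column_orth_card, card_conj_solutions hgh.symm]

/-- Column orthogonality, non-conjugate case. -/
theorem column_orth_of_not_isConj [Finite G] {g h : G} (hgh : ¬ IsConj g h) :
    ∑ χ : IrrCharacter G, (χ : G → ℂ) g * conj ((χ : G → ℂ) h) = 0 := by
  rw [column_orth_card]
  have : IsEmpty {x : G // x * h * x⁻¹ = g} :=
    ⟨fun x => hgh (isConj_iff.mpr ⟨x.1, x.2⟩).symm⟩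
  simp

theorem sum_norm_sq_irr [Finite G] (g : G) :
    ∑ χ : IrrCharacter G, ‖(χ : G → ℂ) g‖ ^ 2 =
      (Nat.card (Subgroup.centralizer ({g} : Set G)) : ℝ) := by
  have := column_orth_of_isConj (IsConj.refl g)
  simp only [Complex.mul_conj, Complex.normSq_eq_norm_sq] at this
  exact_mod_cast this

theorem Cfsg.IsIrrCharacter.norm_sq_le_card_centralizer [Finite G] {χ : G → ℂ}
    (hχ : IsIrrCharacter G χ) (g : G) :
    ‖χ g‖ ^ 2 ≤ (Nat.card (Subgroup.centralizer ({g} : Set G)) : ℝ) := by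
  rw [← sum_norm_sq_irr]
  exact Finset.single_le_sum (f := fun ψ : IrrCharacter G => ‖(ψ : G → ℂ) g‖ ^ 2)
    (fun _ _ => sq_nonneg _) (Finset.mem_univ (⟨χ, hχ⟩ : IrrCharacter G))

theorem conj_apply_one {χ : G → ℂ} (hχ : IsCharacter G χ) : conj (χ 1) = χ 1 := by
  obtain ⟨n, hn⟩ := hχ.exists_nat_apply_one
  rw [hn, map_natCast]

open Classical in
theorem sum_degree_mul [Finite G] (g : G) :
    ∑ χ : IrrCharacter G, (χ : G → ℂ) 1 * (χ : G → ℂ) g =
      if g = 1 then (Nat.card G : ℂ) else 0 := by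
  have h1 : ∑ χ : IrrCharacter G, (χ : G → ℂ) 1 * (χ : G → ℂ) g =
      ∑ χ : IrrCharacter G, (χ : G → ℂ) g * conj ((χ : G → ℂ) 1) :=
    Finset.sum_congr rfl fun χ _ => by rw [conj_apply_one χ.2.isCharacter, mul_comm]
  rw [h1]
  split_ifs with h
  · subst h
    rw [column_orth_of_isConj (IsConj.refl _)]
    have : Subgroup.centralizer ({1} : Set G) = ⊤ := by
      ext x; simp [Subgroup.mem_centralizer_iff]
    rw [this, Subgroup.card_top]
  · exact column_orth_of_not_isConj (by simpa using h)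

theorem sum_degree_sq [Finite G] :
    ∑ χ : IrrCharacter G, (χ : G → ℂ) 1 ^ 2 = (Nat.card G : ℂ) := by
  have := sum_degree_mul (1 : G)
  simpa [sq] using this

theorem isConj_iff_irr [Finite G] (g h : G) :
    IsConj g h ↔ ∀ χ : G → ℂ, IsIrrCharacter G χ → χ g = χ h := by
  refine ⟨fun hgh χ hχ => hχ.classFun.apply_of_isConj hgh, fun H => ?_⟩
  by_contra hc
  have h1 := column_orth_of_not_isConj hc
  have h2 := column_orth_of_isConj (IsConj.refl h)
  simp_rw [fun χ : IrrCharacter G => H χ χ.2] at h1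
  exact card_ne_zero _ (h2.symm.trans h1)

theorem eq_one_of_forall_irr [Finite G] {g : G}
    (h : ∀ χ : G → ℂ, IsIrrCharacter G χ → χ g = χ 1) : g = 1 := by
  simpa using (isConj_iff_irr g 1).mpr h

/-- Summing a function of the conjugacy class, weighted by centralizer orders. -/
theorem sum_card_centralizer_mul [Fintype G] [Fintype (ConjClasses G)] (F : ConjClasses G → ℂ) :
    ∑ g : G, (Nat.card (Subgroup.centralizer ({g} : Set G)) : ℂ) * F (ConjClasses.mk g) =
      (Nat.card G : ℂ) * ∑ C : ConjClasses G, F C := by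
  classical
  rw [← Finset.sum_fiberwise (s := Finset.univ) (g := fun g : G => ConjClasses.mk g),
    Finset.mul_sum]
  refine Finset.sum_congr rfl fun C _ => ?_
  obtain ⟨h, rfl⟩ := ConjClasses.mk_surjective C
  rw [Finset.sum_congr rfl (g := fun _ =>
    (Nat.card (Subgroup.centralizer ({h} : Set G)) : ℂ) * F (ConjClasses.mk h)) (fun x hx => by
      have h1 := (Finset.mem_filter.mp hx).2
      rw [h1, card_centralizer_of_isConj (ConjClasses.mk_eq_mk_iff_isConj.mp h1)]),
    Finset.sum_const, nsmul_eq_mul, ← mul_assoc]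
  congr 1
  rw [← (Subgroup.centralizer ({h} : Set G)).card_mul_index, ← card_isConj_eq_index,
    Nat.card_eq_fintype_card (α := {x // IsConj h x}), Fintype.card_subtype, Nat.cast_mul, mul_comm]
  congr 3
  ext x
  simp only [Finset.mem_filter, Finset.mem_univ, true_and, ConjClasses.mk_eq_mk_iff_isConj]
  exact isConj_comm

/-- Summing a function of the conjugacy class over the group. -/
theorem sum_eq_sum_conjClasses [Fintype G] [Fintype (ConjClasses G)] (F : ConjClasses G → ℂ) :
    ∑ g : G, F (ConjClasses.mk g) =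
      ∑ C : ConjClasses G, (Nat.card C.carrier : ℂ) * F C := by
  classical
  rw [← Finset.sum_fiberwise (s := Finset.univ) (g := fun g : G => ConjClasses.mk g)]
  refine Finset.sum_congr rfl fun C _ => ?_
  rw [Finset.sum_congr rfl (g := fun _ => F C) (fun x hx => by
      rw [(Finset.mem_filter.mp hx).2]), Finset.sum_const, nsmul_eq_mul]
  congr 2
  rw [← Fintype.card_subtype, ← Nat.card_eq_fintype_card]
  exact Nat.card_congr (Equiv.subtypeEquivRight fun x => ConjClasses.mem_carrier_iff_mk_eq.symm)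

theorem card_irr_eq_card_conjClasses (G : Type*) [Group G] [Finite G] :
    Nat.card (IrrCharacter G) = Nat.card (ConjClasses G) := by
  classical
  have := Fintype.ofFinite G
  have := Fintype.ofFinite (ConjClasses G)
  have h1 := sum_card_centralizer_mul (G := G) (fun _ => 1)
  simp only [mul_one, ← column_orth_of_isConj (IsConj.refl _)] at h1
  rw [Finset.sum_comm] at h1
  simp only [← card_mul_classInner, fun χ : IrrCharacter G => χ.2.inner_self, Finset.sum_const,
    Finset.card_univ, nsmul_eq_mul, mul_one] at h1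
  rw [mul_comm, ← Nat.card_eq_fintype_card, ← Nat.card_eq_fintype_card] at h1
  exact_mod_cast mul_left_cancel₀ (card_ne_zero G) h1

/-- Schur averaging. -/
theorem Cfsg.IsIrrCharacter.sum_conj_mul [Fintype G] {χ : G → ℂ} (hχ : IsIrrCharacter G χ)
    (a z : G) : ∑ x : G, χ (x * a * x⁻¹ * z) = (Nat.card G : ℂ) * χ a * χ z / χ 1 := by
  have h1 := hχ.sum_classFun_mul (isClassFunction_card_conj a) z
  have h2 := sum_conj_eq a (fun g => χ (g * z))
  have h3 := sum_conj_eq a χ
  simp only [nsmul_eq_mul] at h2 h3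
  rw [h2, h1, ← h3]
  simp only [hχ.classFun a, Finset.sum_const, Finset.card_univ, nsmul_eq_mul,
    ← Nat.card_eq_fintype_card]
  ring

open Classical in
/-- Convolution of irreducible characters. -/
theorem Cfsg.IsIrrCharacter.sum_conj_mul_mul [Fintype G] {χ ψ : G → ℂ} (hχ : IsIrrCharacter G χ)
    (hψ : IsIrrCharacter G ψ) (h : G) :
    ∑ g : G, conj (ψ g) * χ (g * h) = if χ = ψ then (Nat.card G : ℂ) / χ 1 * χ h else 0 := by
  rw [hχ.sum_classFun_mul hψ.classFun.conj]
  simp_rw [mul_comm (conj (ψ _))]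
  rw [← card_mul_classInner, hχ.inner_eq_ite hψ]
  split_ifs <;> simp

end Column

end H4
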