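import Mathlib
import Cfsg.Prelude.Def_Characters
import Cfsg.Agent.H4.Gen

/-!
# Central characters, integrality, Burnside's theorems (helper4 core, part 5)
-/

set_option autoImplicit false

open Cfsg Module
open scoped ComplexConjugate

namespace H4
open H4

theorem exists_int_of_isIntegral_rat {q : ℚ} (h : IsIntegral ℤ (q : ℂ)) : ∃ n : ℤ, (n : ℚ) = q := by
  have h1 : IsIntegral ℤ q :=
    (isIntegral_algebraMap_iff (A := ℚ) (B := ℂ) (algebraMap ℚ ℂ).injective).mp h
  exact IsIntegrallyClosed.isIntegral_iff.mp h1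

theorem int_dvd_of_isIntegral_div {a b : ℤ} (hb : b ≠ 0) (h : IsIntegral ℤ ((a : ℂ) / b)) :
    b ∣ a := by
  obtain ⟨n, hn⟩ := exists_int_of_isIntegral_rat (q := (a : ℚ) / b) (by simpa using h)
  have hb' : (b : ℚ) ≠ 0 := by exact_mod_cast hb
  refine ⟨n, ?_⟩
  have : (a : ℚ) = b * n := by rw [hn]; field_simp
  exact_mod_cast this

theorem nat_dvd_of_isIntegral_div {a b : ℕ} (hb : b ≠ 0) (h : IsIntegral ℤ ((a : ℂ) / b)) :
    b ∣ a := by
  have := int_dvd_of_isIntegral_div (a := a) (b := b) (by exact_mod_cast hb) (by simpa using h)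
  exact_mod_cast this

section Integral

variable {G : Type*} [Group G] [Finite G]

/-- If a combination of the `ρ g` with algebraic integer coefficients is a scalar, then this scalar
is an algebraic integer. -/
theorem isIntegral_of_sum_smul_eq {V : Type*} [AddCommGroup V] [Module ℂ V] [Nontrivial V]
    (ρ : Representation ℂ G V) {ι : Type*} (s : Finset ι) (a : ι → ℂ) (g : ι → G)
    (ha : ∀ i ∈ s, IsIntegral ℤ (a i)) {c : ℂ}
    (h : ∑ i ∈ s, a i • ρ (g i) = c • (LinearMap.id : V →ₗ[ℂ] V)) : IsIntegral ℤ c := by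
  classical
  let A := integralClosure ℤ ℂ
  let φ : MonoidAlgebra A G →ₐ[A] Module.End ℂ V := MonoidAlgebra.lift A (Module.End ℂ V) G ρ
  let x : MonoidAlgebra A G := ∑ i ∈ s.attach, MonoidAlgebra.single (g i) ⟨a i, ha i i.2⟩
  have hx : IsIntegral A x := Algebra.IsIntegral.isIntegral x
  have h1 : φ x = algebraMap ℂ (Module.End ℂ V) c := by
    rw [Module.algebraMap_end_eq_smul_id, ← h, ← Finset.sum_attach s]
    simp only [x, φ, map_sum, MonoidAlgebra.lift_single]
    rfl
  have h2 : IsIntegral A (algebraMap ℂ (Module.End ℂ V) c) := h1 ▸ hx.map φ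
  have h3 : IsIntegral A c :=
    (isIntegral_algebraMap_iff (algebraMap ℂ (Module.End ℂ V)).injective).mp h2
  exact isIntegral_trans c h3

theorem Cfsg.IsIrrCharacter.isIntegral_sum_classFun_div [Fintype G] {χ : G → ℂ}
    (hχ : IsIrrCharacter G χ) {f : G → ℂ} (hf : IsClassFunction G f)
    (hint : ∀ g, IsIntegral ℤ (f g)) : IsIntegral ℤ ((∑ g, f g * χ g) / χ 1) := by
  have h1 := hχ.apply_one_ne_zero
  obtain ⟨n, ρ, hρ, rfl⟩ := hχ
  obtain ⟨c, hc, hc'⟩ := classSum_scalar ρ f hf
  have := nontrivial_of_irreducible ρ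
  rw [← hc', ← ρ.char_one, mul_div_assoc, div_self h1, mul_one]
  exact isIntegral_of_sum_smul_eq ρ Finset.univ f id (fun g _ => hint g) hc

/-- The central character values are algebraic integers. -/
theorem Cfsg.IsIrrCharacter.isIntegral_centralChar {χ : G → ℂ} (hχ : IsIrrCharacter G χ) (g : G) :
    IsIntegral ℤ (((Subgroup.centralizer ({g} : Set G)).index : ℂ) * χ g / χ 1) := by
  classical
  have := Fintype.ofFinite G
  have h := hχ.isIntegral_sum_classFun_div (f := fun x => if IsConj g x then 1 else 0)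
    (isClassFunction_of_isConj fun x y hxy => by
      have : IsConj g x ↔ IsConj g y := ⟨fun h => h.trans hxy, fun h => h.trans hxy.symm⟩
      simp only [this])
    (fun x => by split_ifs; exacts [isIntegral_one, isIntegral_zero])
  have h2 : ∑ x, (if IsConj g x then (1 : ℂ) else 0) * χ x =
      ((Subgroup.centralizer ({g} : Set G)).index : ℂ) * χ g := by
    rw [← card_isConj_eq_index, Nat.card_eq_fintype_card, Fintype.card_subtype]
    simp only [ite_mul, one_mul, zero_mul, ← Finset.sum_filter]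
    rw [Finset.sum_congr rfl (g := fun _ => χ g) fun x hx =>
      (hχ.classFun.apply_of_isConj (Finset.mem_filter.mp hx).2).symm]
    simp
  rwa [h2] at h

omit [Finite G] in
theorem sum_eq_card_smul_sum_quotient {M : Type*} [AddCommMonoid M] [Fintype G] (Z : Subgroup G)
    [Fintype (G ⧸ Z)] (F : G → M) (hF : ∀ g, ∀ z ∈ Z, F (g * z) = F g) :
    ∑ g, F g = Nat.card Z • ∑ q : G ⧸ Z, F q.out := by
  classical
  rw [← Finset.sum_fiberwise (s := Finset.univ) (g := fun g : G => (g : G ⧸ Z)), Finset.smul_sum]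
  refine Finset.sum_congr rfl fun q _ => ?_
  rw [Finset.sum_congr rfl (g := fun _ => F q.out) (fun x hx => by
    have h1 := (Finset.mem_filter.mp hx).2
    have h2 : q.out⁻¹ * x ∈ Z := QuotientGroup.eq.mp (by rw [h1, QuotientGroup.out_eq'])
    rw [← hF q.out _ h2, mul_inv_cancel_left]), Finset.sum_const]
  congr 1
  rw [← Fintype.card_subtype, ← Nat.card_eq_fintype_card]
  exact Nat.card_congr
    { toFun := fun x => ⟨q.out⁻¹ * x.1, QuotientGroup.eq.mp (by rw [x.2, QuotientGroup.out_eq'])⟩
      invFun := fun z => ⟨q.out * z.1, by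
        rw [QuotientGroup.mk_mul_of_mem _ z.2, QuotientGroup.out_eq']⟩
      left_inv := fun x => by simp
      right_inv := fun z => by simp }

/-- The degree of an irreducible representation divides the index of any subgroup acting by
scalars. -/
theorem rep_finrank_dvd_index {V : Type*} [AddCommGroup V] [Module ℂ V] [FiniteDimensional ℂ V]
    (ρ : Representation ℂ G V) [ρ.IsIrreducible] (Z : Subgroup G)
    (hZ : ∀ z ∈ Z, ∃ c : ℂ, ρ z = c • (LinearMap.id : V →ₗ[ℂ] V)) : finrank ℂ V ∣ Z.index := by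
  classical
  have := Fintype.ofFinite G
  have := Fintype.ofFinite (G ⧸ Z)
  have := nontrivial_of_irreducible ρ
  have hpos := finrank_pos_of_irreducible ρ
  have hχ := isIrrCharacter_of_rep ρ
  obtain ⟨c, hc, hc'⟩ := classSum_scalar ρ (fun g => ρ.character g⁻¹) hχ.classFun.inv
  have h1 : ∑ g, ρ.character g⁻¹ * ρ.character g = Nat.card G := by
    have := card_mul_classInner ρ.character ρ.character
    rw [hχ.inner_self, mul_one] at this
    rw [this]
    exact Finset.sum_congr rfl fun g _ => by rw [hχ.apply_inv, mul_comm]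
  rw [sum_eq_card_smul_sum_quotient Z] at hc
  swap
  · intro g z hz
    obtain ⟨a, ha⟩ := hZ z hz
    have h2 : ρ z⁻¹ = a⁻¹ • (LinearMap.id : V →ₗ[ℂ] V) ∧ a ≠ 0 := by
      have h3 : ρ z⁻¹ * ρ z = 1 := by rw [← map_mul]; simp
      rw [ha, ← Module.End.one_eq_id, mul_smul_comm, mul_one] at h3
      have h4 : a ≠ 0 := by rintro rfl; simp at h3
      refine ⟨?_, h4⟩
      rw [← Module.End.one_eq_id, ← h3, smul_smul, inv_mul_cancel₀ h4, one_smul]
    simp only [mul_inv_rev, Representation.character, map_mul, ha, h2.1, ← Module.End.one_eq_id,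
      smul_mul_assoc, one_mul, map_smul, mul_smul_comm, mul_one, smul_smul, smul_eq_mul]
    congr 1
    field_simp [h2.2]
  have hZ0 := card_ne_zero Z
  have h5 : ∑ q : G ⧸ Z, ρ.character q.out⁻¹ • ρ q.out =
      (c / Nat.card Z) • (LinearMap.id : V →ₗ[ℂ] V) := by
    rw [div_eq_inv_mul, mul_smul, ← hc, ← Nat.cast_smul_eq_nsmul ℂ, smul_smul,
      inv_mul_cancel₀ hZ0, one_smul]
  have h6 := isIntegral_of_sum_smul_eq ρ Finset.univ _ _
    (fun q _ => hχ.isCharacter.isIntegral _) h5
  refine nat_dvd_of_isIntegral_div hpos.ne' ?_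
  have h7 : (finrank ℂ V : ℂ) ≠ 0 := by exact_mod_cast hpos.ne'
  have h8 : c / Nat.card Z = (Z.index : ℂ) / finrank ℂ V := by
    have h9 : (Nat.card G : ℂ) = Nat.card Z * Z.index := by exact_mod_cast Z.card_mul_index.symm
    rw [h1, h9] at hc'
    field_simp
    exact hc'
  rwa [h8] at h6

theorem rep_finrank_dvd_card {V : Type*} [AddCommGroup V] [Module ℂ V] [FiniteDimensional ℂ V]
    (ρ : Representation ℂ G V) [ρ.IsIrreducible] : finrank ℂ V ∣ Nat.card G := by
  have := rep_finrank_dvd_index ρ ⊥ (fun z hz => ⟨1, by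
    rw [Subgroup.mem_bot.mp hz, map_one, one_smul]; rfl⟩)
  rwa [Subgroup.index_bot] at this

omit [Finite G] in
theorem rep_scalar_of_mem_center {V : Type*} [AddCommGroup V] [Module ℂ V] [FiniteDimensional ℂ V]
    (ρ : Representation ℂ G V) [ρ.IsIrreducible] {z : G} (hz : z ∈ Subgroup.center G) :
    ∃ c : ℂ, ρ z = c • (LinearMap.id : V →ₗ[ℂ] V) :=
  schur_scalar ρ (ρ z) fun g => by
    rw [← Module.End.mul_eq_comp, ← Module.End.mul_eq_comp, ← map_mul, ← map_mul,
      Subgroup.mem_center_iff.mp hz g]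

theorem Cfsg.IsIrrCharacter.norm_eq_of_mem_center {χ : G → ℂ} (hχ : IsIrrCharacter G χ) {z : G}
    (hz : z ∈ Subgroup.center G) : ‖χ z‖ = (χ 1).re := by
  obtain ⟨n, ρ, hρ, rfl⟩ := hχ
  rw [(rep_norm_char_eq_iff ρ z).mpr (rep_scalar_of_mem_center ρ hz)]
  simp

/-- The degree divides the index of any subgroup of the centre `Z(χ)` of the character. -/
theorem Cfsg.IsIrrCharacter.degree_dvd_index {χ : G → ℂ} (hχ : IsIrrCharacter G χ)
    (Z : Subgroup G) (hZ : ∀ z ∈ Z, ‖χ z‖ = (χ 1).re) {d : ℕ} (hd : χ 1 = d) : d ∣ Z.index := by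
  obtain ⟨n, ρ, hρ, rfl⟩ := hχ
  have : d = finrank ℂ (Fin n → ℂ) := by
    rw [ρ.char_one] at hd; exact_mod_cast hd.symm
  rw [this]
  refine rep_finrank_dvd_index ρ Z fun z hz => (rep_norm_char_eq_iff ρ z).mp ?_
  rw [hZ z hz]; simp

theorem Cfsg.IsIrrCharacter.degree_dvd_index_of_le_center {χ : G → ℂ} (hχ : IsIrrCharacter G χ)
    (Z : Subgroup G) (hZ : Z ≤ Subgroup.center G) {d : ℕ} (hd : χ 1 = d) : d ∣ Z.index :=
  hχ.degree_dvd_index Z (fun _ hz => hχ.norm_eq_of_mem_center (hZ hz)) hd

theorem Cfsg.IsIrrCharacter.degree_dvd_card {χ : G → ℂ} (hχ : IsIrrCharacter G χ) {d : ℕ}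
    (hd : χ 1 = d) : d ∣ Nat.card G := by
  have := hχ.degree_dvd_index_of_le_center ⊥ bot_le hd
  rwa [Subgroup.index_bot] at this

/-- Double conjugation average of a class function. -/
theorem Cfsg.IsClassFunction.sum_conj_mul_conj [Fintype G] {θ : G → ℂ} (hθ : IsClassFunction G θ)
    (a b : G) : ∑ x : G, ∑ y : G, θ (x * a * x⁻¹ * (y * b * y⁻¹)) =
      (Nat.card G : ℂ) ^ 2 * ∑ χ : IrrCharacter G,
        classInner θ χ * ((χ : G → ℂ) a * (χ : G → ℂ) b / (χ : G → ℂ) 1) := by
  rw [Finset.sum_comm]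
  simp_rw [hθ.apply_eq_sum]
  simp_rw [Finset.sum_comm (s := (Finset.univ : Finset G)) (t := (Finset.univ :
    Finset (IrrCharacter G))), ← Finset.mul_sum, fun χ : IrrCharacter G => χ.2.sum_conj_mul a,
    fun χ : IrrCharacter G => χ.2.classFun b, Finset.mul_sum]
  refine Finset.sum_congr rfl fun χ _ => ?_
  simp only [Finset.sum_const, Finset.card_univ, nsmul_eq_mul, ← Nat.card_eq_fintype_card]
  ring

end Integral

section Burnside

/-- An algebraic integer that is an average of roots of unity is `0` or of absolute value `1`. -/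
theorem sum_roots_eq_zero_or_norm_eq {ι : Type*} [Fintype ι] (ω : ι → ℂ) {m : ℕ} (hm : 0 < m)
    (hω : ∀ i, ω i ^ m = 1) (h : IsIntegral ℤ ((∑ i, ω i) / Fintype.card ι)) :
    ∑ i, ω i = 0 ∨ ‖∑ i, ω i‖ = Fintype.card ι := by
  classical
  rcases isEmpty_or_nonempty ι with hι | hι
  · left; simp
  have hn : (Fintype.card ι : ℂ) ≠ 0 := by exact_mod_cast Fintype.card_ne_zero
  let K := IntermediateField.adjoin ℚ (Set.range ω)
  have hint : ∀ x ∈ Set.range ω, IsIntegral ℚ x := by
    rintro _ ⟨i, rfl⟩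
    exact IsIntegral.of_pow hm (by rw [hω]; exact isIntegral_one)
  have hfd : FiniteDimensional ℚ K := IntermediateField.finiteDimensional_adjoin hint
  have hK : NumberField K := ⟨⟩
  let w : ι → K := fun i => ⟨ω i, IntermediateField.subset_adjoin _ _ ⟨i, rfl⟩⟩
  let α : K := (∑ i, w i) / Fintype.card ι
  have hα : (α : ℂ) = (∑ i, ω i) / Fintype.card ι := by simp [α, w]
  have hαi : IsIntegral ℤ α :=
    (isIntegral_algebraMap_iff (A := K) (B := ℂ) (algebraMap K ℂ).injective).mp (by
      rw [← hα] at h; exact h)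
  by_cases h0 : α = 0
  · left
    rw [h0] at hα
    have := hα.symm
    simpa [hn] using this
  right
  obtain ⟨k, hk, hk'⟩ := NumberField.Embeddings.pow_eq_one_of_norm_le_one K ℂ h0 hαi (fun φ => by
    have h1 : ∀ i, ‖φ (w i)‖ = 1 := fun i =>
      norm_eq_one_of_pow_eq_one hm.ne' (by
        rw [← map_pow, show w i ^ m = 1 from Subtype.ext (by simp [w, hω]), map_one])
    simp only [α, map_div₀, map_sum, map_natCast, norm_div, Complex.norm_natCast]
    rw [div_le_one (by exact_mod_cast Fintype.card_pos)]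
    refine (norm_sum_le _ _).trans (le_of_eq ?_)
    simp [h1])
  have h2 : ‖(α : ℂ)‖ = 1 := norm_eq_one_of_pow_eq_one hk.ne' (by exact_mod_cast hk')
  rw [hα, norm_div, Complex.norm_natCast,
    div_eq_one_iff_eq (by exact_mod_cast Fintype.card_ne_zero)] at h2
  exact h2

variable {G : Type*} [Group G] [Finite G]

theorem Cfsg.IsCharacter.eq_zero_or_norm_eq_of_isIntegral {χ : G → ℂ} (hχ : IsCharacter G χ)
    (g : G) (h : IsIntegral ℤ (χ g / χ 1)) : χ g = 0 ∨ ‖χ g‖ = (χ 1).re := by
  obtain ⟨n, ω, h1, h2, h3⟩ := hχ.exists_eigenvalues g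
  have h4 := h3 1
  simp only [pow_one] at h4
  have := sum_roots_eq_zero_or_norm_eq ω (orderOf_pos g) h2 (by simpa [h4, h1] using h)
  simpa [h4, h1] using this

/-- Burnside: if the degree is coprime to the class size then `χ g = 0` or `|χ g| = χ 1`. -/
theorem Cfsg.IsIrrCharacter.eq_zero_or_norm_eq_of_coprime {χ : G → ℂ} (hχ : IsIrrCharacter G χ)
    (g : G) {d : ℕ} (hd : χ 1 = d)
    (hcop : Nat.Coprime d (Subgroup.centralizer ({g} : Set G)).index) :
    χ g = 0 ∨ ‖χ g‖ = (χ 1).re := by
  refine hχ.isCharacter.eq_zero_or_norm_eq_of_isIntegral g ?_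
  have h1 := hχ.isIntegral_centralChar g
  have h2 := hχ.isCharacter.isIntegral g
  have h3 := hχ.apply_one_ne_zero
  set k := (Subgroup.centralizer ({g} : Set G)).index
  obtain ⟨a, b, hab⟩ := Nat.isCoprime_iff_coprime.mpr hcop
  have hab' : (a : ℂ) * d + b * k = 1 := by exact_mod_cast hab
  have : χ g / χ 1 = a * χ g + b * (k * χ g / χ 1) := by
    rw [← hd] at hab'
    field_simp
    linear_combination (-χ g) * hab'
  rw [this]
  exact ((isIntegral_intCast a).mul h2).add ((isIntegral_intCast b).mul h1)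

/-- If the class of `g ≠ 1` has prime power size, some nonprincipal irreducible character has
`g` in its centre. -/
theorem exists_irr_norm_eq_of_prime_power_class {p k : ℕ} (hp : p.Prime) {g : G} (hg : g ≠ 1)
    (hclass : (Subgroup.centralizer ({g} : Set G)).index = p ^ k) :
    ∃ χ : G → ℂ, IsIrrCharacter G χ ∧ χ ≠ (fun _ => 1) ∧ ‖χ g‖ = (χ 1).re := by
  classical
  by_contra hc
  push Not at hc
  have h1 := sum_degree_mul g
  rw [if_neg hg, ← Finset.add_sum_erase _ _ (Finset.mem_univ (irrOne G))] at h1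
  simp only [irrOne_apply, mul_one] at h1
  have h2 : ∀ χ ∈ Finset.univ.erase (irrOne G),
      IsIntegral ℤ ((χ : G → ℂ) 1 * (χ : G → ℂ) g / p) := by
    intro χ hχ
    have hne : (χ : G → ℂ) ≠ fun _ => 1 := fun h => (Finset.mem_erase.mp hχ).1 (Subtype.ext h)
    obtain ⟨d, -, hd⟩ := χ.2.exists_nat_apply_one
    by_cases hpd : p ∣ d
    · obtain ⟨e, rfl⟩ := hpd
      have hp0 : (p : ℂ) ≠ 0 := by exact_mod_cast hp.ne_zero
      have : (χ : G → ℂ) 1 * (χ : G → ℂ) g / p = e * (χ : G → ℂ) g := by
        rw [hd]; push_cast; field_simp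
      rw [this]
      exact (isIntegral_natCast e).mul (χ.2.isCharacter.isIntegral g)
    · have hcop : Nat.Coprime d (Subgroup.centralizer ({g} : Set G)).index := by
        rw [hclass]
        exact ((Nat.Prime.coprime_iff_not_dvd hp).mpr hpd).symm.pow_right k
      rcases χ.2.eq_zero_or_norm_eq_of_coprime g hd hcop with h | h
      · rw [h]; simpa using isIntegral_zero
      · exact absurd h (hc χ χ.2 hne)
  have h3 := IsIntegral.sum _ h2
  rw [← Finset.sum_div, (eq_neg_of_add_eq_zero_right h1)] at h3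
  have h4 := int_dvd_of_isIntegral_div (a := -1) (b := p) (by exact_mod_cast hp.ne_zero)
    (by simpa using h3)
  have h5 : (p : ℤ) ∣ 1 := (dvd_neg.mp h4)
  exact hp.one_lt.ne' (by exact_mod_cast Int.eq_one_of_dvd_one (by positivity) h5)

omit [Finite G] in
/-- An irreducible representation on which the group acts trivially affords the principal
character. -/
theorem rep_character_eq_one_of_trivial {V : Type*} [AddCommGroup V] [Module ℂ V]
    [FiniteDimensional ℂ V] (ρ : Representation ℂ G V) [ρ.IsIrreducible]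
    (h : ∀ g, ρ g = LinearMap.id) : ρ.character = fun _ => 1 := by
  have := nontrivial_of_irreducible ρ
  obtain ⟨v, hv⟩ := exists_ne (0 : V)
  let U : Subrepresentation ρ := ⟨Submodule.span ℂ {v}, fun g w hw => by rw [h g]; exact hw⟩
  have hU : U = ⊤ := (eq_bot_or_eq_top U).resolve_left fun h0 => by
    have h1 : U.toSubmodule = ⊥ := congrArg Subrepresentation.toSubmodule h0
    exact hv (Submodule.span_singleton_eq_bot.mp h1)
  have h1 : Submodule.span ℂ {v} = ⊤ := congrArg Subrepresentation.toSubmodule hU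
  have h2 : finrank ℂ V = 1 := by
    rw [← finrank_top, ← h1, finrank_span_singleton hv]
  ext g
  simp [Representation.character, h g, h2]

/-- Burnside: a simple group with a nontrivial class of prime power size has prime order. -/
theorem prime_card_of_simple_of_prime_power_class [IsSimpleGroup G] {p k : ℕ} (hp : p.Prime)
    {g : G} (hg : g ≠ 1) (hclass : (Subgroup.centralizer ({g} : Set G)).index = p ^ k) :
    (Nat.card G).Prime := by
  obtain ⟨χ, ⟨n, ρ, hρ, rfl⟩, h1, h2⟩ := exists_irr_norm_eq_of_prime_power_class hp hg hclass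
  have hker : ρ.ker = ⊥ := by
    refine (Subgroup.Normal.eq_bot_or_eq_top inferInstance).resolve_right fun h => h1 ?_
    exact rep_character_eq_one_of_trivial ρ fun x =>
      MonoidHom.mem_ker.mp (h ▸ Subgroup.mem_top x : x ∈ ρ.ker)
  obtain ⟨c, hc⟩ := (rep_norm_char_eq_iff ρ g).mp (by simpa using h2)
  have hz : g ∈ Subgroup.center G := by
    rw [Subgroup.mem_center_iff]
    intro x
    apply (MonoidHom.ker_eq_bot_iff ρ).mp hker
    rw [map_mul, map_mul, hc, ← Module.End.one_eq_id]
    simp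
  have htop : Subgroup.center G = ⊤ :=
    (Subgroup.Normal.eq_bot_or_eq_top inferInstance).resolve_left fun h =>
      hg (Subgroup.mem_bot.mp (h ▸ hz))
  let _ : CommGroup G := { (inferInstance : Group G) with
    mul_comm := fun a b => (Subgroup.mem_center_iff.mp (htop ▸ Subgroup.mem_top b) a) }
  exact IsSimpleGroup.prime_card

end Burnside

universe u

theorem isSolvable_of_primes_aux (p q : ℕ) (hp : p.Prime) (hq : q.Prime) (n : ℕ) :
    ∀ (G : Type u) [Group G] [Finite G], Nat.card G = n →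
      (∀ r : ℕ, r.Prime → r ∣ Nat.card G → r = p ∨ r = q) → Group.IsSolvable G := by
  induction n using Nat.strong_induction_on with
  | _ n ih =>
  intro G _ _ hn hG
  rcases subsingleton_or_nontrivial G with hs | hs
  · infer_instance
  by_cases hsimple : IsSimpleGroup G
  · have := Fact.mk hp
    have := Fact.mk hq
    obtain ⟨P⟩ : Nonempty (Sylow p G) := inferInstance
    have hidx : ∃ k, (P : Subgroup G).index = q ^ k := by
      refine ⟨_, Nat.eq_prime_pow_of_unique_prime_dvd (P : Subgroup G).index_ne_zero_of_finite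
        fun {r} hr hrd => ?_⟩
      rcases hG r hr (hrd.trans (P : Subgroup G).index_dvd_card) with rfl | rfl
      · exact absurd hrd P.not_dvd_index
      · rfl
    obtain ⟨k, hk⟩ := hidx
    rcases subsingleton_or_nontrivial P with hP | hP
    · have h1 : Nat.card G = q ^ k := by
        rw [← (P : Subgroup G).card_mul_index, hk, Nat.card_unique, one_mul]
      have h2 : IsPGroup q G := IsPGroup.of_card h1
      have := h2.isNilpotent
      infer_instance
    · have := P.isPGroup'.center_nontrivial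
      obtain ⟨z, hz⟩ := exists_ne (1 : Subgroup.center P)
      have hz1 : ((z : P) : G) ≠ 1 := fun h => hz (Subtype.ext (Subtype.ext h))
      have hle : (P : Subgroup G) ≤ Subgroup.centralizer ({((z : P) : G)} : Set G) := by
        intro x hx
        rw [Subgroup.mem_centralizer_singleton_iff]
        exact congrArg Subtype.val (Subgroup.mem_center_iff.mp z.2 ⟨x, hx⟩)
      have hdvd := Subgroup.index_dvd_of_le hle
      rw [hk] at hdvd
      obtain ⟨j, -, hj⟩ := (Nat.dvd_prime_pow hq).mp hdvd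
      have hprime := prime_card_of_simple_of_prime_power_class hq hz1 hj
      have := Fact.mk hprime
      have : IsCyclic G := isCyclic_of_prime_card rfl
      exact Group.isSolvable_of_comm fun a b => (IsCyclic.commGroup (α := G)).mul_comm a b
  · have : ∃ N : Subgroup G, N.Normal ∧ N ≠ ⊥ ∧ N ≠ ⊤ := by
      by_contra hc
      push Not at hc
      exact hsimple ⟨fun N hN => by
        by_cases h : N = ⊥
        · exact Or.inl h
        · exact Or.inr (hc N hN h)⟩
    obtain ⟨N, hN, h0, h1⟩ := this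
    have hcard := N.card_mul_index
    have hi : 1 < N.index := Subgroup.one_lt_index_of_ne_top h1
    have hc : 1 < Nat.card N := (Subgroup.one_lt_card_iff_ne_bot N).mpr h0
    have s1 : Group.IsSolvable N := ih _ (by rw [← hn, ← hcard]; nlinarith) N rfl
      fun r hr hd => hG r hr (hd.trans N.card_subgroup_dvd_card)
    have s2 : Group.IsSolvable (G ⧸ N) := ih _ (by
      rw [← hn, ← hcard, ← Subgroup.index_eq_card]; nlinarith) (G ⧸ N) rfl
      fun r hr hd => hG r hr (hd.trans (N.card_quotient_dvd_card))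
    exact Group.isSolvable_of_ker_le_range N.subtype (QuotientGroup.mk' N) (by simp)

/-- Burnside's `p^a q^b` theorem, prime divisor form. -/
theorem isSolvable_of_primes {G : Type*} [Group G] [Finite G] {p q : ℕ} (hp : p.Prime)
    (hq : q.Prime) (hG : ∀ r : ℕ, r.Prime → r ∣ Nat.card G → r = p ∨ r = q) :
    Group.IsSolvable G := isSolvable_of_primes_aux p q hp hq _ G rfl hG

/-- Burnside's `p^a q^b` theorem. -/
theorem burnside_paqb {G : Type*} [Group G] [Finite G] {p q a b : ℕ} (hp : p.Prime)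
    (hq : q.Prime) (hcard : Nat.card G = p ^ a * q ^ b) : Group.IsSolvable G := by
  refine isSolvable_of_primes hp hq fun r hr hd => ?_
  rw [hcard] at hd
  rcases (Nat.Prime.dvd_mul hr).mp hd with h | h
  · exact Or.inl ((Nat.prime_dvd_prime_iff_eq hr hp).mp (hr.dvd_of_dvd_pow h))
  · exact Or.inr ((Nat.prime_dvd_prime_iff_eq hr hq).mp (hr.dvd_of_dvd_pow h))

end H4
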