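import Mathlib
import Cfsg.Prelude.Def_Characters
import Cfsg.Agent.H4.Gen

/-!
# Induction of class functions (helper4 core, part 4)
-/

set_option autoImplicit false

open Cfsg Module
open scoped ComplexConjugate

namespace H4
open H4

section Ext

variable {G : Type*} [Group G]

theorem extendByZero_coe (H : Subgroup G) (θ : H → ℂ) (h : H) : extendByZero H θ h = θ h :=
  Subtype.val_injective.extend_apply θ 0 h

theorem extendByZero_of_mem (H : Subgroup G) (θ : H → ℂ) {x : G} (hx : x ∈ H) :
    extendByZero H θ x = θ ⟨x, hx⟩ := extendByZero_coe H θ ⟨x, hx⟩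

theorem extendByZero_of_not_mem (H : Subgroup G) (θ : H → ℂ) {x : G} (hx : x ∉ H) :
    extendByZero H θ x = 0 := by
  rw [extendByZero, Function.extend_apply']
  · rfl
  · rintro ⟨h, rfl⟩; exact hx h.2

open Classical in
theorem extendByZero_eq_dite (H : Subgroup G) (θ : H → ℂ) (x : G) :
    extendByZero H θ x = if hx : x ∈ H then θ ⟨x, hx⟩ else 0 := by
  split_ifs with hx
  · exact extendByZero_of_mem H θ hx
  · exact extendByZero_of_not_mem H θ hx

theorem extendByZero_add (H : Subgroup G) (θ η : H → ℂ) :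
    extendByZero H (θ + η) = extendByZero H θ + extendByZero H η := by
  ext x; by_cases hx : x ∈ H <;> simp [extendByZero_eq_dite, hx]

theorem extendByZero_smul (H : Subgroup G) (c : ℂ) (θ : H → ℂ) :
    extendByZero H (c • θ) = c • extendByZero H θ := by
  ext x; by_cases hx : x ∈ H <;> simp [extendByZero_eq_dite, hx]

theorem extendByZero_mul_restrict (H : Subgroup G) (θ : H → ℂ) (F : G → ℂ) :
    extendByZero H (θ * fun h : H => F h) = extendByZero H θ * F := by
  ext x; by_cases hx : x ∈ H <;> simp [extendByZero_eq_dite, hx]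

theorem conj_extendByZero (H : Subgroup G) (θ : H → ℂ) (x : G) :
    conj (extendByZero H θ x) = extendByZero H (fun h => conj (θ h)) x := by
  by_cases hx : x ∈ H <;> simp [extendByZero_eq_dite, hx]

theorem extendByZero_conj_mem (H : Subgroup G) {θ : H → ℂ} (hθ : IsClassFunction H θ) (x : G)
    {h : G} (hh : h ∈ H) : extendByZero H θ (h * x * h⁻¹) = extendByZero H θ x := by
  by_cases hx : x ∈ H
  · rw [extendByZero_of_mem H θ hx, extendByZero_of_mem H θ (H.mul_mem (H.mul_mem hh hx)
      (H.inv_mem hh))]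
    exact hθ ⟨x, hx⟩ ⟨h, hh⟩
  · rw [extendByZero_of_not_mem H θ hx, extendByZero_of_not_mem]
    intro h1
    apply hx
    have := H.mul_mem (H.mul_mem (H.inv_mem hh) h1) hh
    simpa [mul_assoc] using this

theorem sum_extendByZero_mul [Fintype G] (H : Subgroup G) [Fintype H] (θ : H → ℂ) (F : G → ℂ) :
    ∑ g : G, extendByZero H θ g * F g = ∑ h : H, θ h * F h := by
  symm
  refine Fintype.sum_of_injective (Subtype.val : H → G) Subtype.val_injective _ _ ?_ ?_
  · intro x hx
    rw [extendByZero_of_not_mem, zero_mul]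
    intro h; exact hx ⟨⟨x, h⟩, rfl⟩
  · intro h; rw [extendByZero_coe]

theorem sum_extendByZero [Fintype G] (H : Subgroup G) [Fintype H] (θ : H → ℂ) :
    ∑ g : G, extendByZero H θ g = ∑ h : H, θ h := by
  simpa using sum_extendByZero_mul H θ (fun _ => 1)

end Ext

section Ind

variable {G : Type*} [Group G] [Fintype G]

theorem indFun_apply (H : Subgroup G) (θ : H → ℂ) (g : G) :
    indFun H θ g = (Nat.card H : ℂ)⁻¹ * ∑ x : G, extendByZero H θ (x⁻¹ * g * x) := rfl

theorem indFun_apply' (H : Subgroup G) (θ : H → ℂ) (g : G) :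
    indFun H θ g = (Nat.card H : ℂ)⁻¹ * ∑ x : G, extendByZero H θ (x * g * x⁻¹) := by
  rw [indFun_apply]
  congr 1
  exact Fintype.sum_equiv (Equiv.inv G) _ _ fun x => by simp

theorem indFun_irrel {G : Type*} [Group G] (i j : Fintype G) (H : Subgroup G) (θ : H → ℂ) :
    @indFun G _ i H θ = @indFun G _ j H θ := by
  congr; exact Subsingleton.elim _ _

theorem indFun_add (H : Subgroup G) (θ η : H → ℂ) :
    indFun H (θ + η) = indFun H θ + indFun H η := by
  ext g; simp [indFun_apply, extendByZero_add, Finset.sum_add_distrib, mul_add]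

theorem indFun_smul (H : Subgroup G) (c : ℂ) (θ : H → ℂ) :
    indFun H (c • θ) = c • indFun H θ := by
  ext g
  simp only [indFun_apply, extendByZero_smul, Pi.smul_apply, smul_eq_mul, ← Finset.mul_sum]
  ring

/-- Induction as a linear map. -/
noncomputable def indL (H : Subgroup G) : (H → ℂ) →ₗ[ℂ] (G → ℂ) where
  toFun := indFun H
  map_add' := indFun_add H
  map_smul' := indFun_smul H

theorem indL_apply (H : Subgroup G) (θ : H → ℂ) : indL H θ = indFun H θ := rfl

theorem indFun_zero (H : Subgroup G) : indFun H 0 = 0 := map_zero (indL H)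

theorem indFun_neg (H : Subgroup G) (θ : H → ℂ) : indFun H (-θ) = -indFun H θ :=
  map_neg (indL H) θ

theorem indFun_sub (H : Subgroup G) (θ η : H → ℂ) :
    indFun H (θ - η) = indFun H θ - indFun H η := map_sub (indL H) θ η

theorem indFun_zsmul (H : Subgroup G) (n : ℤ) (θ : H → ℂ) :
    indFun H (n • θ) = n • indFun H θ := map_zsmul (indL H) n θ

theorem indFun_nsmul (H : Subgroup G) (n : ℕ) (θ : H → ℂ) :
    indFun H (n • θ) = n • indFun H θ := map_nsmul (indL H) n θ

theorem indFun_sum {ι : Type*} (H : Subgroup G) (s : Finset ι) (θ : ι → H → ℂ) :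
    indFun H (∑ i ∈ s, θ i) = ∑ i ∈ s, indFun H (θ i) := map_sum (indL H) θ s

theorem indFun_classFun (H : Subgroup G) (θ : H → ℂ) : IsClassFunction G (indFun H θ) := by
  intro g y
  rw [indFun_apply, indFun_apply]
  congr 1
  refine Fintype.sum_equiv (Equiv.mulLeft y⁻¹) _ _ fun x => ?_
  simp [mul_assoc]

omit [Fintype G] in
theorem card_eq_card_mul_index (H : Subgroup G) :
    (Nat.card G : ℂ) = (Nat.card H : ℂ) * H.index := by
  exact_mod_cast H.card_mul_index.symm

theorem indFun_apply_one (H : Subgroup G) (θ : H → ℂ) :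
    indFun H θ 1 = (H.index : ℂ) * θ 1 := by
  have h1 : extendByZero H θ 1 = θ 1 := extendByZero_coe H θ 1
  simp only [indFun_apply, mul_one, inv_mul_cancel, h1, Finset.sum_const, Finset.card_univ,
    nsmul_eq_mul, ← Nat.card_eq_fintype_card, card_eq_card_mul_index H]
  have := card_ne_zero H
  field_simp

theorem indFun_apply_of_mem_center (H : Subgroup G) (θ : H → ℂ) {z : G}
    (hz : z ∈ Subgroup.center G) : indFun H θ z = (H.index : ℂ) * extendByZero H θ z := by
  have h1 : ∀ x : G, x⁻¹ * z * x = z := fun x => by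
    rw [Subgroup.mem_center_iff.mp hz x⁻¹]; simp
  simp only [indFun_apply, h1, Finset.sum_const, Finset.card_univ,
    nsmul_eq_mul, ← Nat.card_eq_fintype_card, card_eq_card_mul_index H]
  have := card_ne_zero H
  field_simp

theorem indFun_eq_zero (H : Subgroup G) (θ : H → ℂ) {g : G}
    (h : ∀ x : H, IsConj g (x : G) → θ x = 0) : indFun H θ g = 0 := by
  rw [indFun_apply', Finset.sum_eq_zero, mul_zero]
  intro x _
  rw [extendByZero_eq_dite]
  split_ifs with hx
  · exact h _ (isConj_iff.mpr ⟨x, rfl⟩)
  · rfl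

theorem indFun_eq_zero_of_not_mem (H : Subgroup G) [hH : H.Normal] (θ : H → ℂ) {g : G}
    (hg : g ∉ H) : indFun H θ g = 0 := by
  refine indFun_eq_zero H θ fun x hx => ?_
  obtain ⟨c, hc⟩ := isConj_iff.mp hx.symm
  exact absurd (hc ▸ hH.conj_mem _ x.2 c) hg

theorem indFun_apply_of_normal (H : Subgroup G) [hH : H.Normal] (θ : H → ℂ) (h : H) :
    indFun H θ h =
      (Nat.card H : ℂ)⁻¹ * ∑ x : G, θ ⟨x * h * x⁻¹, hH.conj_mem _ h.2 x⟩ := by
  rw [indFun_apply']
  congr 1
  exact Finset.sum_congr rfl fun x _ => extendByZero_of_mem H θ _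

open Classical in
/-- `Ind θ (g) = |C_G(g)| / |H| * ∑_{h ∈ H, h ∼ g} θ h`. -/
theorem indFun_apply_eq_card_centralizer (H : Subgroup G) [Fintype H] (θ : H → ℂ) (g : G) :
    indFun H θ g = (Nat.card (Subgroup.centralizer ({g} : Set G)) : ℂ) / Nat.card H *
      ∑ h ∈ Finset.univ.filter (fun h : H => IsConj g h), θ h := by
  rw [indFun_apply', sum_conj_eq_card_mul_sum, Finset.sum_filter, Finset.sum_filter]
  have := sum_extendByZero_mul H θ (fun x => if IsConj g x then 1 else 0)
  simp only [mul_ite, mul_one, mul_zero] at this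
  rw [this]; ring

theorem indFun_mul_restrict (H : Subgroup G) (θ : H → ℂ) {χ : G → ℂ} (hχ : IsClassFunction G χ) :
    indFun H (θ * fun h : H => χ h) = indFun H θ * χ := by
  ext g
  simp only [indFun_apply', extendByZero_mul_restrict, Pi.mul_apply, hχ g, ← Finset.sum_mul]
  rw [mul_assoc]

theorem indFun_restrict (H : Subgroup G) {χ : G → ℂ} (hχ : IsClassFunction G χ) :
    indFun H (fun h : H => χ h) = indFun H (fun _ => 1) * χ := by
  rw [← indFun_mul_restrict H _ hχ]; congr 1; ext; simp

theorem conj_indFun (H : Subgroup G) (θ : H → ℂ) (g : G) :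
    conj (indFun H θ g) = indFun H (fun h => conj (θ h)) g := by
  simp [indFun_apply, conj_extendByZero]

theorem sum_indFun_mul (H : Subgroup G) [Fintype H] (θ : H → ℂ) {χ : G → ℂ}
    (hχ : IsClassFunction G χ) :
    ∑ g : G, indFun H θ g * χ g = (H.index : ℂ) * ∑ h : H, θ h * χ h := by
  simp only [indFun_apply', mul_assoc, ← Finset.mul_sum, Finset.sum_mul]
  rw [Finset.sum_comm]
  have : ∀ x : G, ∑ g : G, extendByZero H θ (x * (g * x⁻¹)) * χ g = ∑ h : H, θ h * χ h := by
    intro x
    rw [← sum_extendByZero_mul]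
    refine Fintype.sum_equiv (MulAut.conj x).toEquiv _ _ fun g => ?_
    simp only [MulEquiv.toEquiv_eq_coe, EquivLike.coe_coe, MulAut.conj_apply, hχ g x]
    rw [mul_assoc x g]
  simp only [this, Finset.sum_const, Finset.card_univ, nsmul_eq_mul, ← Nat.card_eq_fintype_card,
    card_eq_card_mul_index H]
  have := card_ne_zero H
  field_simp

/-- Frobenius reciprocity. -/
theorem classInner_indFun_left (H : Subgroup G) [Fintype H] (θ : H → ℂ) {χ : G → ℂ}
    (hχ : IsClassFunction G χ) :
    classInner (indFun H θ) χ = classInner θ (fun h : H => χ h) := by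
  rw [classInner, sum_indFun_mul H θ hχ.conj, classInner, card_eq_card_mul_index H]
  have := card_ne_zero H
  have : (H.index : ℂ) ≠ 0 := by exact_mod_cast H.index_ne_zero_of_finite
  field_simp

/-- Frobenius reciprocity, other side. -/
theorem classInner_indFun_right (H : Subgroup G) [Fintype H] (θ : H → ℂ) {χ : G → ℂ}
    (hχ : IsClassFunction G χ) :
    classInner χ (indFun H θ) = classInner (fun h : H => χ h) θ := by
  rw [← conj_classInner, classInner_indFun_left H θ hχ, conj_classInner]

theorem Cfsg.IsCharacter.indFun {H : Subgroup G} {θ : H → ℂ} (hθ : IsCharacter H θ) :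
    IsCharacter G (indFun H θ) := by
  have := Fintype.ofFinite H
  refine (indFun_classFun H θ).isCharacter_of_inner_nat fun χ hχ => ?_
  rw [classInner_indFun_left H θ hχ.classFun]
  exact hθ.inner_nat (hχ.isCharacter.restrict H)

theorem Cfsg.IsGeneralizedCharacter.indFun {H : Subgroup G} {θ : H → ℂ}
    (hθ : IsGeneralizedCharacter H θ) : IsGeneralizedCharacter G (indFun H θ) := by
  obtain ⟨χ, ψ, hχ, hψ, rfl⟩ := hθ
  rw [indFun_sub]
  exact hχ.indFun.isGen.sub hψ.indFun.isGen

/-- Every irreducible character of a subgroup lies under an irreducible character. -/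
theorem Cfsg.IsIrrCharacter.exists_irr_above {H : Subgroup G} [Fintype H] {θ : H → ℂ}
    (hθ : IsIrrCharacter H θ) :
    ∃ χ : G → ℂ, IsIrrCharacter G χ ∧ classInner (fun h : H => χ h) θ ≠ 0 := by
  have h0 : Cfsg.indFun H θ ≠ 0 := by
    intro h
    have := congrFun h 1
    rw [indFun_apply_one] at this
    exact mul_ne_zero (by exact_mod_cast H.index_ne_zero_of_finite) hθ.apply_one_ne_zero this
  obtain ⟨χ, hχ, h⟩ := (indFun_classFun H θ).exists_irr_inner_ne_zero h0
  refine ⟨χ, hχ, fun h1 => h ?_⟩
  rw [classInner_indFun_left H θ hχ.classFun]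
  exact classInner_comm_of_eq_zero h1

omit [Fintype G] in
/-- Every irreducible character has an irreducible constituent on a subgroup. -/
theorem Cfsg.IsIrrCharacter.exists_irr_below (H : Subgroup G) [Fintype H] {χ : G → ℂ}
    (hχ : IsIrrCharacter G χ) :
    ∃ θ : H → ℂ, IsIrrCharacter H θ ∧ classInner (fun h : H => χ h) θ ≠ 0 := by
  refine (hχ.classFun.restrict H).exists_irr_inner_ne_zero fun h => ?_
  exact hχ.apply_one_ne_zero (congrFun h 1)

/-- If an induced character is irreducible then so is the inducing character. -/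
theorem Cfsg.IsCharacter.isIrr_of_indFun {H : Subgroup G} {θ : H → ℂ} (hθ : IsCharacter H θ)
    (h : IsIrrCharacter G (Cfsg.indFun H θ)) : IsIrrCharacter H θ := by
  have := Fintype.ofFinite H
  have h0 : θ ≠ 0 := by rintro rfl; exact h.ne_zero (indFun_zero H)
  obtain ⟨φ, hφ, hne⟩ := hθ.classFun.exists_irr_inner_ne_zero h0
  have h1 := (hθ.sub_irr hφ hne)
  have h2 : Cfsg.indFun H θ = Cfsg.indFun H φ + Cfsg.indFun H (θ - φ) := by
    rw [← indFun_add]; simp
  have h3 := h.inner_self
  rw [h2, classInner_add_left, classInner_add_right, classInner_add_right] at h3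
  have c1 := hφ.isCharacter.indFun
  have c2 := h1.indFun
  obtain ⟨a, ha⟩ := c1.inner_nat c1
  obtain ⟨b, hb⟩ := c1.inner_nat c2
  obtain ⟨c, hc⟩ := c2.inner_nat c1
  obtain ⟨d, hd⟩ := c2.inner_nat c2
  rw [ha, hb, hc, hd] at h3
  have h4 : a + b + (c + d) = 1 := by exact_mod_cast h3
  have hi : (H.index : ℂ) ≠ 0 := by exact_mod_cast H.index_ne_zero_of_finite
  have ha0 : a ≠ 0 := by
    rintro rfl
    rw [Nat.cast_zero, classInner_self_eq_zero] at ha
    have := congrFun ha 1
    rw [indFun_apply_one] at this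
    exact mul_ne_zero hi hφ.apply_one_ne_zero this
  have hd0 : d = 0 := by omega
  rw [hd0, Nat.cast_zero, classInner_self_eq_zero] at hd
  have := congrFun hd 1
  rw [indFun_apply_one] at this
  have := h1.eq_zero_of_apply_one ((mul_eq_zero.mp this).resolve_left hi)
  rw [sub_eq_zero.mp this]; exact hφ

/-- Transitivity of induction. -/
theorem indFun_indFun (H K : Subgroup G) [Fintype K] (hHK : H ≤ K) (θ : H → ℂ) :
    indFun K (indFun (H.subgroupOf K)
      (fun x => θ ⟨(x : K), Subgroup.mem_subgroupOf.mp x.2⟩)) = indFun H θ := by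
  have key : ∀ y : G, extendByZero K (indFun (H.subgroupOf K)
      (fun x => θ ⟨(x : K), Subgroup.mem_subgroupOf.mp x.2⟩)) y =
      (Nat.card H : ℂ)⁻¹ * ∑ k : K, extendByZero H θ ((k : G)⁻¹ * y * k) := by
    intro y
    by_cases hy : y ∈ K
    · rw [extendByZero_of_mem K _ hy, indFun_apply,
        Nat.card_congr (Subgroup.subgroupOfEquivOfLe hHK).toEquiv]
      congr 1
      refine Finset.sum_congr rfl fun k _ => ?_
      by_cases h : (k : G)⁻¹ * y * k ∈ H
      · rw [extendByZero_of_mem H θ h, extendByZero_of_mem _ _ (Subgroup.mem_subgroupOf.mpr h)]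
        rfl
      · rw [extendByZero_of_not_mem H θ h, extendByZero_of_not_mem]
        exact fun h' => h (Subgroup.mem_subgroupOf.mp h')
    · rw [extendByZero_of_not_mem K _ hy, Finset.sum_eq_zero, mul_zero]
      intro k _
      refine extendByZero_of_not_mem H θ fun h => hy ?_
      have := K.mul_mem (K.mul_mem k.2 (hHK h)) (K.inv_mem k.2)
      simpa [mul_assoc] using this
  ext g
  rw [indFun_apply, indFun_apply]
  simp only [key, ← Finset.mul_sum]
  rw [Finset.sum_comm]
  have : ∀ k : K, ∑ x : G, extendByZero H θ ((k : G)⁻¹ * (x⁻¹ * g * x) * k) =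
      ∑ x : G, extendByZero H θ (x⁻¹ * g * x) := fun k =>
    Fintype.sum_equiv (Equiv.mulRight (k : G)) _ _ fun x => by simp [mul_assoc]
  simp only [this, Finset.sum_const, Finset.card_univ, nsmul_eq_mul, ← Nat.card_eq_fintype_card]
  have := card_ne_zero K
  field_simp

/-- Transitivity of induction, starting from a subgroup of a subgroup. -/
theorem indFun_indFun_map (K : Subgroup G) [Fintype K] (L : Subgroup K) (θ : L → ℂ) :
    indFun K (indFun L θ) = indFun (L.map K.subtype)
      (fun x => θ ((Subgroup.equivMapOfInjective L K.subtype K.subtype_injective).symm x)) := by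
  have hle : L.map K.subtype ≤ K := Subgroup.map_subtype_le L
  rw [← indFun_indFun _ K hle]
  congr 1
  have hL : (L.map K.subtype).subgroupOf K = L :=
    Subgroup.comap_map_eq_self_of_injective K.subtype_injective L
  ext k
  rw [indFun_apply, indFun_apply]
  congr 1
  · rw [hL]
  refine Finset.sum_congr rfl fun x _ => ?_
  by_cases h : x⁻¹ * k * x ∈ L
  · rw [extendByZero_of_mem _ _ h, extendByZero_of_mem _ _ (hL.symm ▸ h)]
    congr 1
    rw [MulEquiv.eq_symm_apply]
    rfl
  · rw [extendByZero_of_not_mem _ _ h, extendByZero_of_not_mem _ _ (hL.symm ▸ h)]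

theorem indFun_top {θ : G → ℂ} (hθ : IsClassFunction G θ) :
    indFun ⊤ (fun x : (⊤ : Subgroup G) => θ x) = θ := by
  ext g
  simp only [indFun_apply', extendByZero_of_mem _ _ (Subgroup.mem_top _), hθ g,
    Finset.sum_const, Finset.card_univ, nsmul_eq_mul, ← Nat.card_eq_fintype_card,
    Subgroup.card_top]
  have := card_ne_zero G
  field_simp

/-- Induction commutes with pull-back along a surjective homomorphism. -/
theorem indFun_comap {Q : Type*} [Group Q] [Fintype Q] (f : G →* Q) (hf : Function.Surjective f)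
    (H : Subgroup Q) (θ : H → ℂ) (g : G) :
    indFun (H.comap f) (fun x => θ ⟨f x, x.2⟩) g = indFun H θ (f g) := by
  classical
  have key : ∀ F : Q → ℂ, ∑ x : G, F (f x) = (Nat.card f.ker : ℂ) * ∑ q : Q, F q := by
    intro F
    rw [← Finset.sum_fiberwise (s := Finset.univ) (g := f), Finset.mul_sum]
    refine Finset.sum_congr rfl fun q _ => ?_
    rw [Finset.sum_congr rfl (g := fun _ => F q) (fun x hx => by
      rw [(Finset.mem_filter.mp hx).2]), Finset.sum_const, nsmul_eq_mul]
    congr 2
    obtain ⟨x, rfl⟩ := hf q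
    rw [← Fintype.card_subtype, ← Nat.card_eq_fintype_card]
    exact Nat.card_congr (MonoidHom.fiberEquivKer f x)
  have h1 : ∀ y : G, extendByZero (H.comap f) (fun x => θ ⟨f x, x.2⟩) y =
      extendByZero H θ (f y) := by
    intro y
    by_cases hy : f y ∈ H
    · rw [extendByZero_of_mem _ _ hy, extendByZero_of_mem _ _ (Subgroup.mem_comap.mpr hy)]
    · rw [extendByZero_of_not_mem _ _ hy, extendByZero_of_not_mem _ _
        (fun h => hy (Subgroup.mem_comap.mp h))]
  have h2 : (Nat.card (H.comap f) : ℂ) = Nat.card f.ker * Nat.card H := by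
    have a1 := card_eq_card_mul_index (H.comap f)
    have a2 := card_eq_card_mul_index H
    have a3 := card_eq_card_mul_index f.ker
    rw [Subgroup.index_ker, MonoidHom.range_eq_top.mpr hf, Subgroup.card_top] at a3
    rw [H.index_comap_of_surjective hf] at a1
    have hi : (H.index : ℂ) ≠ 0 := by exact_mod_cast H.index_ne_zero_of_finite
    apply mul_right_cancel₀ hi
    rw [← a1, a3, a2]; ring
  rw [indFun_apply, indFun_apply, h2]
  simp only [h1, map_mul, map_inv]
  rw [key (fun q => extendByZero H θ (q⁻¹ * f g * q))]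
  have := card_ne_zero f.ker
  have := card_ne_zero H
  field_simp

/-! ### Trivial-intersection subsets -/

/-- An induced class function agrees with the original one on a TI subset. -/
theorem indFun_apply_of_TI (H : Subgroup G) (T : Set G)
    (hTI : ∀ g : G, g ∉ H → ∀ t ∈ T, g * t * g⁻¹ ∈ T → t = 1) {ψ : H → ℂ}
    (hψ : IsClassFunction H ψ) (hψT : ∀ x : H, (x : G) ∉ T → ψ x = 0) (t : H) (htT : (t : G) ∈ T)
    (ht1 : t ≠ 1) : indFun H ψ t = ψ t := by
  have := Fintype.ofFinite H
  have h1 : ∀ x : G, extendByZero H ψ (x * t * x⁻¹) = extendByZero H (fun _ => ψ t) x := by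
    intro x
    by_cases hx : x ∈ H
    · rw [extendByZero_conj_mem H hψ _ hx, extendByZero_coe, extendByZero_of_mem _ _ hx]
    · rw [extendByZero_of_not_mem _ _ hx, extendByZero_eq_dite]
      split_ifs with h
      · exact hψT _ fun h' => ht1 (Subtype.ext (hTI x hx t htT h'))
      · rfl
  rw [indFun_apply']
  simp only [h1, sum_extendByZero, Finset.sum_const, Finset.card_univ, nsmul_eq_mul,
    ← Nat.card_eq_fintype_card]
  have := card_ne_zero H
  field_simp

/-- Induction is an isometry on class functions supported on a TI subset. -/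
theorem classInner_indFun_of_TI (H : Subgroup G) [Fintype H] (T : Set G)
    (hTI : ∀ g : G, g ∉ H → ∀ t ∈ T, g * t * g⁻¹ ∈ T → t = 1) {ψ θ : H → ℂ}
    (hθ : IsClassFunction H θ) (hψT : ∀ x : H, (x : G) ∉ T → ψ x = 0)
    (hθT : ∀ x : H, (x : G) ∉ T → θ x = 0) (hψ1 : ψ 1 = 0) :
    classInner (indFun H ψ) (indFun H θ) = classInner ψ θ := by
  rw [classInner_indFun_left H ψ (indFun_classFun H θ), classInner, classInner]
  congr 1
  refine Finset.sum_congr rfl fun x _ => ?_
  by_cases h1 : x = 1
  · rw [h1, hψ1, zero_mul, zero_mul]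
  by_cases h2 : (x : G) ∈ T
  · rw [indFun_apply_of_TI H T hTI hθ hθT x h2 h1]
  · rw [hψT x h2, zero_mul, zero_mul]

end Ind

/-! ## Permutation characters -/

section Perm

variable {G : Type*} [Group G]

theorem isCharacter_fixedBy (X : Type*) [MulAction G X] [Finite X] :
    IsCharacter G (fun g : G => (Nat.card (MulAction.fixedBy X g) : ℂ)) := by
  classical
  have := Fintype.ofFinite X
  have : (fun g : G => (Nat.card (MulAction.fixedBy X g) : ℂ)) =
      (Representation.ofMulAction ℂ G X).character := by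
    ext g
    rw [Representation.character, LinearMap.trace_eq_matrix_trace ℂ (MonoidAlgebra.basis X ℂ),
      Matrix.trace, Nat.card_eq_fintype_card, Fintype.card_subtype]
    simp [LinearMap.toMatrix_apply, Finsupp.single_apply, MonoidAlgebra.basis]
  have hfd : FiniteDimensional ℂ (MonoidAlgebra ℂ X) :=
    Module.Finite.of_basis (MonoidAlgebra.basis X ℂ)
  rw [this]; exact isCharacter_of_rep _

theorem classInner_fixedBy_one [Fintype G] (X : Type*) [MulAction G X] [Finite X] :
    classInner (fun g : G => (Nat.card (MulAction.fixedBy X g) : ℂ)) (fun _ => 1) =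
      Nat.card (MulAction.orbitRel.Quotient G X) := by
  classical
  have := Fintype.ofFinite X
  have := Fintype.ofFinite (MulAction.orbitRel.Quotient G X)
  have h := MulAction.sum_card_fixedBy_eq_card_orbits_mul_card_group G X
  simp only [classInner, map_one, mul_one, Nat.card_eq_fintype_card]
  rw [← Nat.cast_sum, h, Nat.cast_mul]
  have : (Fintype.card G : ℂ) ≠ 0 := by exact_mod_cast Fintype.card_ne_zero
  field_simp

theorem fixedBy_eq_indFun [Fintype G] (X : Type*) [MulAction G X] [Finite X]
    [MulAction.IsPretransitive G X] (x : X) :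
    (fun g : G => (Nat.card (MulAction.fixedBy X g) : ℂ)) =
      indFun (MulAction.stabilizer G x) (fun _ => 1) := by
  classical
  have := Fintype.ofFinite X
  ext g
  rw [indFun_apply]
  have h1 : ∀ y : G, extendByZero (MulAction.stabilizer G x) (fun _ => (1 : ℂ)) (y⁻¹ * g * y) =
      if g • y • x = y • x then 1 else 0 := by
    intro y
    rw [extendByZero_eq_dite, dite_eq_ite]
    congr 1
    rw [MulAction.mem_stabilizer_iff, mul_smul, mul_smul, inv_smul_eq_iff]
  simp only [h1]
  rw [← Finset.sum_fiberwise (s := Finset.univ) (g := fun y : G => y • x)]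
  have h2 : ∀ z : X, ∑ y ∈ Finset.univ.filter (fun y : G => y • x = z),
      (if g • y • x = y • x then (1 : ℂ) else 0) =
      (Nat.card (MulAction.stabilizer G x) : ℂ) * if g • z = z then 1 else 0 := by
    intro z
    rw [Finset.sum_congr rfl (g := fun _ => if g • z = z then (1 : ℂ) else 0) (fun y hy => by
      rw [(Finset.mem_filter.mp hy).2]), Finset.sum_const, nsmul_eq_mul]
    congr 2
    obtain ⟨c, rfl⟩ := MulAction.exists_smul_eq G x z
    rw [← Fintype.card_subtype, ← Nat.card_eq_fintype_card]
    refine Nat.card_congr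
      { toFun := fun y => ⟨c⁻¹ * y.1, by
          rw [MulAction.mem_stabilizer_iff, mul_smul, y.2, inv_smul_smul]⟩
        invFun := fun s => ⟨c * s.1, by rw [mul_smul, s.2]⟩
        left_inv := fun y => by simp
        right_inv := fun y => by simp }
  simp only [h2, ← Finset.mul_sum]
  rw [← mul_assoc, inv_mul_cancel₀ (card_ne_zero _), one_mul, Nat.card_eq_fintype_card,
    Fintype.card_subtype]
  simp

end Perm

end H4
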