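import Mathlib
import Cfsg.Prelude.Def_Characters
import Cfsg.Agent.H4.Central

/-!
# Galois action on character values (helper4 core)
-/

set_option autoImplicit false

open Cfsg Module
open scoped ComplexConjugate

namespace H4
open H4

section Aut

/-- Any automorphism of a subfield of `ℂ` extends to an automorphism of `ℂ`. -/
theorem exists_ringEquiv_extend {R : Type*} [Field R] [Algebra R ℂ] (ψ : R ≃+* R) :
    ∃ u : ℂ ≃+* ℂ, ∀ a : R, u (algebraMap R ℂ a) = algebraMap R ℂ (ψ a) := by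
  obtain ⟨s, hs⟩ := exists_isTranscendenceBasis R ℂ
  let _ := IsAlgClosed.isAlgClosure_of_transcendence_basis _ hs
  let e : Algebra.adjoin R (Set.range ((↑) : s → ℂ)) ≃+*
      Algebra.adjoin R (Set.range ((↑) : s → ℂ)) :=
    (hs.1.aevalEquiv.symm.toRingEquiv.trans (MvPolynomial.mapEquiv s ψ)).trans
      hs.1.aevalEquiv.toRingEquiv
  refine ⟨IsAlgClosure.equivOfEquiv ℂ ℂ e, fun a => ?_⟩
  have h1 : algebraMap R ℂ a = algebraMap (Algebra.adjoin R (Set.range ((↑) : s → ℂ))) ℂ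
      (algebraMap R _ a) := rfl
  rw [h1, IsAlgClosure.equivOfEquiv_algebraMap]
  have h2 : e (algebraMap R _ a) = algebraMap R _ (ψ a) := by
    simp only [e, RingEquiv.coe_trans,
      AlgEquiv.coe_ringEquiv, Function.comp_apply, AlgEquiv.commutes]
    rw [MvPolynomial.algebraMap_eq, MvPolynomial.mapEquiv_apply, MvPolynomial.map_C,
      ← MvPolynomial.algebraMap_eq, AlgEquiv.commutes]
    rfl
  rw [h2]; rfl

/-- Conjugate algebraic numbers are related by an automorphism of `ℂ`. -/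
theorem exists_ringEquiv_of_aeval_minpoly {x y : ℂ} (hx : IsIntegral ℚ x)
    (hy : Polynomial.aeval y (minpoly ℚ x) = 0) : ∃ u : ℂ ≃+* ℂ, u x = y := by
  let A := algebraicClosure ℚ ℂ
  have hy' : IsIntegral ℚ y := ⟨minpoly ℚ x, minpoly.monic hx, hy⟩
  let x' : A := ⟨x, mem_algebraicClosure_iff'.mpr hx⟩
  let y' : A := ⟨y, mem_algebraicClosure_iff'.mpr hy'⟩
  have hmin : minpoly ℚ x' = minpoly ℚ x :=
    (minpoly.algebraMap_eq (A := ℚ) (algebraMap A ℂ).injective x').symm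
  have hy2 : Polynomial.aeval y' (minpoly ℚ x') = 0 := by
    apply (algebraMap A ℂ).injective
    rw [← Polynomial.aeval_algebraMap_apply, hmin, map_zero]
    exact hy
  have hA : IsAlgClosure ℚ A := algebraicClosure.isAlgClosure ℚ ℂ
  have hA2 : Algebra.IsAlgebraic ℚ A := hA.isAlgebraic
  have hA3 : Normal ℚ A := IsAlgClosure.normal ℚ A
  obtain ⟨σ, hσ⟩ := minpoly.exists_algEquiv_of_root' (Algebra.IsAlgebraic.isAlgebraic x') hy2
  obtain ⟨u, hu⟩ := exists_ringEquiv_extend σ.toRingEquiv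
  refine ⟨u, ?_⟩
  have := hu x'
  simp only [AlgEquiv.coe_ringEquiv, hσ] at this
  exact this

/-- An algebraic number fixed by all automorphisms of `ℂ` is rational. -/
theorem exists_rat_of_forall_ringEquiv {x : ℂ} (hx : IsIntegral ℚ x)
    (h : ∀ u : ℂ ≃+* ℂ, u x = x) : ∃ q : ℚ, x = q := by
  classical
  have hsep : (minpoly ℚ x).Separable := (minpoly.irreducible hx).separable
  have hcard := Polynomial.card_rootSet_eq_natDegree (K := ℂ) hsep (IsAlgClosed.splits _)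
  have hsub : (minpoly ℚ x).rootSet ℂ ⊆ {x} := by
    intro y hy
    obtain ⟨u, hu⟩ := exists_ringEquiv_of_aeval_minpoly hx (Polynomial.mem_rootSet.mp hy).2
    rw [← hu, h u]; rfl
  have hle : (minpoly ℚ x).natDegree ≤ 1 := by
    rw [← hcard]
    simpa using Set.card_le_card hsub
  have h1 : (minpoly ℚ x).natDegree = 1 := le_antisymm hle (minpoly.natDegree_pos hx)
  obtain ⟨q, hq⟩ := minpoly.natDegree_eq_one_iff.mp h1
  exact ⟨q, by simpa using hq.symm⟩

/-- An algebraic integer fixed by all automorphisms of `ℂ` is an integer. -/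
theorem exists_int_of_forall_ringEquiv {x : ℂ} (hx : IsIntegral ℤ x)
    (h : ∀ u : ℂ ≃+* ℂ, u x = x) : ∃ n : ℤ, x = n := by
  obtain ⟨q, rfl⟩ := exists_rat_of_forall_ringEquiv hx.tower_top h
  obtain ⟨n, hn⟩ := exists_int_of_isIntegral_rat hx
  exact ⟨n, by rw [← hn]; simp⟩

/-- Existence of an automorphism of `ℂ` raising `n`-th roots of unity to the power `m`. -/
theorem exists_ringEquiv_pow {n m : ℕ} (hn : n ≠ 0) (hm : m.Coprime n) :
    ∃ u : ℂ ≃+* ℂ, ∀ z : ℂ, z ^ n = 1 → u z = z ^ m := by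
  have hζ := Complex.isPrimitiveRoot_exp n hn
  set ζ := Complex.exp (2 * Real.pi * Complex.I / n)
  have hζm := hζ.pow_of_coprime m hm
  obtain ⟨u, hu⟩ := exists_ringEquiv_of_aeval_minpoly (x := ζ) (y := ζ ^ m)
    (hζ.isIntegral (Nat.pos_of_ne_zero hn)).tower_top (by
      rw [← Polynomial.cyclotomic_eq_minpoly_rat hζ (Nat.pos_of_ne_zero hn),
        Polynomial.cyclotomic_eq_minpoly_rat hζm (Nat.pos_of_ne_zero hn)]
      exact minpoly.aeval ℚ _)
  refine ⟨u, fun z hz => ?_⟩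
  have : NeZero n := ⟨hn⟩
  obtain ⟨i, -, rfl⟩ := hζ.eq_pow_of_pow_eq_one hz
  rw [map_pow, hu, ← pow_mul, ← pow_mul, mul_comm]

/-- Peterfalvi (1.9)-type automorphism: acts as `z ↦ z ^ m` on `a`-th roots of unity and fixes the
`b`-th roots of unity. -/
theorem exists_ringEquiv_pow_fix {a b m : ℕ} (ha : a ≠ 0) (hb : b ≠ 0) (hab : a.Coprime b)
    (hm : m.Coprime a) :
    ∃ u : ℂ ≃+* ℂ, (∀ z : ℂ, z ^ a = 1 → u z = z ^ m) ∧ ∀ z : ℂ, z ^ b = 1 → u z = z := by
  obtain ⟨k, hk1, hk2⟩ := Nat.chineseRemainder hab m 1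
  have hk : k.Coprime (a * b) := by
    refine Nat.Coprime.mul_right ?_ ?_
    · exact (Nat.ModEq.gcd_eq hk1).trans hm
    · exact (Nat.ModEq.gcd_eq hk2).trans (Nat.gcd_one_left b)
  obtain ⟨u, hu⟩ := exists_ringEquiv_pow (mul_ne_zero ha hb) hk
  refine ⟨u, fun z hz => ?_, fun z hz => ?_⟩
  · rw [hu z (by rw [pow_mul, hz, one_pow]), pow_eq_pow_mod k hz, pow_eq_pow_mod m hz, hk1]
  · rw [hu z (by rw [mul_comm, pow_mul, hz, one_pow]), pow_eq_pow_mod k hz, hk2,
      ← pow_eq_pow_mod 1 hz, pow_one]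

/-- Every ring endomorphism of `ℂ` acts on the `n`-th roots of unity as a power map. -/
theorem exists_pow_of_ringHom (u : ℂ →+* ℂ) {n : ℕ} (hn : n ≠ 0) :
    ∃ m : ℕ, m.Coprime n ∧ ∀ z : ℂ, z ^ n = 1 → u z = z ^ m := by
  have hζ := Complex.isPrimitiveRoot_exp n hn
  set ζ := Complex.exp (2 * Real.pi * Complex.I / n)
  have : NeZero n := ⟨hn⟩
  have h2 : IsPrimitiveRoot (u ζ) n := hζ.map_of_injective u.injective
  obtain ⟨m, -, hm, hm'⟩ := hζ.isPrimitiveRoot_iff.mp h2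
  refine ⟨m, hm, fun z hz => ?_⟩
  obtain ⟨i, -, rfl⟩ := hζ.eq_pow_of_pow_eq_one hz
  rw [map_pow, ← hm', ← pow_mul, ← pow_mul, mul_comm]

end Aut

section Char

variable {G : Type*} [Group G]

theorem Cfsg.IsCharacter.map_ringHom {χ : G → ℂ} (h : IsCharacter G χ) (u : ℂ →+* ℂ) :
    IsCharacter G (fun x => u (χ x)) := by
  obtain ⟨n, ρ, rfl⟩ := h
  let ρ' : Representation ℂ G (Fin n → ℂ) :=
    { toFun := fun g => Matrix.toLin' ((LinearMap.toMatrix' (ρ g)).map u)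
      map_one' := by
        rw [map_one, Module.End.one_eq_id, LinearMap.toMatrix'_id,
          Matrix.map_one _ (map_zero u) (map_one u), Matrix.toLin'_one]
      map_mul' := fun g h => by
        rw [map_mul, Module.End.mul_eq_comp, LinearMap.toMatrix'_comp, Matrix.map_mul,
          Matrix.toLin'_mul, Module.End.mul_eq_comp] }
  refine ⟨n, ρ', funext fun g => ?_⟩
  change LinearMap.trace ℂ _ (Matrix.toLin' ((LinearMap.toMatrix' (ρ g)).map u)) =
    u (LinearMap.trace ℂ _ (ρ g))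
  rw [Matrix.trace_toLin'_eq, ← Matrix.toLin'_toMatrix' (ρ g), Matrix.trace_toLin'_eq,
    LinearMap.toMatrix'_toLin', Matrix.trace, Matrix.trace, map_sum]
  rfl

theorem Cfsg.IsGeneralizedCharacter.map_ringHom {θ : G → ℂ} (h : IsGeneralizedCharacter G θ)
    (u : ℂ →+* ℂ) : IsGeneralizedCharacter G (fun x => u (θ x)) := by
  obtain ⟨χ, ψ, hχ, hψ, rfl⟩ := h
  exact ⟨_, _, hχ.map_ringHom u, hψ.map_ringHom u, by ext; simp⟩

theorem classInner_map_ringHom [Fintype G] (φ : G → ℂ) {θ : G → ℂ}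
    (h : IsGeneralizedCharacter G θ) (u : ℂ →+* ℂ) :
    classInner (fun x => u (φ x)) (fun x => u (θ x)) = u (classInner φ θ) := by
  simp only [classInner, map_mul, map_inv₀, map_natCast, map_sum, ← h.apply_inv]
  congr 1
  refine Finset.sum_congr rfl fun g _ => ?_
  rw [← (h.map_ringHom u).apply_inv]

variable [Finite G]

theorem Cfsg.IsIrrCharacter.map_ringHom {χ : G → ℂ} (h : IsIrrCharacter G χ) (u : ℂ →+* ℂ) :
    IsIrrCharacter G (fun x => u (χ x)) := by
  have := Fintype.ofFinite G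
  refine (h.isCharacter.map_ringHom u).isIrr_of_inner_self ?_
  rw [classInner_map_ringHom χ h.isGen, h.inner_self, map_one]

theorem Cfsg.IsCharacter.map_apply_eq_pow {χ : G → ℂ} (h : IsCharacter G χ) (u : ℂ →+* ℂ)
    {n m : ℕ} (hu : ∀ z : ℂ, z ^ n = 1 → u z = z ^ m) {g : G} (hg : g ^ n = 1) :
    u (χ g) = χ (g ^ m) := by
  obtain ⟨d, ω, -, h2, h3⟩ := h.exists_eigenvalues g
  have h4 := h3 1
  simp only [pow_one] at h4
  rw [h4, h3, map_sum]
  refine Finset.sum_congr rfl fun i _ => hu _ ?_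
  obtain ⟨k, rfl⟩ := orderOf_dvd_of_pow_eq_one hg
  rw [pow_mul, h2, one_pow]

theorem Cfsg.IsGeneralizedCharacter.map_apply_eq_pow {θ : G → ℂ} (h : IsGeneralizedCharacter G θ)
    (u : ℂ →+* ℂ) {n m : ℕ} (hu : ∀ z : ℂ, z ^ n = 1 → u z = z ^ m) {g : G} (hg : g ^ n = 1) :
    u (θ g) = θ (g ^ m) := by
  obtain ⟨χ, ψ, hχ, hψ, rfl⟩ := h
  simp [hχ.map_apply_eq_pow u hu hg, hψ.map_apply_eq_pow u hu hg]

theorem Cfsg.IsCharacter.pow_arg {χ : G → ℂ} (h : IsCharacter G χ) {m : ℕ}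
    (hm : m.Coprime (Nat.card G)) : IsCharacter G (fun g => χ (g ^ m)) := by
  obtain ⟨u, hu⟩ := exists_ringEquiv_pow Nat.card_pos.ne' hm
  have := h.map_ringHom u
  simpa only [h.map_apply_eq_pow (u : ℂ →+* ℂ) hu pow_card_eq_one'] using this

theorem Cfsg.IsIrrCharacter.pow_arg {χ : G → ℂ} (h : IsIrrCharacter G χ) {m : ℕ}
    (hm : m.Coprime (Nat.card G)) : IsIrrCharacter G (fun g => χ (g ^ m)) := by
  obtain ⟨u, hu⟩ := exists_ringEquiv_pow Nat.card_pos.ne' hm
  have := h.map_ringHom u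
  simpa only [h.isCharacter.map_apply_eq_pow (u : ℂ →+* ℂ) hu pow_card_eq_one'] using this

/-- If `θ` is constant on the generators of `⟨g⟩` then `θ g` is an integer. -/
theorem Cfsg.IsGeneralizedCharacter.exists_int_of_pow {θ : G → ℂ} (h : IsGeneralizedCharacter G θ)
    {g : G} {n : ℕ} (hn : n ≠ 0) (hg : g ^ n = 1)
    (hpow : ∀ m : ℕ, m.Coprime n → θ (g ^ m) = θ g) : ∃ k : ℤ, θ g = k := by
  refine exists_int_of_forall_ringEquiv (h.isIntegral g) fun u => ?_
  obtain ⟨m, hm, hu⟩ := exists_pow_of_ringHom (u : ℂ →+* ℂ) hn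
  exact (h.map_apply_eq_pow (u : ℂ →+* ℂ) hu hg).trans (hpow m hm)

/-- Values at rational elements are integers. -/
theorem Cfsg.IsGeneralizedCharacter.exists_int_of_isConj {θ : G → ℂ}
    (h : IsGeneralizedCharacter G θ) {g : G}
    (hpow : ∀ m : ℕ, m.Coprime (orderOf g) → IsConj g (g ^ m)) : ∃ k : ℤ, θ g = k :=
  h.exists_int_of_pow (orderOf_pos g).ne' (pow_orderOf_eq_one g) fun m hm =>
    (h.classFun.apply_of_isConj (hpow m hm)).symm

/-- Values at involutions are integers. -/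
theorem Cfsg.IsGeneralizedCharacter.exists_int_of_sq {θ : G → ℂ}
    (h : IsGeneralizedCharacter G θ) {g : G} (hg : g ^ 2 = 1) : ∃ k : ℤ, θ g = k :=
  h.exists_int_of_pow two_ne_zero hg fun m hm => by
    obtain ⟨k, rfl⟩ := (Nat.coprime_two_right.mp hm)
    rw [pow_succ, pow_mul, hg, one_pow, one_mul]

theorem Cfsg.IsGeneralizedCharacter.apply_pow_ne_zero {θ : G → ℂ}
    (h : IsGeneralizedCharacter G θ) {g : G} {n m : ℕ} (hn : n ≠ 0) (hg : g ^ n = 1)
    (hm : m.Coprime n) (h0 : θ g ≠ 0) : θ (g ^ m) ≠ 0 := by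
  obtain ⟨u, hu⟩ := exists_ringEquiv_pow hn hm
  rw [← h.map_apply_eq_pow (u : ℂ →+* ℂ) hu hg]
  simpa using h0

theorem card_le_sum_of_one_le_prod {ι : Type*} (s : Finset ι) (x : ι → ℝ) (hx : ∀ i ∈ s, 0 < x i)
    (h : 1 ≤ ∏ i ∈ s, x i) : (s.card : ℝ) ≤ ∑ i ∈ s, x i := by
  have h1 : ∑ i ∈ s, Real.log (x i) ≤ ∑ i ∈ s, (x i - 1) :=
    Finset.sum_le_sum fun i hi => Real.log_le_sub_one_of_pos (hx i hi)
  rw [← Real.log_prod (fun i hi => (hx i hi).ne'), Finset.sum_sub_distrib] at h1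
  have h2 := Real.log_nonneg h
  simp at h1
  linarith

/-- Isaacs 3.14: the mean of `|θ|²` over the generators of a cyclic subgroup is at least `1`
unless `θ` vanishes there. -/
theorem Cfsg.IsGeneralizedCharacter.totient_le_sum_norm_sq {θ : G → ℂ}
    (h : IsGeneralizedCharacter G θ) {g : G} {n : ℕ} [NeZero n] (hg : g ^ n = 1) (h0 : θ g ≠ 0) :
    (Nat.totient n : ℝ) ≤ ∑ a : (ZMod n)ˣ, ‖θ (g ^ (a : ZMod n).val)‖ ^ 2 := by
  have hn : n ≠ 0 := NeZero.ne n
  have hne : ∀ a : (ZMod n)ˣ, θ (g ^ (a : ZMod n).val) ≠ 0 := fun a =>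
    h.apply_pow_ne_zero hn hg (ZMod.val_coe_unit_coprime a) h0
  obtain ⟨k, hk⟩ := exists_int_of_forall_ringEquiv
    (x := ∏ a : (ZMod n)ˣ, θ (g ^ (a : ZMod n).val))
    (IsIntegral.prod _ fun a _ => h.isIntegral _) (fun u => by
      obtain ⟨m, hm, hu⟩ := exists_pow_of_ringHom (u : ℂ →+* ℂ) hn
      rw [map_prod]
      refine Fintype.prod_equiv (Equiv.mulRight (ZMod.unitOfCoprime m hm)) _ _ fun a => ?_
      have := h.map_apply_eq_pow (u : ℂ →+* ℂ) hu (g := g ^ (a : ZMod n).val)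
        (by rw [← pow_mul, mul_comm, pow_mul, hg, one_pow])
      refine this.trans ?_
      rw [← pow_mul, Equiv.coe_mulRight, Units.val_mul, ZMod.coe_unitOfCoprime, ZMod.val_mul,
        ZMod.val_natCast, ← pow_eq_pow_mod _ hg, pow_mul, pow_mul,
        ← pow_eq_pow_mod m (by rw [← pow_mul, mul_comm, pow_mul, hg, one_pow])])
  have hk0 : k ≠ 0 := by
    rintro rfl
    exact Finset.prod_ne_zero_iff.mpr (fun a _ => hne a) (by simpa using hk)
  have h1 : (1 : ℝ) ≤ ∏ a : (ZMod n)ˣ, ‖θ (g ^ (a : ZMod n).val)‖ ^ 2 := by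
    rw [Finset.prod_pow, ← norm_prod, hk, Complex.norm_intCast, sq_abs]
    have : (1 : ℤ) ≤ k ^ 2 := by nlinarith [sq_pos_of_ne_zero hk0, Int.one_le_abs hk0]
    exact_mod_cast this
  have := card_le_sum_of_one_le_prod Finset.univ _ (fun a _ => by have := hne a; positivity) h1
  rwa [Finset.card_univ, ZMod.card_units_eq_totient] at this

/-- Mean-value bound on a Galois-stable set: if `S` is stable under coprime powers and `θ` has no
zero on `S`, then `∑_{g ∈ S} |θ g|² ≥ |S|`. -/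
theorem Cfsg.IsGeneralizedCharacter.card_le_sum_norm_sq {θ : G → ℂ}
    (h : IsGeneralizedCharacter G θ) (S : Finset G)
    (hS : ∀ g ∈ S, ∀ m : ℕ, m.Coprime (Nat.card G) → g ^ m ∈ S) (h0 : ∀ g ∈ S, θ g ≠ 0) :
    (S.card : ℝ) ≤ ∑ g ∈ S, ‖θ g‖ ^ 2 := by
  classical
  have : NeZero (Nat.card G) := ⟨Nat.card_pos.ne'⟩
  have h1 : ∑ g ∈ S, (Nat.totient (Nat.card G) : ℝ) ≤
      ∑ g ∈ S, ∑ a : (ZMod (Nat.card G))ˣ, ‖θ (g ^ (a : ZMod (Nat.card G)).val)‖ ^ 2 :=
    Finset.sum_le_sum fun g hg => h.totient_le_sum_norm_sq pow_card_eq_one' (h0 g hg)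
  rw [Finset.sum_comm] at h1
  have h2 : ∀ a : (ZMod (Nat.card G))ˣ,
      ∑ g ∈ S, ‖θ (g ^ (a : ZMod (Nat.card G)).val)‖ ^ 2 = ∑ g ∈ S, ‖θ g‖ ^ 2 := by
    intro a
    have hc := ZMod.val_coe_unit_coprime a
    have hinj : Function.Injective (fun g : G => g ^ (a : ZMod (Nat.card G)).val) :=
      (powCoprime hc.symm).injective
    have himg : S.image (fun g : G => g ^ (a : ZMod (Nat.card G)).val) = S :=
      Finset.eq_of_subset_of_card_le (fun x hx => by
        obtain ⟨g, hg, rfl⟩ := Finset.mem_image.mp hx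
        exact hS g hg _ hc) (by rw [Finset.card_image_of_injective _ hinj])
    conv_rhs => rw [← himg, Finset.sum_image (fun x _ y _ hxy => hinj hxy)]
  simp only [h2, Finset.sum_const, Finset.card_univ, ZMod.card_units_eq_totient, nsmul_eq_mul] at h1
  have h3 : (0 : ℝ) < Nat.totient (Nat.card G) := by
    exact_mod_cast Nat.totient_pos.mpr Nat.card_pos
  nlinarith

/-- Burnside: a nonlinear irreducible character has a zero. -/
theorem Cfsg.IsIrrCharacter.exists_eq_zero {χ : G → ℂ} (hχ : IsIrrCharacter G χ)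
    (h1 : χ 1 ≠ 1) : ∃ g : G, χ g = 0 := by
  classical
  have := Fintype.ofFinite G
  by_contra hc
  push Not at hc
  have h2 := hχ.isGen.card_le_sum_norm_sq (Finset.univ.erase 1) (fun g hg m hm => by
    rw [Finset.mem_erase] at hg ⊢
    refine ⟨fun h => hg.1 ((powCoprime hm.symm).injective (by simpa using h)),
      Finset.mem_univ _⟩) (fun g _ => hc g)
  have h3 := classInner_self_re χ
  rw [hχ.inner_self, ← Finset.add_sum_erase _ _ (Finset.mem_univ 1)] at h3
  obtain ⟨d, hd0, hd⟩ := hχ.exists_nat_apply_one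
  have hd2 : 2 ≤ d := by
    have : d ≠ 1 := by rintro rfl; exact h1 (by simpa using hd)
    omega
  have hG : (0 : ℝ) < Nat.card G := by exact_mod_cast Nat.card_pos
  rw [Finset.card_erase_of_mem (Finset.mem_univ _), Finset.card_univ,
    Nat.cast_sub Fintype.card_pos, ← Nat.card_eq_fintype_card] at h2
  rw [hd, Complex.norm_natCast, Complex.one_re, eq_inv_mul_iff_mul_eq₀ hG.ne'] at h3
  have : (2 : ℝ) ≤ d := by exact_mod_cast hd2
  rw [Nat.cast_one] at h2
  nlinarith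

end Char

end H4
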