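import Mathlib
import Cfsg.Prelude.Def_Characters
import Cfsg.Agent.H4.Central

/-!
# Symmetric and alternating squares, the Frobenius–Schur indicator, real characters
-/

set_option autoImplicit false

open Cfsg Module
open scoped ComplexConjugate TensorProduct

namespace H4
open H4

variable {G : Type*} [Group G]

/-- Eigenspace characters of an involution commuting with a representation. -/
theorem isCharacter_half_add_trace [Finite G] {W : Type*} [AddCommGroup W] [Module ℂ W]
    [FiniteDimensional ℂ W] (σ : Representation ℂ G W) (τ : Module.End ℂ W) (hτ : τ * τ = 1)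
    (hc : ∀ g, σ g * τ = τ * σ g) :
    IsCharacter G (fun g => (σ.character g + LinearMap.trace ℂ W (σ g * τ)) / 2) := by
  have := Fintype.ofFinite G
  let T : ℤˣ →* Module.End ℂ W :=
    { toFun := fun u => if u = 1 then 1 else τ
      map_one' := by simp
      map_mul' := fun u v => by
        rcases Int.units_eq_one_or u with rfl | rfl <;> rcases Int.units_eq_one_or v with rfl | rfl <;>
          simp [hτ] }
  let Ψ : Representation ℂ (G × ℤˣ) W := MonoidHom.noncommCoprod σ T fun g u => by
    rcases Int.units_eq_one_or u with rfl | rfl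
    · simp
    · simpa [T, Commute, SemiconjBy] using hc g
  have h1 : ∀ g, Ψ.character (g, 1) = σ.character g := fun g => by
    simp [Ψ, Representation.character]
  have h2 : ∀ g, Ψ.character (g, -1) = LinearMap.trace ℂ W (σ g * τ) := fun g => by
    simp [Ψ, T, Representation.character]
  have hΨ := isCharacter_of_rep Ψ
  simp only [← h1, ← h2]
  refine H4.Cfsg.IsClassFunction.isCharacter_of_inner_nat (fun g x => ?_) fun χ hχ => ?_
  · have a1 := hΨ.classFun (g, 1) (x, 1)
    have a2 := hΨ.classFun (g, -1) (x, 1)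
    simp only [Prod.mk_mul_mk, Prod.inv_mk, one_mul, inv_one, mul_one] at a1 a2
    simp only [a1, a2]
  · obtain ⟨n, hn⟩ := hΨ.inner_nat (hχ.isCharacter.comp (MonoidHom.fst G ℤˣ))
    refine ⟨n, ?_⟩
    rw [← hn, classInner, classInner, Fintype.sum_prod_type, Nat.card_prod,
      Nat.card_eq_fintype_card (α := ℤˣ), Fintype.card_units_int]
    simp only [UnitsInt.univ, MonoidHom.coe_fst]
    simp only [Finset.sum_insert (show (1 : ℤˣ) ∉ ({-1} : Finset ℤˣ) by decide),
      Finset.sum_singleton]
    push_cast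
    rw [mul_inv, mul_assoc, Finset.mul_sum (a := (2 : ℂ)⁻¹)]
    congr 1
    exact Finset.sum_congr rfl fun g _ => by ring

theorem isCharacter_half_sub_trace [Finite G] {W : Type*} [AddCommGroup W] [Module ℂ W]
    [FiniteDimensional ℂ W] (σ : Representation ℂ G W) (τ : Module.End ℂ W) (hτ : τ * τ = 1)
    (hc : ∀ g, σ g * τ = τ * σ g) :
    IsCharacter G (fun g => (σ.character g - LinearMap.trace ℂ W (σ g * τ)) / 2) := by
  have := isCharacter_half_add_trace σ (-τ) (by simp [hτ]) (fun g => by simp [hc g])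
  simpa only [mul_neg, map_neg, ← sub_eq_add_neg] using this

theorem trace_map_mul_comm {V : Type*} [AddCommGroup V] [Module ℂ V] [FiniteDimensional ℂ V]
    (A : Module.End ℂ V) :
    LinearMap.trace ℂ (V ⊗[ℂ] V) (TensorProduct.map A A * (TensorProduct.comm ℂ V V).toLinearMap) =
      LinearMap.trace ℂ V (A * A) := by
  classical
  let b := Module.finBasis ℂ V
  rw [LinearMap.trace_eq_matrix_trace ℂ (b.tensorProduct b), LinearMap.trace_eq_matrix_trace ℂ b,
    LinearMap.toMatrix_mul, LinearMap.toMatrix_mul, Matrix.trace, Matrix.trace,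
    Fintype.sum_prod_type]
  refine Finset.sum_congr rfl fun i _ => ?_
  rw [Matrix.diag_apply, Matrix.mul_apply]
  refine Finset.sum_congr rfl fun j _ => ?_
  rw [Matrix.diag_apply, ← LinearMap.toMatrix_mul, LinearMap.toMatrix_apply]
  simp [LinearMap.toMatrix_apply, mul_comm]

/-- The symmetric square of a character. -/
theorem Cfsg.IsCharacter.symSq [Finite G] {χ : G → ℂ} (hχ : IsCharacter G χ) :
    IsCharacter G (fun g => (χ g ^ 2 + χ (g * g)) / 2) := by
  obtain ⟨n, ρ, rfl⟩ := hχ
  have := isCharacter_half_add_trace (ρ.tprod ρ) (TensorProduct.comm ℂ _ _).toLinearMap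
    (by ext; simp) (fun g => by ext; simp)
  simp only [Representation.char_tensor, Representation.tprod_apply, trace_map_mul_comm,
    Pi.mul_apply, ← map_mul, ← sq (ρ.character _)] at this
  exact this

/-- The alternating square of a character. -/
theorem Cfsg.IsCharacter.altSq [Finite G] {χ : G → ℂ} (hχ : IsCharacter G χ) :
    IsCharacter G (fun g => (χ g ^ 2 - χ (g * g)) / 2) := by
  obtain ⟨n, ρ, rfl⟩ := hχ
  have := isCharacter_half_sub_trace (ρ.tprod ρ) (TensorProduct.comm ℂ _ _).toLinearMap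
    (by ext; simp) (fun g => by ext; simp)
  simp only [Representation.char_tensor, Representation.tprod_apply, trace_map_mul_comm,
    Pi.mul_apply, ← map_mul, ← sq (ρ.character _)] at this
  exact this

/-- `g ↦ θ (g * g)` is a generalized character. -/
theorem Cfsg.IsGeneralizedCharacter.sq_arg [Finite G] {θ : G → ℂ}
    (h : IsGeneralizedCharacter G θ) : IsGeneralizedCharacter G (fun g => θ (g * g)) := by
  obtain ⟨χ, ψ, hχ, hψ, rfl⟩ := h
  have := (hχ.symSq.isGen.sub hχ.altSq.isGen).sub (hψ.symSq.isGen.sub hψ.altSq.isGen)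
  convert this using 1
  ext g; simp; ring

/-- The Frobenius–Schur indicator. -/
noncomputable def fsInd [Fintype G] (χ : G → ℂ) : ℂ := (Nat.card G : ℂ)⁻¹ * ∑ s : G, χ (s * s)

theorem fsInd_eq_classInner [Fintype G] (χ : G → ℂ) :
    fsInd χ = classInner (fun s => χ (s * s)) (fun _ => 1) := by simp [fsInd, classInner]

omit [Group G] in
theorem isReal_iff_conj_eq {χ : G → ℂ} :
    (∀ g, (χ g).im = 0) ↔ (fun g => conj (χ g)) = χ := by
  simp only [funext_iff, Complex.conj_eq_iff_im]

theorem Cfsg.IsIrrCharacter.fsInd_spec [Fintype G] {χ : G → ℂ} (hχ : IsIrrCharacter G χ) :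
    ((∀ g, (χ g).im = 0) → fsInd χ = 1 ∨ fsInd χ = -1) ∧
      (¬ (∀ g, (χ g).im = 0) → fsInd χ = 0) := by
  classical
  obtain ⟨s, hs⟩ := hχ.isCharacter.symSq.inner_nat isCharacter_one
  obtain ⟨a, ha⟩ := hχ.isCharacter.altSq.inner_nat isCharacter_one
  have h1 : fsInd χ = s - a := by
    rw [← hs, ← ha, ← classInner_sub_left, fsInd_eq_classInner]
    congr 1; ext g; simp; ring
  have h2 : classInner χ (fun g => conj (χ g)) = s + a := by
    rw [← hs, ← ha, ← classInner_add_left, classInner, classInner]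
    congr 1
    exact Finset.sum_congr rfl fun g _ => by simp; ring
  rw [hχ.inner_eq_ite hχ.conj] at h2
  rw [isReal_iff_conj_eq, h1]
  constructor
  · intro h
    rw [if_pos h.symm] at h2
    have : s + a = 1 := by exact_mod_cast h2.symm
    rcases Nat.add_eq_one_iff.mp this with ⟨rfl, rfl⟩ | ⟨rfl, rfl⟩ <;> simp
  · intro h
    rw [if_neg (Ne.symm h)] at h2
    have : s + a = 0 := by exact_mod_cast h2.symm
    obtain ⟨rfl, rfl⟩ := Nat.add_eq_zero_iff.mp this
    simp

theorem Cfsg.IsIrrCharacter.fsInd_trichotomy [Fintype G] {χ : G → ℂ} (hχ : IsIrrCharacter G χ) :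
    fsInd χ = 0 ∨ fsInd χ = 1 ∨ fsInd χ = -1 := by
  by_cases h : ∀ g, (χ g).im = 0
  · exact Or.inr (hχ.fsInd_spec.1 h)
  · exact Or.inl (hχ.fsInd_spec.2 h)

theorem Cfsg.IsIrrCharacter.fsInd_eq_zero_iff [Fintype G] {χ : G → ℂ} (hχ : IsIrrCharacter G χ) :
    fsInd χ = 0 ↔ ∃ g, (χ g).im ≠ 0 := by
  constructor
  · intro h0
    by_contra hc
    push Not at hc
    rcases hχ.fsInd_spec.1 hc with h | h <;> rw [h0] at h <;> simp at h
  · rintro ⟨g, hg⟩
    exact hχ.fsInd_spec.2 fun h => hg (h g)

theorem Cfsg.IsIrrCharacter.conj_fsInd [Fintype G] {χ : G → ℂ} (hχ : IsIrrCharacter G χ) :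
    (starRingEnd ℂ) (fsInd χ) = fsInd χ := by
  rcases hχ.fsInd_trichotomy with h | h | h <;> simp [h]

theorem sum_comp_eq_sum_card_fiber {X Y M : Type*} [Fintype X] [Fintype Y] [AddCommMonoid M]
    (f : X → Y) (F : Y → M) : ∑ x, F (f x) = ∑ y, Nat.card {x // f x = y} • F y := by
  classical
  rw [← Finset.sum_fiberwise (s := Finset.univ) (g := f)]
  refine Finset.sum_congr rfl fun g _ => ?_
  rw [Finset.sum_congr rfl (g := fun _ => F g) (fun x hx => by
    rw [(Finset.mem_filter.mp hx).2]), Finset.sum_const, Nat.card_eq_fintype_card,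
    Fintype.card_subtype]

/-- The number of square roots of `g`. -/
theorem card_sqrt_eq_sum [Fintype G] (g : G) :
    (Nat.card {s : G // s * s = g} : ℂ) = ∑ χ : IrrCharacter G, fsInd (χ : G → ℂ) * (χ : G → ℂ) g := by
  have hcl : IsClassFunction G (fun g => (Nat.card {s : G // s * s = g} : ℂ)) := by
    intro g y
    simp only [Nat.cast_inj]
    exact Nat.card_congr
      { toFun := fun x => ⟨y⁻¹ * x.1 * y, by
          calc y⁻¹ * x.1 * y * (y⁻¹ * x.1 * y) = y⁻¹ * (x.1 * x.1) * y := by group
            _ = g := by rw [x.2]; group⟩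
        invFun := fun x => ⟨y * x.1 * y⁻¹, by
          calc y * x.1 * y⁻¹ * (y * x.1 * y⁻¹) = y * (x.1 * x.1) * y⁻¹ := by group
            _ = _ := by rw [x.2]⟩
        left_inv := fun x => by simp [mul_assoc]
        right_inv := fun y => by simp [mul_assoc] }
  rw [hcl.apply_eq_sum g]
  refine Finset.sum_congr rfl fun χ _ => ?_
  congr 1
  rw [← χ.2.conj_fsInd, fsInd, classInner, map_mul, map_inv₀, map_natCast, map_sum,
    sum_comp_eq_sum_card_fiber (fun s : G => s * s) (fun g => conj ((χ : G → ℂ) g))]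
  simp

/-- A form of Brauer's permutation lemma. -/
theorem card_irr_fixed_eq [Finite G] (f : G → G)
    (hf : ∀ χ : G → ℂ, IsIrrCharacter G χ → IsIrrCharacter G (fun g => χ (f g)))
    (P : ConjClasses G → Prop) (hP : ∀ g, P (ConjClasses.mk g) ↔ IsConj (f g) g) :
    Nat.card {χ : IrrCharacter G // (fun g => (χ : G → ℂ) (f g)) = χ} =
      Nat.card {C : ConjClasses G // P C} := by
  classical
  have := Fintype.ofFinite G
  have := Fintype.ofFinite (ConjClasses G)
  have h1 := sum_card_centralizer_mul (G := G) (fun C => if P C then 1 else 0)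
  have h2 : ∀ g : G, (Nat.card (Subgroup.centralizer ({g} : Set G)) : ℂ) *
      (if P (ConjClasses.mk g) then 1 else 0) =
      ∑ χ : IrrCharacter G, (χ : G → ℂ) (f g) * conj ((χ : G → ℂ) g) := by
    intro g
    split_ifs with h
    · rw [column_orth_of_isConj ((hP g).mp h), mul_one, card_centralizer_of_isConj ((hP g).mp h)]
    · rw [column_orth_of_not_isConj (fun h' => h ((hP g).mpr h')), mul_zero]
  simp only [h2] at h1
  rw [Finset.sum_comm] at h1
  simp only [← card_mul_classInner (fun g => _), ← Finset.mul_sum,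
    fun χ : IrrCharacter G => (hf χ χ.2).inner_eq_ite χ.2] at h1
  have h3 := mul_left_cancel₀ (card_ne_zero G) h1
  simp only [Finset.sum_boole, Nat.cast_inj] at h3
  rw [Nat.card_eq_fintype_card, Nat.card_eq_fintype_card, Fintype.card_subtype,
    Fintype.card_subtype]
  convert h3

theorem card_real_irr_eq [Finite G] :
    Nat.card {χ : IrrCharacter G // ∀ g : G, ((χ : G → ℂ) g).im = 0} =
      Nat.card {C : ConjClasses G // ∀ g : G, ConjClasses.mk g = C → IsConj g g⁻¹} := by
  rw [← card_irr_fixed_eq (fun g => g⁻¹) (fun χ hχ => hχ.inv)]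
  · refine Nat.card_congr (Equiv.subtypeEquivRight fun χ => ?_)
    rw [isReal_iff_conj_eq]
    simp only [χ.2.apply_inv]
  · intro g
    refine ⟨fun h => (h g rfl).symm, fun h x hx => ?_⟩
    have h1 := ConjClasses.mk_eq_mk_iff_isConj.mp hx
    refine (h1.trans h.symm).trans ?_
    obtain ⟨c, rfl⟩ := isConj_iff.mp h1
    exact isConj_iff.mpr ⟨c⁻¹, by group⟩

theorem Cfsg.IsIrrCharacter.eq_one_of_real_of_odd [Finite G] (hodd : Odd (Nat.card G))
    {χ : G → ℂ} (hχ : IsIrrCharacter G χ) (hreal : ∀ g : G, (χ g).im = 0) :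
    χ = fun _ => 1 := by
  have := Fintype.ofFinite G
  refine hχ.eq_of_inner_ne_zero isIrrCharacter_one fun h => ?_
  have h1 : fsInd χ = classInner χ (fun _ => 1) := by
    rw [fsInd_eq_classInner]
    have := classInner_comp_equiv (powCoprime (G := G) (n := 2) hodd.coprime_two_right) χ
      (fun _ => 1)
    simpa [sq] using this
  rcases hχ.fsInd_spec.1 hreal with h2 | h2 <;> rw [h1, h] at h2 <;> simp at h2

theorem Cfsg.IsIrrCharacter.conj_ne_of_odd [Finite G] (hodd : Odd (Nat.card G))
    {χ : G → ℂ} (hχ : IsIrrCharacter G χ) (h1 : χ ≠ fun _ => 1) :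
    (fun g => (starRingEnd ℂ) (χ g)) ≠ χ :=
  fun h => h1 (hχ.eq_one_of_real_of_odd hodd (isReal_iff_conj_eq.mpr h))

theorem card_modEq_card_conjClasses_of_odd [Finite G] (hodd : Odd (Nat.card G)) :
    Nat.card G ≡ Nat.card (ConjClasses G) [MOD 16] := by
  classical
  choose d hd0 hd using fun χ : IrrCharacter G => χ.2.exists_nat_apply_one
  have h1 : ∑ χ : IrrCharacter G, d χ ^ 2 = Nat.card G := by
    have := sum_degree_sq (G := G)
    simp only [hd] at this
    exact_mod_cast this
  have h2 : ∑ χ : IrrCharacter G, ((d χ : ZMod 16) ^ 2 - 1) = 0 := by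
    refine Finset.sum_involution (fun χ _ => (⟨_, χ.2.conj⟩ : IrrCharacter G)) (fun χ _ => ?_)
      (fun χ _ hne h => ?_) (fun _ _ => Finset.mem_univ _) (fun χ _ => by ext; simp)
    · have e : d ⟨_, χ.2.conj⟩ = d χ := by
        have := hd ⟨_, χ.2.conj⟩
        simp only [hd χ, map_natCast, Nat.cast_inj] at this
        exact this.symm
      rw [e]
      obtain ⟨k, hk⟩ := hodd.of_dvd_nat (χ.2.degree_dvd_card (hd χ))
      rw [hk]
      push_cast
      generalize (k : ZMod 16) = x
      revert x; decide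
    · have := χ.2.eq_one_of_real_of_odd hodd (isReal_iff_conj_eq.mpr (congrArg Subtype.val h))
      have h3 := hd χ
      rw [this] at h3
      have h4 : d χ = 1 := by exact_mod_cast (show ((d χ : ℕ) : ℂ) = 1 from h3.symm)
      simp [h4] at hne
  rw [← card_irr_eq_card_conjClasses, ← ZMod.natCast_eq_natCast_iff, ← h1]
  rw [Finset.sum_sub_distrib, sub_eq_zero] at h2
  simpa using h2

end H4
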