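import Mathlib
import Cfsg.Prelude.Def_Characters
import Cfsg.Agent.H4.Central
import Cfsg.Agent.H4.Induce
import Cfsg.Agent.H4.Real

/-!
# Miscellaneous classical applications of character theory
-/

set_option autoImplicit false

open Cfsg Module
open scoped ComplexConjugate

namespace H4
open H4

section Embed

universe v w

variable {G : Type*} [Group G] [Finite G]

/-- If `χ_σ - χ_ρ` is a character then `ρ` embeds into `σ`. -/
theorem exists_injective_intertwining {V : Type v} [AddCommGroup V] [Module ℂ V]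
    [FiniteDimensional ℂ V] (ρ : Representation ℂ G V) :
    ∀ (W : Type w) [AddCommGroup W] [Module ℂ W] [FiniteDimensional ℂ W]
      (σ : Representation ℂ G W), IsCharacter G (σ.character - ρ.character) →
      ∃ f : ρ.IntertwiningMap σ, Function.Injective f := by
  have := Fintype.ofFinite G
  have : NeZero (Nat.card G : ℂ) := ⟨card_ne_zero G⟩
  refine rep_induction (k := ℂ) (G := G) (fun V _ _ _ ρ =>
    ∀ (W : Type w) [AddCommGroup W] [Module ℂ W] [FiniteDimensional ℂ W]
      (σ : Representation ℂ G W), IsCharacter G (σ.character - ρ.character) →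
      ∃ f : ρ.IntertwiningMap σ, Function.Injective f) ?_ ?_ ?_ V ρ
  · intro V _ _ _ _ ρ W _ _ _ σ _
    exact ⟨0, fun a b _ => Subsingleton.elim a b⟩
  · intro V _ _ _ ρ _ W _ _ _ σ h
    have h1 := rep_classInner_eq_finrank ρ σ
    have hρ := isIrrCharacter_of_rep ρ
    obtain ⟨n, hn⟩ := h.inner_nat hρ.isCharacter
    rw [classInner_sub_left, hρ.inner_self, h1, sub_eq_iff_eq_add] at hn
    have h2 : 0 < finrank ℂ (ρ.IntertwiningMap σ) := by
      have : finrank ℂ (ρ.IntertwiningMap σ) = n + 1 := by exact_mod_cast hn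
      omega
    have := Module.nontrivial_of_finrank_pos h2
    obtain ⟨f, hf⟩ := exists_ne (0 : ρ.IntertwiningMap σ)
    exact ⟨f, (Representation.IsIrreducible.injective_or_eq_zero f).resolve_right hf⟩
  · intro V _ _ _ ρ U U' hU ih ih' W _ _ _ σ h
    have e1 := rep_char_eq_add_of_isCompl ρ U U' hU
    obtain ⟨f, hf⟩ := ih W σ (by
      have := h.add (isCharacter_of_rep U'.toRepresentation)
      convert this using 1
      rw [e1]; abel)
    obtain ⟨T', hT⟩ := exists_isCompl f.range
    have e2 := rep_char_eq_add_of_isCompl σ _ T' hT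
    have e3 : U.toRepresentation.character = f.range.toRepresentation.character :=
      Representation.char_iso (Representation.Equiv.mk (LinearEquiv.ofInjective f.toLinearMap hf)
        fun g => by
          ext v
          exact f.isIntertwining _ _ g v)
    obtain ⟨f', hf'⟩ := ih' _ T'.toRepresentation (by
      convert h using 1
      rw [e1, e2, e3]; abel)
    let F : (U.toRepresentation.prod U'.toRepresentation).IntertwiningMap σ :=
      ⟨LinearMap.coprod f.toLinearMap (T'.toSubmodule.subtype ∘ₗ f'.toLinearMap), fun g => by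
        ext v
        · simpa using f.isIntertwining _ _ g v
        · have := congrArg Subtype.val (f'.isIntertwining _ _ g v)
          simp only [LinearMap.coe_comp, Function.comp_apply, LinearMap.coe_inr,
            Representation.prod_apply_apply, map_zero, LinearMap.coprod_apply, zero_add]
          exact this⟩
    have hF : Function.Injective F := by
      rw [injective_iff_map_eq_zero]
      rintro ⟨a, b⟩ hab
      have h1 : f a + (f' b : W) = 0 := hab
      have h2 : f a ∈ f.range.toSubmodule ⊓ T'.toSubmodule :=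
        ⟨⟨a, rfl⟩, by rw [eq_neg_of_add_eq_zero_left h1]; exact T'.toSubmodule.neg_mem (f' b).2⟩
      rw [(isCompl_toSubmodule hT).inf_eq_bot, Submodule.mem_bot] at h2
      rw [h2, zero_add] at h1
      have h3 : a = 0 := hf (by rw [h2, map_zero])
      have h4 : b = 0 := hf' (by rw [map_zero]; exact Subtype.ext h1)
      rw [h3, h4]; rfl
    let e := equivProdOfIsCompl ρ U U' (isCompl_toSubmodule hU)
    exact ⟨F.comp e.symm.toIntertwiningMap, hF.comp e.symm.injective⟩

theorem nonempty_equiv_of_character_eq {V W : Type*} [AddCommGroup V] [Module ℂ V]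
    [FiniteDimensional ℂ V] [AddCommGroup W] [Module ℂ W] [FiniteDimensional ℂ W]
    (ρ : Representation ℂ G V) (σ : Representation ℂ G W) (h : ρ.character = σ.character) :
    Nonempty (ρ.Equiv σ) := by
  obtain ⟨f, hf⟩ := exists_injective_intertwining ρ W σ (by rw [h, sub_self]; exact isCharacter_zero)
  have h1 : finrank ℂ V = finrank ℂ W := by
    have := congrFun h 1
    rw [ρ.char_one, σ.char_one] at this
    exact_mod_cast this
  exact ⟨f.ofBijective ⟨hf, (LinearMap.injective_iff_surjective_of_finrank_eq_finrank h1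
    (f := f.toLinearMap)).mp hf⟩⟩

end Embed

section Linear

variable {G : Type*} [Group G]

/-- Linear characters correspond to homomorphisms to `ℂˣ`. -/
noncomputable def linearEquivHom (G : Type*) [Group G] :
    (G →* ℂˣ) ≃ {χ : IrrCharacter G // (χ : G → ℂ) 1 = 1} :=
  Equiv.ofBijective (fun lam => ⟨⟨fun g => (lam g : ℂ), isIrrCharacter_linear lam⟩, by simp⟩)
    ⟨fun a b h => by
      ext g
      exact congrFun (congrArg (fun x => ((x.1 : IrrCharacter G) : G → ℂ)) h) g,
    fun χ => by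
      obtain ⟨lam, h⟩ := χ.1.2.isCharacter.exists_linear χ.2
      exact ⟨lam, Subtype.ext (Subtype.ext h.symm)⟩⟩

theorem card_monoidHom_units_eq_index [Finite G] : Nat.card (G →* ℂˣ) = (commutator G).index := by
  have : NeZero (Monoid.exponent (Abelianization G) : ℂ) :=
    ⟨by exact_mod_cast Monoid.exponent_ne_zero_of_finite⟩
  rw [Nat.card_congr (Abelianization.lift (G := G) (A := ℂˣ)),
    CommGroup.card_monoidHom_of_hasEnoughRootsOfUnity]
  rfl

theorem card_linear_eq_index [Finite G] :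
    Nat.card {χ : IrrCharacter G // (χ : G → ℂ) 1 = 1} = (commutator G).index := by
  rw [← Nat.card_congr (linearEquivHom G), card_monoidHom_units_eq_index]

theorem Cfsg.IsCharacter.apply_commutator_of_apply_one {χ : G → ℂ} (hχ : IsCharacter G χ)
    (h1 : χ 1 = 1) (a b : G) : χ (a * b * a⁻¹ * b⁻¹) = 1 := by
  obtain ⟨lam, rfl⟩ := hχ.exists_linear h1
  simp only [map_mul, map_inv, mul_comm (lam a) (lam b)]
  simp

theorem comm_iff_irr_linear [Finite G] :
    (∀ a b : G, a * b = b * a) ↔ ∀ χ : G → ℂ, IsIrrCharacter G χ → χ 1 = 1 := by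
  refine ⟨fun h χ hχ => hχ.apply_one_of_comm h, fun h a b => ?_⟩
  have : a * b * a⁻¹ * b⁻¹ = 1 := eq_one_of_forall_irr fun χ hχ => by
    rw [hχ.isCharacter.apply_commutator_of_apply_one (h χ hχ), h χ hχ]
  rw [mul_inv_eq_one, mul_inv_eq_iff_eq_mul] at this
  exact this

/-- If all irreducible constituents of `χ` are linear, commutators lie in the kernel. -/
theorem Cfsg.IsCharacter.apply_commutator_of_constituents [Fintype G] {χ : G → ℂ}
    (hχ : IsCharacter G χ)
    (h : ∀ ψ : G → ℂ, IsIrrCharacter G ψ → classInner χ ψ ≠ 0 → ψ 1 = 1) (a b : G) :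
    χ (a * b * a⁻¹ * b⁻¹) = χ 1 := by
  rw [hχ.classFun.apply_eq_sum, hχ.classFun.apply_eq_sum 1]
  refine Finset.sum_congr rfl fun ψ _ => ?_
  by_cases h0 : classInner χ ψ = 0
  · simp [h0]
  · rw [ψ.2.isCharacter.apply_commutator_of_apply_one (h ψ ψ.2 h0), h ψ ψ.2 h0]

theorem rep_comm_of_faithful_of_degree_lt [Finite G] {V : Type*} [AddCommGroup V] [Module ℂ V]
    [FiniteDimensional ℂ V] (ρ : Representation ℂ G V) (hfaithful : Function.Injective ρ)
    (hdeg : ∀ p : ℕ, p.Prime → p ∣ Nat.card G → finrank ℂ V < p) (a b : G) : a * b = b * a := by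
  have := Fintype.ofFinite G
  have hχ := isCharacter_of_rep ρ
  have h1 := hχ.apply_commutator_of_constituents (fun ψ hψ h0 => by
    obtain ⟨d, hd0, hd⟩ := hψ.exists_nat_apply_one
    have h2 := hχ.degree_le_of_inner_ne_zero hψ h0
    rw [hd, ρ.char_one, Complex.natCast_re, Complex.natCast_re, Nat.cast_le] at h2
    by_contra hne
    have h3 : d ≠ 1 := by rintro rfl; exact hne (by simpa using hd)
    have h4 := hdeg _ (Nat.minFac_prime h3) ((Nat.minFac_dvd d).trans (hψ.degree_dvd_card hd))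
    have h5 := Nat.minFac_le hd0
    omega) a b
  rw [ρ.char_one, rep_char_eq_iff] at h1
  have : a * b * a⁻¹ * b⁻¹ = 1 := hfaithful (by rw [h1, map_one]; rfl)
  rw [mul_inv_eq_one, mul_inv_eq_iff_eq_mul] at this
  exact this

theorem Cfsg.IsIrrCharacter.degree_le_index_of_comm [Finite G] {χ : G → ℂ}
    (hχ : IsIrrCharacter G χ) (A : Subgroup G) (hA : ∀ a ∈ A, ∀ b ∈ A, a * b = b * a) :
    (χ 1).re ≤ A.index := by
  have := Fintype.ofFinite G
  have := Fintype.ofFinite A
  obtain ⟨θ, hθ, h⟩ := hχ.exists_irr_below A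
  have h1 := hθ.apply_one_of_comm fun a b => Subtype.ext (hA a a.2 b b.2)
  have h2 := hθ.isCharacter.indFun.degree_le_of_inner_ne_zero hχ (by
    rw [classInner_indFun_left A θ hχ.classFun]
    exact fun h' => h (classInner_comm_of_eq_zero h'))
  rwa [indFun_apply_one, h1, mul_one, Complex.natCast_re] at h2

end Linear

section Prod

variable {G H : Type*} [Group G] [Group H]

theorem classInner_prod [Fintype G] [Fintype H] (φ φ' : G → ℂ) (ψ ψ' : H → ℂ) :
    classInner (fun x : G × H => φ x.1 * ψ x.2) (fun x => φ' x.1 * ψ' x.2) =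
      classInner φ φ' * classInner ψ ψ' := by
  simp only [classInner, Fintype.sum_prod_type, Nat.card_prod, Nat.cast_mul, mul_inv, map_mul]
  rw [mul_mul_mul_comm, Finset.sum_mul_sum]
  congr 1
  exact Finset.sum_congr rfl fun _ _ => Finset.sum_congr rfl fun _ _ => by ring

theorem Cfsg.IsCharacter.prod {φ : G → ℂ} {ψ : H → ℂ} (hφ : IsCharacter G φ)
    (hψ : IsCharacter H ψ) : IsCharacter (G × H) (fun x => φ x.1 * ψ x.2) :=
  (hφ.comp (MonoidHom.fst G H)).mul (hψ.comp (MonoidHom.snd G H))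

theorem Cfsg.IsIrrCharacter.prod [Finite G] [Finite H] {φ : G → ℂ} {ψ : H → ℂ}
    (hφ : IsIrrCharacter G φ) (hψ : IsIrrCharacter H ψ) :
    IsIrrCharacter (G × H) (fun x => φ x.1 * ψ x.2) := by
  have := Fintype.ofFinite G
  have := Fintype.ofFinite H
  refine (hφ.isCharacter.prod hψ.isCharacter).isIrr_of_inner_self ?_
  rw [classInner_prod, hφ.inner_self, hψ.inner_self, mul_one]

theorem Cfsg.IsIrrCharacter.exists_prod [Finite G] [Finite H] {θ : G × H → ℂ}
    (hθ : IsIrrCharacter (G × H) θ) : ∃ (φ : G → ℂ) (ψ : H → ℂ), IsIrrCharacter G φ ∧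
      IsIrrCharacter H ψ ∧ θ = fun x => φ x.1 * ψ x.2 := by
  classical
  have := Fintype.ofFinite G
  have := Fintype.ofFinite H
  by_contra hc
  push Not at hc
  have h1 : ∀ (φ : IrrCharacter G) (ψ : IrrCharacter H),
      ∑ x : G × H, θ x * conj ((φ : G → ℂ) x.1 * (ψ : H → ℂ) x.2) = 0 := by
    intro φ ψ
    rw [← card_mul_classInner θ (fun x => (φ : G → ℂ) x.1 * (ψ : H → ℂ) x.2),
      hθ.inner_of_ne (φ.2.prod ψ.2) (hc φ ψ φ.2 ψ.2), mul_zero]
  have h2 : ∑ φ : IrrCharacter G, ∑ ψ : IrrCharacter H, conj ((φ : G → ℂ) 1 * (ψ : H → ℂ) 1) *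
      ∑ x : G × H, θ x * conj ((φ : G → ℂ) x.1 * (ψ : H → ℂ) x.2) = 0 := by
    simp only [h1, mul_zero, Finset.sum_const_zero]
  have h3 : ∀ x : G × H, ∑ φ : IrrCharacter G, ∑ ψ : IrrCharacter H,
      conj ((φ : G → ℂ) 1 * (ψ : H → ℂ) 1) * (θ x * conj ((φ : G → ℂ) x.1 * (ψ : H → ℂ) x.2)) =
      if x = 1 then θ 1 * Nat.card G * Nat.card H else 0 := by
    intro x
    have e : ∀ (φ : IrrCharacter G) (ψ : IrrCharacter H),
        conj ((φ : G → ℂ) 1 * (ψ : H → ℂ) 1) * (θ x * conj ((φ : G → ℂ) x.1 * (ψ : H → ℂ) x.2)) =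
        θ x * conj (((φ : G → ℂ) 1 * (φ : G → ℂ) x.1) * ((ψ : H → ℂ) 1 * (ψ : H → ℂ) x.2)) := by
      intro φ ψ; simp only [map_mul]; ring
    simp only [e, ← Finset.mul_sum, ← map_sum, ← Finset.sum_mul, sum_degree_mul]
    obtain ⟨a, b⟩ := x
    by_cases ha : a = 1 <;> by_cases hb : b = 1 <;> simp [ha, hb, mul_assoc]
    rfl
  simp only [Finset.mul_sum] at h2
  simp_rw [Finset.sum_comm (s := (Finset.univ : Finset (IrrCharacter H)))
    (t := (Finset.univ : Finset (G × H)))] at h2
  rw [Finset.sum_comm] at h2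
  simp only [h3, Finset.sum_ite_eq', Finset.mem_univ, if_true] at h2
  exact mul_ne_zero (mul_ne_zero hθ.apply_one_ne_zero (card_ne_zero G)) (card_ne_zero H) h2

end Prod

section Other

variable {G : Type*} [Group G]

theorem card_commutator_eq_sum [Finite G] (g : G) :
    (Nat.card {p : G × G // p.1 * p.2 * p.1⁻¹ * p.2⁻¹ = g} : ℂ) =
      Nat.card G * ∑ χ : IrrCharacter G, (χ : G → ℂ) g / (χ : G → ℂ) 1 := by
  have := Fintype.ofFinite G
  have hcl : IsClassFunction G
      (fun g => (Nat.card {p : G × G // p.1 * p.2 * p.1⁻¹ * p.2⁻¹ = g} : ℂ)) := by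
    intro g y
    simp only [Nat.cast_inj]
    exact Nat.card_congr
      { toFun := fun x => ⟨(y⁻¹ * x.1.1 * y, y⁻¹ * x.1.2 * y), by
          calc _ = y⁻¹ * (x.1.1 * x.1.2 * x.1.1⁻¹ * x.1.2⁻¹) * y := by simp only []; group
            _ = g := by rw [x.2]; group⟩
        invFun := fun x => ⟨(y * x.1.1 * y⁻¹, y * x.1.2 * y⁻¹), by
          calc _ = y * (x.1.1 * x.1.2 * x.1.1⁻¹ * x.1.2⁻¹) * y⁻¹ := by simp only []; group
            _ = _ := by rw [x.2]⟩
        left_inv := fun x => by simp [mul_assoc]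
        right_inv := fun y => by simp [mul_assoc] }
  rw [hcl.apply_eq_sum g, Finset.mul_sum]
  refine Finset.sum_congr rfl fun χ _ => ?_
  have h1 := sum_comp_eq_sum_card_fiber (fun p : G × G => p.1 * p.2 * p.1⁻¹ * p.2⁻¹)
    (fun g => conj ((χ : G → ℂ) g))
  simp only [nsmul_eq_mul] at h1
  rw [classInner, ← h1, ← map_sum, Fintype.sum_prod_type_right]
  simp only [χ.2.sum_conj_mul]
  simp only [χ.2.apply_inv, mul_assoc, ← Finset.sum_div, ← Finset.mul_sum,
    ← card_mul_classInner, χ.2.inner_self, map_div₀, map_mul, map_natCast,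
    conj_apply_one χ.2.isCharacter, map_one]
  have := card_ne_zero G
  field_simp

theorem burnside_brauer [Fintype G] {χ : G → ℂ} (hfaithful : ∀ g, χ g = χ 1 → g = 1)
    {ψ : G → ℂ} (hψ : ψ 1 ≠ 0) :
    ∃ i : ℕ, i < Nat.card (Set.range χ) ∧ classInner (fun g => χ g ^ i) ψ ≠ 0 := by
  classical
  by_contra hc
  push Not at hc
  let S := (Finset.univ.image χ).erase (χ 1)
  let p : Polynomial ℂ := ∏ a ∈ S, (Polynomial.X - Polynomial.C a)
  have hcard : Nat.card (Set.range χ) = S.card + 1 := by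
    rw [Finset.card_erase_add_one (Finset.mem_image_of_mem _ (Finset.mem_univ _)),
      ← Nat.card_eq_finsetCard]
    exact Nat.card_congr (Equiv.setCongr (by simp))
  have hdeg : p.natDegree < Nat.card (Set.range χ) := by
    rw [hcard, Polynomial.natDegree_prod_of_monic _ _ fun a _ => Polynomial.monic_X_sub_C a]
    simp
  have h1 : classInner (fun g => p.eval (χ g)) ψ = 0 := by
    have : (fun g => p.eval (χ g)) = ∑ i ∈ Finset.range (Nat.card (Set.range χ)),
        p.coeff i • fun g => χ g ^ i := by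
      ext g
      rw [Polynomial.eval_eq_sum_range' hdeg, Finset.sum_apply]
      rfl
    rw [this, classInner_sum_left]
    exact Finset.sum_eq_zero fun i hi => by
      rw [classInner_smul_left, hc i (Finset.mem_range.mp hi), mul_zero]
  have h2 := card_mul_classInner (fun g => p.eval (χ g)) ψ
  rw [h1, mul_zero, Finset.sum_eq_single 1] at h2
  · refine mul_ne_zero ?_ (by simpa using hψ) h2.symm
    simp only [p, Polynomial.eval_prod, Polynomial.eval_sub, Polynomial.eval_X, Polynomial.eval_C]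
    exact Finset.prod_ne_zero_iff.mpr fun a ha => sub_ne_zero.mpr (Finset.mem_erase.mp ha).1.symm
  · intro g _ hg
    refine mul_eq_zero_of_left ?_ _
    simp only [p, Polynomial.eval_prod, Polynomial.eval_sub, Polynomial.eval_X, Polynomial.eval_C]
    exact Finset.prod_eq_zero (i := χ g) (Finset.mem_erase.mpr ⟨fun h => hg (hfaithful g h),
      Finset.mem_image_of_mem _ (Finset.mem_univ _)⟩) (sub_self _)
  · simp

/-- If the values of a character on a finite set sum to the maximum, the set lies in the kernel. -/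
theorem Cfsg.IsCharacter.apply_eq_of_sum_eq [Finite G] {χ : G → ℂ} (hχ : IsCharacter G χ)
    {ι : Type*} (s : Finset ι) (f : ι → G) (h : ∑ i ∈ s, χ (f i) = s.card * χ 1) :
    ∀ i ∈ s, χ (f i) = χ 1 := by
  obtain ⟨d, hd⟩ := hχ.exists_nat_apply_one
  have h1 : ∀ i ∈ s, (χ (f i)).re ≤ d := fun i _ => by
    have := (Complex.re_le_norm _).trans (hχ.norm_le (f i))
    rwa [hd, Complex.natCast_re] at this
  have h2 : ∑ i ∈ s, (χ (f i)).re = ∑ i ∈ s, (d : ℝ) := by
    rw [← Complex.re_sum, h, hd]; simp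
  intro i hi
  have h3 := (Finset.sum_eq_sum_iff_of_le h1).mp h2 i hi
  have h4 := hχ.norm_le (f i)
  rw [hd, Complex.natCast_re] at h4
  have h5 := Complex.sq_norm (χ (f i))
  rw [Complex.normSq_apply, h3] at h5
  have h6 : (χ (f i)).im = 0 := by
    have : ‖χ (f i)‖ ^ 2 ≤ d ^ 2 := by gcongr
    nlinarith [mul_self_nonneg (χ (f i)).im]
  rw [hd]
  exact Complex.ext (by simpa using h3) (by simpa using h6)

theorem Cfsg.IsIrrCharacter.eq_zero_of_fpf [Finite G] {χ : G → ℂ} (hχ : IsIrrCharacter G χ)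
    (H : Subgroup G) [hH : H.Normal] (hker : ∃ h ∈ H, χ h ≠ χ 1) {g : G}
    (hg : ∀ h ∈ H, h * g = g * h → h = 1) : χ g = 0 := by
  classical
  have := Fintype.ofFinite G
  have := Fintype.ofFinite H
  by_contra h0
  obtain ⟨h, hh, hne⟩ := hker
  have hcl : IsClassFunction G (extendByZero H fun _ => 1) := fun x y => by
    by_cases hx : x ∈ H
    · rw [extendByZero_of_mem _ _ hx, extendByZero_of_mem _ _ (hH.conj_mem x hx y)]
    · rw [extendByZero_of_not_mem _ _ hx, extendByZero_of_not_mem]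
      exact fun h' => hx (by simpa [mul_assoc] using hH.conj_mem _ h' y⁻¹)
  have h1 := hχ.sum_classFun_mul hcl g
  simp only [sum_extendByZero_mul, one_mul] at h1
  let φ : H → H := fun x => ⟨x * g * x⁻¹ * g⁻¹, by
    have := H.mul_mem x.2 (hH.conj_mem _ (H.inv_mem x.2) g)
    simpa [mul_assoc] using this⟩
  have hφ : Function.Bijective φ := by
    refine Finite.injective_iff_bijective.mp fun x y hxy => ?_
    have h2 : (x : G) * g * x⁻¹ * g⁻¹ = y * g * y⁻¹ * g⁻¹ := congrArg Subtype.val hxy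
    have h3 := hg ((y : G)⁻¹ * x) (H.mul_mem (H.inv_mem y.2) x.2) (by
      rw [mul_left_inj] at h2
      calc (y : G)⁻¹ * x * g = (y : G)⁻¹ * (x * g * x⁻¹) * x := by simp [mul_assoc]
        _ = _ := by rw [h2]; simp [mul_assoc])
    exact Subtype.ext (inv_mul_eq_one.mp h3).symm
  rw [← hφ.sum_comp (fun x : H => χ (x * g))] at h1
  have h4 : ∀ x : H, χ (φ x * g) = χ g := fun x => by
    have := hχ.classFun g x
    simpa [φ] using this
  simp only [h4, Finset.sum_const, nsmul_eq_mul] at h1
  have h5 := mul_right_cancel₀ h0 h1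
  rw [eq_div_iff hχ.apply_one_ne_zero] at h5
  exact hne (hχ.isCharacter.apply_eq_of_sum_eq Finset.univ (fun x : H => (x : G)) h5.symm ⟨h, hh⟩
    (Finset.mem_univ _))

/-- A character vanishing on the non-identity elements of a subgroup has degree divisible by its
order. -/
theorem Cfsg.IsCharacter.exists_degree_eq_card_mul [Finite G] {χ : G → ℂ} (hχ : IsCharacter G χ)
    (P : Subgroup G) (hvan : ∀ g ∈ P, g ≠ 1 → χ g = 0) : ∃ k : ℕ, χ 1 = (Nat.card P : ℂ) * k := by
  have := Fintype.ofFinite P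
  obtain ⟨k, hk⟩ := (hχ.restrict P).inner_nat isCharacter_one
  refine ⟨k, ?_⟩
  rw [← hk, card_mul_classInner, Finset.sum_eq_single 1]
  · simp
  · intro x _ hx
    rw [hvan x x.2 (by simpa using hx), zero_mul]
  · simp

theorem Cfsg.IsGeneralizedCharacter.exists_degree_eq_card_mul [Finite G] {χ : G → ℂ}
    (hχ : IsGeneralizedCharacter G χ) (P : Subgroup G) (hvan : ∀ g ∈ P, g ≠ 1 → χ g = 0) :
    ∃ k : ℤ, χ 1 = (Nat.card P : ℂ) * k := by
  have := Fintype.ofFinite P
  obtain ⟨k, hk⟩ := (hχ.restrict P).inner_int isGen_one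
  refine ⟨k, ?_⟩
  rw [← hk, card_mul_classInner, Finset.sum_eq_single 1]
  · simp
  · intro x _ hx
    rw [hvan x x.2 (by simpa using hx), zero_mul]
  · simp

theorem dvd_card_of_forall_index_stabilizer [Finite G] {X : Type*} [MulAction G X] [Finite X] {d : ℕ}
    (h : ∀ x : X, d ∣ (MulAction.stabilizer G x).index) : d ∣ Nat.card X := by
  have := Fintype.ofFinite (MulAction.orbitRel.Quotient G X)
  rw [Nat.card_congr (MulAction.selfEquivSigmaOrbitsQuotientStabilizer G X), Nat.card_sigma]
  exact Finset.dvd_sum fun ω _ => h _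

/-- A nonprincipal irreducible character of a simple group is faithful. -/
theorem rep_injective_of_simple [IsSimpleGroup G] {V : Type*} [AddCommGroup V] [Module ℂ V]
    [FiniteDimensional ℂ V] (ρ : Representation ℂ G V) [ρ.IsIrreducible]
    (h1 : ρ.character ≠ fun _ => 1) : Function.Injective ρ := by
  rw [← MonoidHom.ker_eq_bot_iff]
  refine (Subgroup.Normal.eq_bot_or_eq_top inferInstance).resolve_right fun h => h1 ?_
  exact rep_character_eq_one_of_trivial ρ fun x =>
    MonoidHom.mem_ker.mp (h ▸ Subgroup.mem_top x : x ∈ ρ.ker)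

theorem Cfsg.IsIrrCharacter.eq_one_of_forall_apply_eq [Finite G] {χ : G → ℂ}
    (hχ : IsIrrCharacter G χ) (h : ∀ g, χ g = χ 1) : χ = fun _ => 1 := by
  obtain ⟨n, ρ, hρ, rfl⟩ := hχ
  exact rep_character_eq_one_of_trivial ρ fun g => (rep_char_eq_iff ρ g).mp (by rw [h g, ρ.char_one])

theorem Cfsg.IsIrrCharacter.eq_one_of_apply_eq_of_simple [Finite G] [IsSimpleGroup G] {χ : G → ℂ}
    (hχ : IsIrrCharacter G χ) (h1 : χ ≠ fun _ => 1) {g : G} (hg : χ g = χ 1) : g = 1 := by
  obtain ⟨n, ρ, hρ, rfl⟩ := hχ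
  apply rep_injective_of_simple ρ h1
  rw [(rep_char_eq_iff ρ g).mp (by rw [hg, ρ.char_one]), map_one]; rfl

end Other

end H4
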