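import Mathlib
import Cfsg.Prelude.Def_Characters
import Cfsg.Agent.H4.Induce

/-!
# Exceptional characters
-/

set_option autoImplicit false

open Cfsg Module
open scoped ComplexConjugate

namespace H4
open H4

variable {G : Type*} [Group G] [Fintype G]

/-- The isometry lemma behind exceptional characters, for an arbitrary index type. -/
theorem exceptional_of_gram {ι : Type*} [DecidableEq ι] (i₀ : ι) (τ : ι → (G → ℂ)) (h0 : τ i₀ = 0)
    (hgen : ∀ i, IsGeneralizedCharacter G (τ i)) (hone : ∀ i, τ i 1 = 0)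
    (hgram : ∀ i j, i ≠ i₀ → j ≠ i₀ → classInner (τ i) (τ j) = if i = j then 2 else 1) :
    ∃ ε : ℂ, (ε = 1 ∨ ε = -1) ∧ ∃ μ : ι → (G → ℂ), (∀ i, IsIrrCharacter G (μ i)) ∧
      Function.Injective μ ∧ ∀ i, τ i = ε • (μ i - μ i₀) := by
  classical
  have key : ∀ (ε : ℂ) (γ : G → ℂ) (δ : {i // i ≠ i₀} → G → ℂ), IsIrrCharacter G γ →
      (∀ i, IsIrrCharacter G (δ i)) → (∀ i, δ i ≠ γ) → Function.Injective δ →
      (∀ i : {i // i ≠ i₀}, τ i = ε • (δ i - γ)) →
      ∃ μ : ι → (G → ℂ), (∀ i, IsIrrCharacter G (μ i)) ∧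
        Function.Injective μ ∧ ∀ i, τ i = ε • (μ i - μ i₀) := by
    intro ε γ δ hγ hδ hne hinj hτ
    refine ⟨fun i => if h : i = i₀ then γ else δ ⟨i, h⟩, fun i => ?_, fun i j hij => ?_,
      fun i => ?_⟩
    · by_cases h : i = i₀ <;> simp [h, hγ, hδ]
    · by_cases hi : i = i₀ <;> by_cases hj : j = i₀
      · rw [hi, hj]
      · simp only [hi, hj, dite_true, dite_false] at hij; exact absurd hij.symm (hne _)
      · simp only [hi, hj, dite_true, dite_false] at hij; exact absurd hij (hne _)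
      · simp only [hi, hj, dite_false] at hij; exact congrArg Subtype.val (hinj hij)
    · by_cases h : i = i₀
      · simp [h, h0]
      · simp only [h, dite_false, dite_true]; exact hτ ⟨i, h⟩
  choose α β hα hβ hαβ hτ using fun i : {i // i ≠ i₀} =>
    (hgen i).exists_sub_of_inner_self_two (by simpa using hgram i i i.2 i.2) (hone i)
  have hxor : ∀ i j : {i // i ≠ i₀}, i ≠ j → (α i = α j ∧ β i ≠ β j) ∨ (α i ≠ α j ∧ β i = β j) := by
    intro i j hij
    have h1 := hgram i j i.2 j.2
    rw [if_neg (fun h => hij (Subtype.ext h)), hτ i, hτ j, classInner_sub_left,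
      classInner_sub_right, classInner_sub_right, (hα i).inner_eq_ite (hα j),
      (hα i).inner_eq_ite (hβ j), (hβ i).inner_eq_ite (hα j), (hβ i).inner_eq_ite (hβ j)] at h1
    have a1 := hαβ i
    have a2 := hαβ j
    by_cases c1 : α i = α j <;> by_cases c2 : β i = β j
    · rw [if_pos c1, if_pos c2, if_neg (c1 ▸ a2), if_neg (c2 ▸ a2.symm)] at h1
      norm_num at h1
    · exact Or.inl ⟨c1, c2⟩
    · exact Or.inr ⟨c1, c2⟩
    · rw [if_neg c1, if_neg c2] at h1
      split_ifs at h1 <;> norm_num at h1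
  rcases isEmpty_or_nonempty {i // i ≠ i₀} with he | ⟨⟨k⟩⟩
  · exact ⟨1, Or.inl rfl, key 1 _ α isIrrCharacter_one hα (fun i => he.elim i)
      (fun i => he.elim i) (fun i => he.elim i)⟩
  have hor : ∀ i j : {i // i ≠ i₀}, α i = α j ∨ β i = β j := fun i j => by
    by_cases hij : i = j
    · left; rw [hij]
    · rcases hxor i j hij with h | h
      · exact Or.inl h.1
      · exact Or.inr h.2
  by_cases hA : ∀ i j, α i = α j
  · refine ⟨-1, Or.inr rfl, key (-1) (α k) β (hα k) hβ (fun i => ?_) (fun i j hij => ?_)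
      (fun i => ?_)⟩
    · rw [hA k i]; exact (hαβ i).symm
    · by_contra hne
      rcases hxor i j hne with h | h
      · exact h.2 hij
      · exact h.1 (hA i j)
    · rw [hτ i, hA k i]; simp
  · push Not at hA
    obtain ⟨i, j, hij⟩ := hA
    have hB : ∀ l, β l = β i := by
      intro l
      have b1 := (hor i j).resolve_left hij
      rcases hor l i with h | h
      · rw [b1]; exact (hor l j).resolve_left (h ▸ hij)
      · exact h
    refine ⟨1, Or.inl rfl, key 1 (β i) α (hβ i) hα (fun l => ?_) (fun l m hlm => ?_)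
      (fun l => ?_)⟩
    · rw [← hB l]; exact hαβ l
    · by_contra hne
      rcases hxor l m hne with h | h
      · exact h.2 ((hB l).trans (hB m).symm)
      · exact h.1 hlm
    · rw [hτ l, hB l]; simp

/-- Exceptional characters attached to a TI subset `T` with "normalizer" `H`: it suffices that the
differences `χ i - χ j` are supported on `T` and vanish at `1`. -/
theorem exceptional_characters_of_TI {ι : Type*} (i₀ : ι) (H : Subgroup G) (T : Set G)
    (hTI : ∀ g : G, g ∉ H → ∀ t ∈ T, g * t * g⁻¹ ∈ T → t = 1) (χ : ι → (H → ℂ))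
    (hirr : ∀ i, IsIrrCharacter H (χ i)) (hinj : Function.Injective χ)
    (hvan : ∀ i j, ∀ x : H, (x : G) ∉ T → χ i x = χ j x) (hdeg : ∀ i j, χ i 1 = χ j 1) :
    ∃ ε : ℂ, (ε = 1 ∨ ε = -1) ∧ ∃ θ : ι → (G → ℂ), (∀ i, IsIrrCharacter G (θ i)) ∧
      Function.Injective θ ∧ ∀ i j, indFun H (χ i) - indFun H (χ j) = ε • (θ i - θ j) := by
  classical
  have := Fintype.ofFinite H
  obtain ⟨ε, hε, θ, h1, h2, h3⟩ := exceptional_of_gram i₀ (fun i => indFun H (χ i - χ i₀))
    (by simp [indFun_zero]) (fun i => ((hirr i).isGen.sub (hirr i₀).isGen).indFun)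
    (fun i => by simp [indFun_apply_one, hdeg i i₀]) (fun i j hi hj => by
      rw [classInner_indFun_of_TI H T hTI ((hirr j).classFun.sub (hirr i₀).classFun)
        (fun x hx => by simp [hvan i i₀ x hx]) (fun x hx => by simp [hvan j i₀ x hx])
        (by simp [hdeg i i₀]), classInner_sub_left, classInner_sub_right, classInner_sub_right,
        (hirr i).inner_eq_ite (hirr j), (hirr i₀).inner_self,
        (hirr i).inner_of_ne (hirr i₀) (hinj.ne hi),
        (hirr i₀).inner_of_ne (hirr j) (hinj.ne hj.symm)]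
      simp only [hinj.eq_iff]
      split_ifs <;> norm_num)
  refine ⟨ε, hε, θ, h1, h2, fun i j => ?_⟩
  have e : indFun H (χ i) - indFun H (χ j) = indFun H (χ i - χ i₀) - indFun H (χ j - χ i₀) := by
    rw [indFun_sub, indFun_sub]; abel
  rw [e, h3 i, h3 j, ← smul_sub]
  congr 1; abel

end H4
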