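import Mathlib
import Cfsg.Prelude.Def_Characters
import Cfsg.Prelude.Def_Solvable
import Cfsg.Agent.H4.Induce
import Cfsg.Agent.H5.Kernel

/-!
# The Frobenius–Wielandt kernel theorem
-/

set_option autoImplicit false

open Cfsg Module
open scoped ComplexConjugate Pointwise

namespace H4
open H4 H5

variable {G : Type*} [Group G]

/-- A finite group is not the union of the conjugates of a proper subgroup. -/
theorem eq_top_of_forall_exists_conj_mem [Finite G] (L : Subgroup G)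
    (h : ∀ g : G, ∃ x : G, x * g * x⁻¹ ∈ L) : L = ⊤ := by
  classical
  have := Fintype.ofFinite G
  have h1 := classInner_fixedBy_one (G := G) (G ⧸ L)
  have h2 : Nat.card (MulAction.orbitRel.Quotient G (G ⧸ L)) = 1 := by
    have := (MulAction.pretransitive_iff_unique_quotient_of_nonempty G (G ⧸ L)).mp inferInstance
    obtain ⟨this⟩ := this
    exact Nat.card_unique
  have h3 := card_mul_classInner (fun g : G => (Nat.card (MulAction.fixedBy (G ⧸ L) g) : ℂ))
    (fun _ => 1)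
  rw [h1, h2] at h3
  simp only [Nat.cast_one, mul_one, map_one] at h3
  have h4 : Nat.card G = ∑ g : G, Nat.card (MulAction.fixedBy (G ⧸ L) g) := by exact_mod_cast h3
  have h5 : ∀ g : G, 1 ≤ Nat.card (MulAction.fixedBy (G ⧸ L) g) := by
    intro g
    obtain ⟨x, hx⟩ := h g
    have : Nonempty (MulAction.fixedBy (G ⧸ L) g) := ⟨⟨((x⁻¹ : G) : G ⧸ L), by
      rw [MulAction.mem_fixedBy, MulAction.Quotient.smul_mk, QuotientGroup.eq]
      have := L.inv_mem hx
      simpa [mul_assoc] using this⟩⟩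
    exact Nat.card_pos
  have h6 : ∑ g : G, 1 = ∑ g : G, Nat.card (MulAction.fixedBy (G ⧸ L) g) := by
    rw [← h4]; simp
  have h7 := (Finset.sum_eq_sum_iff_of_le (fun g _ => h5 g)).mp h6 1 (Finset.mem_univ _)
  rw [MulAction.fixedBy_one_eq_univ, Nat.card_congr (Equiv.Set.univ _)] at h7
  exact Subgroup.index_eq_one.mp h7.symm

/-- An element outside a normal subgroup is separated from it by an irreducible character. -/
theorem exists_irr_le_charKer_not_mem [Finite G] (N : Subgroup G) [N.Normal] {g : G}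
    (hg : g ∉ N) : ∃ χ : G → ℂ, IsIrrCharacter G χ ∧ N ≤ charKer χ ∧ χ g ≠ χ 1 := by
  by_contra hc
  push Not at hc
  apply hg
  rw [← QuotientGroup.eq_one_iff]
  refine eq_one_of_forall_irr fun χ hχ => ?_
  have h1 := hχ.comp_surjective (QuotientGroup.mk' N) (QuotientGroup.mk'_surjective N)
  have h2 := ker_le_charKer_comp (QuotientGroup.mk' N) χ
  rw [QuotientGroup.ker_mk'] at h2
  simpa using hc _ h1 h2

/-- Extension of characters in the Frobenius–Wielandt situation. -/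
theorem wielandt_extend [Fintype G] (H N : Subgroup G)
    (hTI : ∀ g : G, g ∉ H → ∀ x ∈ H, g * x * g⁻¹ ∈ H → x ∈ N)
    (hN : ∀ h ∈ H, ∀ n ∈ N, h * n * h⁻¹ ∈ N) {θ : H → ℂ} (hθ : IsIrrCharacter H θ)
    (hθN : ∀ x : H, (x : G) ∈ N → θ x = θ 1) :
    ∃ χ : G → ℂ, IsIrrCharacter G χ ∧ (∀ x : H, χ x = θ x) ∧
      ∀ g : G, (∀ x : G, x * g * x⁻¹ ∈ H → x * g * x⁻¹ ∈ N) → χ g = χ 1 := by
  have := Fintype.ofFinite H
  obtain ⟨d, hd0, hd⟩ := hθ.exists_nat_apply_one
  set ψ : H → ℂ := θ - (d : ℂ) • fun _ => 1 with hψ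
  have hψg : IsGeneralizedCharacter H ψ := hθ.isGen.sub (isGen_one.natCast_smul d)
  have hψN : ∀ x : H, (x : G) ∈ N → ψ x = 0 := fun x hx => by simp [hψ, hθN x hx, hd]
  have hT : ∀ g : G, g ∉ H → ∀ t ∈ (H : Set G) \ N, g * t * g⁻¹ ∈ (H : Set G) \ N → t = 1 :=
    fun g hg t ht ht' => absurd (hTI g hg t ht.1 ht'.1) ht.2
  have hψT : ∀ x : H, (x : G) ∉ (H : Set G) \ N → ψ x = 0 := fun x hx =>
    hψN x (by by_contra h; exact hx ⟨x.2, h⟩)
  have hvan : ∀ g : G, (∀ x : G, x * g * x⁻¹ ∈ H → x * g * x⁻¹ ∈ N) → indFun H ψ g = 0 := by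
    intro g hg
    refine indFun_eq_zero H ψ fun x hx => hψN x ?_
    obtain ⟨c, hc⟩ := isConj_iff.mp hx
    rw [← hc]; exact hg c (hc ▸ x.2)
  have hres : ∀ x : H, indFun H ψ x = ψ x := by
    intro x
    by_cases hx : (x : G) ∈ N
    · rw [hψN x hx]
      refine hvan _ fun y hy => ?_
      by_cases hyH : y ∈ H
      · exact hN y hyH _ hx
      · refine hTI y⁻¹ (fun h => hyH (by simpa using H.inv_mem h)) _ hy ?_
        simp [mul_assoc]
    · exact indFun_apply_of_TI H _ hT hψg.classFun hψT x ⟨x.2, hx⟩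
        (by rintro rfl; exact hx N.one_mem)
  set χ : G → ℂ := indFun H ψ + (d : ℂ) • fun _ => 1 with hχ
  have hχθ : ∀ x : H, χ x = θ x := fun x => by
    rw [hχ, Pi.add_apply, hres x]; simp [hψ]
  have hχ1 : χ 1 = d := by rw [← hd]; exact hχθ 1
  have hχg : IsGeneralizedCharacter G χ := hψg.indFun.add (isGen_one.natCast_smul d)
  refine ⟨χ, hχg.isIrr_of_inner_self ?_ (by rw [hχ1]; simp), hχθ, fun g hg => ?_⟩
  · have e1 : classInner (indFun H ψ) χ = classInner ψ θ := by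
      rw [classInner_indFun_left H ψ hχg.classFun, funext hχθ]
    have e2 : classInner (fun _ => 1) χ = classInner (fun _ => 1) θ := by
      rw [hχ, classInner_add_right, classInner_indFun_right H ψ (isClassFunction_const 1), hψ,
        classInner_sub_right, classInner_smul_right, classInner_smul_right, classInner_one_one,
        classInner_one_one]
      ring
    conv_lhs => rw [hχ, classInner_add_left, classInner_smul_left, ← hχ, e1, e2, hψ,
      classInner_sub_left, classInner_smul_left, hθ.inner_self]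
    ring
  · rw [hχ1]; simp [hχ, hvan g hg]

/-- The Frobenius–Wielandt theorem. -/
theorem frobenius_wielandt [Finite G] (H N : Subgroup G) (hNH : N ≤ H)
    (hTI : ∀ g : G, g ∉ H → ∀ x ∈ H, g * x * g⁻¹ ∈ H → x ∈ N)
    (hN : ∀ h ∈ H, ∀ n ∈ N, h * n * h⁻¹ ∈ N) :
    ∃ K : Subgroup G, K.Normal ∧
      (∀ g : G, g ∈ K ↔ ∀ x : G, x * g * x⁻¹ ∈ H → x * g * x⁻¹ ∈ N) ∧
      K ⊓ H = N ∧ K ⊔ H = ⊤ := by
  have := Fintype.ofFinite G
  choose χ hχ hχθ hχK using fun θ : {θ : H → ℂ // IsIrrCharacter H θ ∧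
    ∀ x : H, (x : G) ∈ N → θ x = θ 1} => wielandt_extend H N hTI hN θ.2.1 θ.2.2
  let K : Subgroup G := ⨅ θ, charKer (χ θ)
  have hKn : K.Normal := Subgroup.normal_iInf_normal fun θ => charKer_normal (hχ θ).classFun
  have hNn : (N.subgroupOf H).Normal := ⟨fun n hn h => hN h h.2 n hn⟩
  have hKH : ∀ x ∈ K, x ∈ H → x ∈ N := by
    intro x hxK hxH
    by_contra hxN
    obtain ⟨θ, hθ, h1, h2⟩ := exists_irr_le_charKer_not_mem (N.subgroupOf H) (g := ⟨x, hxH⟩) hxN
    have h3 := apply_of_mem_charKer (Subgroup.mem_iInf.mp hxK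
      ⟨θ, hθ, fun y hy => apply_of_mem_charKer (h1 hy)⟩)
    have h4 := hχθ ⟨θ, hθ, fun y hy => apply_of_mem_charKer (h1 hy)⟩
    exact h2 ((h4 ⟨x, hxH⟩).symm.trans (h3.trans (h4 1)))
  have hmem : ∀ g : G, g ∈ K ↔ ∀ x : G, x * g * x⁻¹ ∈ H → x * g * x⁻¹ ∈ N := by
    intro g
    refine ⟨fun hg x hx => hKH _ (hKn.conj_mem g hg x) hx, fun hg => ?_⟩
    exact Subgroup.mem_iInf.mpr fun θ => (mem_charKer_iff (hχ θ).isCharacter).mpr (hχK θ g hg)
  refine ⟨K, hKn, hmem, le_antisymm (fun x hx => hKH x hx.1 hx.2) fun n hn => ⟨?_, hNH hn⟩, ?_⟩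
  · refine (hmem n).mpr fun y hy => ?_
    by_cases hyH : y ∈ H
    · exact hN y hyH _ hn
    · refine hTI y⁻¹ (fun h => hyH (by simpa using H.inv_mem h)) _ hy ?_
      simpa [mul_assoc] using hNH hn
  · refine eq_top_of_forall_exists_conj_mem _ fun g => ?_
    by_cases hg : g ∈ K
    · exact ⟨1, Subgroup.mem_sup_left (by simpa using hg)⟩
    · rw [hmem] at hg
      push Not at hg
      obtain ⟨x, hx, -⟩ := hg
      exact ⟨x, Subgroup.mem_sup_right hx⟩

/-- Frobenius' theorem for a malnormal subgroup. -/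
theorem frobenius_kernel [Finite G] (H : Subgroup G)
    (hTI : ∀ g : G, g ∉ H → ∀ x ∈ H, g * x * g⁻¹ ∈ H → x = 1) :
    ∃ K : Subgroup G, K.Normal ∧ (∀ g : G, g ∈ K ↔ g = 1 ∨ ∀ x : G, x * g * x⁻¹ ∉ H) ∧
      K ⊓ H = ⊥ ∧ K ⊔ H = ⊤ ∧ Subgroup.IsComplement' K H := by
  obtain ⟨K, hK, h1, h2, h3⟩ := frobenius_wielandt H ⊥ bot_le
    (fun g hg x hx hx' => Subgroup.mem_bot.mpr (hTI g hg x hx hx'))
    (fun h _ n hn => by rw [Subgroup.mem_bot.mp hn]; simp)
  refine ⟨K, hK, fun g => ?_, h2, h3, ?_⟩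
  · rw [h1]
    constructor
    · intro h
      by_cases hg : g = 1
      · exact Or.inl hg
      · exact Or.inr fun x hx => hg (by simpa using h x hx)
    · rintro (rfl | h) x hx
      · simp
      · exact absurd hx (h x)
  · refine Subgroup.isComplement'_of_disjoint_and_mul_eq_univ (disjoint_iff.mpr h2) ?_
    rw [← Subgroup.normal_mul, h3, Subgroup.coe_top]

/-- Frobenius' theorem in the form of statement S0035. -/
theorem frobenius_kernel_isFrobeniusComplement [Finite G] (H : Subgroup G)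
    (hH : IsFrobeniusComplement H) :
    ∃ N : Subgroup G, (N : Set G) = frobeniusKernel H ∧ N.Normal ∧ Subgroup.IsComplement' N H := by
  obtain ⟨K, hK, h1, -, -, h4⟩ := frobenius_kernel H (fun g hg x hx hx' => by
    have h2 : g * x * g⁻¹ ∈ H ⊓ MulAut.conj g • H :=
      ⟨hx', Subgroup.smul_mem_pointwise_smul _ _ _ hx⟩
    rw [hH.2.2 g hg, Subgroup.mem_bot] at h2
    simpa using h2)
  refine ⟨K, ?_, hK, h4⟩
  ext g
  rw [SetLike.mem_coe, h1, frobeniusKernel, Set.mem_ofPred_eq]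
  refine or_congr Iff.rfl ⟨fun h x hx => h x⁻¹ ?_, fun h x hx => h x⁻¹ ?_⟩
  · simpa [Subgroup.mem_pointwise_smul_iff_inv_smul_mem] using hx
  · simpa [Subgroup.mem_pointwise_smul_iff_inv_smul_mem] using hx

end H4
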