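import Mathlib

/-!
# The combinatorial core of Peterfalvi (3.5)

Integer vectors indexed by a finite set, of squared length three, with the Gram matrix of the
virtual characters `β_ij`.
-/

set_option autoImplicit false

namespace H4
namespace Grid

open Finset

/-- the seven coordinates of a vector of the second column, in Case I. -/
def vec (d0 d1 d2 d3 : ℤ) (u : ℤ × ℤ × ℤ) : List ℤ :=
  [u.1, u.2.1, u.2.2, d3 - u.2.1 - u.2.2, d0 - u.1 - u.2.1, d1 - u.1 - u.2.2,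
    d2 - u.1 - (d3 - u.2.1 - u.2.2)]

def dot (v w : List ℤ) : ℤ := (List.zipWith (· * ·) v w).sum

def noopp (v w : List ℤ) : Bool := (List.zipWith (· * ·) v w).all (fun z => decide (0 ≤ z))

def ok1 (e v : List ℤ) : Bool := decide (dot v v ≤ 3) && noopp e v

def ok2 (v w : List ℤ) : Bool :=
  noopp v w && decide (dot v w ≤ 1) && decide (1 - dot v w ≤ 3 - dot v v) &&
    decide (1 - dot v w ≤ 3 - dot w w)

def vals : List ℤ := [-1, 0, 1]

def cands : List (ℤ × ℤ × ℤ) :=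
  vals.flatMap fun a => vals.flatMap fun b => vals.map fun c => (a, b, c)

def check : Bool :=
  cands.all fun u3 => !(ok1 [0, 1, 1, 1, 0, 0, 0] (vec 0 0 0 1 u3)) ||
    cands.all fun u0 => !(ok1 [1, 1, 0, 0, 1, 0, 0] (vec 1 0 0 0 u0) &&
        ok2 (vec 1 0 0 0 u0) (vec 0 0 0 1 u3)) ||
      cands.all fun u1 => !(ok1 [1, 0, 1, 0, 0, 1, 0] (vec 0 1 0 0 u1) &&
          ok2 (vec 0 1 0 0 u1) (vec 0 0 0 1 u3) && ok2 (vec 0 1 0 0 u1) (vec 1 0 0 0 u0)) ||
        cands.all fun u2 => !(ok1 [1, 0, 0, 1, 0, 0, 1] (vec 0 0 1 0 u2) &&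
          ok2 (vec 0 0 1 0 u2) (vec 0 0 0 1 u3) && ok2 (vec 0 0 1 0 u2) (vec 1 0 0 0 u0) &&
          ok2 (vec 0 0 1 0 u2) (vec 0 1 0 0 u1))

theorem check_true : check = true := by decide +kernel

theorem mem_cands {a b c : ℤ} (ha : a * a ≤ 3) (hb : b * b ≤ 3) (hc : c * c ≤ 3) :
    (a, b, c) ∈ cands := by
  have key : ∀ z : ℤ, z * z ≤ 3 → z = -1 ∨ z = 0 ∨ z = 1 := fun z hz => by
    have h1 : z < 2 := by nlinarith
    have h2 : -2 < z := by nlinarith
    omega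
  rcases key a ha with rfl | rfl | rfl <;> rcases key b hb with rfl | rfl | rfl <;>
    rcases key c hc with rfl | rfl | rfl <;> decide

theorem check_false {u0 u1 u2 u3 : ℤ × ℤ × ℤ} (m0 : u0 ∈ cands) (m1 : u1 ∈ cands)
    (m2 : u2 ∈ cands) (m3 : u3 ∈ cands)
    (a3 : ok1 [0, 1, 1, 1, 0, 0, 0] (vec 0 0 0 1 u3) = true)
    (a0 : ok1 [1, 1, 0, 0, 1, 0, 0] (vec 1 0 0 0 u0) = true)
    (a1 : ok1 [1, 0, 1, 0, 0, 1, 0] (vec 0 1 0 0 u1) = true)
    (a2 : ok1 [1, 0, 0, 1, 0, 0, 1] (vec 0 0 1 0 u2) = true)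
    (b03 : ok2 (vec 1 0 0 0 u0) (vec 0 0 0 1 u3) = true)
    (b13 : ok2 (vec 0 1 0 0 u1) (vec 0 0 0 1 u3) = true)
    (b10 : ok2 (vec 0 1 0 0 u1) (vec 1 0 0 0 u0) = true)
    (b23 : ok2 (vec 0 0 1 0 u2) (vec 0 0 0 1 u3) = true)
    (b20 : ok2 (vec 0 0 1 0 u2) (vec 1 0 0 0 u0) = true)
    (b21 : ok2 (vec 0 0 1 0 u2) (vec 0 1 0 0 u1) = true) : False := by
  have h := check_true
  unfold check at h
  have h3 := List.all_eq_true.mp h u3 m3
  rw [a3] at h3
  simp only [Bool.not_true, Bool.false_or] at h3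
  have h0 := List.all_eq_true.mp h3 u0 m0
  rw [a0, b03] at h0
  simp only [Bool.and_self, Bool.not_true, Bool.false_or] at h0
  have h1 := List.all_eq_true.mp h0 u1 m1
  rw [a1, b13, b10] at h1
  simp only [Bool.and_self, Bool.not_true, Bool.false_or] at h1
  have h2 := List.all_eq_true.mp h1 u2 m2
  rw [a2, b23, b20, b21] at h2
  simp at h2

variable {X : Type*}

theorem dot_map (l : List X) (f g : X → ℤ) :
    dot (l.map f) (l.map g) = (l.map fun x => f x * g x).sum := by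
  unfold dot; rw [List.zipWith_map, List.zipWith_self]

theorem noopp_map (l : List X) (f g : X → ℤ) (h : ∀ x ∈ l, 0 ≤ f x * g x) :
    noopp (l.map f) (l.map g) = true := by
  unfold noopp; rw [List.zipWith_map, List.zipWith_self, List.all_eq_true]
  intro z hz
  obtain ⟨x, hx, rfl⟩ := List.mem_map.mp hz
  exact decide_eq_true (h x hx)

theorem mul_le_sq {a b : ℤ} (hb : b * b ≤ 3) : a * b ≤ a * a := by
  have h1 : b < 2 := by nlinarith
  have h2 : -2 < b := by nlinarith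
  have : b = -1 ∨ b = 0 ∨ b = 1 := by omega
  rcases this with rfl | rfl | rfl
  · by_cases h : 0 ≤ a
    · nlinarith
    · nlinarith
  · nlinarith
  · by_cases h : a ≤ 0
    · nlinarith
    · nlinarith

theorem sq_le_of_sum {S : Finset X} {f : X → ℤ} (h : ∑ x ∈ S, f x * f x = 3) {x : X} (hx : x ∈ S) :
    f x * f x ≤ 3 :=
  h ▸ single_le_sum (f := fun x => f x * f x) (fun y _ => mul_self_nonneg (f y)) hx

theorem ok2_map [DecidableEq X] {S : Finset X} {l : List X} (hl : l.Nodup) (hS : ∀ x ∈ l, x ∈ S)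
    {f g : X → ℤ} (hf : ∑ x ∈ S, f x * f x = 3) (hg : ∑ x ∈ S, g x * g x = 3)
    (hfg : ∑ x ∈ S, f x * g x = 1) (o : ∀ x ∈ S, 0 ≤ f x * g x) :
    ok2 (l.map f) (l.map g) = true := by
  have hsub : l.toFinset ⊆ S := fun x hx => hS x (List.mem_toFinset.mp hx)
  have e : ∀ F : X → ℤ, ∑ x ∈ S \ l.toFinset, F x + (l.map F).sum = ∑ x ∈ S, F x := fun F => by
    rw [← List.sum_toFinset F hl, sum_sdiff hsub]
  have e1 := e (fun x => f x * f x)
  have e2 := e (fun x => g x * g x)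
  have e3 := e (fun x => f x * g x)
  have p1 : 0 ≤ ∑ x ∈ S \ l.toFinset, f x * g x :=
    sum_nonneg fun x hx => o x (sdiff_subset hx)
  have p2 : ∑ x ∈ S \ l.toFinset, f x * g x ≤ ∑ x ∈ S \ l.toFinset, f x * f x :=
    sum_le_sum fun x hx => mul_le_sq (sq_le_of_sum hg (sdiff_subset hx))
  have p3 : ∑ x ∈ S \ l.toFinset, f x * g x ≤ ∑ x ∈ S \ l.toFinset, g x * g x :=
    sum_le_sum fun x hx => by
      rw [mul_comm]; exact mul_le_sq (sq_le_of_sum hf (sdiff_subset hx))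
  unfold ok2
  rw [noopp_map l f g fun x hx => o x (hS x hx), dot_map, dot_map, dot_map]
  simp only [Bool.true_and, Bool.and_eq_true, decide_eq_true_eq]
  refine ⟨⟨?_, ?_⟩, ?_⟩ <;> linarith

theorem ok1_map [DecidableEq X] {S : Finset X} {l : List X} (hl : l.Nodup) (hS : ∀ x ∈ l, x ∈ S)
    {f : X → ℤ} (hf : ∑ x ∈ S, f x * f x = 3) {e : List ℤ} (he : noopp e (l.map f) = true) :
    ok1 e (l.map f) = true := by
  have hsub : l.toFinset ⊆ S := fun x hx => hS x (List.mem_toFinset.mp hx)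
  unfold ok1
  rw [he, dot_map, ← List.sum_toFinset _ hl]
  simp only [Bool.and_true, decide_eq_true_eq]
  rw [← hf]
  exact sum_le_sum_of_subset_of_nonneg hsub fun x _ _ => mul_self_nonneg _

theorem caseI_aux [DecidableEq X] {S : Finset X} (q : Fin 4 → X → ℤ) {t a0 a1 a2 y0 y1 y2 : X}
    (hl : [t, a0, a1, a2, y0, y1, y2].Nodup) (hS : ∀ x ∈ [t, a0, a1, a2, y0, y1, y2], x ∈ S)
    (hq : ∀ i k, ∑ x ∈ S, q i x * q k x = if i = k then 3 else 1)
    (oq : ∀ i k, ∀ x ∈ S, 0 ≤ q i x * q k x)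
    (l0 : ∀ k, q k t + q k a0 + q k y0 = if 0 = k then 1 else 0)
    (l1 : ∀ k, q k t + q k a1 + q k y1 = if 1 = k then 1 else 0)
    (l2 : ∀ k, q k t + q k a2 + q k y2 = if 2 = k then 1 else 0)
    (l3 : ∀ k, q k a0 + q k a1 + q k a2 = if 3 = k then 1 else 0)
    (p0 : 0 ≤ q 0 t ∧ 0 ≤ q 0 a0 ∧ 0 ≤ q 0 y0) (p1 : 0 ≤ q 1 t ∧ 0 ≤ q 1 a1 ∧ 0 ≤ q 1 y1)
    (p2 : 0 ≤ q 2 t ∧ 0 ≤ q 2 a2 ∧ 0 ≤ q 2 y2) (p3 : 0 ≤ q 3 a0 ∧ 0 ≤ q 3 a1 ∧ 0 ≤ q 3 a2) :
    False := by
  set l := [t, a0, a1, a2, y0, y1, y2] with hldef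
  have n : ∀ k, ∑ x ∈ S, q k x * q k x = 3 := fun k => by simpa using hq k k
  have m : ∀ k, (q k t, q k a0, q k a1) ∈ cands := fun k =>
    mem_cands (sq_le_of_sum (n k) (hS _ (by simp [hldef]))) (sq_le_of_sum (n k) (hS _ (by simp [hldef])))
      (sq_le_of_sum (n k) (hS _ (by simp [hldef])))
  have v0 : vec 1 0 0 0 (q 0 t, q 0 a0, q 0 a1) = l.map (q 0) := by
    have := l0 0; have := l1 0; have := l2 0; have := l3 0
    simp only [hldef, vec, List.map_cons, List.map_nil, List.cons.injEq, true_and, and_true] at *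
    simp at *
    omega
  have v1 : vec 0 1 0 0 (q 1 t, q 1 a0, q 1 a1) = l.map (q 1) := by
    have := l0 1; have := l1 1; have := l2 1; have := l3 1
    simp only [hldef, vec, List.map_cons, List.map_nil, List.cons.injEq, true_and, and_true] at *
    simp at *
    omega
  have v2 : vec 0 0 1 0 (q 2 t, q 2 a0, q 2 a1) = l.map (q 2) := by
    have := l0 2; have := l1 2; have := l2 2; have := l3 2
    simp only [hldef, vec, List.map_cons, List.map_nil, List.cons.injEq, true_and, and_true] at *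
    simp at *
    omega
  have v3 : vec 0 0 0 1 (q 3 t, q 3 a0, q 3 a1) = l.map (q 3) := by
    have := l0 3; have := l1 3; have := l2 3; have := l3 3
    simp only [hldef, vec, List.map_cons, List.map_nil, List.cons.injEq, true_and, and_true] at *
    simp at *
    omega
  have b : ∀ i k, i ≠ k → ok2 (l.map (q i)) (l.map (q k)) = true := fun i k hik =>
    ok2_map hl hS (n i) (n k) (by simpa [hik] using hq i k) (oq i k)
  refine check_false (m 0) (m 1) (m 2) (m 3) ?_ ?_ ?_ ?_ ?_ ?_ ?_ ?_ ?_ ?_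
  · rw [v3]; refine ok1_map hl hS (n 3) ?_
    simp [hldef, noopp, p3]
  · rw [v0]; refine ok1_map hl hS (n 0) ?_
    simp [hldef, noopp, p0]
  · rw [v1]; refine ok1_map hl hS (n 1) ?_
    simp [hldef, noopp, p1]
  · rw [v2]; refine ok1_map hl hS (n 2) ?_
    simp [hldef, noopp, p2]
  all_goals simp only [v0, v1, v2, v3]; exact b _ _ (by decide)

/-- a `0/1` vector of squared length three containing two given points. -/
theorem third [DecidableEq X] {S : Finset X} {f : X → ℤ} (h01 : ∀ x ∈ S, f x = 0 ∨ f x = 1)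
    (h : ∑ x ∈ S, f x * f x = 3) {a b : X} (ha : a ∈ S) (hb : b ∈ S) (hab : a ≠ b) (fa : f a = 1)
    (fb : f b = 1) : ∃ c ∈ S, c ≠ a ∧ c ≠ b ∧ f c = 1 ∧
      ∀ g : X → ℤ, ∑ x ∈ S, f x * g x = g a + g b + g c := by
  have hc : (S.filter fun x => f x = 1).card = 3 := by
    have : ((S.filter fun x => f x = 1).card : ℤ) = 3 := by
      rw [← h, card_filter]; push_cast
      refine sum_congr rfl fun x hx => ?_
      rcases h01 x hx with h' | h' <;> simp [h']
    exact_mod_cast this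
  have hsum : ∀ g : X → ℤ, ∑ x ∈ S, f x * g x = ∑ x ∈ S.filter (fun x => f x = 1), g x := by
    intro g; rw [sum_filter]
    refine sum_congr rfl fun x hx => ?_
    rcases h01 x hx with h' | h' <;> simp [h']
  have hsub : ({a, b} : Finset X) ⊆ S.filter fun x => f x = 1 := by
    intro x hx; simp only [mem_insert, mem_singleton] at hx
    rcases hx with rfl | rfl <;> simp [*]
  have h1 : ((S.filter fun x => f x = 1) \ {a, b}).card = 1 := by
    rw [card_sdiff_of_subset hsub, hc, card_pair hab]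
  obtain ⟨c, hc'⟩ := card_eq_one.mp h1
  have hcm : c ∈ (S.filter fun x => f x = 1) \ {a, b} := by rw [hc']; simp
  simp only [mem_sdiff, mem_filter, mem_insert, mem_singleton, not_or] at hcm
  refine ⟨c, hcm.1.1, hcm.2.1, hcm.2.2, hcm.1.2, fun g => ?_⟩
  rw [hsum, ← sum_sdiff hsub, hc', sum_singleton, sum_pair hab]; ring

theorem exists_common {S : Finset X} {f g : X → ℤ} (h : ∑ x ∈ S, f x * g x = 1) :
    ∃ x ∈ S, f x ≠ 0 ∧ g x ≠ 0 := by
  by_contra hn
  push Not at hn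
  rw [sum_eq_zero] at h
  · exact absurd h (by decide)
  · intro x hx
    by_cases h0 : f x = 0
    · simp [h0]
    · simp [hn x hx h0]

theorem unique_common [DecidableEq X] {S : Finset X} {f g : X → ℤ} (h : ∑ x ∈ S, f x * g x = 1)
    (o : ∀ x ∈ S, 0 ≤ f x * g x) {a b : X} (ha : a ∈ S) (hb : b ∈ S) (fa : f a ≠ 0) (ga : g a ≠ 0)
    (fb : f b ≠ 0) (gb : g b ≠ 0) : a = b := by
  by_contra hab
  have hsub : ({a, b} : Finset X) ⊆ S := by
    intro x hx; simp only [mem_insert, mem_singleton] at hx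
    rcases hx with rfl | rfl <;> assumption
  have := sum_le_sum_of_subset_of_nonneg (f := fun x => f x * g x) hsub fun x hx _ => o x hx
  rw [h, sum_pair hab] at this
  have h1 : 0 < f a * g a := lt_of_le_of_ne (o a ha) (mul_ne_zero fa ga).symm
  have h2 : 0 < f b * g b := lt_of_le_of_ne (o b hb) (mul_ne_zero fb gb).symm
  omega

theorem caseI {S : Finset X} (p q : Fin 4 → X → ℤ) (h01 : ∀ i, ∀ x ∈ S, p i x = 0 ∨ p i x = 1)
    (hp : ∀ i k, ∑ x ∈ S, p i x * p k x = if i = k then 3 else 1)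
    (hq : ∀ i k, ∑ x ∈ S, q i x * q k x = if i = k then 3 else 1)
    (hpq : ∀ i k, ∑ x ∈ S, p i x * q k x = if i = k then 1 else 0)
    (oq : ∀ i k, ∀ x ∈ S, 0 ≤ q i x * q k x) (opq : ∀ i, ∀ x ∈ S, 0 ≤ p i x * q i x)
    {t : X} (ht : t ∈ S) (t0 : p 0 t = 1) (t1 : p 1 t = 1) (t2 : p 2 t = 1) (t3 : p 3 t = 0) :
    False := by
  classical
  have n : ∀ k, ∑ x ∈ S, p k x * p k x = 3 := fun k => by simpa using hp k k
  have op : ∀ i k, ∀ x ∈ S, 0 ≤ p i x * p k x := fun i k x hx => by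
    rcases h01 i x hx with h | h <;> rcases h01 k x hx with h' | h' <;> simp [h, h']
  have one : ∀ {i x}, x ∈ S → p i x ≠ 0 → p i x = 1 := fun {i x} hx h => (h01 i x hx).resolve_left h
  have uq : ∀ i k, i ≠ k → ∀ {a b}, a ∈ S → b ∈ S → p i a = 1 → p k a = 1 → p i b = 1 →
      p k b = 1 → a = b := fun i k hik a b ha hb h1 h2 h3 h4 =>
    unique_common (f := p i) (g := p k) (by simpa [hik] using hp i k) (op i k) ha hb
      (by simp [h1]) (by simp [h2]) (by simp [h3]) (by simp [h4])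
  have ex : ∀ i, i ≠ 3 → ∃ a ∈ S, p i a = 1 ∧ p 3 a = 1 := fun i hi => by
    obtain ⟨a, ha, h1, h2⟩ := exists_common (f := p i) (g := p 3) (S := S)
      (by simpa [hi] using hp i 3)
    exact ⟨a, ha, one ha h1, one ha h2⟩
  obtain ⟨a0, ha0, a00, a03⟩ := ex 0 (by decide)
  obtain ⟨a1, ha1, a11, a13⟩ := ex 1 (by decide)
  obtain ⟨a2, ha2, a22, a23⟩ := ex 2 (by decide)
  have ta0 : t ≠ a0 := by rintro rfl; omega
  have ta1 : t ≠ a1 := by rintro rfl; omega
  have ta2 : t ≠ a2 := by rintro rfl; omega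
  have a01 : a0 ≠ a1 := by
    rintro rfl; exact ta0 (uq 0 1 (by decide) ht ha0 t0 t1 a00 a11)
  have a02 : a0 ≠ a2 := by
    rintro rfl; exact ta0 (uq 0 2 (by decide) ht ha0 t0 t2 a00 a22)
  have a12 : a1 ≠ a2 := by
    rintro rfl; exact ta1 (uq 1 2 (by decide) ht ha1 t1 t2 a11 a22)
  obtain ⟨y0, hy0, y0t, y0a, y00, s0⟩ := third (h01 0) (n 0) ht ha0 ta0 t0 a00
  obtain ⟨y1, hy1, y1t, y1a, y11, s1⟩ := third (h01 1) (n 1) ht ha1 ta1 t1 a11
  obtain ⟨y2, hy2, y2t, y2a, y22, s2⟩ := third (h01 2) (n 2) ht ha2 ta2 t2 a22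
  obtain ⟨z, hz, za0, za1, z3, s3⟩ := third (h01 3) (n 3) ha0 ha1 a01 a03 a13
  have hza : z = a2 := by
    have := s3 (fun x => if x = a2 then 1 else 0)
    simp only [mul_ite, mul_one, mul_zero, sum_ite_eq', ha2, if_true, a23, a02, a12, if_false] at this
    by_contra h; simp [h] at this
  subst hza
  have y0a1 : y0 ≠ a1 := by
    rintro rfl; exact y0t (uq 0 1 (by decide) hy0 ht y00 a11 t0 t1)
  have y0a2 : y0 ≠ z := by
    rintro rfl; exact y0t (uq 0 2 (by decide) hy0 ht y00 a22 t0 t2)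
  have y1a0 : y1 ≠ a0 := by
    rintro rfl; exact y1t (uq 0 1 (by decide) hy1 ht a00 y11 t0 t1)
  have y1a2 : y1 ≠ z := by
    rintro rfl; exact y1t (uq 1 2 (by decide) hy1 ht y11 a22 t1 t2)
  have y2a0 : y2 ≠ a0 := by
    rintro rfl; exact y2t (uq 0 2 (by decide) hy2 ht a00 y22 t0 t2)
  have y2a1 : y2 ≠ a1 := by
    rintro rfl; exact y2t (uq 1 2 (by decide) hy2 ht a11 y22 t1 t2)
  have y01 : y0 ≠ y1 := by
    rintro rfl; exact y0t (uq 0 1 (by decide) hy0 ht y00 y11 t0 t1)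
  have y02 : y0 ≠ y2 := by
    rintro rfl; exact y0t (uq 0 2 (by decide) hy0 ht y00 y22 t0 t2)
  have y12 : y1 ≠ y2 := by
    rintro rfl; exact y1t (uq 1 2 (by decide) hy1 ht y11 y22 t1 t2)
  have pos : ∀ {i x}, x ∈ S → p i x = 1 → 0 ≤ q i x := fun {i x} hx h => by
    simpa [h] using opq i x hx
  refine caseI_aux (S := S) q (t := t) (a0 := a0) (a1 := a1) (a2 := z) (y0 := y0) (y1 := y1)
    (y2 := y2) ?_ ?_ hq oq (fun k => by rw [← s0, hpq]) (fun k => by rw [← s1, hpq])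
    (fun k => by rw [← s2, hpq]) (fun k => by rw [← s3, hpq])
    ⟨pos ht t0, pos ha0 a00, pos hy0 y00⟩ ⟨pos ht t1, pos ha1 a11, pos hy1 y11⟩
    ⟨pos ht t2, pos hz a22, pos hy2 y22⟩ ⟨pos ha0 a03, pos ha1 a13, pos hz a23⟩
  · simp [ta0, ta1, ta2, a01, a02, a12, y0t.symm, y1t.symm, y2t.symm, y0a.symm, y1a.symm,
      y2a.symm, y0a1.symm, y0a2.symm, y1a0.symm, y1a2.symm, y2a0.symm, y2a1.symm, y01, y02, y12]
  · simp [ht, ha0, ha1, hz, hy0, hy1, hy2]

theorem core01 {S : Finset X} (p q : Fin 4 → X → ℤ) (h01 : ∀ i, ∀ x ∈ S, p i x = 0 ∨ p i x = 1)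
    (hp : ∀ i k, ∑ x ∈ S, p i x * p k x = if i = k then 3 else 1)
    (hq : ∀ i k, ∑ x ∈ S, q i x * q k x = if i = k then 3 else 1)
    (hpq : ∀ i k, ∑ x ∈ S, p i x * q k x = if i = k then 1 else 0)
    (oq : ∀ i k, ∀ x ∈ S, 0 ≤ q i x * q k x) (opq : ∀ i, ∀ x ∈ S, 0 ≤ p i x * q i x) :
    ∃ x ∈ S, ∀ i, p i x ≠ 0 := by
  classical
  by_contra hn
  push Not at hn
  have h3 : ∀ t ∈ S, ∀ m, p m t = 0 → ¬ ∀ i, i ≠ m → p i t = 1 := by
    intro t ht m hm hi
    let σ : Equiv.Perm (Fin 4) := Equiv.swap m 3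
    have hσ : ∀ i, i ≠ 3 → σ i ≠ m := fun i hi h => by
      have : σ i = σ 3 := by rw [h]; simp [σ]
      exact hi (σ.injective this)
    refine caseI (S := S) (fun i => p (σ i)) (fun i => q (σ i)) (fun i => h01 _)
      (fun i k => by simpa using hp (σ i) (σ k)) (fun i k => by simpa using hq (σ i) (σ k))
      (fun i k => by simpa using hpq (σ i) (σ k)) (fun i k => oq _ _) (fun i => opq _) ht
      (hi _ (hσ 0 (by decide))) (hi _ (hσ 1 (by decide))) (hi _ (hσ 2 (by decide))) ?_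
    simpa [σ] using hm
  -- the number of members of the first column containing `x` is at most two
  have hle : ∀ x ∈ S, (∑ i, p i x) * (∑ i, p i x) ≤ 2 * ∑ i, p i x ∧
      ((∑ i, p i x) * (∑ i, p i x) = 2 * ∑ i, p i x → Even (∑ i, p i x)) := by
    intro x hx
    have e0 := h3 x hx 0
    have e1 := h3 x hx 1
    have e2 := h3 x hx 2
    have e3 := h3 x hx 3
    obtain ⟨m, hm⟩ := hn x hx
    rw [Fin.sum_univ_four]
    simp only [Fin.forall_fin_succ] at e0 e1 e2 e3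
    have hm' : p 0 x = 0 ∨ p 1 x = 0 ∨ p 2 x = 0 ∨ p 3 x = 0 := by
      fin_cases m <;> simp_all
    rcases h01 0 x hx with a | a <;> rcases h01 1 x hx with b | b <;>
      rcases h01 2 x hx with c | c <;> rcases h01 3 x hx with d | d <;>
      simp_all (decide := true)
  have s2 : ∑ x ∈ S, (∑ i, p i x) * (∑ i, p i x) = 24 := by
    simp only [sum_mul_sum]
    rw [sum_comm]
    have : ∀ i, ∑ x ∈ S, ∑ k, p i x * p k x = ∑ k, if i = k then (3 : ℤ) else 1 := fun i => by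
      rw [sum_comm]; exact sum_congr rfl fun k _ => hp i k
    simp only [this]; decide
  have s1 : ∑ x ∈ S, 2 * ∑ i, p i x = 24 := by
    rw [← mul_sum, sum_comm]
    have : ∀ i, ∑ x ∈ S, p i x = 3 := fun i => by
      have := hp i i
      simp only [if_true] at this
      rw [← this]
      refine sum_congr rfl fun x hx => ?_
      rcases h01 i x hx with h | h <;> simp [h]
    simp [this]
  have hev : ∀ x ∈ S, Even (∑ i, p i x) := fun x hx =>
    (hle x hx).2 ((sum_eq_sum_iff_of_le fun y hy => (hle y hy).1).mp (s2.trans s1.symm) x hx)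
  have s3 : ∑ x ∈ S, (∑ i, p i x) * q 0 x = 1 := by
    simp only [sum_mul]
    rw [sum_comm]
    simp [hpq]
  have : Even (∑ x ∈ S, (∑ i, p i x) * q 0 x) :=
    even_sum _ fun x hx => (hev x hx).mul_right _
  rw [s3] at this
  exact absurd this (by decide)

/-- Peterfalvi (3.5.4): four vectors in a column have a common coordinate. -/
theorem core {S : Finset X} (p q : Fin 4 → X → ℤ)
    (hp : ∀ i k, ∑ x ∈ S, p i x * p k x = if i = k then 3 else 1)
    (hq : ∀ i k, ∑ x ∈ S, q i x * q k x = if i = k then 3 else 1)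
    (hpq : ∀ i k, ∑ x ∈ S, p i x * q k x = if i = k then 1 else 0)
    (op : ∀ i k, ∀ x ∈ S, 0 ≤ p i x * p k x)
    (oq : ∀ i k, ∀ x ∈ S, 0 ≤ q i x * q k x) (opq : ∀ i, ∀ x ∈ S, 0 ≤ p i x * q i x) :
    ∃ x ∈ S, ∀ i, p i x ≠ 0 := by
  classical
  let ε : X → ℤ := fun x => if ∃ i, p i x < 0 then -1 else 1
  have hε : ∀ x (a b : ℤ), ε x * a * (ε x * b) = a * b := fun x a b => by
    simp only [ε]; split_ifs <;> ring
  have h01 : ∀ i, ∀ x ∈ S, ε x * p i x = 0 ∨ ε x * p i x = 1 := by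
    intro i x hx
    have h3 : p i x * p i x ≤ 3 := sq_le_of_sum (by simpa using hp i i) hx
    have h1 : p i x < 2 := by nlinarith
    have h2 : -2 < p i x := by nlinarith
    simp only [ε]
    split_ifs with h
    · obtain ⟨k, hk⟩ := h
      have := op i k x hx
      have : p i x ≤ 0 := by nlinarith
      omega
    · push Not at h
      have := h i
      omega
  obtain ⟨x, hx, h⟩ := core01 (S := S) (fun i x => ε x * p i x) (fun i x => ε x * q i x) h01
    (by simpa only [hε] using hp) (by simpa only [hε] using hq) (by simpa only [hε] using hpq)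
    (by simpa only [hε] using oq) (by simpa only [hε] using opq)
  exact ⟨x, hx, fun i h0 => h i (by simp [h0])⟩

variable {ι κ : Type*}

/-- the hypotheses of the grid lemma. -/
structure Hyp [DecidableEq ι] [DecidableEq κ] (S : Finset X) (I : Finset ι) (J : Finset κ)
    (b : ι → κ → X → ℤ) : Prop where
  gram : ∀ i ∈ I, ∀ j ∈ J, ∀ k ∈ I, ∀ l ∈ J, ∑ x ∈ S, b i j x * b k l x =
    (if i = k then 2 else 1) * (if j = l then 2 else 1) - 1
  oc : ∀ j ∈ J, ∀ i ∈ I, ∀ k ∈ I, ∀ x ∈ S, 0 ≤ b i j x * b k j x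
  or : ∀ i ∈ I, ∀ j ∈ J, ∀ l ∈ J, ∀ x ∈ S, 0 ≤ b i j x * b i l x

variable [DecidableEq ι] [DecidableEq κ] {S : Finset X} {I : Finset ι} {J : Finset κ}
  {b : ι → κ → X → ℤ}

theorem Hyp.symm (h : Hyp S I J b) : Hyp S J I (fun j i => b i j) :=
  ⟨fun j hj i hi l hl k hk => by rw [h.gram i hi j hj k hk l hl, mul_comm],
    fun i hi j hj l hl => h.or i hi j hj l hl, fun j hj i hi k hk => h.oc j hj i hi k hk⟩

theorem exists_not_mem_list (I : Finset ι) (l : List ι) (h : l.length < I.card) :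
    ∃ i ∈ I, i ∉ l := by
  by_contra hn
  push Not at hn
  have : I ⊆ l.toFinset := fun i hi => List.mem_toFinset.mpr (hn i hi)
  have := (card_le_card this).trans (List.toFinset_card_le l)
  omega

theorem Hyp.col_unique (h : Hyp S I J b) {j : κ} (hj : j ∈ J) {i k : ι} (hi : i ∈ I) (hk : k ∈ I)
    (hik : i ≠ k) {x y : X} (hx : x ∈ S) (hy : y ∈ S) (h1 : b i j x ≠ 0) (h2 : b k j x ≠ 0)
    (h3 : b i j y ≠ 0) (h4 : b k j y ≠ 0) : x = y := by
  classical
  exact unique_common (f := b i j) (g := b k j) (by simpa [hik] using h.gram i hi j hj k hk j hj)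
    (h.oc j hj i hi k hk) hx hy h1 h2 h3 h4

theorem Hyp.col_pivot (h : Hyp S I J b) (hI : I.card = 2 ∨ 4 ≤ I.card) (hJ : 2 ≤ J.card) {j : κ}
    (hj : j ∈ J) : ∃ x ∈ S, ∀ i ∈ I, b i j x ≠ 0 := by
  obtain ⟨i0, hi0, -⟩ := exists_not_mem_list I [] (by simp only [List.length_nil]; omega)
  obtain ⟨i1, hi1, h10⟩ := exists_not_mem_list I [i0] (by simp; omega)
  simp only [List.mem_singleton] at h10
  obtain ⟨x, hx, x0, x1⟩ := exists_common (f := b i0 j) (g := b i1 j) (S := S)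
    (by simpa [Ne.symm h10] using h.gram i0 hi0 j hj i1 hi1 j hj)
  refine ⟨x, hx, fun i hi => ?_⟩
  by_cases e0 : i = i0
  · rwa [e0]
  by_cases e1 : i = i1
  · rwa [e1]
  rcases hI with hI | hI
  · exfalso
    have : ({i0, i1, i} : Finset ι) ⊆ I := by
      intro a ha; simp only [mem_insert, mem_singleton] at ha
      rcases ha with rfl | rfl | rfl <;> assumption
    have := card_le_card this
    rw [card_insert_of_notMem (by simp [Ne.symm h10, Ne.symm e0]), card_pair (Ne.symm e1)] at this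
    omega
  obtain ⟨i3, hi3, h3⟩ := exists_not_mem_list I [i0, i1, i] (by simp; omega)
  simp only [List.mem_cons, List.not_mem_nil, or_false, not_or] at h3
  obtain ⟨j', hj', hjj⟩ := exists_not_mem_list J [j] (by simp; omega)
  simp only [List.mem_singleton] at hjj
  let f : Fin 4 → ι := ![i0, i1, i, i3]
  have fI : ∀ a, f a ∈ I := fun a => by fin_cases a <;> simp [f, *]
  have finj : ∀ a c, f a = f c ↔ a = c := fun a c => by
    have := h3.1; have := h3.2.1; have := h3.2.2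
    have := Ne.symm h3.1; have := Ne.symm h3.2.1; have := Ne.symm h3.2.2
    have := Ne.symm h10; have := Ne.symm e0; have := Ne.symm e1
    fin_cases a <;> fin_cases c <;> simp [f, *]
  obtain ⟨y, hy, hy'⟩ := core (S := S) (fun a => b (f a) j) (fun a => b (f a) j')
    (fun a c => by
      rw [h.gram _ (fI a) j hj _ (fI c) j hj]; simp only [finj]; split_ifs <;> simp_all)
    (fun a c => by
      rw [h.gram _ (fI a) j' hj' _ (fI c) j' hj']; simp only [finj]; split_ifs <;> simp_all)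
    (fun a c => by
      rw [h.gram _ (fI a) j hj _ (fI c) j' hj']; simp only [finj, Ne.symm hjj]
      split_ifs <;> simp_all)
    (fun a c => h.oc j hj _ (fI a) _ (fI c)) (fun a c => h.oc j' hj' _ (fI a) _ (fI c))
    (fun a => h.or _ (fI a) j hj j' hj')
  have := h.col_unique hj hi0 hi1 (Ne.symm h10) hx hy x0 x1 (hy' 0) (hy' 1)
  rw [this]; exact hy' 2

theorem Hyp.sq_le (h : Hyp S I J b) {i : ι} (hi : i ∈ I) {j : κ} (hj : j ∈ J) {x : X}
    (hx : x ∈ S) : b i j x * b i j x ≤ 3 :=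
  sq_le_of_sum (by simpa using h.gram i hi j hj i hi j hj) hx

theorem eq_of_mul_nonneg {a c : ℤ} (ha : a * a ≤ 3) (hc : c * c ≤ 3) (h : 0 ≤ a * c) (ha0 : a ≠ 0)
    (hc0 : c ≠ 0) : a = c ∧ (a = 1 ∨ a = -1) := by
  have h1 : a < 2 := by nlinarith
  have h2 : -2 < a := by nlinarith
  have h3 : c < 2 := by nlinarith
  have h4 : -2 < c := by nlinarith
  have : a = 1 ∨ a = -1 := by omega
  rcases this with rfl | rfl <;> omega

theorem Hyp.pivot_ne (h : Hyp S I J b) (hI : 4 ≤ I.card) (hJ : 2 ≤ J.card) {i : ι} (hi : i ∈ I)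
    {j : κ} (hj : j ∈ J) {x : X} (hx : x ∈ S) (hc : ∀ k ∈ I, b k j x ≠ 0)
    (hr : ∀ l ∈ J, b i l x ≠ 0) : False := by
  classical
  obtain ⟨j', hj', hjj⟩ := exists_not_mem_list J [j] (by simp; omega)
  simp only [List.mem_singleton] at hjj
  have ex : ∀ k ∈ I, k ≠ i → ∃ z ∈ S, z ≠ x ∧ b k j z ≠ 0 ∧ b i j' z ≠ 0 := by
    intro k hk hki
    have g := h.gram k hk j hj i hi j' hj'
    simp only [hki, Ne.symm hjj, if_false, mul_one, sub_self] at g
    by_contra hn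
    push Not at hn
    rw [sum_eq_single x] at g
    · exact mul_ne_zero (hc k hk) (hr j' hj') g
    · intro z hz hzx
      by_cases h0 : b k j z = 0
      · simp [h0]
      · simp [hn z hz hzx h0]
    · intro hx'; exact absurd hx hx'
  obtain ⟨k1, hk1, n1⟩ := exists_not_mem_list I [i] (by simp; omega)
  obtain ⟨k2, hk2, n2⟩ := exists_not_mem_list I [i, k1] (by simp; omega)
  obtain ⟨k3, hk3, n3⟩ := exists_not_mem_list I [i, k1, k2] (by simp; omega)
  simp only [List.mem_cons, List.not_mem_nil, or_false, not_or] at n1 n2 n3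
  obtain ⟨z1, hz1, x1, a1, c1⟩ := ex k1 hk1 n1
  obtain ⟨z2, hz2, x2, a2, c2⟩ := ex k2 hk2 n2.1
  obtain ⟨z3, hz3, x3, a3, c3⟩ := ex k3 hk3 n3.1
  have d12 : z1 ≠ z2 := by
    rintro rfl; exact x1 (h.col_unique hj hk2 hk1 n2.2 hz1 hx a2 a1 (hc _ hk2) (hc _ hk1))
  have d13 : z1 ≠ z3 := by
    rintro rfl; exact x1 (h.col_unique hj hk3 hk1 n3.2.1 hz1 hx a3 a1 (hc _ hk3) (hc _ hk1))
  have d23 : z2 ≠ z3 := by
    rintro rfl; exact x2 (h.col_unique hj hk3 hk2 n3.2.2 hz2 hx a3 a2 (hc _ hk3) (hc _ hk2))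
  have hsub : ({x, z1, z2, z3} : Finset X) ⊆ S := by
    intro a ha; simp only [mem_insert, mem_singleton] at ha
    rcases ha with rfl | rfl | rfl | rfl <;> assumption
  have := sum_le_sum_of_subset_of_nonneg (f := fun a => b i j' a * b i j' a) hsub
    fun a _ _ => mul_self_nonneg _
  rw [h.gram i hi j' hj' i hi j' hj', sum_insert (by simp [x1.symm, x2.symm, x3.symm]),
    sum_insert (by simp [d12, d13]), sum_pair d23] at this
  have q0 := mul_self_pos.mpr (hr j' hj')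
  have q1 := mul_self_pos.mpr c1
  have q2 := mul_self_pos.mpr c2
  have q3 := mul_self_pos.mpr c3
  simp at this
  omega

/-- the combinatorial content of Peterfalvi (3.5). -/
theorem Hyp.grid [Nonempty X] (h : Hyp S I J b) (hI : I.card = 2 ∨ 4 ≤ I.card)
    (hJ : J.card = 2 ∨ 4 ≤ J.card) (h4 : 4 ≤ I.card ∨ 4 ≤ J.card) :
    ∃ (c : κ → X) (r : ι → X) (ε : κ → ℤ) (η : ι → ℤ),
      (∀ j ∈ J, c j ∈ S ∧ (ε j = 1 ∨ ε j = -1)) ∧ (∀ i ∈ I, r i ∈ S ∧ (η i = 1 ∨ η i = -1)) ∧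
      (∀ i ∈ I, ∀ j ∈ J, ∀ l ∈ J, b i j (c l) = if j = l then ε l else 0) ∧
      (∀ i ∈ I, ∀ j ∈ J, ∀ k ∈ I, b i j (r k) = if i = k then η k else 0) ∧
      ∀ i ∈ I, ∀ j ∈ J, c j ≠ r i := by
  classical
  have hI2 : 2 ≤ I.card := by omega
  have hJ2 : 2 ≤ J.card := by omega
  choose! c hc hc' using fun j hj => h.col_pivot hI hJ2 (j := j) hj
  choose! r hr hr' using fun i hi => h.symm.col_pivot hJ hI2 (j := i) hi
  have ne : ∀ i ∈ I, ∀ j ∈ J, c j ≠ r i := by
    intro i hi j hj e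
    rcases h4 with h4 | h4
    · exact h.pivot_ne h4 hJ2 hi hj (hc j hj) (hc' j hj) (fun l hl => e ▸ hr' i hi l hl)
    · exact h.symm.pivot_ne h4 hI2 hj hi (hc j hj) (fun l hl => e ▸ hr' i hi l hl) (hc' j hj)
  obtain ⟨i0, hi0⟩ : I.Nonempty := card_pos.mp (by omega)
  obtain ⟨j0, hj0⟩ : J.Nonempty := card_pos.mp (by omega)
  have e1 := fun i hi j hj => eq_of_mul_nonneg (h.sq_le hi hj (hc j hj)) (h.sq_le hi0 hj (hc j hj))
    (h.oc j hj i hi i0 hi0 _ (hc j hj)) (hc' j hj i hi) (hc' j hj i0 hi0)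
  have e2 := fun i hi j hj => eq_of_mul_nonneg (h.sq_le hi hj (hr i hi)) (h.sq_le hi hj0 (hr i hi))
    (h.or i hi j hj j0 hj0 _ (hr i hi)) (hr' i hi j hj) (hr' i hi j0 hj0)
  refine ⟨c, r, fun j => b i0 j (c j), fun i => b i j0 (r i),
    fun j hj => ⟨hc j hj, (e1 i0 hi0 j hj).2⟩, fun i hi => ⟨hr i hi, (e2 i hi j0 hj0).2⟩,
    fun i hi j hj l hl => ?_, fun i hi j hj k hk => ?_, ne⟩
  · split_ifs with e
    · subst e; exact (e1 i hi j hj).1
    · by_contra h0
      exact ne i hi l hl (h.symm.col_unique hi hj hl e (hc l hl) (hr i hi) h0 (hc' l hl i hi)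
        (hr' i hi j hj) (hr' i hi l hl))
  · split_ifs with e
    · subst e; exact (e2 i hi j hj).1
    · by_contra h0
      exact ne k hk j hj (h.col_unique hj hi hk e (hc j hj) (hr k hk) (hc' j hj i hi)
        (hc' j hj k hk) h0 (hr' k hk j hj))

end Grid
end H4
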