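import Cfsg.Agent.H4.GD2
import Cfsg.Agent.H17.ZStar
import Cfsg.Agent.H1.CoprimeAbelian
import Cfsg.Agent.H16.PSL2Inv
import Cfsg.Agent.H16.Orbits

/-!
Involutions acting on subgroups of odd order; the `Z*`-theorem for subgroups.
-/

set_option autoImplicit false

namespace H4

open Subgroup _root_.Cfsg

variable {G : Type*} [Group G] [Finite G]

theorem mem_normalizer_of {K : Subgroup G} {g : G} (h : ∀ x ∈ K, g * x * g⁻¹ ∈ K) :
    g ∈ normalizer (K : Set G) := mem_normalizer_fintype h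

omit [Finite G] in
theorem conj_mem_of_normalizer {K : Subgroup G} {g x : G} (h : g ∈ normalizer (K : Set G))
    (hx : x ∈ K) : g * x * g⁻¹ ∈ K := (mem_normalizer_iff.1 h x).1 hx

omit [Finite G] in
theorem mem_cent {g x : G} : g ∈ centralizer ({x} : Set G) ↔ g * x = x * g := by
  rw [mem_centralizer_singleton_iff]

omit [Finite G] in
theorem exists_sq_eq {y : G} (hy : Odd (orderOf y)) : ∃ k : ℕ, y ^ k * y ^ k = y := by
  obtain ⟨k, hk⟩ := hy
  refine ⟨k + 1, ?_⟩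
  rw [← pow_add, show k + 1 + (k + 1) = orderOf y + 1 by omega, pow_succ, pow_orderOf_eq_one, one_mul]

theorem odd_orderOf {K : Subgroup G} (hK : Odd (Nat.card K)) {y : G} (hy : y ∈ K) : Odd (orderOf y) :=
  hK.of_dvd_nat (K.orderOf_dvd_natCard hy)

/-- If `g⁻¹ g^s` has odd order then `g = c j` with `c` centralised and `j` inverted by `s`. -/
theorem exists_cent_inv' {s g : G} (hs : s * s = 1) (h : Odd (orderOf (g⁻¹ * (s * g * s)))) :
    ∃ j ∈ zpowers (g⁻¹ * (s * g * s)), s * j * s = j⁻¹ ∧ g * j * s = s * (g * j) := by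
  obtain ⟨k, hk⟩ := exists_sq_eq h
  set y := g⁻¹ * (s * g * s) with hy
  have h1 : s * y * s = y⁻¹ := by
    simp [hy, mul_assoc, mul_mul_self hs, hs, inv_eq_self hs]
  have h2 : s * y ^ k * s = (y ^ k)⁻¹ := by
    rw [← inv_pow, ← h1]; nth_rw 2 4 [← inv_eq_self hs]; rw [conj_pow]
  refine ⟨y ^ k, npow_mem_zpowers y k, h2, ?_⟩
  have h3 : s * g * s = g * (y ^ k * y ^ k) := by rw [hk, hy]; group
  calc g * y ^ k * s = g * (y ^ k * y ^ k) * (y ^ k)⁻¹ * s := by group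
    _ = s * (g * y ^ k) := by rw [← h3, ← h2]; simp [mul_assoc, mul_mul_self hs, hs]

theorem exists_cent_inv {K : Subgroup G} (hK : Odd (Nat.card K)) {s g : G} (hs : s * s = 1)
    (hn : ∀ x ∈ K, s * x * s ∈ K) (hg : g ∈ K) :
    ∃ c ∈ K, ∃ j ∈ K, c * s = s * c ∧ s * j * s = j⁻¹ ∧ g = c * j := by
  have hy := K.mul_mem (K.inv_mem hg) (hn g hg)
  obtain ⟨j, hj, h1, h2⟩ := exists_cent_inv' hs (odd_orderOf hK hy)
  have hjK := (zpowers_le.2 hy) hj
  refine ⟨g * j, K.mul_mem hg hjK, j⁻¹, K.inv_mem hjK, h2, ?_, by group⟩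
  rw [inv_inv, ← h1]; simp [mul_assoc, mul_mul_self hs, hs]

/-- A fixed-point-free involution inverts. -/
theorem inv_of_fpf {K : Subgroup G} (hK : Odd (Nat.card K)) {s : G} (hs : s * s = 1)
    (hn : ∀ x ∈ K, s * x * s ∈ K) (h : ∀ x ∈ K, x * s = s * x → x = 1) {g : G} (hg : g ∈ K) :
    s * g * s = g⁻¹ := by
  obtain ⟨c, hc, j, -, h1, h2, rfl⟩ := exists_cent_inv hK hs hn hg
  rw [h c hc h1, one_mul, h2]

omit [Finite G] in
theorem comm_of_inv {K : Subgroup G} {s : G} (hs : s * s = 1) (h : ∀ g ∈ K, s * g * s = g⁻¹)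
    {a b : G} (ha : a ∈ K) (hb : b ∈ K) : a * b = b * a := by
  have h1 := h _ (K.mul_mem ha hb)
  rw [show s * (a * b) * s = s * a * s * (s * b * s) by simp [mul_assoc, mul_mul_self hs],
    h a ha, h b hb, ← mul_inv_rev, inv_inj] at h1
  exact h1.symm

/-- A four-group acting on a group of odd order. -/
theorem le_of_four {K M : Subgroup G} (hK : Odd (Nat.card K)) {a b : G} (ha : a * a = 1)
    (hb : b * b = 1) (hab : b * a = a * b) (ha1 : a ≠ 1) (hb1 : b ≠ 1) (hne : b ≠ a)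
    (hna : ∀ x ∈ K, a * x * a ∈ K) (hnb : ∀ x ∈ K, b * x * b ∈ K)
    (h1 : ∀ x ∈ K, x * a = a * x → x ∈ M) (h2 : ∀ x ∈ K, x * b = b * x → x ∈ M)
    (h3 : ∀ x ∈ K, x * (a * b) = a * b * x → x ∈ M) : K ≤ M := by
  have hV := H16.isKleinFour_kleinOf ha hb hab ha1 hb1 hne
  have hc := H16.card_kleinOf ha hb hab ha1 hb1 hne
  haveI := hV.isMulCommutative
  have na : a ∈ normalizer (K : Set G) := mem_normalizer_of (by simpa [inv_eq_self ha] using hna)
  have nb : b ∈ normalizer (K : Set G) := mem_normalizer_of (by simpa [inv_eq_self hb] using hnb)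
  refine H1.le_of_centralizer_le (H16.kleinOf a b ha hb hab) K M hV.not_isCyclic ?_ ?_ ?_
  · intro g hg
    rcases H16.mem_kleinOf.1 hg with rfl | rfl | rfl | rfl
    exacts [one_mem _, na, nb, mul_mem na nb]
  · rw [hc]; exact (Nat.coprime_two_left.2 hK).pow_left 2
  · rintro g hg hg1 x ⟨hx, hc'⟩
    have hc'' := mem_cent.1 hc'
    rcases H16.mem_kleinOf.1 hg with e | e | e | e <;> rw [e] at hc''
    exacts [absurd e hg1, h1 x hx hc'', h2 x hx hc'', h3 x hx hc'']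

/-- `O(L)` as a subgroup of `G`. -/
def OC (L : Subgroup G) : Subgroup G := (pPrimeCore 2 L).map L.subtype

omit [Finite G] in
theorem OC_le (L : Subgroup G) : OC L ≤ L := map_subtype_le _

theorem OC_odd (L : Subgroup G) : Odd (Nat.card (OC L)) := by
  rw [OC, card_map_of_injective L.subtype_injective]; exact H17.odd_card_pPrimeCore

theorem OC_conj {L : Subgroup G} {g x : G} (hg : ∀ x ∈ L, g * x * g⁻¹ ∈ L) (hx : x ∈ OC L) :
    g * x * g⁻¹ ∈ OC L :=
  conj_mem_of_normalizer (H1.le_normalizer_map_subtype (A := normalizer (L : Set G)) le_rfl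
    (pPrimeCore 2 L) (mem_normalizer_of hg)) hx

theorem OC_conj' {L : Subgroup G} {g x : G} (hg : g ∈ L) (hx : x ∈ OC L) : g * x * g⁻¹ ∈ OC L :=
  OC_conj (fun _ hx => mul_mem (mul_mem hg hx) (inv_mem hg)) hx

theorem le_OC {L K : Subgroup G} (hKL : K ≤ L) (hK : Odd (Nat.card K))
    (hn : ∀ g ∈ L, ∀ x ∈ K, g * x * g⁻¹ ∈ K) : K ≤ OC L := by
  have h1 : K.subgroupOf L ≤ pPrimeCore 2 L := H2.le_pPrimeCore
    ⟨fun x hx g => hn g g.2 x hx⟩ (by
      rw [Nat.card_congr (subgroupOfEquivOfLe hKL).toEquiv]; exact Nat.coprime_two_right.2 hK)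
  intro x hx
  exact ⟨⟨x, hKL hx⟩, h1 hx, rfl⟩

theorem zstar_rel {L : Subgroup G} {s : G} (hsL : s ∈ L) (hs : s * s = 1) (hs1 : s ≠ 1)
    (iso : ∀ g ∈ L, s * (g * s * g⁻¹) = g * s * g⁻¹ * s → g * s * g⁻¹ = s) {g : G} (hg : g ∈ L) :
    s * g * s * g⁻¹ ∈ OC L := by
  have h := H17.zstar (G := L) (z := ⟨s, hsL⟩) ⟨by
    rw [← orderOf_injective L.subtype L.subtype_injective]
    exact orderOf_eq_prime (by rw [pow_two]; exact hs) hs1, fun g hc =>
      Subtype.ext (iso g g.2 (congrArg Subtype.val hc.eq))⟩ ⟨g, hg⟩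
  exact ⟨_, h, by simp [inv_eq_self hs]⟩

/-- `Z*`: `L = O(L) C_L(s)`. -/
theorem zstar_mul {L : Subgroup G} {s : G} (hsL : s ∈ L) (hs : s * s = 1) (hs1 : s ≠ 1)
    (iso : ∀ g ∈ L, s * (g * s * g⁻¹) = g * s * g⁻¹ * s → g * s * g⁻¹ = s) {g : G} (hg : g ∈ L) :
    ∃ c ∈ L, ∃ j ∈ OC L, c * s = s * c ∧ g = c * j := by
  have h1 : g⁻¹ * (s * g * s) ∈ OC L := by
    simpa [mul_assoc, inv_eq_self hs] using inv_mem (zstar_rel hsL hs hs1 iso (inv_mem hg))
  obtain ⟨j, hj, -, h2⟩ := exists_cent_inv' hs (odd_orderOf (OC_odd L) h1)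
  have hj' := (zpowers_le.2 h1) hj
  exact ⟨g * j, mul_mem hg (OC_le L hj'), j⁻¹, inv_mem hj', h2, by group⟩

/-- An element of odd order inverted by an isolated involution lies in the core. -/
theorem mem_OC_of_inv {L : Subgroup G} {s : G} (hsL : s ∈ L) (hs : s * s = 1) (hs1 : s ≠ 1)
    (iso : ∀ g ∈ L, s * (g * s * g⁻¹) = g * s * g⁻¹ * s → g * s * g⁻¹ = s) {g : G} (hg : g ∈ L)
    (ho : Odd (orderOf g)) (h : s * g * s = g⁻¹) : g ∈ OC L := by
  have h1 := zstar_rel hsL hs hs1 iso (inv_mem hg)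
  have h2 : s * g⁻¹ * s = g := by rw [← h]; simp [mul_assoc, mul_mul_self hs, hs]
  rw [h2, inv_inv] at h1
  obtain ⟨k, hk⟩ := exists_sq_eq ho
  have e : Commute (g ^ k) (g ^ k) := Commute.refl _
  rw [← hk, ← pow_add, ← two_mul, pow_mul, pow_two]
  exact pow_mem h1 k

/-- Semiregular action by conjugation. -/
theorem card_dvd_of_conj (C : Subgroup G) (S : Set G) (hS : ∀ g ∈ C, ∀ x ∈ S, g * x * g⁻¹ ∈ S)
    (hfree : ∀ g ∈ C, ∀ x ∈ S, g * x = x * g → g = 1) : Nat.card C ∣ S.ncard := by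
  letI : MulAction G G := MulAction.compHom G (MulAut.conj (G := G))
  exact H16.card_dvd_ncard_of_semiregular C S (Set.toFinite _) hS
    fun g hg x hx h => hfree g hg x hx (mul_inv_eq_iff_eq_mul.1 h)

theorem ncard_conj_class (L : Subgroup G) (a : G) :
    {x | ∃ g ∈ L, g * a * g⁻¹ = x}.ncard * Nat.card (L ⊓ centralizer {a} : Subgroup G) = Nat.card L := by
  letI : MulAction L G := MulAction.compHom G ((MulAut.conj (G := G)).comp L.subtype)
  haveI := Fintype.ofFinite L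
  haveI := Fintype.ofFinite (MulAction.orbit L a)
  haveI := Fintype.ofFinite (MulAction.stabilizer L a)
  have h1 := MulAction.card_orbit_mul_card_stabilizer_eq_card_group L a
  have h2 : MulAction.orbit L a = {x | ∃ g ∈ L, g * a * g⁻¹ = x} := by
    ext x
    exact ⟨by rintro ⟨g, rfl⟩; exact ⟨g, g.2, rfl⟩, by rintro ⟨g, hg, rfl⟩; exact ⟨⟨g, hg⟩, rfl⟩⟩
  have h3 : MulAction.stabilizer L a = (L ⊓ centralizer {a} : Subgroup G).subgroupOf L := by
    ext g
    rw [MulAction.mem_stabilizer_iff, mem_subgroupOf, mem_inf, mem_cent]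
    exact ⟨fun h => ⟨g.2, mul_inv_eq_iff_eq_mul.1 h⟩, fun h => mul_inv_eq_iff_eq_mul.2 h.2⟩
  simp only [← Nat.card_eq_fintype_card] at h1
  rwa [h3, Nat.card_congr (subgroupOfEquivOfLe inf_le_left).toEquiv, h2, Nat.card_coe_set_eq] at h1

end H4
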