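import Mathlib

/-!
Abstract description of a subgroup `H ≅ GL₂^ε(q) / Z₀` (`Z₀` central of odd order, `q` odd,
`ε = 1`: linear, `ε = -1`: unitary) of a group `G`.
-/

set_option autoImplicit false

namespace H4

open Subgroup

/-- Numerical parameters: `q = p ^ f` odd, `ε = ± 1`, `m = q - ε`, `n = q + ε`. -/
structure NP where
  q : ℕ
  p : ℕ
  f : ℕ
  m : ℕ
  n : ℕ
  ε : ℤ
  hp : p.Prime
  p_ne : p ≠ 2
  f_pos : 0 < f
  hq : q = p ^ f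
  hε : ε = 1 ∨ ε = -1
  hm : (m : ℤ) = q - ε
  hn : (n : ℤ) = q + ε

/-- `H` looks like `GL₂^ε(q) / Z₀`: centre `Z`, torus `T` (containing the four-group `⟨t, u⟩`,
`|T : Z| = q - ε`), cyclic torus `W` (`|W : Z| = q + ε`), Sylow `p`-subgroup `X`, involutions
`w`, `v` inverting `T / Z`, `W / Z`; the split torus `S` is `T` for `ε = 1` and `W` for `ε = -1`. -/
structure GD (G : Type*) [Group G] (N : NP) where
  H : Subgroup G
  Z : Subgroup G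
  T : Subgroup G
  W : Subgroup G
  X : Subgroup G
  S : Subgroup G
  t : G
  u : G
  w : G
  v : G
  hS : (N.ε = 1 ∧ S = T) ∨ (N.ε = -1 ∧ S = W)
  cZ : ∃ d, Odd d ∧ d * Nat.card Z = N.m
  cT : Nat.card T = Nat.card Z * N.m
  cW : Nat.card W = Nat.card Z * N.n
  cX : Nat.card X = N.q
  cH : Nat.card H = Nat.card Z * (N.q * N.m * N.n)
  Z_le_T : Z ≤ T
  Z_le_W : Z ≤ W
  T_le : T ≤ H
  W_le : W ≤ H
  X_le : X ≤ H
  Z_comm : ∀ z ∈ Z, ∀ h ∈ H, z * h = h * z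
  t_mem : t ∈ Z
  t_ne : t ≠ 1
  t_sq : t * t = 1
  cycT : ∃ τ ∈ T, ∀ y ∈ T, ∃ k : ℕ, ∃ z ∈ Z, y = τ ^ k * z
  cycW : ∃ ω ∈ W, ∀ y ∈ W, ∃ k : ℕ, y = ω ^ k
  X_comm : ∀ x ∈ X, ∀ y ∈ X, x * y = y * x
  X_pow : ∀ x ∈ X, x ^ N.p = 1
  cent_T : ∀ y ∈ T, y ∉ Z → ∀ h ∈ H, h * y = y * h → h ∈ T
  cent_W : ∀ y ∈ W, y ∉ Z → ∀ h ∈ H, h * y = y * h → h ∈ W
  cent_X : ∀ x ∈ X, x ≠ 1 → ∀ h ∈ H, h * x = x * h → ∃ z ∈ Z, ∃ x' ∈ X, h = z * x'
  u_mem : u ∈ T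
  u_not : u ∉ Z
  u_sq : u * u = 1
  w_mem : w ∈ H
  w_not : w ∉ T
  w_sq : w * w = 1
  w_inv : ∀ y ∈ T, y * (w * y * w) ∈ Z
  w_onto : ∀ z ∈ Z, ∃ y ∈ T, y * (w * y * w) = z
  norm_T : ∀ h ∈ H, ∀ y ∈ T, y ∉ Z → h * y * h⁻¹ ∈ T → h ∈ T ∨ h * w ∈ T
  v_mem : v ∈ H
  v_not : v ∉ W
  v_sq : v * v = 1
  v_inv : ∀ y ∈ W, y * (v * y * v) ∈ Z
  v_onto : ∀ z ∈ Z, ∃ y ∈ W, y * (v * y * v) = z
  norm_W : ∀ h ∈ H, ∀ y ∈ W, y ∉ Z → h * y * h⁻¹ ∈ W → h ∈ W ∨ h * v ∈ W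
  S_norm : ∀ s ∈ S, ∀ x ∈ X, s * x * s⁻¹ ∈ X
  norm_X : ∀ h ∈ H, ∀ x ∈ X, x ≠ 1 → h * x * h⁻¹ ∈ X → ∃ x' ∈ X, ∃ s ∈ S, h = x' * s

/-- Extra data in the linear case: root elements `x a` (and `w * x a * w`) of `SL₂(F)`. -/
structure GL2P {G : Type*} [Group G] {N : NP} (D : GD G N) (F : Type*) [Field F] where
  x : F → G
  x_add : ∀ a b, x (a + b) = x a * x b
  mem_X : ∀ g, g ∈ D.X ↔ ∃ a, g = x a
  x_inj : ∀ a, x a = 1 → a = 0
  n_mem : ∀ r, r ≠ 0 → x r * (D.w * x (-r⁻¹) * D.w) * x r * D.w ∈ D.T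
  h_mul : ∀ r s, r ≠ 0 → s ≠ 0 →
    (x r * (D.w * x (-r⁻¹) * D.w) * x r * (x (-1) * (D.w * x 1 * D.w) * x (-1))) *
      (x s * (D.w * x (-s⁻¹) * D.w) * x s * (x (-1) * (D.w * x 1 * D.w) * x (-1))) =
    x (r * s) * (D.w * x (-(r * s)⁻¹) * D.w) * x (r * s) * (x (-1) * (D.w * x 1 * D.w) * x (-1))
  T_act : ∀ τ ∈ D.T, ∃ c : F, c ≠ 0 ∧ (∀ a, τ * x a * τ⁻¹ = x (c * a)) ∧
    ∀ a, τ * (D.w * x a * D.w) * τ⁻¹ = D.w * x (c⁻¹ * a) * D.w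

namespace GD

variable {G G' : Type*} [Group G] [Group G'] {N : NP}

theorem card_map_mul [Finite G] (φ : G →* G') {K A : Subgroup G} (hKA : K ≤ A)
    (hK : ∀ a ∈ A, φ a = 1 → a ∈ K) (hK' : ∀ a ∈ K, φ a = 1) :
    Nat.card (A.map φ) * Nat.card K = Nat.card A := by
  have h1 : (φ.comp A.subtype).ker = K.subgroupOf A := by
    ext ⟨a, ha⟩
    simp only [MonoidHom.mem_ker, MonoidHom.comp_apply, mem_subgroupOf]
    exact ⟨hK a ha, hK' a⟩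
  have h2 : (φ.comp A.subtype).range = A.map φ := by
    rw [MonoidHom.range_comp, range_subtype]
  have h3 := (φ.comp A.subtype).ker.card_mul_index
  rw [index_ker, h2, h1, Nat.card_congr (subgroupOfEquivOfLe hKA).toEquiv] at h3
  rw [mul_comm, h3]

theorem eq_one_of_odd [Finite G] {K : Subgroup G} (hK : Odd (Nat.card K)) {c : G} (hc : c ∈ K)
    (h : c * c = 1) : c = 1 := by
  have h1 : orderOf c ∣ 2 := orderOf_dvd_of_pow_eq_one (by rw [pow_two, h])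
  have h2 : orderOf c ∣ Nat.card K := K.orderOf_dvd_natCard hc
  have : orderOf c ∣ 1 := (Nat.coprime_two_left.2 hK) ▸ Nat.dvd_gcd h1 h2
  exact orderOf_eq_one_iff.1 (Nat.dvd_one.1 this)

/-- The torus part of the transport lemma. -/
theorem cent_map_aux [Finite G] (φ : G →* G') {H Z T K : Subgroup G} {w : G} (hK : Odd (Nat.card K))
    (hKZ : K ≤ Z) (hker : ∀ a ∈ H, φ a = 1 → a ∈ K) (hZT : Z ≤ T) (hT : T ≤ H)
    (hZ : ∀ z ∈ Z, ∀ h ∈ H, z * h = h * z) (hTc : ∀ a ∈ T, ∀ b ∈ T, a * b = b * a)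
    (hw : w ∈ H) (hwT : w ∉ T) (hww : w * w = 1)
    (cent : ∀ y ∈ T, y ∉ Z → ∀ h ∈ H, h * y = y * h → h ∈ T)
    (norm : ∀ h ∈ H, ∀ y ∈ T, y ∉ Z → h * y * h⁻¹ ∈ T → h ∈ T ∨ h * w ∈ T) :
    ∀ y ∈ T.map φ, y ∉ Z.map φ → ∀ h ∈ H.map φ, h * y = y * h → h ∈ T.map φ := by
  rintro _ ⟨y, hy, rfl⟩ hyZ _ ⟨h, hh, rfl⟩ e
  have hyZ' : y ∉ Z := fun h => hyZ ⟨y, h, rfl⟩
  have h1 : h * y * h⁻¹ * y⁻¹ ∈ K := hker _
    (mul_mem (mul_mem (mul_mem hh (hT hy)) (inv_mem hh)) (inv_mem (hT hy))) (by simp [e])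
  have h2 : h * y * h⁻¹ ∈ T := by simpa using mul_mem (hZT (hKZ h1)) hy
  rcases norm h hh y hy hyZ' h2 with h3 | h3
  · exact ⟨h, h3, rfl⟩
  exfalso
  have hw' : w⁻¹ = w := inv_eq_of_mul_eq_one_right hww
  obtain ⟨s, hs, rfl⟩ : ∃ s ∈ T, h = s * w := ⟨h * w, h3, by rw [mul_assoc, hww, mul_one]⟩
  have h4 : w * y * w ∈ T := by
    have := mul_mem (mul_mem (inv_mem hs) h2) hs
    rw [mul_inv_rev, hw'] at this
    simpa [mul_assoc] using this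
  have h5 : s * w * y * (s * w)⁻¹ = w * y * w := by
    rw [mul_inv_rev, hw']
    calc s * w * y * (w * s⁻¹) = s * (w * y * w) * s⁻¹ := by group
      _ = w * y * w := by rw [hTc s hs _ h4]; group
  rw [h5] at h1
  have h6 : w * y * w * y⁻¹ = 1 := by
    refine eq_one_of_odd hK h1 ?_
    have h7 := hZ _ (hKZ h1) w hw
    have h8 : w * y * w * y⁻¹ = y * (w * y⁻¹ * w) := by
      calc w * y * w * y⁻¹ = w * (w * y * w * y⁻¹ * w) * w * w := by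
            rw [h7]; simp only [mul_assoc, ← mul_assoc w w, hww, one_mul, mul_one]
        _ = y * (w * y⁻¹ * w) := by simp only [mul_assoc, ← mul_assoc w w, hww, one_mul, mul_one]
    have h9 : w * y⁻¹ * w = (w * y * w)⁻¹ := by rw [mul_inv_rev, mul_inv_rev, hw']; group
    calc w * y * w * y⁻¹ * (w * y * w * y⁻¹) = w * y * w * y⁻¹ * (y * (w * y * w)⁻¹) := by
          rw [← h9, ← h8]
      _ = 1 := by group
  refine hwT (cent y hy hyZ' w hw ?_)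
  rw [mul_inv_eq_one] at h6
  calc w * y = w * y * w * w := by rw [mul_assoc _ w w, hww, mul_one]
    _ = y * w := by rw [h6]

theorem T_comm (D : GD G N) : ∀ a ∈ D.T, ∀ b ∈ D.T, a * b = b * a := by
  obtain ⟨τ, hτ, h⟩ := D.cycT
  intro a ha b hb
  obtain ⟨i, z, hz, rfl⟩ := h a ha
  obtain ⟨j, z', hz', rfl⟩ := h b hb
  have e1 : Commute z (τ ^ j) := D.Z_comm z hz _ (D.T_le (pow_mem hτ _))
  have e2 : Commute z' (τ ^ i) := D.Z_comm z' hz' _ (D.T_le (pow_mem hτ _))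
  have e3 : Commute z z' := D.Z_comm z hz _ (D.T_le (D.Z_le_T hz'))
  exact (((Commute.refl τ).pow_pow i j).mul_right e2.symm).mul_left (e1.mul_right e3)

theorem W_comm (D : GD G N) : ∀ a ∈ D.W, ∀ b ∈ D.W, a * b = b * a := by
  obtain ⟨τ, -, h⟩ := D.cycW
  intro a ha b hb
  obtain ⟨i, rfl⟩ := h a ha
  obtain ⟨j, rfl⟩ := h b hb
  exact (Commute.refl τ).pow_pow i j

theorem p_not_dvd_m : ¬ N.p ∣ N.m := by
  intro h
  have h1 : (N.p : ℤ) ∣ N.q := by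
    rw [N.hq]; exact_mod_cast dvd_pow_self _ N.f_pos.ne'
  have h2 : (N.p : ℤ) ∣ N.q - N.ε := N.hm ▸ Int.natCast_dvd_natCast.2 h
  have h3 : (N.p : ℤ) ∣ N.ε := by simpa using dvd_sub h1 h2
  have h4 : (N.p : ℤ) ∣ 1 := by rcases N.hε with e | e <;> simpa [e] using h3
  exact N.hp.one_lt.ne' (by exact_mod_cast Int.eq_one_of_dvd_one (by positivity) h4)

theorem Z_eq_one_of_pow [Finite G] (D : GD G N) {z : G} (hz : z ∈ D.Z) (h : z ^ N.p = 1) : z = 1 := by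
  obtain ⟨d, -, hd⟩ := D.cZ
  have h1 : orderOf z ∣ N.m := (D.Z.orderOf_dvd_natCard hz).trans (Dvd.intro_left d hd)
  rcases (Nat.dvd_prime N.hp).1 (orderOf_dvd_of_pow_eq_one h) with h2 | h2
  · exact orderOf_eq_one_iff.1 h2
  · exact absurd (h2 ▸ h1) p_not_dvd_m

theorem eq_one_of_mem_X_Z [Finite G] (D : GD G N) {x : G} (hx : x ∈ D.X) (hz : x ∈ D.Z) : x = 1 :=
  D.Z_eq_one_of_pow hz (D.X_pow x hx)

/-- `x' = x * z` with `x, x'` of order dividing `p` and `z` central forces `z = 1`. -/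
theorem eq_of_conj_aux [Finite G] (D : GD G N) {a b : G} (ha : a ∈ D.H) (hap : a ^ N.p = 1)
    (hbp : b ^ N.p = 1) (h : b * a⁻¹ ∈ D.Z) : b = a := by
  have e : Commute (b * a⁻¹) a := D.Z_comm _ h a ha
  have : (b * a⁻¹) ^ N.p = 1 := by
    have := e.mul_pow N.p
    rwa [inv_mul_cancel_right, hbp, hap, mul_one, eq_comm] at this
  exact mul_inv_eq_one.1 (D.Z_eq_one_of_pow h this)

/-- Transport along a homomorphism whose kernel meets `H` in a central subgroup of odd order. -/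
def mapK [Finite G] (D : GD G N) (φ : G →* G') (K : Subgroup G) (hK : Odd (Nat.card K))
    (hKZ : K ≤ D.Z) (hker : ∀ a ∈ D.H, φ a = 1 → a ∈ K) (hker' : ∀ a ∈ K, φ a = 1) : GD G' N where
  H := D.H.map φ
  Z := D.Z.map φ
  T := D.T.map φ
  W := D.W.map φ
  X := D.X.map φ
  S := D.S.map φ
  t := φ D.t
  u := φ D.u
  w := φ D.w
  v := φ D.v
  hS := by rcases D.hS with ⟨h, e⟩ | ⟨h, e⟩ <;> simp [h, e]
  cZ := by
    obtain ⟨d, hd, e⟩ := D.cZ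
    refine ⟨d * Nat.card K, hd.mul hK, ?_⟩
    rw [← e, ← card_map_mul φ hKZ (fun a ha => hker a (D.T_le (D.Z_le_T ha))) hker']; ring
  cT := by
    have h1 := card_map_mul φ hKZ (fun a ha => hker a (D.T_le (D.Z_le_T ha))) hker'
    have h2 := card_map_mul φ (hKZ.trans D.Z_le_T) (fun a ha => hker a (D.T_le ha)) hker'
    rw [D.cT, ← h1] at h2
    exact Nat.eq_of_mul_eq_mul_right Nat.card_pos (h2.trans (by ring))
  cW := by
    have h1 := card_map_mul φ hKZ (fun a ha => hker a (D.T_le (D.Z_le_T ha))) hker'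
    have h2 := card_map_mul φ (hKZ.trans D.Z_le_W) (fun a ha => hker a (D.W_le ha)) hker'
    rw [D.cW, ← h1] at h2
    exact Nat.eq_of_mul_eq_mul_right Nat.card_pos (h2.trans (by ring))
  cX := by
    have := card_map_mul φ (K := ⊥) (A := D.X) bot_le
      (fun a ha h => D.eq_one_of_mem_X_Z ha (hKZ (hker a (D.X_le ha) h))) (by simp)
    simpa [D.cX] using this
  cH := by
    have h1 := card_map_mul φ hKZ (fun a ha => hker a (D.T_le (D.Z_le_T ha))) hker'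
    have h2 := card_map_mul φ (hKZ.trans (D.Z_le_T.trans D.T_le)) hker hker'
    rw [D.cH, ← h1] at h2
    exact Nat.eq_of_mul_eq_mul_right Nat.card_pos (h2.trans (by ring))
  Z_le_T := map_mono D.Z_le_T
  Z_le_W := map_mono D.Z_le_W
  T_le := map_mono D.T_le
  W_le := map_mono D.W_le
  X_le := map_mono D.X_le
  Z_comm := by
    rintro _ ⟨z, hz, rfl⟩ _ ⟨h, hh, rfl⟩
    rw [← map_mul, D.Z_comm z hz h hh, map_mul]
  t_mem := ⟨_, D.t_mem, rfl⟩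
  t_ne := fun h => D.t_ne (eq_one_of_odd hK (hker _ (D.T_le (D.Z_le_T D.t_mem)) h) D.t_sq)
  t_sq := by rw [← map_mul, D.t_sq, map_one]
  cycT := by
    obtain ⟨τ, hτ, h⟩ := D.cycT
    refine ⟨φ τ, ⟨τ, hτ, rfl⟩, ?_⟩
    rintro _ ⟨y, hy, rfl⟩
    obtain ⟨k, z, hz, rfl⟩ := h y hy
    exact ⟨k, φ z, ⟨z, hz, rfl⟩, by simp⟩
  cycW := by
    obtain ⟨τ, hτ, h⟩ := D.cycW
    refine ⟨φ τ, ⟨τ, hτ, rfl⟩, ?_⟩
    rintro _ ⟨y, hy, rfl⟩
    obtain ⟨k, rfl⟩ := h y hy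
    exact ⟨k, by simp⟩
  X_comm := by
    rintro _ ⟨z, hz, rfl⟩ _ ⟨h, hh, rfl⟩
    rw [← map_mul, D.X_comm z hz h hh, map_mul]
  X_pow := by
    rintro _ ⟨z, hz, rfl⟩
    rw [← map_pow, D.X_pow z hz, map_one]
  cent_T := cent_map_aux φ hK hKZ hker D.Z_le_T D.T_le D.Z_comm D.T_comm D.w_mem D.w_not D.w_sq
    D.cent_T D.norm_T
  cent_W := cent_map_aux φ hK hKZ hker D.Z_le_W D.W_le D.Z_comm D.W_comm D.v_mem D.v_not D.v_sq
    D.cent_W D.norm_W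
  cent_X := by
    rintro _ ⟨x, hx, rfl⟩ hx1 _ ⟨h, hh, rfl⟩ e
    have h1 : h * x * h⁻¹ * x⁻¹ ∈ K := hker _
      (mul_mem (mul_mem (mul_mem hh (D.X_le hx)) (inv_mem hh)) (inv_mem (D.X_le hx))) (by simp [e])
    have h2 := D.eq_of_conj_aux (D.X_le hx) (D.X_pow x hx)
      (by rw [conj_pow, D.X_pow x hx]; simp) (hKZ h1)
    obtain ⟨z, hz, x', hx', rfl⟩ := D.cent_X x hx (by rintro rfl; simp at hx1) h hh
      (mul_inv_eq_iff_eq_mul.1 h2)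
    exact ⟨φ z, ⟨z, hz, rfl⟩, φ x', ⟨x', hx', rfl⟩, by simp⟩
  u_mem := ⟨_, D.u_mem, rfl⟩
  u_not := by
    rintro ⟨z, hz, e⟩
    have := hKZ (hker (z⁻¹ * D.u) (D.T_le (mul_mem (inv_mem (D.Z_le_T hz)) D.u_mem)) (by simp [e]))
    exact D.u_not (by simpa using mul_mem hz this)
  u_sq := by rw [← map_mul, D.u_sq, map_one]
  w_mem := ⟨_, D.w_mem, rfl⟩
  w_not := by
    rintro ⟨z, hz, e⟩
    have := hKZ (hker (z⁻¹ * D.w) (mul_mem (inv_mem (D.T_le hz)) D.w_mem) (by simp [e]))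
    exact D.w_not (by simpa using mul_mem hz (D.Z_le_T this))
  w_sq := by rw [← map_mul, D.w_sq, map_one]
  w_inv := by
    rintro _ ⟨y, hy, rfl⟩
    exact ⟨_, D.w_inv y hy, by simp⟩
  w_onto := by
    rintro _ ⟨z, hz, rfl⟩
    obtain ⟨y, hy, rfl⟩ := D.w_onto z hz
    exact ⟨φ y, ⟨y, hy, rfl⟩, by simp⟩
  norm_T := by
    rintro _ ⟨h, hh, rfl⟩ _ ⟨y, hy, rfl⟩ hyZ ⟨y', hy', e⟩
    have h1 := D.Z_le_T (hKZ (hker (y'⁻¹ * (h * y * h⁻¹)) (mul_mem (inv_mem (D.T_le hy'))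
      (mul_mem (mul_mem hh (D.T_le hy)) (inv_mem hh))) (by simp [e, mul_assoc])))
    rcases D.norm_T h hh y hy (fun h => hyZ ⟨y, h, rfl⟩) (by simpa using mul_mem hy' h1) with h2 | h2
    · exact Or.inl ⟨h, h2, rfl⟩
    · exact Or.inr ⟨_, h2, by simp⟩
  v_mem := ⟨_, D.v_mem, rfl⟩
  v_not := by
    rintro ⟨z, hz, e⟩
    have := hKZ (hker (z⁻¹ * D.v) (mul_mem (inv_mem (D.W_le hz)) D.v_mem) (by simp [e]))
    exact D.v_not (by simpa using mul_mem hz (D.Z_le_W this))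
  v_sq := by rw [← map_mul, D.v_sq, map_one]
  v_inv := by
    rintro _ ⟨y, hy, rfl⟩
    exact ⟨_, D.v_inv y hy, by simp⟩
  v_onto := by
    rintro _ ⟨z, hz, rfl⟩
    obtain ⟨y, hy, rfl⟩ := D.v_onto z hz
    exact ⟨φ y, ⟨y, hy, rfl⟩, by simp⟩
  norm_W := by
    rintro _ ⟨h, hh, rfl⟩ _ ⟨y, hy, rfl⟩ hyZ ⟨y', hy', e⟩
    have h1 := D.Z_le_W (hKZ (hker (y'⁻¹ * (h * y * h⁻¹)) (mul_mem (inv_mem (D.W_le hy'))
      (mul_mem (mul_mem hh (D.W_le hy)) (inv_mem hh))) (by simp [e, mul_assoc])))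
    rcases D.norm_W h hh y hy (fun h => hyZ ⟨y, h, rfl⟩) (by simpa using mul_mem hy' h1) with h2 | h2
    · exact Or.inl ⟨h, h2, rfl⟩
    · exact Or.inr ⟨_, h2, by simp⟩
  S_norm := by
    rintro _ ⟨s, hs, rfl⟩ _ ⟨x, hx, rfl⟩
    exact ⟨_, D.S_norm s hs x hx, by simp⟩
  norm_X := by
    rintro _ ⟨h, hh, rfl⟩ _ ⟨x, hx, rfl⟩ hx1 ⟨x', hx', e⟩
    have h1 := hKZ (hker (h * x * h⁻¹ * x'⁻¹) (mul_mem
      (mul_mem (mul_mem hh (D.X_le hx)) (inv_mem hh)) (inv_mem (D.X_le hx'))) (by simp [e]))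
    have h2 := D.eq_of_conj_aux (D.X_le hx') (D.X_pow x' hx')
      (by rw [conj_pow, D.X_pow x hx]; simp) h1
    obtain ⟨a, ha, s, hs, rfl⟩ := D.norm_X h hh x hx (by rintro rfl; simp at hx1) (h2 ▸ hx')
    exact ⟨φ a, ⟨a, ha, rfl⟩, φ s, ⟨s, hs, rfl⟩, by simp⟩

/-- Transport along an injective homomorphism. -/
def map [Finite G] (D : GD G N) (φ : G →* G') (hφ : Function.Injective φ) : GD G' N :=
  D.mapK φ ⊥ (by simp) bot_le (fun a _ h => (injective_iff_map_eq_one φ).1 hφ a h) (by simp)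

/-- Conjugation by `g`. -/
def conj [Finite G] (D : GD G N) (g : G) : GD G N :=
  D.map (MulAut.conj g).toMonoidHom (MulAut.conj g).injective

end GD

namespace GL2P

variable {G G' : Type*} [Group G] [Group G'] {N : NP} {D : GD G N} {F : Type*} [Field F]

/-- Transport of the root elements. -/
def mapK [Finite G] (P : GL2P D F) (φ : G →* G') (K : Subgroup G) (hK : Odd (Nat.card K))
    (hKZ : K ≤ D.Z) (hker : ∀ a ∈ D.H, φ a = 1 → a ∈ K) (hker' : ∀ a ∈ K, φ a = 1) :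
    GL2P (D.mapK φ K hK hKZ hker hker') F where
  x a := φ (P.x a)
  x_add a b := by rw [P.x_add, map_mul]
  mem_X g := ⟨by rintro ⟨x, hx, rfl⟩; obtain ⟨a, rfl⟩ := (P.mem_X x).1 hx; exact ⟨a, rfl⟩,
    by rintro ⟨a, rfl⟩; exact ⟨_, (P.mem_X _).2 ⟨a, rfl⟩, rfl⟩⟩
  x_inj a h := by
    have h1 : P.x a ∈ D.X := (P.mem_X _).2 ⟨a, rfl⟩
    exact P.x_inj a (D.eq_one_of_mem_X_Z h1 (hKZ (hker _ (D.X_le h1) h)))
  n_mem r hr := ⟨_, P.n_mem r hr, by simp [GD.mapK]⟩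
  h_mul r s hr hs := by simpa [GD.mapK] using congrArg φ (P.h_mul r s hr hs)
  T_act := by
    rintro _ ⟨τ, hτ, rfl⟩
    obtain ⟨c, hc, h1, h2⟩ := P.T_act τ hτ
    exact ⟨c, hc, fun a => by simpa using congrArg φ (h1 a),
      fun a => by simpa [GD.mapK] using congrArg φ (h2 a)⟩

/-- Conjugation of the root elements. -/
def conj [Finite G] (P : GL2P D F) (g : G) : GL2P (D.conj g) F :=
  P.mapK (MulAut.conj g).toMonoidHom ⊥ (by simp) bot_le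
    (fun a _ h => (injective_iff_map_eq_one _).1 (MulAut.conj g).injective a h) (by simp)

end GL2P

end H4
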