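import Mathlib
import Cfsg.Agent.H23.T1
import Cfsg.Agent.H3.B71Defs

/-!
# A weakly closed elementary abelian subgroup with large commutators is strongly closed
-/

set_option autoImplicit false
set_option linter.unusedSectionVars false
set_option linter.unusedVariables false

open Cfsg H24 H26 H26.Gold H23.TC H3.B71 Subgroup

namespace H4.K3

universe u

variable {G : Type u} [Group G] [Finite G] {r : ℕ} {A P Q Q₀ S : Subgroup G} {g w x : G}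

/-- the numerical hypothesis on `Q` -/
structure Hy (r : ℕ) (Q : Subgroup G) : Prop where
  ea : EA Q
  rk : ∀ E, E ≤ N[Q] → EA E → ♯E ≤ r * ♯(E ⊓ Q)
  big : ∀ x ∈ N[Q], x ∉ Q → x * x ∈ Q → 2 * r * ♯(Q ⊓ C{x}) < ♯Q

theorem ea_cj (h : EA A) (g : G) : EA (cj g A) := ea_of_sq fun x hx => by
  obtain ⟨y, hy, rfl⟩ := mem_cj'.1 hx
  exact conj_sq (h.sq hy) g

/-- an involution normalising `Q` has a large centraliser -/
theorem card_le_sq (h : EA Q) (hx : x ∈ N[Q]) (h2 : x * x = 1) :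
    ♯Q ≤ ♯(Q ⊓ C{x}) * ♯(Q ⊓ C{x}) := by
  let f : Q →* G := MonoidHom.mk' (fun q => q * (x * q * x⁻¹)) fun a b => by
    have c := h.comm b.2 (conj_mem hx a.2)
    simp only [coe_mul]
    calc (a : G) * b * (x * (a * b) * x⁻¹) = a * (b * (x * a * x⁻¹)) * (x * b * x⁻¹) := by group
      _ = _ := by rw [c]; group
  have h1 : ♯(f.ker.map Q.subtype) ≤ ♯(Q ⊓ C{x}) := card_le_of_le (by
    rintro _ ⟨q, hq, rfl⟩
    have e : (q : G) * (x * q * x⁻¹) = 1 := hq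
    refine ⟨q.2, mem_C1.2 (comm_of_conj ?_).symm⟩
    exact (inv_eq_of_mul_eq_one_right e).symm.trans (h.inv q.2))
  have h3 : ♯f.range ≤ ♯(Q ⊓ C{x}) := card_le_of_le (by
    rintro _ ⟨q, rfl⟩
    refine ⟨mul_mem q.2 (conj_mem hx q.2), mem_C1.2 (comm_of_conj ?_).symm⟩
    show x * (q * (x * q * x⁻¹)) * x⁻¹ = q * (x * q * x⁻¹)
    calc _ = x * q * x⁻¹ * (x * x * q * (x * x)⁻¹) := by group
      _ = _ := by rw [h2, one_mul, inv_one, mul_one]; exact h.comm (conj_mem hx q.2) q.2)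
  rw [card_map_of_injective Q.subtype_injective] at h1
  rw [← f.ker.card_mul_index, index_ker]
  exact Nat.mul_le_mul h1 h3

theorem exists_sq_mem (hx : TwoE x) (hn : x ∉ Q) : ∃ y ∈ zpowers x, y ∉ Q ∧ y * y ∈ Q := by
  obtain ⟨k, hk⟩ := hx.exists_pow p2
  have h1 : x ^ 2 ^ k ∈ Q := by rw [← hk, pow_orderOf_eq_one]; exact one_mem _
  clear hk
  induction k with
  | zero => exact absurd (by simpa using h1) hn
  | succ k ih =>
    by_cases e : x ^ 2 ^ k ∈ Q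
    · exact ih e
    · exact ⟨_, npow_mem_zpowers x _, e, by rwa [← pow_add, ← two_mul, ← pow_succ']⟩

namespace Hy

theorem cj (h : Hy r Q) (g : G) : Hy r (cj g Q) := by
  refine ⟨ea_cj h.ea g, fun E hE he => ?_, fun x hx h1 h2 => ?_⟩
  · have := h.rk (H24.cj g⁻¹ E) (by rw [cj_le_iff, inv_inv, cj_N]; exact hE) (ea_cj he _)
    rwa [card_cj, ← card_cj g (_ ⊓ _), cj_inf, cj_cj_inv] at this
  · rw [← cj_N] at hx
    obtain ⟨y, hy, rfl⟩ := mem_cj'.1 hx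
    rw [← H23.TC.conj_mul, conj_mem_cj_iff] at h2
    rw [conj_mem_cj_iff] at h1
    rw [← cj_C1, ← cj_inf, card_cj, card_cj]
    exact h.big y hy h1 h2

theorem pos (h : Hy r Q) : 0 < r := by
  have := h.rk ⊥ bot_le (ea_of_sq fun x hx => by rw [mem_bot.1 hx, mul_one])
  rw [bot_inf_eq, card_bot] at this
  omega

theorem le_of (h : Hy r Q) (hA : A ≤ N[Q]) (ea : EA A) (hc : ♯Q ≤ ♯A * 2) : A ≤ Q := by
  intro x hx
  by_contra hn
  have h1 := h.big x (hA hx) hn (by rw [ea.sq hx]; exact one_mem _)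
  have h2 := h.rk A hA ea
  have h3 : ♯(A ⊓ Q) ≤ ♯(Q ⊓ C{x}) :=
    card_le_of_le fun y hy => ⟨hy.2, mem_C1.2 (ea.comm hy.1 hx)⟩
  have := Nat.mul_le_mul_left r h3
  nlinarith

theorem wc (h : Hy r Q) (hg : H24.cj g Q ≤ N[Q]) : H24.cj g Q = Q :=
  eq_of_card_eq (h.le_of hg (ea_cj h.ea g) (by rw [card_cj]; omega)) (card_cj _ _)

theorem syl (h : Hy r Q) (hS : Syl 2 N[Q] S) (hQ : Q ≤ S) : Syl 2 ⊤ S :=
  hS.of_norm_le p2 le_top fun g hg =>
    mem_N_iff_cj.2 (h.wc ((cj_le_of_mem_N hQ hg.2).trans hS.le))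

theorem norm (h : Hy r Q) (hP : TwoG P) (hQ : Q ≤ P) : P ≤ N[Q] := by
  obtain ⟨S, hS, hle⟩ := Sylow_superset p2 h.ea.two (norm_self Q)
  obtain ⟨g, -, e⟩ := Sylow_Jsub p2 (h.syl hS hle) hP le_top
  have hg := mem_N_iff_cj.2 (h.wc (((cj_mono g hQ).trans e).trans hS.le))
  intro x hx
  have := mul_mem (mul_mem (inv_mem hg) (hS.le (e (conj_mem_cj g hx)))) hg
  simpa [mul_assoc] using this

theorem cent (h : Hy r Q) (hx : x ∈ N[Q]) (hn : x ∉ Q) (h2 : x * x = 1) : r < ♯(Q ⊓ C{x}) := by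
  have h1 := h.big x hx hn (by rw [h2]; exact one_mem _)
  have h3 := card_le_sq h.ea hx h2
  have := lt_of_mul_lt_mul_right (h1.trans_le h3) (Nat.zero_le _)
  omega

theorem sub (h : Hy r Q) (h2 : TwoE x) (hx : x ∈ N[Q]) (hle : Q₀ ≤ Q) (hc : ♯Q ≤ ♯Q₀ * 2)
    (hC : x ∈ C[Q₀]) : x ∈ Q := by
  by_contra hn
  obtain ⟨y, hy, y1, y2⟩ := exists_sq_mem h2 hn
  have h1 := h.big y (zpowers_le.2 hx hy) y1 y2
  have h3 : ♯Q₀ ≤ ♯(Q ⊓ C{y}) :=
    card_le_of_le fun q hq => ⟨hle hq, mem_C1.2 (mem_C.1 (zpowers_le.2 hC hy) q hq)⟩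
  have := h.pos
  nlinarith

/-- `Q` is a trivial intersection set -/
theorem ti (h : Hy r Q)
    (loc : ∀ T : Subgroup G, TwoG T → T ≠ ⊥ → N[T] ⊓ C[O[{2}, N[T]]] ≤ O[{2}, N[T]])
    (th : ∀ w : G, Inv w → ∀ A, A ≤ C{w} → EA A → Ix2 O[{2}, C{w}] A)
    (hw : w ∈ Q) (hw' : w ∈ H24.cj g Q) (w1 : w ≠ 1) : H24.cj g Q = Q := by
  have h1 := h.cj g
  have ec := card_cj g Q
  have nO : ∀ {H Q' : Subgroup G}, Hy r Q' → Q' ≤ H → O[{2}, H] ≤ N[Q'] := fun {H Q'} h' hle =>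
    le_sup_left.trans (h'.norm ((pcore_pi _ H).sup h'.ea.two (hle.trans (pcore_nml _ H).norm))
      le_sup_right)
  have c0 : Q ≤ C{w} := fun x hx => mem_C1.2 (h.ea.comm hx hw)
  have c1 : H24.cj g Q ≤ C{w} := fun x hx => mem_C1.2 (h1.ea.comm hx hw')
  have i1 := (th w ⟨w1, h.ea.sq hw⟩ _ c1 h1.ea).card_le
  have l1 := h.le_of (inf_le_left.trans (nO h c0)) (h1.ea.of_le inf_le_right) (ec ▸ i1)
  have hc : ♯Q ≤ ♯(Q ⊓ H24.cj g Q) * 2 :=
    (ec ▸ i1).trans (Nat.mul_le_mul_right 2 (card_le_of_le (le_inf l1 inf_le_right)))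
  have k0 : Q ≤ C[Q ⊓ H24.cj g Q] := h.ea.le_C.trans (C_anti inf_le_left)
  have k1 : H24.cj g Q ≤ C[Q ⊓ H24.cj g Q] := h1.ea.le_C.trans (C_anti inf_le_right)
  have hne : Q ⊓ H24.cj g Q ≠ ⊥ := fun e => w1 (by rw [← mem_bot, ← e]; exact ⟨hw, hw'⟩)
  have e0 : EA (Q ⊓ H24.cj g Q) := h.ea.of_le inf_le_left
  have hB : ∀ y ∈ O[{2}, N[Q ⊓ H24.cj g Q]], y ∈ C[Q ⊓ H24.cj g Q] → y ∈ Q ⊓ H24.cj g Q :=
    fun y hy hC => ⟨h.sub ((pcore_pi _ _).piElt hy) (nO h (k0.trans (C_le_N _)) hy) inf_le_left hc hC,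
      h1.sub ((pcore_pi _ _).piElt hy) (nO h1 (k1.trans (C_le_N _)) hy) inf_le_right (ec ▸ hc) hC⟩
  have hl := loc _ e0.two hne
  generalize Q ⊓ H24.cj g Q = Q₀ at *
  have hK : TwoG C[Q₀] := isPi_iff_piElt.2 fun x hx => by
    have xN := C_le_N _ hx
    refine twoE_of_sq2 ((pcore_pi _ _).piElt (hl ⟨mul_mem xN xN, mem_C.2 fun o ho => ?_⟩))
    have hb := hB (o⁻¹ * (x * o * x⁻¹))
      (mul_mem (inv_mem ho) ((pcore_nml _ _).conj_mem xN ho)) (by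
        rw [show o⁻¹ * (x * o * x⁻¹) = o⁻¹ * x * o * x⁻¹ by group]
        exact mul_mem (conj_mem' (norm_C le_rfl (pcore_le _ _ ho)) hx) (inv_mem hx))
    have b2 := e0.sq hb
    have bc := mem_C.1 hx _ hb
    generalize hbe : o⁻¹ * (x * o * x⁻¹) = b at *
    have e : x * o = o * b * x := by rw [← hbe]; group
    calc o * (x * x) = o * (b * b) * x * x := by rw [b2]; group
      _ = o * b * x * b * x := by rw [mul_assoc (o * b) x b, ← bc]; group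
      _ = x * o * b * x := by rw [e]
      _ = x * (o * b * x) := by group
      _ = x * x * o := by rw [← e]; group
  exact h.wc (k1.trans (h.norm hK k0))

/-- `Q` is strongly closed in a Sylow subgroup -/
theorem sc (h : Hy r Q)
    (loc : ∀ T : Subgroup G, TwoG T → T ≠ ⊥ → N[T] ⊓ C[O[{2}, N[T]]] ≤ O[{2}, N[T]])
    (th : ∀ w : G, Inv w → ∀ A, A ≤ C{w} → EA A → Ix2 O[{2}, C{w}] A)
    (hS : TwoG S) (hQ : Q ≤ S) : IsStronglyClosed Q S := by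
  refine ⟨hQ, fun u hu g ht => ?_⟩
  by_contra hn
  have t2 := conj_sq (h.ea.sq hu) g
  have tQ := conj_mem_cj g hu
  have hD := h.cent (h.norm hS hQ ht) hn t2
  have c1 : H24.cj g Q ≤ C{g * u * g⁻¹} := fun x hx => mem_C1.2 ((h.cj g).ea.comm hx tQ)
  generalize g * u * g⁻¹ = t at *
  obtain ⟨S₁, hS₁, hle⟩ := Sylow_superset p2 (h.ea.two.inf_left C{t}) inf_le_right
  obtain ⟨c, hc, e⟩ := Sylow_Jsub p2 hS₁ (h.cj g).ea.two c1
  rw [← cj_mul] at e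
  have h1 := h.cj (c * g)
  have h2 := h1.rk _ (hle.trans (h1.norm hS₁.pi e)) (h.ea.of_le inf_le_left)
  have hne : Q ⊓ C{t} ⊓ H24.cj (c * g) Q ≠ ⊥ := fun e' => by
    rw [e', card_bot] at h2; omega
  obtain ⟨⟨w, hw⟩, w1⟩ := (ne_bot_iff_exists_ne_one).1 hne
  have := h.ti loc th hw.1.1 hw.2 fun e' => w1 (Subtype.ext e')
  refine hn ?_
  rw [← this, cj_mul, ← mem_C1_iff_conj.1 hc]
  exact conj_mem_cj c tQ

end Hy

end H4.K3
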