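import Cfsg.Agent.H4.GD4
import Cfsg.Agent.H5.BSW1

/-!
`H4.GD` with `H = C_G(t)`: fusion of involutions and centralisers of elements of `Z` and `W`.
-/

set_option autoImplicit false

namespace H4

open Subgroup _root_.Cfsg

theorem pow_comm_of {G : Type*} [Group G] {g y : G} (h : g * y = y * g) (k : ℕ) :
    g * y ^ k = y ^ k * g := (Commute.pow_right h k).eq

theorem exists_pow_prime {G : Type*} [Group G] [Finite G] {y : G} {r : ℕ} (hr : r ∣ orderOf y)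
    : ∃ k : ℕ, orderOf (y ^ k) = r :=
  ⟨orderOf y / r, orderOf_pow_orderOf_div (orderOf_pos y).ne' hr⟩

theorem sq_of_orderOf_two {G : Type*} [Group G] {y : G} (h : orderOf y = 2) : y * y = 1 := by
  rw [← pow_two, ← h, pow_orderOf_eq_one]

theorem ne_one_of_orderOf {G : Type*} [Group G] {y : G} {r : ℕ} (h : orderOf y = r) (hr : r ≠ 1) :
    y ≠ 1 := by rintro rfl; exact hr (by rw [← h, orderOf_one])

theorem mem_zpowers_of_cyc {G : Type*} [Group G] [Finite G] {K : Subgroup G} (hK : IsCyclic K) {a b : G}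
    (ha : a ∈ K) (hb : b ∈ K) (h : a ^ orderOf b = 1) : a ∈ zpowers b := by
  classical
  haveI := Fintype.ofFinite K
  have h1 := IsCyclic.card_pow_eq_one_le (α := K) (n := orderOf b) (orderOf_pos b)
  have ho : orderOf (⟨b, hb⟩ : K) = orderOf b := by
    rw [← orderOf_injective K.subtype K.subtype_injective]; rfl
  have h2 : (zpowers (⟨b, hb⟩ : K) : Set K).toFinset = Finset.univ.filter fun a : K => a ^ orderOf b = 1 := by
    refine Finset.eq_of_subset_of_card_le ?_ (h1.trans ?_)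
    · intro x hx
      obtain ⟨k, rfl⟩ := mem_zpowers_iff.1 (Set.mem_toFinset.1 hx)
      rw [Finset.mem_filter, ← ho, ← zpow_natCast, ← zpow_mul, mul_comm, zpow_mul, zpow_natCast,
        pow_orderOf_eq_one, one_zpow]
      simp
    · rw [Set.toFinset_card, ← ho, ← Fintype.card_zpowers]; rfl
  have h3 : (⟨a, ha⟩ : K) ∈ (zpowers (⟨b, hb⟩ : K) : Set K).toFinset := by
    rw [h2]; simpa [Subtype.ext_iff] using h
  obtain ⟨k, hk⟩ := mem_zpowers_iff.1 (Set.mem_toFinset.1 h3)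
  exact ⟨k, congrArg Subtype.val hk⟩

namespace GD

variable {G : Type*} [Group G] {N : NP} [Finite G] (D : GD G N)

/-- `H = C_G(t)`. -/
def Full : Prop := ∀ g, g * D.t = D.t * g → g ∈ D.H

/-- `H = C_G(t)`, `t` is fused to `u`, and `Z(C(t)) ∩ Z(C(u)) = 1`. -/
structure Cfg : Prop where
  full : D.Full
  fus : ∃ σ, σ * D.t * σ⁻¹ = D.u ∧ σ * D.u * σ⁻¹ = D.t
  noY : ∀ z ∈ D.Z, (∀ h, h * D.u = D.u * h → z * h = h * z) → z = 1

variable {D}

omit [Finite G] in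
theorem Full.mem_H (h : D.Full) {g : G} : g ∈ D.H ↔ g * D.t = D.t * g :=
  ⟨fun hg => (D.t_comm hg).symm, h g⟩

omit [Finite G] in
theorem Full.H_eq (h : D.Full) : D.H = centralizer {D.t} := by ext g; rw [h.mem_H, mem_cent]

omit [Finite G] in
theorem Full.mem_T (h : D.Full) {g : G} : g ∈ D.T ↔ g * D.t = D.t * g ∧ g * D.u = D.u * g :=
  ⟨fun hg => ⟨(D.t_comm (D.T_le hg)).symm, D.T_comm g hg _ D.u_mem⟩,
    fun hg => D.cent_T _ D.u_mem D.u_not g (h g hg.1) hg.2⟩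

omit [Finite G] in
theorem Full.mem_Z (h : D.Full) {g : G} : g ∈ D.Z ↔ ∀ x, x * D.t = D.t * x → g * x = x * g :=
  ⟨fun hg x hx => D.Z_comm g hg x (h x hx), fun hg => D.mem_Z_of_comm (h g (hg _ rfl))
    (hg _ (D.t_comm D.u_H).symm) (hg _ (D.t_comm D.w_mem).symm)⟩

theorem Full.conj (h : D.Full) (g : G) : (D.conj g).Full := by
  intro x hx
  rw [mem_conj_H]
  refine h _ ?_
  rw [conj_t] at hx
  calc g⁻¹ * x * g * D.t = g⁻¹ * (x * (g * D.t * g⁻¹)) * g := by group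
    _ = _ := by rw [hx]; group

omit [Finite G] in
theorem Full.H_congr (h : D.Full) {D' : GD G N} (h' : D'.Full) (e : D'.t = D.t) : D'.H = D.H := by
  rw [h.H_eq, h'.H_eq, e]

omit [Finite G] in
theorem Full.Z_congr (h : D.Full) {D' : GD G N} (h' : D'.Full) (e : D'.t = D.t) : D'.Z = D.Z := by
  ext g; rw [h.mem_Z, h'.mem_Z, e]

omit [Finite G] in
theorem Full.T_swap (h : D.Full) {D' : GD G N} (h' : D'.Full) (e : D'.t = D.u) (e' : D'.u = D.t) :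
    D'.T = D.T := by
  ext g; rw [h.mem_T, h'.mem_T, e, e', and_comm]

theorem Cfg.conj (h : D.Cfg) (g : G) : (D.conj g).Cfg where
  full := h.full.conj g
  fus := by
    obtain ⟨σ, h1, h2⟩ := h.fus
    exact ⟨g * σ * g⁻¹, by rw [conj_t, conj_u, ← h1]; group, by rw [conj_t, conj_u, ← h2]; group⟩
  noY z hz hc := by
    have := h.noY _ (D.mem_conj_Z.1 hz) fun x hx => by
      have := hc (g * x * g⁻¹) (by
        rw [conj_u]
        calc g * x * g⁻¹ * (g * D.u * g⁻¹) = g * (x * D.u) * g⁻¹ := by group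
          _ = _ := by rw [hx]; group)
      calc g⁻¹ * z * g * x = g⁻¹ * (z * (g * x * g⁻¹)) * g := by group
        _ = _ := by rw [this]; group
    simpa [mul_assoc, inv_mul_eq_iff_eq_mul] using this

theorem Full.exists_swap (h : D.Full) {g : G} (hg : g * D.t * g⁻¹ = D.u) :
    ∃ σ, σ * D.t * σ⁻¹ = D.u ∧ σ * D.u * σ⁻¹ = D.t := by
  have h1 : g⁻¹ * D.t * g ∈ D.H := h _ (by
    have := D.t_comm D.u_H
    rw [← hg] at this
    calc g⁻¹ * D.t * g * D.t = g⁻¹ * (D.t * (g * D.t * g⁻¹)) * g := by group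
      _ = _ := by rw [this]; group)
  obtain ⟨k, hk, e⟩ := D.inv_conj h1 (by simp [mul_assoc, mul_mul_self D.t_sq])
    (by simpa [mul_assoc, inv_mul_eq_iff_eq_mul] using D.t_ne)
    (fun e => D.u_ne_t (by rw [← hg]; nth_rw 1 [← e]; group))
  refine ⟨g * k, ?_, ?_⟩
  · rw [← hg]; nth_rw 2 [← D.conj_Z D.t_mem hk]; group
  · calc g * k * D.u * (g * k)⁻¹ = g * (k * D.u * k⁻¹) * g⁻¹ := by group
      _ = _ := by rw [e]; group

theorem Full.fus [IsSimpleGroup G] (h : D.Full) : ∃ σ, σ * D.t * σ⁻¹ = D.u ∧ σ * D.u * σ⁻¹ = D.t := by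
  by_cases hc : ∀ g : G, Commute D.t (g * D.t * g⁻¹) → g * D.t * g⁻¹ = D.t
  · exfalso
    have hO : pPrimeCore 2 G = ⊥ := by
      refine (inferInstance : (pPrimeCore 2 G).Normal).eq_bot_or_eq_top.resolve_right fun e => ?_
      have := (H17.odd_card_pPrimeCore (G := G)).of_dvd_nat
        (Subgroup.orderOf_dvd_natCard _ (e ▸ mem_top D.t))
      rw [D.orderOf_t] at this
      exact absurd this (by decide)
    have h1 := H17.zstar_central hO ⟨D.orderOf_t, hc⟩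
    rcases (inferInstance : (center G).Normal).eq_bot_or_eq_top with e | e
    · exact D.t_ne (by rw [← mem_bot, ← e, mem_center_iff]; exact fun g => (h1 g).eq.symm)
    · exact D.w_not (D.cent_T _ D.u_mem D.u_not _ D.w_mem
        (mem_center_iff.1 (e ▸ mem_top D.u : D.u ∈ center G) _))
  push Not at hc
  obtain ⟨g, h1, h2⟩ := hc
  obtain ⟨k, hk, e⟩ := D.inv_conj (h _ h1.eq.symm) (by simp [mul_assoc, mul_mul_self D.t_sq])
    (by simpa [mul_inv_eq_one] using D.t_ne) h2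
  exact h.exists_swap (g := k⁻¹ * g) (by
    calc k⁻¹ * g * D.t * (k⁻¹ * g)⁻¹ = k⁻¹ * (g * D.t * g⁻¹) * k := by group
      _ = _ := by rw [← e]; group)

/-- All involutions are conjugate. -/
theorem Full.inv_conj (h : D.Full) (hf : ∃ σ, σ * D.t * σ⁻¹ = D.u) {s : G} (hs : s * s = 1)
    (hs1 : s ≠ 1) : ∃ g, g * D.t * g⁻¹ = s := by
  have key : ∀ s ∈ D.H, s * s = 1 → s ≠ 1 → ∃ g, g * D.t * g⁻¹ = s := by
    intro s hH hs hs1
    by_cases e : s = D.t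
    · exact ⟨1, by simp [e]⟩
    obtain ⟨k, -, rfl⟩ := D.inv_conj hH hs hs1 e
    obtain ⟨σ, hσ⟩ := hf
    exact ⟨k * σ, by rw [← hσ]; group⟩
  obtain ⟨P, hP⟩ := (H6.isPGroup_zpowers_of_orderOf_two D.orderOf_t).exists_le_sylow
  have hne : (P : Subgroup G) ≠ ⊥ := fun h0 => D.t_ne (by simpa [h0] using hP (mem_zpowers D.t))
  obtain ⟨z, hzP, hz, hc⟩ := H6.exists_central_involution P.2 hne
  obtain ⟨g, rfl⟩ := key z (h _ (hc _ (hP (mem_zpowers _))).symm) (sq_of_orderOf_two hz)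
    (ne_one_of_orderOf hz (by decide))
  have hs2 : orderOf s = 2 := orderOf_eq_prime (by rwa [pow_two]) hs1
  obtain ⟨Q, hQ⟩ := (H6.isPGroup_zpowers_of_orderOf_two hs2).exists_le_sylow
  obtain ⟨a, ha⟩ := MulAction.exists_smul_eq G Q P
  have h1 : a * s * a⁻¹ ∈ P := by
    rw [← ha]; exact ⟨s, hQ (mem_zpowers s), rfl⟩
  have h2 := (h.conj g) _ (hc _ h1)
  rw [mem_conj_H] at h2
  obtain ⟨b, hb⟩ := key _ h2 (by simp [mul_assoc, mul_mul_self hs])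
    (fun e => hs1 (by
      rw [show s = a⁻¹ * g * (g⁻¹ * (a * s * a⁻¹) * g) * g⁻¹ * a by group, e]; group))
  exact ⟨a⁻¹ * g * b, by
    calc a⁻¹ * g * b * D.t * (a⁻¹ * g * b)⁻¹ = a⁻¹ * g * (b * D.t * b⁻¹) * g⁻¹ * a := by group
      _ = _ := by rw [hb]; group⟩

theorem Cfg.inv_conj (h : D.Cfg) {s : G} (hs : s * s = 1) (hs1 : s ≠ 1) : ∃ g, g * D.t * g⁻¹ = s :=
  h.full.inv_conj (h.fus.imp fun _ h => h.1) hs hs1

theorem Cfg.pair_conj (h : D.Cfg) {s s' : G} (hs : s * s = 1) (hs1 : s ≠ 1) (hs' : s' * s' = 1)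
    (hs1' : s' ≠ 1) (hne : s' ≠ s) (hc : s' * s = s * s') :
    ∃ g, g * D.t * g⁻¹ = s ∧ g * D.u * g⁻¹ = s' := by
  obtain ⟨g, rfl⟩ := h.inv_conj hs hs1
  obtain ⟨k, hk, e⟩ := (D.conj g).inv_conj ((h.full.conj g) _ hc) hs' hs1' hne
  refine ⟨k * g, ?_, by rw [← e, conj_u]; group⟩
  have := (D.conj g).conj_Z (D.conj g).t_mem hk
  rw [conj_t] at this
  rw [← this]; group

theorem Cfg.odd_index (h : D.Cfg) : Odd D.H.index := by
  rw [h.full.H_eq]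
  exact H5.odd_index_centralizer_of_conj D.orderOf_t fun u hu => isConj_iff.2
    (h.inv_conj (sq_of_orderOf_two hu) (ne_one_of_orderOf hu (by decide)))

theorem Cfg.ncard_inv (h : D.Cfg) : {s : G | s * s = 1 ∧ s ≠ 1}.ncard = D.H.index := by
  have h1 := ncard_conj_class ⊤ D.t
  rw [top_inf_eq, ← h.full.H_eq, card_top, ← D.H.index_mul_card] at h1
  rw [← Nat.eq_of_mul_eq_mul_right Nat.card_pos h1]
  congr 1
  ext s
  refine ⟨fun hs => (h.inv_conj hs.1 hs.2).imp fun g hg => ⟨mem_top g, hg⟩, ?_⟩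
  rintro ⟨g, -, rfl⟩
  exact ⟨by simp [mul_assoc, mul_mul_self D.t_sq], by simpa [mul_inv_eq_one] using D.t_ne⟩

/-- The data attached to `u`. -/
structure Adj (D D' : GD G N) : Prop where
  cfg : D'.Cfg
  t : D'.t = D.u
  u : D'.u = D.t
  T : D'.T = D.T
  cZ : Nat.card D'.Z = Nat.card D.Z

theorem Cfg.adj_conj (h : D.Cfg) {σ : G} (h1 : σ * D.t * σ⁻¹ = D.u) (h2 : σ * D.u * σ⁻¹ = D.t) :
    Adj D (D.conj σ) :=
  ⟨h.conj σ, h1, h2, h.full.T_swap (h.full.conj σ) h1 h2, D.card_conj_Z⟩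

theorem Cfg.exists_adj (h : D.Cfg) : ∃ D', Adj D D' := by
  obtain ⟨σ, h1, h2⟩ := h.fus
  exact ⟨_, h.adj_conj h1 h2⟩

omit [Finite G] in
theorem Adj.symm {D' : GD G N} (h : D.Cfg) (a : Adj D D') : Adj D' D :=
  ⟨h, a.u.symm, a.t.symm, a.T.symm, a.cZ.symm⟩

omit [Finite G] in
theorem Adj.eq_one {D' : GD G N} (h : D.Cfg) (a : Adj D D') {z : G} (hz : z ∈ D.Z) (hz' : z ∈ D'.Z) :
    z = 1 := h.noY z hz fun x hx => a.cfg.full.mem_Z.1 hz' x (a.t ▸ hx)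

omit [Finite G] in
theorem Adj.mem_H {D' : GD G N} (a : Adj D D') {g : G} : g ∈ D'.H ↔ g * D.u = D.u * g := by
  rw [a.cfg.full.mem_H, a.t]

theorem comm_w {x : G} (hx : x * (D.t * D.u) = D.t * D.u * x) :
    D.w * x * D.w * D.u = D.u * (D.w * x * D.w) := by
  rw [← D.w_u] at hx
  calc D.w * x * D.w * D.u = D.w * (x * (D.w * D.u * D.w)) * D.w := by
        simp [mul_assoc, D.w_sq]
    _ = _ := by rw [hx]; simp [mul_assoc, mul_mul_self D.w_sq]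

omit [Finite G] in
theorem mem_T_of_w {x : G} (hx : D.w * x * D.w ∈ D.T) : x ∈ D.T := by
  simpa [mul_assoc, mul_mul_self D.w_sq, D.w_sq] using D.w_conj_mem hx

theorem Cfg.mem_T_of_comm (h : D.Cfg) {z x : G} (hz : z ∈ D.Z) (hz1 : z ≠ 1) (hx : x * z = z * x)
    (hu : x * D.u = D.u * x) : x ∈ D.T := by
  obtain ⟨D', a⟩ := h.exists_adj
  exact a.T ▸ D'.cent_T z (a.T ▸ D.Z_le_T hz) (fun h' => hz1 (a.eq_one h hz h')) x (a.mem_H.2 hu) hx

theorem Cfg.mem_T_of_comm' (h : D.Cfg) {z x : G} (hz : z ∈ D.Z) (hz1 : z ≠ 1) (hx : x * z = z * x)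
    (hu : x * (D.t * D.u) = D.t * D.u * x) : x ∈ D.T := by
  refine mem_T_of_w (h.mem_T_of_comm hz hz1 ?_ (comm_w hu))
  have := D.Z_comm z hz _ D.w_mem
  calc D.w * x * D.w * z = D.w * (x * z) * D.w := by rw [mul_assoc, ← this]; group
    _ = z * D.w * x * D.w := by rw [hx, this]; group
    _ = _ := by group

/-- `C(z) = H` for `1 ≠ z ∈ Z`. -/
theorem Cfg.cent_Z (h : D.Cfg) {z g : G} (hz : z ∈ D.Z) (hz1 : z ≠ 1) (hg : g * z = z * g) :
    g ∈ D.H := by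
  have hHL : D.H ≤ centralizer {z} := fun x hx => mem_cent.2 (D.Z_comm z hz x hx).symm
  have iso : ∀ g ∈ centralizer {z}, D.t * (g * D.t * g⁻¹) = g * D.t * g⁻¹ * D.t →
      g * D.t * g⁻¹ = D.t := by
    intro g hg hc
    by_contra hne
    obtain ⟨k, hk, e⟩ := D.inv_conj (h.full _ hc.symm) (by simp [mul_assoc, mul_mul_self D.t_sq])
      (by simpa [mul_inv_eq_one] using D.t_ne) hne
    have h1 := mem_cent.1 (mul_mem (inv_mem (hHL hk)) hg)
    have h2 : (D.conj (k⁻¹ * g)).t = D.u := by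
      calc k⁻¹ * g * D.t * (k⁻¹ * g)⁻¹ = k⁻¹ * (g * D.t * g⁻¹) * k := by group
        _ = _ := by rw [← e]; group
    refine hz1 (h.noY z hz (h2 ▸ (h.full.conj _).mem_Z.1 (D.mem_conj_Z.2 ?_)))
    rwa [mul_assoc, ← h1, inv_mul_cancel_left]
  obtain ⟨c, -, j, hj, hc, rfl⟩ := zstar_mul (hHL D.t_H) D.t_sq D.t_ne iso (mem_cent.2 hg)
  refine mul_mem (h.full c hc) (le_of_four (OC_odd _) D.t_sq D.u_sq (D.t_comm D.u_H).symm D.t_ne
    D.u_ne_one D.u_ne_t ?_ ?_ ?_ ?_ ?_ hj)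
  · exact fun x hx => by simpa [D.t_inv] using OC_conj' (hHL D.t_H) hx
  · exact fun x hx => by simpa [D.u_inv] using OC_conj' (hHL D.u_H) hx
  · exact fun x _ => h.full x
  · exact fun x hx e => D.T_le (h.mem_T_of_comm hz hz1 (mem_cent.1 (OC_le _ hx)) e)
  · exact fun x hx e => D.T_le (h.mem_T_of_comm' hz hz1 (mem_cent.1 (OC_le _ hx)) e)

theorem exists_Z_of_lt (hZ : 2 < Nat.card D.Z) : ∃ z ∈ D.Z, z ≠ 1 ∧ z ≠ D.t := by
  by_contra hc
  push Not at hc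
  have : D.Z ≤ zpowers D.t := fun z hz => by
    by_cases h : z = 1
    · exact h ▸ one_mem _
    · exact hc z hz h ▸ mem_zpowers _
  have := Nat.le_of_dvd Nat.card_pos (card_dvd_of_le this)
  rw [Nat.card_zpowers, D.orderOf_t] at this
  omega

/-- Subgroups of odd order of `C(u)` normalised by `Z`. -/
theorem Adj.odd_norm {D' : GD G N} (h : D.Cfg) (a : Adj D D') (hZ : 2 < Nat.card D.Z)
    {U : Subgroup G} (hUH : U ≤ D'.H) (hU : Odd (Nat.card U)) (hn : ∀ z ∈ D.Z, ∀ x ∈ U, z * x * z⁻¹ ∈ U) :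
    U ≤ D.T ∨ (N.ε = 1 ∧ ∃ k ∈ D'.H, D.T ≤ (D'.conj k).B ∧ U ≤ (D'.conj k).B ∧
      ∃ x ∈ U, x ∈ (D'.conj k).X ∧ x ≠ 1) := by
  obtain ⟨z, hz, hz1, hzt⟩ := exists_Z_of_lt hZ
  rcases D'.odd_norm hUH hU (a.T ▸ D.Z_le_T hz) (fun h' => hz1 (a.eq_one h hz h'))
    (fun h' => hzt (by
      rw [a.u] at h'
      rw [← D.t_inv]
      exact eq_inv_of_mul_eq_one_left (a.eq_one h (mul_mem hz D.t_mem) h'))) (hn z hz)
    (a.u ▸ hn _ D.t_mem) with h1 | ⟨hε, h1 | h1⟩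
  · exact Or.inl (a.T ▸ h1)
  · refine Or.inr ⟨hε, 1, one_mem _, ?_⟩
    have e : (D'.conj 1).X = D'.X := D'.conj_X_eq (one_mem _)
    rw [D'.B_congr (D'.conj_H_eq (one_mem _)) e, e]
    exact ⟨a.T ▸ D'.B_T hε, h1⟩
  · exact Or.inr ⟨hε, D'.w, D'.w_mem, a.T ▸ D'.conj_w_T ▸ (D'.conj D'.w).B_T hε, h1⟩

omit [Finite G] in
theorem iso_of_unique {L C : Subgroup G} (hF : D.Full) (hC : ∀ g ∈ L, g ∈ D.H → g ∈ C)
    (hi : ∀ y ∈ C, y * y = 1 → y = 1 ∨ y = D.t) (ht : D.t ∈ L) :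
    ∀ g ∈ L, D.t * (g * D.t * g⁻¹) = g * D.t * g⁻¹ * D.t → g * D.t * g⁻¹ = D.t := fun g hg hc =>
  (hi _ (hC _ (mul_mem (mul_mem hg ht) (inv_mem hg)) (hF _ hc.symm))
    (by simp [mul_assoc, mul_mul_self D.t_sq])).resolve_left (by simpa [mul_inv_eq_one] using D.t_ne)

theorem not_dvd_T {r : ℕ} (hr : r.Prime) (hr2 : r ≠ 2) (hn : r ∣ N.n) : ¬ r ∣ Nat.card D.T := by
  intro h
  rw [D.cT, hr.dvd_mul] at h
  exact hr2 (N.eq_two_of_dvd hr (h.elim (fun h => h.trans D.Z_dvd_m) id) hn)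

theorem not_dvd_B (hε : N.ε = 1) {r : ℕ} (hr : r.Prime) (hr2 : r ≠ 2) (hn : r ∣ N.n) :
    ¬ r ∣ Nat.card D.B := by
  intro h
  rw [D.cB, hr.dvd_mul, ← D.cS, D.S_eq_T hε] at h
  exact h.elim (fun h => N.p_not_dvd_n (N.eq_p_of_dvd hr h ▸ hn)) (not_dvd_T hr hr2 hn)

/-- Key step for `cent_W`. -/
theorem Cfg.odd_le_T (h : D.Cfg) (hZ : 2 < Nat.card D.Z) {y : G} {r : ℕ} (hr : r.Prime) (hr2 : r ≠ 2)
    (hn : r ∣ N.n) (hy : orderOf y = r) (hyH : y ∈ D.H) (hu : D.u * y * D.u = y⁻¹) {U : Subgroup G}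
    (hU : Odd (Nat.card U)) (hUu : ∀ x ∈ U, x * D.u = D.u * x) (hUy : ∀ x ∈ U, x * y = y * x)
    (hUZ : ∀ z ∈ D.Z, ∀ x ∈ U, z * x * z⁻¹ ∈ U) : U ≤ D.T := by
  obtain ⟨D', a⟩ := h.exists_adj
  refine (a.odd_norm h hZ (fun x hx => a.mem_H.2 (hUu x hx)) hU hUZ).resolve_right ?_
  rintro ⟨hε, k, hk, hT, -, x, hxU, hx, hx1⟩
  have a' : Adj D' D := a.symm h
  have hF := a.cfg.full.conj k
  have ht : (D'.conj k).t = D.u := (D'.conj_t_eq hk).trans a.t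
  have hZk : (D'.conj k).Z = D'.Z := D'.conj_Z_eq hk
  generalize D'.conj k = E at *
  have hAL : E.A ≤ centralizer {x} := fun g hg => mem_cent.2 (E.A_comm g hg x (E.X_le_A hx))
  have iso := iso_of_unique (L := centralizer {x}) (C := E.A) hF
    (fun g hg hH => E.mem_A.2 (E.cent_X x hx hx1 g hH (mem_cent.1 hg))) (fun y => E.A_inv)
    (hAL (E.Z_le_A E.t_mem))
  have hyO : y ∈ OC (centralizer {x}) := mem_OC_of_inv (hAL (E.Z_le_A E.t_mem)) E.t_sq E.t_ne iso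
    (mem_cent.2 (hUy x hxU).symm) (hy ▸ hr.odd_of_ne_two hr2) (ht ▸ hu)
  have hyU : y ∈ OC (centralizer {x}) ⊓ D.H := ⟨hyO, hyH⟩
  have hr' := hy ▸ Subgroup.orderOf_dvd_natCard _ hyU
  rcases a'.odd_norm a.cfg (a.cZ ▸ hZ) (U := OC (centralizer {x}) ⊓ D.H) inf_le_right
    ((OC_odd _).of_dvd_nat (card_dvd_of_le inf_le_left)) (fun z hz g hg =>
      ⟨OC_conj' (hAL (E.Z_le_A (hZk ▸ hz))) hg.1, by
        have hz' := D.T_le (a.T ▸ D'.Z_le_T hz)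
        exact D.H.mul_mem (D.H.mul_mem hz' hg.2) (D.H.inv_mem hz')⟩) with h1 | ⟨-, k', -, -, h1, -⟩
  · exact not_dvd_T hr hr2 hn (hr'.trans (card_dvd_of_le h1))
  · exact not_dvd_B hε hr hr2 hn (hr'.trans (card_dvd_of_le h1))

theorem mem_Z_of_prime {y : G} (hy : y ∈ D.W) {r : ℕ} (hr : r.Prime) (ho : orderOf y = r)
    (hZ : r ∣ Nat.card D.Z) : y ∈ D.Z := by
  haveI := Fact.mk hr
  obtain ⟨⟨z, hz⟩, hz'⟩ := exists_prime_orderOf_dvd_card' (G := D.Z) r hZ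
  have hz'' : orderOf z = r := by rwa [← orderOf_injective D.Z.subtype D.Z.subtype_injective] at hz'
  exact zpowers_le.2 hz (mem_zpowers_of_cyc D.isCyclic_W hy (D.Z_le_W hz)
    (by rw [hz'', ← ho, pow_orderOf_eq_one]))

omit [Finite G] in
theorem v_not_Z : D.v ∉ D.Z := fun h => D.v_not (D.Z_le_W h)

theorem v_inv_of_prime {y : G} (hy : y ∈ D.W) {r : ℕ} (hr : r.Prime) (ho : orderOf y = r)
    (hZ : ¬ r ∣ Nat.card D.Z) : D.v * y * D.v = y⁻¹ := by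
  have h1 := D.v_inv y hy
  have h2 : (y * (D.v * y * D.v)) ^ r = 1 := by
    have e : Commute y (D.v * y * D.v) := D.W_comm _ hy _ (D.v_conj_mem hy)
    rw [e.mul_pow]; nth_rw 2 [← D.v_inv']
    rw [conj_pow, ← ho, pow_orderOf_eq_one]; simp
  rcases (Nat.dvd_prime hr).1 (orderOf_dvd_of_pow_eq_one h2) with h3 | h3
  · exact eq_inv_of_mul_eq_one_right (orderOf_eq_one_iff.1 h3)
  · exact absurd (h3 ▸ D.Z.orderOf_dvd_natCard h1) hZ

theorem Full.cent_of_even (h : D.Full) {C : Subgroup G} (hC : ∀ y ∈ C, y * y = 1 → y = 1 ∨ y = D.t)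
    {y g : G} (hy : y ∈ C) (he : 2 ∣ orderOf y) (hg : g * y = y * g) : g ∈ D.H := by
  obtain ⟨k, hk⟩ := exists_pow_prime he
  rcases hC _ (pow_mem hy k) (sq_of_orderOf_two hk) with e | e
  · exact absurd e (ne_one_of_orderOf hk (by decide))
  · exact h g (e ▸ pow_comm_of hg k)

/-- `C(y) ≤ H` for `1 ≠ y ∈ W`, provided `|Z| > 2` or `q + ε` is a power of `2`. -/
theorem Cfg.cent_W (h : D.Cfg) (hZ : 2 < Nat.card D.Z ∨ ∀ r : ℕ, r.Prime → r ∣ N.n → r = 2)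
    {y g : G} (hy : y ∈ D.W) (hy1 : y ≠ 1) (hg : g * y = y * g) : g ∈ D.H := by
  obtain ⟨r, hr, hry⟩ := Nat.exists_prime_and_dvd (mt orderOf_eq_one_iff.1 hy1)
  by_cases hr2 : r = 2
  · exact h.full.cent_of_even (fun y => D.W_inv) hy (hr2 ▸ hry) hg
  obtain ⟨k, hk⟩ := exists_pow_prime hry
  replace hg := pow_comm_of hg k
  replace hy := pow_mem hy k
  generalize y ^ k = y at *
  by_cases hrZ : r ∣ Nat.card D.Z
  · exact h.cent_Z (mem_Z_of_prime hy hr hk hrZ) (ne_one_of_orderOf hk hr.one_lt.ne') hg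
  have hn : r ∣ N.n := by
    have := hk ▸ D.W.orderOf_dvd_natCard hy
    rw [D.cW, hr.dvd_mul] at this
    exact this.resolve_left hrZ
  replace hZ := hZ.resolve_right fun h => hr2 (h r hr hn)
  have hyZ : y ∉ D.Z := fun h => hrZ (hk ▸ D.Z.orderOf_dvd_natCard h)
  have hv := v_inv_of_prime hy hr hk hrZ
  have hWL : D.W ≤ centralizer {y} := fun x hx => mem_cent.2 (D.W_comm x hx y hy)
  have iso := iso_of_unique (L := centralizer {y}) (C := D.W) h.full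
    (fun g hg hH => D.cent_W y hy hyZ g hH (mem_cent.1 hg)) (fun y => D.W_inv) (hWL D.t_W)
  obtain ⟨c, -, j, hj, hc, rfl⟩ := zstar_mul (hWL D.t_W) D.t_sq D.t_ne iso (mem_cent.2 hg)
  have hv1 : D.v ≠ 1 := fun e => v_not_Z (e ▸ one_mem _)
  have hvt : D.v ≠ D.t := fun e => v_not_Z (e ▸ D.t_mem)
  have key : ∀ s ∈ D.H, s * s = 1 → s ∉ D.Z → s * y * s = y⁻¹ → ∀ x ∈ OC (centralizer {y}),
      x * s = s * x → x ∈ D.H := by
    intro s hs hss hsZ hsy x hx hxs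
    obtain ⟨k, hkH, rfl⟩ := D.inv_conj hs hss (fun e => hsZ (e ▸ one_mem _)) (fun e => hsZ (e ▸ D.t_mem))
    rw [← D.conj_H_eq hkH]
    refine (D.conj k).T_le ((h.conj k).odd_le_T (D.card_conj_Z ▸ hZ) hr hr2 hn hk
      ((D.conj_H_eq hkH).symm ▸ D.W_le hy) hsy (U := OC (centralizer {y}) ⊓ centralizer {k * D.u * k⁻¹})
      ((OC_odd _).of_dvd_nat (card_dvd_of_le inf_le_left)) (fun x hx => mem_cent.1 hx.2)
      (fun x hx => mem_cent.1 (OC_le _ hx.1)) (fun z hz x hx => ?_) ⟨hx, mem_cent.2 hxs⟩)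
    rw [D.conj_Z_eq hkH] at hz
    have hz' : z ∈ centralizer {k * D.u * k⁻¹} := mem_cent.2 (D.Z_comm z hz _ hs)
    exact ⟨OC_conj' (hWL (D.Z_le_W hz)) hx.1,
      Subgroup.mul_mem _ (Subgroup.mul_mem _ hz' hx.2) (Subgroup.inv_mem _ hz')⟩
  refine mul_mem (h.full c hc) (le_of_four (OC_odd _) D.t_sq D.v_sq (D.t_comm D.v_mem).symm D.t_ne
    hv1 hvt ?_ ?_ (fun x _ => h.full x) (key _ D.v_mem D.v_sq v_not_Z hv) (key _ (mul_mem D.t_H D.v_mem) ?_ ?_ ?_) hj)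
  · exact fun x hx => by simpa [D.t_inv] using OC_conj' (hWL D.t_W) hx
  · intro x hx
    nth_rw 2 [← D.v_inv']
    refine OC_conj (g := D.v) (fun a ha => mem_cent.2 ?_) hx
    have e : Commute a y := mem_cent.1 ha
    have e2 : y = D.v * y⁻¹ * D.v⁻¹ := by
      rw [← hv, D.v_inv']; simp [mul_assoc, mul_mul_self D.v_sq, D.v_sq]
    rw [e2]
    calc D.v * a * D.v⁻¹ * (D.v * y⁻¹ * D.v⁻¹) = D.v * (a * y⁻¹) * D.v⁻¹ := by group
      _ = _ := by rw [e.inv_right.eq]; group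
  · rw [mul_assoc, ← mul_assoc D.v, ← D.t_comm D.v_mem, mul_assoc, D.v_sq, mul_one, D.t_sq]
  · exact fun e => v_not_Z ((mul_mem_cancel_left D.t_mem).1 e)
  · calc D.t * D.v * y * (D.t * D.v) = D.t * (D.v * y * D.v) * D.t := by
          nth_rw 2 [D.t_comm D.v_mem]; group
      _ = y⁻¹ := by rw [hv, D.t_comm (inv_mem (D.W_le hy)), mul_assoc, D.t_sq, mul_one]

/-- `|G : H| ≡ 1 + q (q + ε)` modulo `|W|`. -/
theorem Cfg.index_mod (h : D.Cfg) (hW : ∀ y ∈ D.W, y ≠ 1 → ∀ g, g * y = y * g → g ∈ D.H) :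
    ∃ k, D.H.index = 1 + N.q * N.n + Nat.card D.W * k := by
  obtain ⟨k, hk⟩ := card_dvd_of_conj D.W {s : G | s * s = 1 ∧ s ≠ 1 ∧ s ∉ D.H}
    (fun g hg x hx => ⟨by simp [mul_assoc, mul_mul_self hx.1], by simpa [mul_inv_eq_one] using hx.2.1,
      by rw [mul_mem_cancel_right (inv_mem (D.W_le hg)), mul_mem_cancel_left (D.W_le hg)]; exact hx.2.2⟩)
    (fun g hg x hx e => by by_contra h1; exact hx.2.2 (hW g hg h1 x e.symm))
  refine ⟨k, ?_⟩
  rw [← hk, ← D.ncard_inv, ← h.ncard_inv, add_comm 1, ← Set.ncard_insert_of_notMem (a := D.t) (by simp),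
    ← Set.ncard_union_eq (by
      rw [Set.disjoint_left]; rintro s (rfl | hs) h'; exacts [h'.2.2 D.t_H, h'.2.2 hs.1])]
  congr 1
  ext s
  simp only [Set.mem_ofPred_eq, Set.mem_union, Set.mem_insert_iff]
  constructor
  · intro hs; by_cases h1 : s ∈ D.H <;> by_cases h2 : s = D.t <;> tauto
  · rintro ((rfl | hs) | hs); exacts [⟨D.t_sq, D.t_ne⟩, ⟨hs.2.1, hs.2.2.1⟩, ⟨hs.1, hs.2.1⟩]

end GD

end H4
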