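import Cfsg.Agent.H4.GD
import Cfsg.Agent.H2.Frobenius
import Cfsg.Agent.H1.Coprime

/-!
Elementary consequences of the axioms `H4.GD`.
-/

set_option autoImplicit false

namespace H4

open Subgroup

namespace NP

variable (N : NP)

theorem p_odd : Odd N.p := N.hp.odd_of_ne_two N.p_ne
theorem q_odd : Odd N.q := N.hq ▸ N.p_odd.pow
theorem three_le_p : 3 ≤ N.p := by have := N.hp.two_le; have := N.p_ne; omega
theorem p_dvd_q : N.p ∣ N.q := N.hq ▸ dvd_pow_self _ N.f_pos.ne'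
theorem three_le_q : 3 ≤ N.q := N.three_le_p.trans (Nat.le_of_dvd (N.hq ▸ pow_pos N.hp.pos _) N.p_dvd_q)
theorem cases : (N.ε = 1 ∧ N.m + 1 = N.q ∧ N.n = N.q + 1) ∨ (N.ε = -1 ∧ N.m = N.q + 1 ∧ N.n + 1 = N.q) := by
  have h1 := N.hm; have h2 := N.hn
  rcases N.hε with h | h <;> [left; right] <;> rw [h] at h1 h2 <;> refine ⟨h, ?_, ?_⟩ <;> omega
theorem two_le_m : 2 ≤ N.m := by have := N.cases; have := N.three_le_q; omega
theorem two_le_n : 2 ≤ N.n := by have := N.cases; have := N.three_le_q; omega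
theorem m_even : Even N.m := by
  have := N.cases; have := Nat.odd_iff.1 N.q_odd; rw [Nat.even_iff]; omega
theorem n_even : Even N.n := by
  have := N.cases; have := Nat.odd_iff.1 N.q_odd; rw [Nat.even_iff]; omega
theorem m_mul_n : N.m * N.n + 1 = N.q ^ 2 := by
  rcases N.cases with ⟨-, h1, h2⟩ | ⟨-, h1, h2⟩
  · rw [h2, ← h1]; ring
  · rw [h1, ← h2]; ring
theorem ε_sq : N.ε * N.ε = 1 := by rcases N.hε with h | h <;> simp [h]
theorem p_not_dvd_n : ¬ N.p ∣ N.n := fun h => by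
  have h1 : N.p ∣ N.m * N.n + 1 := N.m_mul_n ▸ N.p_dvd_q.trans (dvd_pow_self _ two_ne_zero)
  exact N.hp.one_lt.ne' (Nat.dvd_one.1 ((Nat.dvd_add_right (h.mul_left _)).1 h1))
theorem p_not_dvd_m : ¬ N.p ∣ N.m := GD.p_not_dvd_m
theorem eq_two_of_dvd {r : ℕ} (hr : r.Prime) (h1 : r ∣ N.m) (h2 : r ∣ N.n) : r = 2 := by
  refine (Nat.prime_dvd_prime_iff_eq hr Nat.prime_two).1 ?_
  rcases N.cases with ⟨-, e1, e2⟩ | ⟨-, e1, e2⟩
  · exact (Nat.dvd_add_right h1).1 (by rwa [show N.m + 2 = N.n by omega])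
  · exact (Nat.dvd_add_right h2).1 (by rwa [show N.n + 2 = N.m by omega])
theorem eq_p_of_dvd {r : ℕ} (hr : r.Prime) (h : r ∣ N.q) : r = N.p :=
  (Nat.prime_dvd_prime_iff_eq hr N.hp).1 (hr.dvd_of_dvd_pow (N.hq ▸ h))

end NP

theorem inv_eq_self {G : Type*} [Group G] {a : G} (h : a * a = 1) : a⁻¹ = a :=
  inv_eq_of_mul_eq_one_right h

theorem mul_mul_self {G : Type*} [Group G] {a : G} (h : a * a = 1) (b : G) : a * (a * b) = b := by
  rw [← mul_assoc, h, one_mul]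

theorem mem_map_conj {G : Type*} [Group G] {K : Subgroup G} {g x : G} :
    x ∈ K.map (MulAut.conj g).toMonoidHom ↔ g⁻¹ * x * g ∈ K := by
  constructor
  · rintro ⟨y, hy, rfl⟩; simpa [mul_assoc] using hy
  · intro h; exact ⟨_, h, by simp [mul_assoc]⟩

namespace GD

variable {G : Type*} [Group G] {N : NP} (D : GD G N)

/-- `A = Z X`. -/
def A : Subgroup G := D.Z ⊔ D.X
/-- The Borel subgroup `B = X S`. -/
def B : Subgroup G := D.X ⊔ D.S

theorem Z_le : D.Z ≤ D.H := D.Z_le_T.trans D.T_le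
theorem t_H : D.t ∈ D.H := D.Z_le D.t_mem
theorem u_H : D.u ∈ D.H := D.T_le D.u_mem
theorem t_T : D.t ∈ D.T := D.Z_le_T D.t_mem
theorem t_W : D.t ∈ D.W := D.Z_le_W D.t_mem
theorem S_le : D.S ≤ D.H := by rcases D.hS with ⟨-, h⟩ | ⟨-, h⟩ <;> rw [h]; exacts [D.T_le, D.W_le]
theorem Z_le_S : D.Z ≤ D.S := by rcases D.hS with ⟨-, h⟩ | ⟨-, h⟩ <;> rw [h]; exacts [D.Z_le_T, D.Z_le_W]
theorem A_le : D.A ≤ D.H := sup_le D.Z_le D.X_le
theorem B_le : D.B ≤ D.H := sup_le D.X_le D.S_le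
theorem Z_le_A : D.Z ≤ D.A := le_sup_left
theorem X_le_A : D.X ≤ D.A := le_sup_right
theorem X_le_B : D.X ≤ D.B := le_sup_left
theorem S_le_B : D.S ≤ D.B := le_sup_right
theorem A_le_B : D.A ≤ D.B := sup_le (D.Z_le_S.trans D.S_le_B) D.X_le_B
theorem S_comm : ∀ a ∈ D.S, ∀ b ∈ D.S, a * b = b * a := by
  rcases D.hS with ⟨-, h⟩ | ⟨-, h⟩ <;> rw [h]; exacts [D.T_comm, D.W_comm]
theorem cent_S : ∀ y ∈ D.S, y ∉ D.Z → ∀ h ∈ D.H, h * y = y * h → h ∈ D.S := by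
  rcases D.hS with ⟨-, h⟩ | ⟨-, h⟩ <;> rw [h]; exacts [D.cent_T, D.cent_W]
theorem t_comm {h : G} (hh : h ∈ D.H) : D.t * h = h * D.t := D.Z_comm _ D.t_mem h hh
theorem t_inv : D.t⁻¹ = D.t := inv_eq_self D.t_sq
theorem u_inv : D.u⁻¹ = D.u := inv_eq_self D.u_sq
theorem w_inv' : D.w⁻¹ = D.w := inv_eq_self D.w_sq
theorem v_inv' : D.v⁻¹ = D.v := inv_eq_self D.v_sq
theorem u_ne_one : D.u ≠ 1 := fun h => D.u_not (h ▸ one_mem _)
theorem u_ne_t : D.u ≠ D.t := fun h => D.u_not (h ▸ D.t_mem)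
theorem tu_not : D.t * D.u ∉ D.Z := fun h => D.u_not (by simpa using mul_mem (inv_mem D.t_mem) h)
theorem tu_mem : D.t * D.u ∈ D.T := mul_mem D.t_T D.u_mem
theorem tu_sq : D.t * D.u * (D.t * D.u) = 1 := by
  rw [mul_assoc, ← mul_assoc D.u, ← D.t_comm D.u_H, mul_assoc, D.u_sq, mul_one, D.t_sq]
theorem orderOf_t : orderOf D.t = 2 := orderOf_eq_prime (by rw [pow_two, D.t_sq]) D.t_ne
theorem conj_Z {z h : G} (hz : z ∈ D.Z) (hh : h ∈ D.H) : h * z * h⁻¹ = z := by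
  rw [← D.Z_comm z hz h hh, mul_inv_cancel_right]
theorem w_conj_mem {y : G} (hy : y ∈ D.T) : D.w * y * D.w ∈ D.T := by
  simpa using mul_mem (inv_mem hy) (D.Z_le_T (D.w_inv y hy))
theorem v_conj_mem {y : G} (hy : y ∈ D.W) : D.v * y * D.v ∈ D.W := by
  simpa using mul_mem (inv_mem hy) (D.Z_le_W (D.v_inv y hy))
theorem conj_not_Z {y h : G} (hy : y ∉ D.Z) (hh : h ∈ D.H) : h * y * h⁻¹ ∉ D.Z := fun h1 => hy (by
  have := D.conj_Z h1 (inv_mem hh)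
  rw [inv_inv] at this
  rw [show y = h⁻¹ * (h * y * h⁻¹) * h by group, this]; exact h1)

theorem S_le_normalizer [Finite G] : D.S ≤ normalizer (D.X : Set G) := fun s hs =>
  mem_normalizer_fintype (D.S_norm s hs)

theorem mem_A {g : G} : g ∈ D.A ↔ ∃ z ∈ D.Z, ∃ x ∈ D.X, g = z * x := by
  refine H1.mem_sup_of_le_normalizer' fun z hz => ?_
  rw [mem_normalizer_iff]
  intro x
  refine ⟨fun hx => by rwa [D.Z_comm z hz x (D.X_le hx), mul_inv_cancel_right], fun hx => ?_⟩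
  have := D.Z_comm z hz _ (D.X_le hx)
  rwa [show x = z * x * z⁻¹ from mul_left_cancel (a := z) (by rw [this]; group)]

theorem mem_B [Finite G] {g : G} : g ∈ D.B ↔ ∃ x ∈ D.X, ∃ s ∈ D.S, g = x * s :=
  H1.mem_sup_of_le_normalizer D.S_le_normalizer

theorem A_comm : ∀ a ∈ D.A, ∀ b ∈ D.A, a * b = b * a := by
  intro a ha b hb
  obtain ⟨z, hz, x, hx, rfl⟩ := D.mem_A.1 ha
  obtain ⟨z', hz', x', hx', rfl⟩ := D.mem_A.1 hb
  have e1 : Commute z z' := D.Z_comm z hz _ (D.Z_le hz')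
  have e2 : Commute z x' := D.Z_comm z hz _ (D.X_le hx')
  have e3 : Commute z' x := D.Z_comm z' hz' _ (D.X_le hx)
  have e4 : Commute x x' := D.X_comm x hx x' hx'
  exact (e1.mul_right e2).mul_left (e3.symm.mul_right e4)

theorem cent_A : ∀ y ∈ D.A, y ∉ D.Z → ∀ h ∈ D.H, h * y = y * h → h ∈ D.A := by
  intro y hy hyZ h hh e
  obtain ⟨z, hz, x, hx, rfl⟩ := D.mem_A.1 hy
  refine D.mem_A.2 (D.cent_X x hx (by rintro rfl; exact hyZ (by simpa using hz)) h hh ?_)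
  rw [← mul_assoc, ← D.Z_comm z hz h hh, mul_assoc, mul_assoc] at e
  exact mul_left_cancel e

theorem B_norm [Finite G] {b x : G} (hb : b ∈ D.B) (hx : x ∈ D.X) : b * x * b⁻¹ ∈ D.X := by
  obtain ⟨y, hy, s, hs, rfl⟩ := D.mem_B.1 hb
  simpa [mul_assoc] using mul_mem (mul_mem hy (D.S_norm s hs x hx)) (inv_mem hy)

theorem B_norm_A [Finite G] {b a : G} (hb : b ∈ D.B) (ha : a ∈ D.A) : b * a * b⁻¹ ∈ D.A := by
  obtain ⟨z, hz, x, hx, rfl⟩ := D.mem_A.1 ha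
  rw [show b * (z * x) * b⁻¹ = (b * z * b⁻¹) * (b * x * b⁻¹) by group, D.conj_Z hz (D.B_le hb)]
  exact mul_mem (D.Z_le_A hz) (D.X_le_A (D.B_norm hb hx))

theorem mem_B_of_conj [Finite G] {h x : G} (hh : h ∈ D.H) (hx : x ∈ D.X) (hx1 : x ≠ 1)
    (e : h * x * h⁻¹ ∈ D.X) : h ∈ D.B := D.mem_B.2 (D.norm_X h hh x hx hx1 e)

theorem mem_X_of_pow [Finite G] {a : G} (ha : a ∈ D.A) (hp : a ^ N.p = 1) : a ∈ D.X := by
  obtain ⟨z, hz, x, hx, rfl⟩ := D.mem_A.1 ha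
  rwa [D.eq_of_conj_aux (D.X_le hx) (D.X_pow x hx) hp (by simpa using hz)]

theorem norm_A [Finite G] : ∀ h ∈ D.H, ∀ y ∈ D.A, y ∉ D.Z → h * y * h⁻¹ ∈ D.A → h ∈ D.B := by
  intro h hh y hy hyZ e
  obtain ⟨z, hz, x, hx, rfl⟩ := D.mem_A.1 hy
  rw [show h * (z * x) * h⁻¹ = (h * z * h⁻¹) * (h * x * h⁻¹) by group, D.conj_Z hz hh] at e
  refine D.mem_B_of_conj hh hx (by rintro rfl; exact hyZ (by simpa using hz)) (D.mem_X_of_pow ?_ ?_)
  · simpa using mul_mem (inv_mem (D.Z_le_A hz)) e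
  · rw [conj_pow, D.X_pow x hx]; simp

theorem isCyclic_W : IsCyclic D.W := by
  obtain ⟨ω, hω, h⟩ := D.cycW
  exact ⟨⟨⟨ω, hω⟩, fun ⟨y, hy⟩ => by
    obtain ⟨k, rfl⟩ := h y hy; exact ⟨k, Subtype.ext (by simp)⟩⟩⟩

theorem W_inv [Finite G] {y : G} (hy : y ∈ D.W) (h : y * y = 1) : y = 1 ∨ y = D.t := by
  classical
  haveI := D.isCyclic_W
  haveI := Fintype.ofFinite D.W
  by_contra hc
  push Not at hc
  have h1 := IsCyclic.card_pow_eq_one_le (α := D.W) (n := 2) two_pos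
  have h2 : ({1, ⟨y, hy⟩, ⟨D.t, D.t_W⟩} : Finset D.W) ⊆ Finset.univ.filter fun a : D.W => a ^ 2 = 1 := by
    intro a ha
    simp only [Finset.mem_insert, Finset.mem_singleton] at ha
    rcases ha with rfl | rfl | rfl <;> simp [pow_two, Subtype.ext_iff, h, D.t_sq]
  have h3 := Finset.card_le_card h2
  rw [Finset.card_eq_three.2 ⟨_, _, _, by simp [Subtype.ext_iff, hc.1.symm],
    by simp [Subtype.ext_iff, D.t_ne.symm], by simp [Subtype.ext_iff, hc.2], rfl⟩] at h3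
  omega

theorem Z_inv [Finite G] {y : G} (hy : y ∈ D.Z) (h : y * y = 1) : y = 1 ∨ y = D.t :=
  D.W_inv (D.Z_le_W hy) h

theorem A_inv [Finite G] {y : G} (hy : y ∈ D.A) (h : y * y = 1) : y = 1 ∨ y = D.t := by
  obtain ⟨z, hz, x, hx, rfl⟩ := D.mem_A.1 hy
  have e : Commute z x := D.Z_comm z hz x (D.X_le hx)
  have h1 : x * x ∈ D.Z := by
    have : x * x = (z * z)⁻¹ := by
      rw [eq_inv_iff_mul_eq_one, ← h]
      simp only [mul_assoc, ← e.eq]; rw [← mul_assoc x z, ← e.eq]; simp only [mul_assoc, ← e.eq]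
      rw [← mul_assoc x z, ← e.eq, mul_assoc]
    rw [this]; exact inv_mem (mul_mem hz hz)
  have h2 := D.eq_one_of_mem_X_Z (mul_mem hx hx) h1
  obtain ⟨k, hk⟩ := N.p_odd
  have h3 : x = 1 := by
    have := D.X_pow x hx
    rwa [hk, pow_succ, pow_mul, pow_two, h2, one_pow, one_mul] at this
  subst h3
  rw [mul_one] at h ⊢
  exact D.Z_inv hz h

theorem T_mod_Z [Finite G] {a b : G} (ha : a ∈ D.T) (hb : b ∈ D.T) (ha' : a ∉ D.Z) (hb' : b ∉ D.Z)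
    (ha2 : a * a ∈ D.Z) (hb2 : b * b ∈ D.Z) : a * b ∈ D.Z := by
  classical
  obtain ⟨τ, hτ, h⟩ := D.cycT
  obtain ⟨i, z, hz, rfl⟩ := h a ha
  obtain ⟨j, z', hz', rfl⟩ := h b hb
  have key : ∀ (k : ℕ) {z : G}, z ∈ D.Z → (τ ^ k * z ∈ D.Z ↔ τ ^ k ∈ D.Z) := fun k z hz =>
    mul_mem_cancel_right hz
  have key2 : ∀ (k l : ℕ) {z z' : G}, z ∈ D.Z → z' ∈ D.Z →
      (τ ^ k * z * (τ ^ l * z') ∈ D.Z ↔ τ ^ (k + l) ∈ D.Z) := fun k l z z' hz hz' => by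
    rw [mul_assoc, ← mul_assoc z, D.Z_comm z hz _ (D.T_le (pow_mem hτ l)), mul_assoc, ← mul_assoc,
      ← pow_add]
    exact key _ (mul_mem hz hz')
  rw [key _ hz] at ha'
  rw [key _ hz'] at hb'
  rw [key2 _ _ hz hz] at ha2
  rw [key2 _ _ hz' hz'] at hb2
  rw [key2 _ _ hz hz']
  have hex : ∃ k, 0 < k ∧ τ ^ k ∈ D.Z := ⟨orderOf τ, orderOf_pos τ, by simp⟩
  have hd : ∀ k, τ ^ k ∈ D.Z ↔ Nat.find hex ∣ k := fun k => by
    have h0 := Nat.find_spec hex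
    refine ⟨fun hk => ?_, by rintro ⟨c, rfl⟩; rw [pow_mul]; exact pow_mem h0.2 _⟩
    by_contra hn
    have h1 : 0 < k % Nat.find hex := Nat.pos_of_ne_zero fun h => hn (Nat.dvd_of_mod_eq_zero h)
    refine Nat.find_min hex (Nat.mod_lt k h0.1) ⟨h1, ?_⟩
    rw [← Nat.div_add_mod k (Nat.find hex), pow_add, pow_mul] at hk
    exact (mul_mem_cancel_left (pow_mem h0.2 _)).1 hk
  rw [hd] at ha' hb' ha2 hb2 ⊢
  generalize Nat.find hex = c at *
  obtain ⟨x, hx⟩ := ha2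
  obtain ⟨y, hy⟩ := hb2
  have hxo : Odd x := by
    by_contra h1
    obtain ⟨k, rfl⟩ := Nat.not_odd_iff_even.1 h1
    exact ha' ⟨k, by nlinarith⟩
  have hyo : Odd y := by
    by_contra h1
    obtain ⟨k, rfl⟩ := Nat.not_odd_iff_even.1 h1
    exact hb' ⟨k, by nlinarith⟩
  obtain ⟨k, hk⟩ := hxo.add_odd hyo
  refine ⟨k, ?_⟩
  have : c * x + c * y = c * k + c * k := by rw [← mul_add, hk, mul_add]
  omega

theorem T_inv [Finite G] {y : G} (hy : y ∈ D.T) (h : y * y = 1) :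
    y = 1 ∨ y = D.t ∨ y = D.u ∨ y = D.t * D.u := by
  by_cases hyZ : y ∈ D.Z
  · rcases D.Z_inv hyZ h with h | h <;> simp [h]
  have h1 := D.T_mod_Z hy D.u_mem hyZ D.u_not (h ▸ one_mem _) (D.u_sq ▸ one_mem _)
  have h2 : y * D.u * (y * D.u) = 1 := by
    rw [mul_assoc, ← mul_assoc D.u, ← D.T_comm y hy _ D.u_mem, mul_assoc, D.u_sq, mul_one, h]
  rcases D.Z_inv h1 h2 with h3 | h3
  · right; right; left
    rw [← D.u_inv]; exact eq_inv_of_mul_eq_one_left h3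
  · right; right; right
    rw [← h3, mul_assoc, D.u_sq, mul_one]

theorem w_u [Finite G] : D.w * D.u * D.w = D.t * D.u := by
  have h1 : D.w * D.u * D.w * (D.w * D.u * D.w) = 1 := by
    simp only [mul_assoc, mul_mul_self D.w_sq, mul_mul_self D.u_sq, D.w_sq]
  have h2 : D.w * D.u * D.w ∉ D.Z := by
    have := D.conj_not_Z D.u_not D.w_mem
    rwa [D.w_inv'] at this
  rcases D.T_inv (D.w_conj_mem D.u_mem) h1 with h | h | h | h
  · exact absurd (h ▸ one_mem _) h2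
  · exact absurd (h ▸ D.t_mem) h2
  · refine absurd (D.cent_T _ D.u_mem D.u_not _ D.w_mem ?_) D.w_not
    calc D.w * D.u = D.w * D.u * D.w * D.w := by rw [mul_assoc _ D.w, D.w_sq, mul_one]
      _ = _ := by rw [h]
  · exact h

theorem w_tu [Finite G] : D.w * (D.t * D.u) * D.w = D.u := by
  rw [← D.w_u]; simp only [mul_assoc, mul_mul_self D.w_sq, D.w_sq, mul_one]

theorem w_t : D.w * D.t * D.w = D.t := by
  rw [← D.t_comm D.w_mem, mul_assoc, D.w_sq, mul_one]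

section card

variable [Finite G]

theorem Z_pos : 0 < Nat.card D.Z := Nat.card_pos
theorem two_dvd_Z : 2 ∣ Nat.card D.Z := D.orderOf_t ▸ D.Z.orderOf_dvd_natCard D.t_mem
theorem Z_dvd_m : Nat.card D.Z ∣ N.m := by obtain ⟨d, -, h⟩ := D.cZ; exact Dvd.intro_left d h
theorem p_not_dvd_Z : ¬ N.p ∣ Nat.card D.Z := fun h => N.p_not_dvd_m (h.trans D.Z_dvd_m)
theorem p_not_dvd_T : ¬ N.p ∣ Nat.card D.T := by
  rw [D.cT, N.hp.dvd_mul]; exact not_or.2 ⟨D.p_not_dvd_Z, N.p_not_dvd_m⟩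
theorem p_not_dvd_W : ¬ N.p ∣ Nat.card D.W := by
  rw [D.cW, N.hp.dvd_mul]; exact not_or.2 ⟨D.p_not_dvd_Z, N.p_not_dvd_n⟩
theorem cS : Nat.card D.S = Nat.card D.Z * (N.q - 1) := by
  have := N.cases
  rcases D.hS with ⟨h1, h⟩ | ⟨h1, h⟩ <;> rw [h]
  · rw [D.cT]; congr 1; omega
  · rw [D.cW]; congr 1; omega
theorem p_not_dvd_S : ¬ N.p ∣ Nat.card D.S := by
  rcases D.hS with ⟨-, h⟩ | ⟨-, h⟩ <;> rw [h]; exacts [D.p_not_dvd_T, D.p_not_dvd_W]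

theorem eq_one_of_pow {K : Subgroup G} (hK : ¬ N.p ∣ Nat.card K) {x : G} (hx : x ∈ K)
    (h : x ^ N.p = 1) : x = 1 := by
  rcases (Nat.dvd_prime N.hp).1 (orderOf_dvd_of_pow_eq_one h) with h2 | h2
  · exact orderOf_eq_one_iff.1 h2
  · exact absurd (h2 ▸ K.orderOf_dvd_natCard hx) hK

theorem card_sup_of_inf {K L : Subgroup G} (h : L ≤ normalizer (K : Set G)) (hi : K ⊓ L = ⊥) :
    Nat.card (K ⊔ L : Subgroup G) = Nat.card K * Nat.card L := by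
  rw [← Nat.card_prod]
  symm
  refine Nat.card_congr (Equiv.ofBijective
    (fun x : K × L => ⟨x.1 * x.2, mul_mem (mem_sup_left x.1.2) (mem_sup_right x.2.2)⟩) ⟨?_, ?_⟩)
  · rintro ⟨⟨a, ha⟩, ⟨b, hb⟩⟩ ⟨⟨c, hc⟩, ⟨d, hd⟩⟩ e
    have e1 : a * b = c * d := congrArg Subtype.val e
    have e2 : c⁻¹ * a = d * b⁻¹ := by rw [inv_mul_eq_iff_eq_mul, ← mul_assoc, ← e1]; group
    have e3 : c⁻¹ * a ∈ K ⊓ L := mem_inf.2 ⟨K.mul_mem (K.inv_mem hc) ha, e2 ▸ L.mul_mem hd (L.inv_mem hb)⟩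
    rw [hi, mem_bot] at e3
    have e4 : a = c := (inv_mul_eq_one.1 e3).symm
    subst e4
    simpa using e1
  · rintro ⟨g, hg⟩
    obtain ⟨a, ha, b, hb, rfl⟩ := (H1.mem_sup_of_le_normalizer h).1 hg
    exact ⟨(⟨a, ha⟩, ⟨b, hb⟩), rfl⟩

theorem X_inf_S : D.X ⊓ D.S = ⊥ := eq_bot_iff.2 fun _ hx =>
  eq_one_of_pow D.p_not_dvd_S hx.2 (D.X_pow _ hx.1)

theorem cB : Nat.card D.B = N.q * (Nat.card D.Z * (N.q - 1)) := by
  rw [B, card_sup_of_inf D.S_le_normalizer D.X_inf_S, D.cX, D.cS]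

theorem cA : Nat.card D.A = Nat.card D.Z * N.q := by
  rw [A, sup_comm, card_sup_of_inf (D.Z_le_S.trans D.S_le_normalizer)
    (eq_bot_iff.2 fun _ hx => D.eq_one_of_mem_X_Z hx.1 hx.2), D.cX, mul_comm]

end card

theorem S_fpf [Finite G] {s x : G} (hs : s ∈ D.S) (hx : x ∈ D.X) (hx1 : x ≠ 1) (e : s * x = x * s) :
    s ∈ D.Z := by
  obtain ⟨z, hz, y, hy, rfl⟩ := D.cent_X x hx hx1 s (D.S_le hs) e
  have : y ∈ D.X ⊓ D.S := ⟨hy, by simpa using mul_mem (inv_mem (D.Z_le_S hz)) hs⟩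
  rw [D.X_inf_S, mem_bot] at this
  simpa [this] using hz

theorem A_inf_S [Finite G] {a : G} (ha : a ∈ D.A) (hs : a ∈ D.S) : a ∈ D.Z := by
  obtain ⟨z, hz, y, hy, rfl⟩ := D.mem_A.1 ha
  have : y ∈ D.X ⊓ D.S := ⟨hy, by simpa using mul_mem (inv_mem (D.Z_le_S hz)) hs⟩
  rw [D.X_inf_S, mem_bot] at this
  simpa [this] using hz

/-- Elements of `B` outside `A` are conjugate under `X` to elements of `S`. -/
theorem B_conj [Finite G] {b : G} (hb : b ∈ D.B) (hbA : b ∉ D.A) : ∃ y ∈ D.X, y * b * y⁻¹ ∈ D.S := by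
  obtain ⟨x, hx, s, hs, rfl⟩ := D.mem_B.1 hb
  have hsZ : s ∉ D.Z := fun h => hbA (mul_mem (D.X_le_A hx) (D.Z_le_A h))
  let f : D.X → D.X := fun y => ⟨y⁻¹ * (s * y * s⁻¹), mul_mem (inv_mem y.2) (D.S_norm s hs y y.2)⟩
  have hf : Function.Injective f := by
    rintro ⟨a, ha⟩ ⟨b, hb⟩ e
    have e1 : a⁻¹ * (s * a * s⁻¹) = b⁻¹ * (s * b * s⁻¹) := congrArg Subtype.val e
    by_contra hne
    refine hsZ (D.S_fpf hs (mul_mem hb (inv_mem ha)) (fun h => hne (Subtype.ext (mul_inv_eq_one.1 h).symm)) ?_)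
    calc s * (b * a⁻¹) = b * (b⁻¹ * (s * b * s⁻¹)) * s * a⁻¹ := by group
      _ = b * (a⁻¹ * (s * a * s⁻¹)) * s * a⁻¹ := by rw [e1]
      _ = _ := by group
  obtain ⟨⟨y, hy⟩, e⟩ := Finite.surjective_of_injective hf ⟨x, hx⟩
  have e1 : y⁻¹ * (s * y * s⁻¹) = x := congrArg Subtype.val e
  exact ⟨y, hy, by rw [← e1]; simpa [mul_assoc] using hs⟩

/-- `S` is transitive on the non-identity elements of `X`. -/
theorem S_trans [Finite G] {x y : G} (hx : x ∈ D.X) (hx1 : x ≠ 1) (hy : y ∈ D.X) (hy1 : y ≠ 1) :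
    ∃ s ∈ D.S, s * x * s⁻¹ = y := by
  classical
  let f : D.S ⧸ D.Z.subgroupOf D.S → {y : D.X // y ≠ 1} := fun c => Quotient.liftOn' c
    (fun s => ⟨⟨s * x * s⁻¹, D.S_norm s s.2 x hx⟩, fun h => hx1 (by
      simpa [Subtype.ext_iff, mul_inv_eq_one] using h)⟩) (by
      rintro ⟨a, ha⟩ ⟨b, hb⟩ h
      rw [QuotientGroup.leftRel_apply, mem_subgroupOf] at h
      have := D.conj_Z (h := x) h (D.X_le hx)
      refine Subtype.ext (Subtype.ext ?_)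
      change a * x * a⁻¹ = b * x * b⁻¹
      change x * (a⁻¹ * b) * x⁻¹ = a⁻¹ * b at this
      calc a * x * a⁻¹ = a * (x * (a⁻¹ * b) * x⁻¹) * x * b⁻¹ := by group
        _ = _ := by rw [this]; group)
  have hf : Function.Injective f := by
    intro c d
    induction c using Quotient.inductionOn' with | _ a => ?_
    induction d using Quotient.inductionOn' with | _ b => ?_
    intro e
    have e1 : (a : G) * x * a⁻¹ = b * x * b⁻¹ := congrArg (fun y => (y.1 : G)) e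
    refine Quotient.sound' (QuotientGroup.leftRel_apply.2 (mem_subgroupOf.2
      (D.S_fpf (a⁻¹ * b).2 hx hx1 ?_)))
    change (a : G)⁻¹ * b * x = x * ((a : G)⁻¹ * b)
    calc (a : G)⁻¹ * b * x = (a : G)⁻¹ * (b * x * (b : G)⁻¹) * b := by group
      _ = (a : G)⁻¹ * (a * x * (a : G)⁻¹) * b := by simpa using e1.symm
      _ = _ := by group
  have hc : Nat.card {y : D.X // y ≠ 1} ≤ Nat.card (D.S ⧸ D.Z.subgroupOf D.S) := by
    have h1 := (D.Z.subgroupOf D.S).card_mul_index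
    rw [Nat.card_congr (subgroupOfEquivOfLe D.Z_le_S).toEquiv, D.cS] at h1
    rw [← index_eq_card, Nat.eq_of_mul_eq_mul_left D.Z_pos h1, ← D.cX]
    haveI := Fintype.ofFinite D.X
    simp [Nat.card_eq_fintype_card, Fintype.card_subtype_compl]
  obtain ⟨c, hc⟩ := (hf.bijective_of_nat_card_le hc).2 ⟨⟨y, hy⟩, fun h => hy1 (congrArg Subtype.val h)⟩
  induction c using Quotient.inductionOn' with | _ a => ?_
  exact ⟨a, a.2, congrArg (fun y => (y.1 : G)) hc⟩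

end GD

end H4
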