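import Mathlib
import Cfsg.Agent.H17.ZStar
import Cfsg.Agent.S0949
import Cfsg.Agent.H5.DCH
import Cfsg.Agent.H22.U34Model
import Cfsg.Agent.H22.SuzII1
import Cfsg.Agent.H6.Dihedral
import Cfsg.Agent.H6.SmallSylow
import Cfsg.Agent.H1.CoprimeAbelian

/-! Abelian centralisers of the three involutions of a four-group (written by helper17). -/

set_option autoImplicit false
set_option linter.unusedSectionVars false

open Cfsg Subgroup

namespace H17.AbC

theorem arith {i a₁ a₂ a₃ : ℤ} (hs : 1 + a₁ + a₂ + a₃ = 0) (h1 : a₁ ≡ 1 [ZMOD 4])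
    (h2 : a₂ ≡ 1 [ZMOD 4]) (h3 : a₃ ≡ 1 [ZMOD 4]) (hi : 3 ∣ i)
    (h : i * ((1 + a₁) * (1 + a₂) * (1 + a₃)) = 8 * (a₁ * a₂ * a₃)) : i = 3 ∨ i = 15 := by
  obtain ⟨x, rfl⟩ : ∃ x, a₁ = 4 * x + 1 := ⟨a₁ / 4, by unfold Int.ModEq at h1; omega⟩
  obtain ⟨y, rfl⟩ : ∃ y, a₂ = 4 * y + 1 := ⟨a₂ / 4, by unfold Int.ModEq at h2; omega⟩
  obtain ⟨z, rfl⟩ : ∃ z, a₃ = 4 * z + 1 := ⟨a₃ / 4, by unfold Int.ModEq at h3; omega⟩
  have h0 : i * ((2 * x + 1) * (2 * y + 1) * (2 * z + 1)) = (4 * x + 1) * (4 * y + 1) * (4 * z + 1) := by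
    linarith
  have h4 : 4 ∣ i + 1 := ⟨i * (x * y + x * z + y * z + 2 * (x * y * z)) - 4 * (x * y + x * z + y * z) -
    16 * (x * y * z) + 1, by
      obtain rfl : z = -1 - x - y := by omega
      linear_combination -h0⟩
  have f : ∀ x : ℤ, ∃ r : ℚ, r * (2 * x + 1) = 4 * x + 1 ∧ 0 < r ∧ r ≤ 3 ∧ (0 ≤ x → r < 2) := fun x => by
    have hx : (2 * x + 1 : ℚ) ≠ 0 := by exact_mod_cast (by omega : 2 * x + 1 ≠ 0)
    refine ⟨(4 * x + 1) / (2 * x + 1), div_mul_cancel₀ _ hx, ?_⟩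
    rcases le_or_gt 0 x with h | h
    · have : (0 : ℚ) ≤ x := by exact_mod_cast h
      refine ⟨by positivity, ?_, fun _ => ?_⟩
      · rw [div_le_iff₀ (by positivity)]; linarith
      · rw [div_lt_iff₀ (by positivity)]; linarith
    · have : (x : ℚ) ≤ -1 := by exact_mod_cast (by omega : x ≤ -1)
      refine ⟨div_pos_of_neg_of_neg (by linarith) (by linarith), ?_, fun _ => by omega⟩
      rw [div_le_iff_of_neg (by linarith)]; linarith
  obtain ⟨r, a1, a2, a3, a4⟩ := f x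
  obtain ⟨s, b1, b2, b3, b4⟩ := f y
  obtain ⟨t, c1, c2, c3, c4⟩ := f z
  have h5 : (i : ℚ) = r * s * t := by
    have hx : ((2 * x + 1) * (2 * y + 1) * (2 * z + 1) : ℚ) ≠ 0 := by
      exact_mod_cast mul_ne_zero (mul_ne_zero (by omega) (by omega)) (by omega : 2 * z + 1 ≠ 0)
    refine mul_right_cancel₀ hx ?_
    have : (i * ((2 * x + 1) * (2 * y + 1) * (2 * z + 1)) : ℚ) = (4 * x + 1) * (4 * y + 1) * (4 * z + 1) := by
      exact_mod_cast h0
    rw [this, ← a1, ← b1, ← c1]; ring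
  have h6 : (0 : ℚ) < i := by rw [h5]; positivity
  have h7 : (i : ℚ) < 18 := by
    have k : ∀ {r s t : ℚ}, 0 < r → 0 < s → 0 < t → r < 2 → s ≤ 3 → t ≤ 3 → r * s * t < 18 :=
      fun {r s t} _ e2 e3 _ e5 e6 => by
        nlinarith [mul_le_mul e5 e6 e3.le (by norm_num), mul_pos e2 e3]
    rcases (by omega : 0 ≤ x ∨ 0 ≤ y ∨ 0 ≤ z) with e | e | e
    · linarith [k a2 b2 c2 (a4 e) b3 c3]
    · linarith [k b2 a2 c2 (b4 e) a3 c3]
    · linarith [k c2 a2 b2 (c4 e) a3 b3]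
  have h8 : 0 < i := by exact_mod_cast h6
  have h9 : i < 18 := by exact_mod_cast h7
  omega

variable {G : Type*} [Group G] [Finite G]

/-- the hypothesis with `L = G` -/
structure Hyp (T : Subgroup G) (a b : G) : Prop where
  comm : ∀ x ∈ T, ∀ y ∈ T, x * y = y * x
  ha : a ∈ T
  hb : b ∈ T
  a1 : a ≠ 1
  b1 : b ≠ 1
  ab : a ≠ b
  a2 : a * a = 1
  b2 : b * b = 1
  inv : ∀ s ∈ T, s * s = 1 → s = 1 ∨ s = a ∨ s = b ∨ s = a * b
  cent : ∀ v ∈ T, v * v = 1 → v ≠ 1 → ∀ g, g * v = v * g → g ∈ T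

namespace Hyp

variable {T : Subgroup G} {a b : G} (h : Hyp T a b)
include h

theorem ab2 : a * b * (a * b) = 1 := by
  rw [mul_assoc, ← mul_assoc b, h.comm b h.hb a h.ha, mul_assoc, h.b2, mul_one, h.a2]

theorem ab1 : a * b ≠ 1 := fun e => h.ab (mul_left_cancel (h.a2.trans e.symm))

theorem centralizer_eq {v : G} (hv : v ∈ T) (h2 : v * v = 1) (h1 : v ≠ 1) :
    centralizer ({v} : Set G) = T :=
  le_antisymm (fun g hg => h.cent v hv h2 h1 g (mem_centralizer_singleton_iff.mp hg))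
    fun g hg => mem_centralizer_singleton_iff.mpr (h.comm g hg v hv)

/-- the four-group -/
def V : Subgroup G where
  carrier := {v | v ∈ T ∧ v * v = 1}
  one_mem' := ⟨one_mem _, mul_one _⟩
  mul_mem' := fun {x y} hx hy => ⟨mul_mem hx.1 hy.1, by
    rw [mul_assoc, ← mul_assoc y, h.comm y hy.1 x hx.1, mul_assoc, hy.2, mul_one, hx.2]⟩
  inv_mem' := fun {x} hx => ⟨inv_mem hx.1, by rw [← mul_inv_rev, hx.2, inv_one]⟩

theorem card_V : Nat.card h.V = 4 := by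
  have : (h.V : Set G) = {1, a, b, a * b} := Set.ext fun v => ⟨fun hv => h.inv v hv.1 hv.2, by
    rintro (rfl | rfl | rfl | rfl)
    exacts [one_mem _, ⟨h.ha, h.a2⟩, ⟨h.hb, h.b2⟩, ⟨mul_mem h.ha h.hb, h.ab2⟩]⟩
  rw [← SetLike.coe_sort_coe, this, Nat.card_coe_set_eq,
    Set.ncard_insert_of_notMem (by simp [h.a1.symm, h.b1.symm, h.ab1.symm]),
    Set.ncard_insert_of_notMem (by simp [h.ab, h.b1]), Set.ncard_pair (by simp [h.a1])]

theorem odd_le (K : Subgroup G) [K.Normal] (hK : Odd (Nat.card K)) : K ≤ T := by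
  have : IsMulCommutative h.V := ⟨⟨fun x y => Subtype.ext (h.comm _ x.2.1 _ y.2.1)⟩⟩
  have h4 : IsKleinFour h.V := H22.isKleinFour_of h.card_V fun _ hx => hx.2
  refine H1.le_of_centralizer_le h.V K T h4.not_isCyclic (by rw [normalizer_eq_top]; exact le_top)
    (by rw [h.card_V]; exact (Nat.coprime_two_left.mpr hK).pow_left 2) fun v hv h1 => ?_
  rw [h.centralizer_eq hv.1 hv.2 h1]
  exact inf_le_right

theorem exists_sylow : ∃ S : Sylow 2 G, h.V ≤ S ∧ (S : Subgroup G) ≤ T := by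
  obtain ⟨S, hS⟩ := (IsPGroup.of_card (p := 2) (n := 2) h.card_V).exists_le_sylow
  have ha := hS (show a ∈ h.V from ⟨h.ha, h.a2⟩)
  obtain ⟨z, hz, h2, hc⟩ := H6.exists_central_involution S.isPGroup' fun e => h.a1 (by
    rwa [e, mem_bot] at ha)
  exact ⟨S, hS, fun g hg => h.cent z (h.cent a h.ha h.a2 h.a1 z (hc a ha).symm)
    (H6.mul_self_of_orderOf_two h2) (by rintro rfl; simp at h2) g (hc g hg)⟩

theorem mem_normalizer {g v : G} (hv : v ∈ T) (h2 : v * v = 1) (h1 : v ≠ 1) (hg : g * v * g⁻¹ ∈ T) :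
    g ∈ normalizer (T : Set G) := H22.mem_normalizer_of_conj_mem fun x hx =>
  h.cent _ hg (by simp [h2]) (by simpa using h1) _ (by simp [h.comm x hx v hv])

theorem exists_rho {g : G} (hg : g * a * g⁻¹ ∈ T) (hne : g * a * g⁻¹ ≠ a) :
    ∃ ρ : G, ρ * a * ρ⁻¹ = b ∧ ρ * b * ρ⁻¹ = a * b := by
  have hN := h.mem_normalizer h.ha h.a2 h.a1 hg
  have fix : ∀ v ∈ T, v * v = 1 → v ≠ 1 → g * v * g⁻¹ ≠ v := fun v hv h2 h1 e => hne (by
    rw [h.comm g (h.cent v hv h2 h1 g (mul_inv_eq_iff_eq_mul.mp e)) a h.ha, mul_inv_cancel_right])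
  have f1 := fix b h.hb h.b2 h.b1
  have f2 := fix _ (mul_mem h.ha h.hb) h.ab2 h.ab1
  have e0 : g * (a * b) * g⁻¹ = g * a * g⁻¹ * (g * b * g⁻¹) := by group
  rcases h.inv _ hg (by simp [h.a2]) with e | e | e | e
  · exact absurd e (by simpa using h.a1)
  · exact absurd e hne
  all_goals rcases h.inv _ (H22.conj_mem_of_mem_normalizer hN h.hb) (by simp [h.b2]) with f | f | f | f
  · exact absurd f (by simpa using h.b1)
  · exact absurd (by rw [e0, e, f, h.comm a h.ha b h.hb]) f2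
  · exact absurd f f1
  · exact ⟨g, e, f⟩
  · exact absurd f (by simpa using h.b1)
  · refine ⟨g⁻¹, by rw [← f]; group, ?_⟩
    calc g⁻¹ * b * g⁻¹⁻¹ = g⁻¹ * (a * (a * b)) * g := by rw [← mul_assoc a, h.a2, one_mul, inv_inv]
      _ = a * b := by
        conv_lhs => rw [← e]; enter [1, 2, 1]; rw [← f]
        rw [h.comm a h.ha b h.hb]; group
  · exact absurd f f1
  · exact absurd (by simpa using e.trans f.symm) h.ab

theorem eq_top (hi : ∀ g : G, g * a * g⁻¹ ∈ T → g * a * g⁻¹ = a) : T = ⊤ := by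
  have hiso : IsIsolatedInvolution a := ⟨H22.orderOf_eq_two_of_mul_self h.a2 h.a1, fun g hg =>
    hi g (h.cent a h.ha h.a2 h.a1 _ hg.symm)⟩
  refine eq_top_iff.mpr fun g _ => h.cent a h.ha h.a2 h.a1 g (mul_inv_eq_iff_eq_mul.mp (hi g ?_))
  have := mul_mem (inv_mem (h.odd_le _ odd_card_pPrimeCore (zstar hiso g))) h.ha
  simpa [mul_assoc] using this

variable {ρ : G} (h1 : ρ * a * ρ⁻¹ = b) (h2 : ρ * b * ρ⁻¹ = a * b)
include h1 h2

theorem exists_conj {v : G} (hv : v ∈ T) (v2 : v * v = 1) (v1 : v ≠ 1) :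
    ∃ k : ℕ, ρ ^ k * a * (ρ ^ k)⁻¹ = v := by
  rcases h.inv v hv v2 with rfl | rfl | rfl | rfl
  · exact absurd rfl v1
  · exact ⟨0, by simp⟩
  · exact ⟨1, by simpa using h1⟩
  · exact ⟨2, by rw [← h2, ← h1, sq]; group⟩

theorem relIndex_eq : T.relIndex (normalizer (T : Set G)) = 3 := by
  have hρ := h.mem_normalizer h.ha h.a2 h.a1 (h1 ▸ h.hb)
  have : {y | ∃ n ∈ normalizer (T : Set G), n * a * n⁻¹ = y} = {a, b, a * b} := Set.ext fun y => ⟨by
    rintro ⟨n, hn, rfl⟩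
    exact (h.inv _ (H22.conj_mem_of_mem_normalizer hn h.ha) (by simp [h.a2])).resolve_left
      (by simpa using h.a1), fun hy => by
    have : y ∈ T ∧ y * y = 1 ∧ y ≠ 1 := by
      rcases hy with rfl | rfl | rfl
      exacts [⟨h.ha, h.a2, h.a1⟩, ⟨h.hb, h.b2, h.b1⟩, ⟨mul_mem h.ha h.hb, h.ab2, h.ab1⟩]
    obtain ⟨k, hk⟩ := h.exists_conj h1 h2 this.1 this.2.1 this.2.2
    exact ⟨_, pow_mem hρ k, hk⟩⟩
  conv_lhs => enter [1]; rw [← h.centralizer_eq h.ha h.a2 h.a1]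
  rw [H22.relIndex_centralizer, this, Set.ncard_insert_of_notMem (by simp [h.ab, h.b1]),
    Set.ncard_pair (by simp [h.a1])]

theorem isConj {u : G} (hu : orderOf u = 2) : IsConj a u := by
  obtain ⟨S, -, hS⟩ := h.exists_sylow
  obtain ⟨g, hg, -⟩ := exists_conj_pair_mem S (a := u) (b := u) ⟨1, by rw [pow_one, hu]⟩
    ⟨1, by rw [pow_one, hu]⟩ (by simp)
  obtain ⟨k, hk⟩ := h.exists_conj h1 h2 (hS hg) (by simp [H6.mul_self_of_orderOf_two hu])
    (by rintro e; simp at e; simp [e] at hu)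
  exact (isConj_iff.mpr ⟨_, hk⟩).trans (isConj_iff.mpr ⟨g, rfl⟩).symm

theorem central (hi : T.index = 15) {r : G} (hr : r ∈ T) (ho : Odd (orderOf r)) (g : G) :
    g * r = r * g := by
  set N := normalizer (T : Set G)
  have h5 : N.index = 5 := by
    have := relIndex_mul_index (le_normalizer (H := T))
    rw [h.relIndex_eq h1 h2, hi] at this
    change 3 * N.index = 15 at this
    omega
  have conj : ∀ g : G, orderOf (g * a * g⁻¹) = 2 := fun g => H22.orderOf_eq_two_of_mul_self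
    (by simp [h.a2]) (by simpa using h.a1)
  have hVN : ∀ u ∈ N, u * u = 1 → u ∈ T := fun u hu u2 => by
    have : u ^ T.relIndex N ∈ T := (T.subgroupOf N).pow_index_mem ⟨u, hu⟩
    rwa [h.relIndex_eq h1 h2, pow_succ, sq, u2, one_mul] at this
  obtain ⟨u, hu⟩ : ∃ k : G, k * a * k⁻¹ ∉ T := by
    by_contra! hc
    have : N = ⊤ := eq_top_iff.mpr fun k _ => h.mem_normalizer h.ha h.a2 h.a1 (hc k)
    simp [this] at h5
  have hK : N.normalCore ≤ T := h.odd_le _ (Nat.not_even_iff_odd.mp fun e => by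
    obtain ⟨w, hw⟩ := exists_prime_orderOf_dvd_card' 2 e.two_dvd
    obtain ⟨k, hk⟩ := isConj_iff.mp (((h.isConj h1 h2 (u := w) (by simpa using hw)).symm).trans
      (isConj_iff.mpr ⟨u, rfl⟩))
    exact hu (hVN _ (normalCore_le _ (hk ▸ N.normalCore_normal.conj_mem _ w.2 k)) (by simp [h.a2])))
  have h8 : N.normalCore.relIndex T ∣ 8 := by
    have a1 : N.normalCore.index ∣ 120 := by
      rw [show 120 = Nat.factorial 5 from rfl, ← h5, normalCore_eq_ker, index_ker, index_eq_card,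
        ← Nat.card_perm]
      exact card_subgroup_dvd_card (MulAction.toPermHom G (G ⧸ N)).range
    rw [← relIndex_mul_index hK, hi] at a1
    exact Nat.dvd_of_mul_dvd_mul_right (by norm_num : 0 < 15) a1
  have hrK : r ∈ N.normalCore := H3.mem_of_pow_mem_of_coprime (pow_relIndex_mem _ hr)
    (((Nat.coprime_two_right.mpr ho).pow_right 3).coprime_dvd_right h8)
  have hc : ∀ k : G, k * a * k⁻¹ ∈ centralizer ({r} : Set G) := fun k => by
    have := h.comm _ (hK (N.normalCore_normal.conj_mem _ hrK k⁻¹)) a h.ha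
    rw [mem_centralizer_singleton_iff]
    calc k * a * k⁻¹ * r = k * (a * (k⁻¹ * r * k⁻¹⁻¹)) * k⁻¹ := by group
      _ = _ := by rw [← this]; group
  have key : ∀ k l : G, k * a * k⁻¹ ∈ T → l * a * l⁻¹ ∉ T →
      ∃ d ∈ centralizer ({r} : Set G), d * (k * a * k⁻¹) * d⁻¹ = l * a * l⁻¹ := fun k l hk hl => by
    have k2 : k * a * k⁻¹ * (k * a * k⁻¹) = 1 := by simp [h.a2]
    have l2 : l * a * l⁻¹ * (l * a * l⁻¹) = 1 := by simp [h.a2]
    obtain ⟨d, hd, e⟩ := H6.exists_conj_of_odd k2 l2 (Nat.not_even_iff_odd.mp fun e => by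
      obtain ⟨a1, a2, a3⟩ := H6.central_involution k2 l2 e
      exact hl (h.cent _ (h.cent _ hk k2 (by simpa using h.a1) _ a2) (H6.mul_self_of_orderOf_two a1)
        (fun e => by simp [e] at a1) _ a3.symm))
    exact ⟨d, (closure_le _).mpr (by rintro _ (rfl | rfl) <;> exact hc _) hd, e⟩
  have fin : ∀ d ∈ centralizer ({r} : Set G), d * a * d⁻¹ = g * a * g⁻¹ → g * r = r * g := fun d hd e => by
    have := h.cent a h.ha h.a2 h.a1 (d⁻¹ * g) (by
      calc d⁻¹ * g * a = d⁻¹ * (g * a * g⁻¹) * g := by group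
        _ = _ := by rw [← e]; group)
    exact mem_centralizer_singleton_iff.mp (by
      simpa using mul_mem hd (mem_centralizer_singleton_iff.mpr (h.comm _ this r hr)))
  obtain ⟨d, hd, e⟩ := key 1 u (by simpa using h.ha) hu
  by_cases hg : g * a * g⁻¹ ∈ T
  · obtain ⟨d', hd', e'⟩ := key g u hg hu
    refine fin (d'⁻¹ * d) (mul_mem (inv_mem hd') hd) ?_
    calc d'⁻¹ * d * a * (d'⁻¹ * d)⁻¹ = d'⁻¹ * (d * (1 * a * 1⁻¹) * d⁻¹) * d' := by group
      _ = _ := by rw [e, ← e']; group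
  · obtain ⟨d', hd', e'⟩ := key 1 g (by simpa using h.ha) hg
    exact fin d' hd' (by simpa using e')

theorem main : (T.index = 3 ∧ ∀ g, ∀ x ∈ T, g * x * g⁻¹ ∈ T) ∨
    (T.index = 15 ∧ ¬ 8 ∣ Nat.card T ∧ ∀ r ∈ T, Odd (orderOf r) → ∀ g, g * r = r * g) := by
  classical
  by_cases hN : ∀ g : G, g * a * g⁻¹ ∈ T
  · have : normalizer (T : Set G) = ⊤ :=
      eq_top_iff.mpr fun k _ => h.mem_normalizer h.ha h.a2 h.a1 (hN k)
    refine Or.inl ⟨by rw [← h.relIndex_eq h1 h2, this, relIndex_top_right], fun g x hx =>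
      H22.conj_mem_of_mem_normalizer (this ▸ mem_top g) hx⟩
  right
  obtain ⟨S, hVS, hS⟩ := h.exists_sylow
  have hρ := h.mem_normalizer h.ha h.a2 h.a1 (h1 ▸ h.hb)
  have hρS : ρ ∈ normalizer ((S : Subgroup G) : Set G) := H22.mem_normalizer_of_conj_mem fun x hx => by
    have a1 := H22.conj_mem_of_mem_normalizer hρ (hS hx)
    have a2 := (PElt.isPGroup_zpowers (p := 2) (x := ρ * x * ρ⁻¹) (by
      obtain ⟨k, hk⟩ := PElt.of_mem S.isPGroup' hx
      exact ⟨k, by rw [← hk]; exact (MulAut.conj ρ).orderOf_eq x⟩)).inf_normalizer_sylow S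
    exact (a2.le ⟨mem_zpowers _, H22.mem_normalizer_of_conj_mem fun y hy => by
      rwa [h.comm _ a1 y (hS hy), mul_inv_cancel_right]⟩).2
  have hR : H22.Rk2 (S : Subgroup G) := ⟨S.isPGroup', fun x _ g =>
    Subtype.ext (h.comm _ (hS g.2) _ (hS x.2)), by
      rw [← h.card_V]
      exact Nat.card_congr ⟨fun x => ⟨x.1, hS x.1.2, congrArg Subtype.val x.2⟩,
        fun x => ⟨⟨x, hVS x.2⟩, Subtype.ext x.2.2⟩, fun _ => rfl, fun _ => rfl⟩⟩
  let α : MulAut (S : Subgroup G) := (S : Subgroup G).normalizerMonoidHom ⟨ρ, hρS⟩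
  have hα : ∀ (k : ℕ) (x : (S : Subgroup G)), ((α ^ k) x : G) = ρ ^ k * x * (ρ ^ k)⁻¹ := fun k x => by
    rw [← map_pow]; rfl
  have h3 : ρ ^ 3 * a * (ρ ^ 3)⁻¹ = a := by
    calc ρ ^ 3 * a * (ρ ^ 3)⁻¹ = ρ * (ρ * (ρ * a * ρ⁻¹) * ρ⁻¹) * ρ⁻¹ := by rw [pow_three]; group
      _ = ρ * a * ρ⁻¹ * (ρ * b * ρ⁻¹) := by
        conv_lhs => rw [h1, h2]
        group
      _ = a := by rw [h1, h2, h.comm a h.ha b h.hb, ← mul_assoc, h.b2, one_mul]
  rcases hR.homocyclic_or_u34 α fun s t s2 s1 t2 t1 => by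
    obtain ⟨k, hk⟩ := h.exists_conj h1 h2 (hS s.2) (congrArg Subtype.val s2) (by simpa using s1)
    obtain ⟨l, hl⟩ := h.exists_conj h1 h2 (hS t.2) (congrArg Subtype.val t2) (by simpa using t1)
    refine ⟨l + 2 * k, Subtype.ext ?_⟩
    have : (ρ ^ 3) ^ k * a * ((ρ ^ 3) ^ k)⁻¹ = a := by
      rw [((show Commute (ρ ^ 3) a from mul_inv_eq_iff_eq_mul.mp h3).pow_left k).eq, mul_inv_cancel_right]
    rw [hα, ← hk, ← hl, ← this]
    conv_lhs => rw [this]
    group with ⟨n, hn, ⟨e⟩⟩ | ⟨β, hβ⟩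
  swap
  · obtain ⟨x, y, hxy⟩ := hβ.nonab
    exact absurd (Subtype.ext (h.comm _ (hS x.2) _ (hS y.2))) hxy
  rcases hn.eq_or_lt with rfl | hn
  · have h4 : Nat.card (S : Subgroup G) = 4 := by rw [Nat.card_congr e.toEquiv]; simp
    have hSV : (S : Subgroup G) = h.V := (eq_of_le_of_card_ge hVS (by rw [h4, h.card_V])).symm
    have : IsKleinFour (S : Subgroup G) := H22.isKleinFour_of h4 fun x hx => (hSV ▸ hx : x ∈ h.V).2
    obtain ⟨f⟩ := IsKleinFour.nonempty_mulEquiv (G₁ := (S : Subgroup G)) (G₂ := DihedralGroup 2)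
    obtain ⟨c, x, hD⟩ := H5.exists_ddata f
    have hc : c ∈ h.V := hSV ▸ (hD.mem c).2 (Or.inl (mem_zpowers c))
    have hx : x ∈ h.V := hSV ▸ (hD.mem x).2 (Or.inr (by simp))
    have c1 : c ≠ 1 := fun e => by simpa [e] using hD.ord
    have := Fintype.ofFinite G
    obtain ⟨-, -, -, a₁, a₂, a₃, -, -, -, -, -, -, -, -, -, -, -, -, -, -, -, b1, b2, b3, b4, -⟩ :=
      H5.dch S le_rfl f hD hD.ord (mem_zpowers c) (fun u hu => (h.isConj h1 h2 hD.ord).symm.trans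
        (h.isConj h1 h2 hu)) rfl rfl rfl
    rw [h.centralizer_eq hc.1 hc.2 c1, h.centralizer_eq hx.1 hx.2 fun e => hD.nmem (e ▸ one_mem _),
      h.centralizer_eq (mul_mem hx hc).1 (mul_mem hx hc).2 fun e => hD.nmem (by
        rw [eq_inv_of_mul_eq_one_left e]; exact inv_mem (mem_zpowers c)), relIndex_self] at b2
    have b5 := relIndex_mul_index (le_normalizer (H := T))
    rw [h.relIndex_eq h1 h2] at b5
    have hi : T.index = 15 := by
      rcases arith b1 b3 (b4 rfl).1 (b4 rfl).2 (i := T.index) (by omega) (by simpa using b2) with e | e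
      · have : (normalizer (T : Set G)).index = 1 := by omega
        exact absurd (fun g => H22.conj_mem_of_mem_normalizer (index_eq_one.mp this ▸ mem_top g) h.ha) hN
      · omega
    refine ⟨hi, fun h8 => S.not_dvd_index ?_, fun r hr ho => h.central h1 h2 hi hr ho⟩
    have b6 := (S : Subgroup G).card_mul_index
    rw [h4] at b6
    have := h8.trans (card_subgroup_dvd_card T)
    omega
  · exfalso
    let π := QuotientGroup.mk' (pPrimeCore 2 G)
    have hinj : Function.Injective (π.subgroupMap (S : Subgroup G)) :=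
      (injective_iff_map_eq_one _).mpr fun s hs => Subtype.ext (eq_one_of_PElt_of_reg
        (PElt.of_mem S.isPGroup' s.2) (reg_of_mem (H2.not_dvd_card_pPrimeCore 2 G)
          ((QuotientGroup.eq_one_iff _).mp (congrArg Subtype.val hs))))
    have hn := (Cfsg.Agent.S0949.result (S.mapSurjective (QuotientGroup.mk'_surjective _)) n hn
      ((MulEquiv.ofBijective _ ⟨hinj, π.subgroupMap_surjective _⟩).symm.trans e) fun N hN ho =>
        eq_bot_iff.mpr (H2.pPrimeCore_quotient_pPrimeCore 2 G ▸ H2.le_pPrimeCore hN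
          (Nat.coprime_two_right.mpr ho))).1.comap π
    rw [Sylow.coe_mapSurjective, comap_map_eq, QuotientGroup.ker_mk'] at hn
    exact hN fun g => sup_le hS (h.odd_le _ odd_card_pPrimeCore)
      (hn.conj_mem a (mem_sup_left (hVS ⟨h.ha, h.a2⟩)) g)

end Hyp

end H17.AbC

namespace H4

theorem abc {G : Type*} [Group G] [Finite G] (L T : Subgroup G) (a b : G) (hTL : T ≤ L)
    (hT : ∀ x ∈ T, ∀ y ∈ T, x * y = y * x) (ha : a ∈ T) (hb : b ∈ T) (ha1 : a ≠ 1) (hb1 : b ≠ 1)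
    (hab : a ≠ b) (ha2 : a * a = 1) (hb2 : b * b = 1)
    (hV : ∀ s ∈ T, s * s = 1 → s = 1 ∨ s = a ∨ s = b ∨ s = a * b)
    (hCa : ∀ g ∈ L, g * a = a * g → g ∈ T) (hCb : ∀ g ∈ L, g * b = b * g → g ∈ T)
    (hCab : ∀ g ∈ L, g * (a * b) = a * b * g → g ∈ T) :
    L = T ∨ ((∃ ρ ∈ L, ρ * a * ρ⁻¹ = b ∧ ρ * b * ρ⁻¹ = a * b) ∧
      ((T.relIndex L = 3 ∧ ∀ g ∈ L, ∀ x ∈ T, g * x * g⁻¹ ∈ T) ∨
       (T.relIndex L = 15 ∧ ¬ 8 ∣ Nat.card T ∧
          ∀ r ∈ T, Odd (orderOf r) → ∀ g ∈ L, g * r = r * g))) := by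
  have h : H17.AbC.Hyp (T.subgroupOf L) ⟨a, hTL ha⟩ ⟨b, hTL hb⟩ :=
    ⟨fun x hx y hy => Subtype.ext (hT _ hx _ hy), ha, hb, by simpa using ha1, by simpa using hb1,
      by simpa using hab, Subtype.ext ha2, Subtype.ext hb2, fun s hs e =>
        (hV s hs (congrArg Subtype.val e)).imp Subtype.ext (Or.imp Subtype.ext
          (Or.imp Subtype.ext Subtype.ext)), fun v hv v2 v1 g e => by
        have e' : (g : G) * v = v * g := congrArg Subtype.val e
        rcases hV v hv (congrArg Subtype.val v2) with f | f | f | f <;> rw [f] at e'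
        exacts [absurd (Subtype.ext f) v1, hCa g g.2 e', hCb g g.2 e', hCab g g.2 e']⟩
  by_cases hi : ∀ g : L, g * ⟨a, hTL ha⟩ * g⁻¹ ∈ T.subgroupOf L → g * ⟨a, hTL ha⟩ * g⁻¹ = ⟨a, hTL ha⟩
  · exact Or.inl (le_antisymm (subgroupOf_eq_top.mp (h.eq_top hi)) hTL)
  push Not at hi
  obtain ⟨g, g1, g2⟩ := hi
  obtain ⟨ρ, h1, h2⟩ := h.exists_rho g1 g2
  refine Or.inr ⟨⟨ρ, ρ.2, congrArg Subtype.val h1, congrArg Subtype.val h2⟩, ?_⟩
  refine (h.main h1 h2).imp (fun e => ⟨e.1, fun g hg x hx => e.2 ⟨g, hg⟩ ⟨x, hTL hx⟩ hx⟩)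
    fun e => ⟨e.1, ?_, fun r hr ho g hg => congrArg Subtype.val (e.2.2 ⟨r, hTL hr⟩ hr
      (by rwa [Subgroup.orderOf_mk]) ⟨g, hg⟩)⟩
  rw [← Nat.card_congr (subgroupOfEquivOfLe hTL).toEquiv]
  exact e.2.1

end H4
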