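import Cfsg.Agent.H4.GD7b
import Cfsg.Agent.H4.AbC

/-!
`H4.GD`: the normaliser of the four-group `V`; the case of a large quotient `T / Z₁ Z₂`.
-/

set_option autoImplicit false

open Cfsg H4

namespace H4

open Subgroup H5 _root_.H4.LT

namespace GD

variable {G : Type*} [Group G] [Finite G] {N : NP} {D : GD G N}

theorem exists_genT (D : GD G N) : ∃ τ ∈ D.T, (∀ y ∈ D.T, ∃ k : ℕ, ∃ z ∈ D.Z, y = τ ^ k * z) ∧
    ∀ k : ℕ, τ ^ k ∈ D.Z ↔ N.m ∣ k := by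
  obtain ⟨τ, hτ, h⟩ := D.cycT
  refine ⟨τ, hτ, h, fun k => ?_⟩
  haveI : (D.Z.subgroupOf D.T).Normal := ⟨fun x hx g => by
    rw [mem_subgroupOf, Subgroup.coe_mul, Subgroup.coe_mul, Subgroup.coe_inv, D.conj_Z (z := x) hx (D.T_le g.2)]
    exact hx⟩
  have h1 : orderOf ((⟨τ, hτ⟩ : D.T) : D.T ⧸ D.Z.subgroupOf D.T) = N.m := by
    rw [orderOf_eq_card_of_forall_mem_powers]
    · have := card_eq_card_quotient_mul_card_subgroup (D.Z.subgroupOf D.T)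
      rw [Nat.card_congr (subgroupOfEquivOfLe D.Z_le_T).toEquiv, D.cT, mul_comm] at this
      exact (Nat.eq_of_mul_eq_mul_right D.Z_pos this).symm
    · rintro ⟨y, hy⟩
      obtain ⟨k, z, hz, rfl⟩ := h y hy
      exact ⟨k, QuotientGroup.eq.2 (by simpa [mem_subgroupOf] using hz)⟩
  rw [← h1, orderOf_dvd_iff_pow_eq_one, ← QuotientGroup.mk_pow, QuotientGroup.eq_one_iff]
  rfl

theorem pow_m_mem (D : GD G N) {y : G} (hy : y ∈ D.T) : y ^ N.m ∈ D.Z := by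
  obtain ⟨τ, hτ, h, h'⟩ := D.exists_genT
  obtain ⟨k, z, hz, rfl⟩ := h y hy
  rw [Commute.mul_pow (D.T_comm _ (pow_mem hτ k) _ (D.Z_le_T hz)), ← pow_mul]
  exact mul_mem ((h' _).2 (Dvd.intro_left _ rfl)) (pow_mem hz _)

theorem Cfg.pow_m (h : D.Cfg) {y : G} (hy : y ∈ D.T) : y ^ N.m = 1 := by
  obtain ⟨D', a⟩ := h.exists_adj
  exact a.eq_one h (D.pow_m_mem hy) (D'.pow_m_mem (a.T ▸ hy))

omit [Finite G] in
theorem ut (D : GD G N) : D.u * D.t = D.t * D.u := (D.t_comm D.u_H).symm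
omit [Finite G] in
theorem utu (D : GD G N) : D.u * (D.t * D.u) = D.t := by
  rw [← D.ut, mul_mul_self D.u_sq]
omit [Finite G] in
theorem ttu (D : GD G N) : D.t * (D.t * D.u) = D.u := mul_mul_self D.t_sq _
omit [Finite G] in
theorem tut (D : GD G N) : D.t * D.u * D.t = D.u := by rw [mul_assoc, D.ut, D.ttu]
omit [Finite G] in
theorem tuu (D : GD G N) : D.t * D.u * D.u = D.t := by rw [mul_assoc, D.u_sq, mul_one]
omit [Finite G] in
theorem tu_ne_one (D : GD G N) : D.t * D.u ≠ 1 := fun e => D.tu_not (e ▸ one_mem _)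
omit [Finite G] in
theorem tu_ne_t (D : GD G N) : D.t * D.u ≠ D.t := fun e => D.tu_not (by rw [e]; exact D.t_mem)
omit [Finite G] in
theorem tu_ne_u (D : GD G N) : D.t * D.u ≠ D.u := by simpa using D.t_ne

/-- The data attached to an ordered pair of distinct involutions of `T`. -/
theorem Cfg.exists_sib (h : D.Cfg) {a b : G} (ha : a ∈ D.T) (hb : b ∈ D.T) (ha2 : a * a = 1)
    (hb2 : b * b = 1) (ha1 : a ≠ 1) (hb1 : b ≠ 1) (hab : b ≠ a) :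
    ∃ g, (D.conj g).t = a ∧ (D.conj g).u = b ∧ (D.conj g).T = D.T := by
  obtain ⟨g, h1, h2⟩ := h.pair_conj ha2 ha1 hb2 hb1 hab (D.T_comm b hb a ha)
  refine ⟨g, h1, h2, (eq_of_le_of_card_ge (fun y hy => (h.full.conj g).mem_T.2 ?_) ?_).symm⟩
  · rw [conj_t, conj_u, h1, h2]; exact ⟨D.T_comm y hy a ha, D.T_comm y hy b hb⟩
  · rw [D.cT, (D.conj g).cT, D.card_conj_Z]

theorem Cfg.sib2 (h : D.Cfg) : ∃ g, (D.conj g).t = D.u ∧ (D.conj g).u = D.t ∧ (D.conj g).T = D.T :=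
  h.exists_sib D.u_mem D.t_T D.u_sq D.t_sq D.u_ne_one D.t_ne D.u_ne_t.symm

theorem Cfg.sib3 (h : D.Cfg) : ∃ g, (D.conj g).t = D.t * D.u ∧ (D.conj g).u = D.t ∧ (D.conj g).T = D.T :=
  h.exists_sib D.tu_mem D.t_T D.tu_sq D.t_sq D.tu_ne_one D.t_ne D.tu_ne_t.symm

/-- The elements of `T` of order dividing `|Z|`. -/
def Om (D : GD G N) : Subgroup G where
  carrier := {y | y ∈ D.T ∧ y ^ Nat.card D.Z = 1}
  one_mem' := ⟨one_mem _, one_pow _⟩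
  mul_mem' := fun {a b} ha hb => ⟨mul_mem ha.1 hb.1, by
    rw [Commute.mul_pow (D.T_comm a ha.1 b hb.1), ha.2, hb.2, one_mul]⟩
  inv_mem' := fun {a} ha => ⟨inv_mem ha.1, by rw [inv_pow, ha.2, inv_one]⟩

theorem mem_Om {g z : G} (hT : z ∈ D.T) (hz : z ∈ (D.conj g).Z) : z ∈ D.Om :=
  ⟨hT, orderOf_dvd_iff_pow_eq_one.1 (D.card_conj_Z (g := g) ▸ orderOf_dvd_natCard _ hz)⟩

theorem Cfg.abc' (h : D.Cfg) {a : G} (ha : a ∈ D.T)
    (hZ : ∀ g, (D.conj g).T = D.T → a ∉ (D.conj g).Z) :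
    centralizer {a} = D.T ∨ ((∃ ρ ∈ centralizer {a}, ρ * D.t * ρ⁻¹ = D.u ∧ ρ * D.u * ρ⁻¹ = D.t * D.u) ∧
      ((D.T.relIndex (centralizer {a}) = 3 ∧ ∀ g ∈ centralizer {a}, ∀ x ∈ D.T, g * x * g⁻¹ ∈ D.T) ∨
       (D.T.relIndex (centralizer {a}) = 15 ∧ ¬ 8 ∣ Nat.card D.T ∧
          ∀ r ∈ D.T, Odd (orderOf r) → ∀ g ∈ centralizer {a}, g * r = r * g))) := by
  have key : ∀ k, (D.conj k).T = D.T → ∀ g ∈ centralizer {a}, g * (D.conj k).t = (D.conj k).t * g →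
      g ∈ D.T := fun k hk g hg e =>
    hk ▸ (D.conj k).cent_T a (hk ▸ ha) (hZ k hk) g (h.full.conj k g e) (mem_cent.1 hg)
  obtain ⟨g1, e1, -, f1⟩ := h.exists_sib D.t_T D.u_mem D.t_sq D.u_sq D.t_ne D.u_ne_one D.u_ne_t
  obtain ⟨g2, e2, -, f2⟩ := h.sib2
  obtain ⟨g3, e3, -, f3⟩ := h.sib3
  exact abc _ D.T D.t D.u (fun y hy => mem_cent.2 (D.T_comm y hy a ha)) D.T_comm D.t_T D.u_mem D.t_ne
    D.u_ne_one D.u_ne_t.symm D.t_sq D.u_sq (fun s => D.T_inv) (e1 ▸ key g1 f1) (e2 ▸ key g2 f2)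
    (e3 ▸ key g3 f3)

/-- `g` maps `t ↦ a`, `u ↦ b`. -/
def Act (D : GD G N) (g a b : G) : Prop := g * D.t * g⁻¹ = a ∧ g * D.u * g⁻¹ = b

omit [Finite G] in
theorem Act.tu {g a b : G} (h : D.Act g a b) : g * (D.t * D.u) * g⁻¹ = a * b := by
  rw [← h.1, ← h.2]; group

omit [Finite G] in
theorem Act.mul {g a b k : G} (h : D.Act g a b) : D.Act (k * g) (k * a * k⁻¹) (k * b * k⁻¹) :=
  ⟨by rw [← h.1]; group, by rw [← h.2]; group⟩

omit [Finite G] in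
theorem Full.act_T (h : D.Full) {g : G} : D.Act g D.t D.u ↔ g ∈ D.T := by
  simp only [Act, h.mem_T, mul_inv_eq_iff_eq_mul]

theorem act_w (D : GD G N) : D.Act D.w D.t (D.t * D.u) :=
  ⟨by rw [D.w_inv', D.w_t], by rw [D.w_inv', D.w_u]⟩

omit [Finite G] in
theorem Act.inv_mul {g g' a b : G} (hF : D.Full) (h : D.Act g a b) (h' : D.Act g' a b) : g⁻¹ * g' ∈ D.T :=
  hF.act_T.1 ⟨by have := (h'.mul (k := g⁻¹)).1; rw [this, ← h.1]; group,
    by have := (h'.mul (k := g⁻¹)).2; rw [this, ← h.2]; group⟩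

theorem Act.mul_w {g a b : G} (h : D.Act g a b) : D.Act (g * D.w) a (a * b) := by
  have := D.act_w.mul (k := g)
  rwa [h.1, h.tu] at this

theorem Full.act_w (h : D.Full) {g : G} : D.Act g D.t (D.t * D.u) ↔ g * D.w ∈ D.T := by
  rw [← h.act_T]
  exact ⟨fun e => by simpa [D.ttu] using e.mul_w,
    fun e => by simpa [mul_assoc, D.w_sq] using e.mul_w⟩

/-- The elements permuting `t, u, t u` cyclically. -/
def C0 (D : GD G N) : Subgroup G where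
  carrier := {c | D.Act c D.t D.u ∨ D.Act c D.u (D.t * D.u) ∨ D.Act c (D.t * D.u) D.t}
  one_mem' := Or.inl ⟨by simp, by simp⟩
  mul_mem' := by
    rintro a b (ha | ha | ha) (hb | hb | hb) <;> have := hb.mul (k := a) <;>
      simp only [ha.1, ha.2, ha.tu, D.utu, D.tut] at this <;> simp [this]
  inv_mem' := by
    rintro a (ha | ha | ha)
    · exact Or.inl ⟨by nth_rw 1 [← ha.1]; group, by nth_rw 1 [← ha.2]; group⟩
    · exact Or.inr (Or.inr ⟨by nth_rw 1 [← D.utu, ← ha.tu]; group, by rw [← ha.1]; group⟩)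
    · exact Or.inr (Or.inl ⟨by nth_rw 1 [← ha.2]; group, by nth_rw 1 [← D.tut, ← ha.tu]; group⟩)

omit [Finite G] in
theorem mem_C0 {c : G} :
    c ∈ D.C0 ↔ D.Act c D.t D.u ∨ D.Act c D.u (D.t * D.u) ∨ D.Act c (D.t * D.u) D.t := Iff.rfl

omit [Finite G] in
theorem Full.T_le_C0 (h : D.Full) : D.T ≤ D.C0 := fun _ hy => Or.inl (h.act_T.2 hy)

theorem mem_C0_w {c : G} : c * D.w ∈ D.C0 ↔
    D.Act c D.t (D.t * D.u) ∨ D.Act c D.u D.t ∨ D.Act c (D.t * D.u) D.u := by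
  constructor
  · rintro (h | h | h) <;> have := h.mul_w <;>
      simp only [mul_assoc c, D.w_sq, mul_one, D.utu, D.tut] at this <;> simp [this]
  · rintro (h | h | h) <;> have := h.mul_w <;>
      simp only [D.ttu, D.ut, D.tuu] at this <;> simp [mem_C0, this]

theorem act_cases {g : G} (h1 : g * D.t * g⁻¹ ∈ D.T) (h2 : g * D.u * g⁻¹ ∈ D.T) :
    g ∈ D.C0 ∨ g * D.w ∈ D.C0 := by
  have e1 := (D.T_inv h1 (by simp [mul_assoc, mul_mul_self D.t_sq])).resolve_left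
    (by simpa [mul_inv_eq_one] using D.t_ne)
  have e2 := (D.T_inv h2 (by simp [mul_assoc, mul_mul_self D.u_sq])).resolve_left
    (by simpa [mul_inv_eq_one] using D.u_ne_one)
  have e3 : g * D.t * g⁻¹ ≠ g * D.u * g⁻¹ := by simpa using D.u_ne_t.symm
  rw [mem_C0_w, mem_C0]
  simp only [Act]
  rcases e1 with e1 | e1 | e1 <;> rcases e2 with e2 | e2 | e2 <;> rw [e1, e2] at e3 ⊢ <;> simp at e3 ⊢

theorem Cfg.relIndex_C0 (h : D.Cfg) : D.T.relIndex D.C0 = 3 := by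
  have h1 := ncard_conj_class D.C0 D.t
  obtain ⟨g, e1, e2⟩ := h.pair_conj D.u_sq D.u_ne_one D.tu_sq D.tu_ne_one D.tu_ne_u (by rw [D.tuu, D.utu])
  obtain ⟨g', e1', e2'⟩ := h.pair_conj D.tu_sq D.tu_ne_one D.t_sq D.t_ne D.tu_ne_t.symm
    (by rw [D.ttu, D.tut])
  rw [show {x | ∃ g ∈ D.C0, g * D.t * g⁻¹ = x} = {D.t, D.u, D.t * D.u} from ?_,
    show D.C0 ⊓ centralizer {D.t} = D.T from ?_,
    Set.ncard_eq_three.2 ⟨_, _, _, D.u_ne_t.symm, D.tu_ne_t.symm, D.tu_ne_u.symm, rfl⟩,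
    ← (D.T.subgroupOf D.C0).index_mul_card,
    Nat.card_congr (subgroupOfEquivOfLe h.full.T_le_C0).toEquiv] at h1
  · exact (Nat.eq_of_mul_eq_mul_right Nat.card_pos h1).symm
  · refine le_antisymm (fun c hc => ?_) (le_inf h.full.T_le_C0 fun y hy =>
      mem_cent.2 (D.T_comm y hy _ D.t_T))
    have := mul_inv_eq_iff_eq_mul.2 (mem_cent.1 hc.2)
    rcases hc.1 with e | e | e
    · exact h.full.act_T.1 e
    · exact absurd (e.1.symm.trans this) D.u_ne_t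
    · exact absurd (e.1.symm.trans this) D.tu_ne_t
  · ext x
    constructor
    · rintro ⟨c, e | e | e, rfl⟩ <;> simp [e.1]
    · rintro (rfl | rfl | rfl)
      exacts [⟨1, one_mem _, by simp⟩, ⟨g, Or.inr (Or.inl ⟨e1, e2⟩), e1⟩, ⟨g', Or.inr (Or.inr ⟨e1', e2'⟩), e1'⟩]

/-- Elements inducing a transposition on `V` lie in `T w` for suitable data. -/
theorem Cfg.trans_type (h : D.Cfg) {c : G} (hc : c * D.w ∈ D.C0) :
    ∃ g, (D.conj g).T = D.T ∧ c * (D.conj g).w ∈ D.T := by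
  obtain ⟨g1, e1, e1', f1⟩ := h.exists_sib D.t_T D.u_mem D.t_sq D.u_sq D.t_ne D.u_ne_one D.u_ne_t
  obtain ⟨g2, e2, e2', f2⟩ := h.sib2
  obtain ⟨g3, e3, e3', f3⟩ := h.sib3
  rcases mem_C0_w.1 hc with e | e | e
  · exact ⟨g1, f1, f1 ▸ (h.full.conj g1).act_w.1 (by rw [Act, e1, e1']; exact e)⟩
  · exact ⟨g3, f3, f3 ▸ (h.full.conj g3).act_w.1 (by rw [Act, e3, e3', e.tu, D.ut, D.tut]; exact ⟨rfl, e.1⟩)⟩
  · exact ⟨g2, f2, f2 ▸ (h.full.conj g2).act_w.1 (by rw [Act, e2, e2', D.ut]; exact ⟨e.2, e.1⟩)⟩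

theorem Cfg.trans_inv (h : D.Cfg) {c : G} (hc : c * D.w ∈ D.C0) :
    c * c ∈ D.Om ∧ ∀ y ∈ D.T, c * y * c⁻¹ ∈ D.T ∧ y * (c * y * c⁻¹) ∈ D.Om := by
  obtain ⟨g, e, h1⟩ := h.trans_type hc
  have hZ : ∀ z ∈ (D.conj g).Z, z ∈ D.Om := fun z hz => mem_Om (e ▸ (D.conj g).Z_le_T hz) hz
  generalize D.conj g = E at *
  rw [← e] at h1 ⊢
  obtain ⟨τ, hτ, rfl⟩ : ∃ τ ∈ E.T, c = τ * E.w := ⟨_, h1, by rw [mul_assoc, E.w_sq, mul_one]⟩
  refine ⟨hZ _ (by simpa [mul_assoc] using E.w_inv τ hτ), fun y hy => ?_⟩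
  have : τ * E.w * y * (τ * E.w)⁻¹ = E.w * y * E.w := by
    rw [mul_inv_rev, E.w_inv', show τ * E.w * y * (E.w * τ⁻¹) = τ * (E.w * y * E.w) * τ⁻¹ by group,
      E.T_comm τ hτ _ (E.w_conj_mem hy), mul_inv_cancel_right]
  rw [this]
  exact ⟨E.w_conj_mem hy, hZ _ (E.w_inv y hy)⟩

theorem w_C0 {c : G} (hc : c ∈ D.C0) : D.w * c * D.w ∈ D.C0 := by
  rw [mem_C0_w]
  rcases hc with e | e | e <;> have := e.mul (k := D.w) <;>
    simp only [D.w_inv', D.w_t, D.w_u, D.w_tu] at this <;> simp [this]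

theorem Cfg.C0_comm (h : D.Cfg) {c y : G} (hc : c ∈ D.C0) (hy : y ∈ D.T) : c * y * c⁻¹ * y⁻¹ ∈ D.Om := by
  have h1 := ((h.trans_inv (c := D.w) (D.w_sq ▸ one_mem _)).2 y hy)
  have h2 := ((h.trans_inv (c := c * D.w) (by rwa [mul_assoc, D.w_sq, mul_one])).2 _ h1.1)
  rw [show c * D.w * (D.w * y * D.w⁻¹) * (c * D.w)⁻¹ = c * (D.w * D.w) * y * (D.w * D.w)⁻¹ * c⁻¹ by group,
    D.w_sq, mul_one, inv_one, mul_one] at h2
  have h3 := mul_mem (inv_mem h1.2) h2.2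
  rwa [D.T_comm y hy _ h1.1, mul_inv_rev, mul_assoc, inv_mul_cancel_left, D.T_comm _ (inv_mem hy) _ h2.1] at h3

omit [Finite G] in
theorem Full.C0_cases (h : D.Full) {a b : G} (ha : a ∈ D.C0) (hb : b ∈ D.C0) :
    a ∈ D.T ∨ b ∈ D.T ∨ a⁻¹ * b ∈ D.T ∨ a * b ∈ D.T := by
  rcases ha with ha | ha | ha
  · exact Or.inl (h.act_T.1 ha)
  all_goals rcases hb with hb | hb | hb
  all_goals first
  | exact Or.inr (Or.inl (h.act_T.1 hb))
  | exact Or.inr (Or.inr (Or.inl (ha.inv_mul h hb)))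
  | have := hb.mul (k := a)
    simp only [ha.1, ha.2, ha.tu, D.utu, D.tut] at this
    exact Or.inr (Or.inr (Or.inr (h.act_T.1 this)))

omit [Finite G] in
theorem Full.C0_cube (h : D.Full) {c : G} (hc : c ∈ D.C0) : c ^ 3 ∈ D.T := by
  rw [← h.act_T, pow_three]
  rcases hc with e | e | e <;> have := (e.mul (k := c)).mul (k := c) <;>
    simpa only [e.1, e.2, e.tu, D.utu, D.tut] using this

theorem Full.ncard_tr (h : D.Full) : {a | a * a = 1 ∧ D.Act a D.t (D.t * D.u)}.ncard = N.m := by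
  simp only [h.act_w]
  rw [ncard_J D.T_comm (fun _ => D.w_conj_mem) D.w_sq]; exact D.cTm

theorem Cfg.ncard_C0 (h : D.Cfg) : {a | a * a = 1 ∧ a * D.w ∈ D.C0}.ncard = 3 * N.m := by
  obtain ⟨g2, e2, e2', -⟩ := h.sib2
  obtain ⟨g3, e3, e3', -⟩ := h.sib3
  have h2 := (h.full.conj g2).ncard_tr
  have h3 := (h.full.conj g3).ncard_tr
  simp only [Act, e2, e2', e3, e3', D.ut, D.tut] at h2 h3
  rw [show {a | a * a = 1 ∧ a * D.w ∈ D.C0} = ({a | a * a = 1 ∧ D.Act a D.t (D.t * D.u)} ∪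
      {a | a * a = 1 ∧ a * D.u * a⁻¹ = D.u ∧ a * D.t * a⁻¹ = D.t * D.u}) ∪
      {a | a * a = 1 ∧ a * (D.t * D.u) * a⁻¹ = D.t * D.u ∧ a * D.t * a⁻¹ = D.u} from ?_,
    Set.ncard_union_eq, Set.ncard_union_eq, h.full.ncard_tr, h2, h3]
  · ring
  · exact Set.disjoint_left.2 fun a h1 h2 => D.tu_ne_t (h2.2.2.symm.trans h1.2.1)
  · refine Set.disjoint_left.2 ?_
    rintro a (h1 | h1) h2
    exacts [D.u_ne_t (h2.2.2.symm.trans h1.2.1), D.tu_ne_u (h1.2.2.symm.trans h2.2.2)]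
  ext a
  simp only [mem_C0_w, Set.mem_union, Set.mem_ofPred_eq]
  constructor
  · rintro ⟨h1, e | e | e⟩
    exacts [Or.inl (Or.inl ⟨h1, e⟩), Or.inr ⟨h1, by rw [e.tu, D.ut], e.1⟩, Or.inl (Or.inr ⟨h1, e.2, e.1⟩)]
  · rintro ((⟨h1, e⟩ | ⟨h1, e, e'⟩) | ⟨h1, e, e'⟩)
    · exact ⟨h1, Or.inl e⟩
    · exact ⟨h1, Or.inr (Or.inr ⟨e', e⟩)⟩
    · refine ⟨h1, Or.inr (Or.inl ⟨e', ?_⟩)⟩
      calc a * D.u * a⁻¹ = a * D.t * a⁻¹ * (a * (D.t * D.u) * a⁻¹) := by rw [conj_mul, D.ttu]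
        _ = _ := by rw [e, e', D.utu]

/-- If no centraliser of index `15` occurs, then `d ∣ 3`. -/
theorem Cfg.dvd_three_aux (h : D.Cfg)
    (h15 : ∀ a ∈ D.T, a ∉ D.Om → ∀ s, s * s = 1 → s * a = a * s → s ∈ D.T) : N.m ∣ 3 * Nat.card D.Z := by
  by_contra hd
  haveI := Fintype.ofFinite G
  obtain ⟨τ, hτ, -, hτ'⟩ := D.exists_genT
  obtain ⟨d, hdo, hdm⟩ := D.cZ
  have hOm : D.Om ≤ D.C0 := fun y hy => h.full.T_le_C0 hy.1
  obtain ⟨l, hl, h1, h2⟩ := exists_lin hOm (fun a ha b hb => by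
      rcases h.full.C0_cases ha hb with e | e | e | e
      · simpa [mul_assoc] using inv_mem (h.C0_comm hb e)
      · exact h.C0_comm ha e
      · simpa [mul_assoc] using h.C0_comm ha (show b * a⁻¹ ∈ D.T by
          simpa [mul_assoc] using mul_mem (h.C0_comm ha e).1 e)
      · simpa [mul_assoc] using h.C0_comm ha (show b * a ∈ D.T by
          simpa [mul_assoc] using mul_mem (h.C0_comm (inv_mem ha) e).1 e))
    (h.full.T_le_C0 (pow_mem hτ 3)) fun e => hd ((hτ' _).1 (by rw [pow_mul, e.2]; exact one_mem _))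
  have hl3 : Lin D.C0 fun c => l c ^ 3 :=
    ⟨by simp [hl.one], fun a ha b hb => by rw [hl.mul a ha b hb, mul_pow]⟩
  have odd : ∀ c ∈ D.C0, (l c ^ 3) ^ 2 = 1 → l c ^ 3 = 1 := fun c hc e => by
    obtain ⟨k, rfl⟩ := hdo
    have hT := h.full.C0_cube hc
    have := h1 _ ⟨pow_mem hT (2 * k + 1), by rw [← pow_mul, hdm, h.pow_m hT]⟩
    rwa [hl.pow (pow_mem hc 3), hl.pow hc, pow_succ, pow_mul, e, one_pow, one_mul] at this
  have nOm : ∀ c ∈ D.C0, l c ^ 3 ≠ 1 → c ^ 3 ∉ D.Om := fun c hc e e' => e (hl.pow hc 3 ▸ h1 _ e')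
  have hs : ∀ s ∈ D.C0, s * s = 1 → l s ^ 3 = 1 := fun s hs e =>
    odd s hs (by rw [pow_two, ← hl3.mul s hs s hs, e, hl3.one])
  have hβ : THyp D.C0 D.w fun c => l c ^ 3 := by
    refine ⟨D.w_sq, fun _ => w_C0, ?_, hl3, fun c hc => ?_, ⟨τ, h.full.T_le_C0 hτ, fun e => h2 ?_⟩,
      fun c hc e g hc' e' => ?_, fun a ha c hc ha2 e => odd c hc ?_⟩
    · rintro (e | e | e)
      exacts [D.w_not (h.full.act_T.1 e), D.u_ne_t (e.1.symm.trans D.act_w.1),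
        D.tu_ne_t (e.1.symm.trans D.act_w.1)]
    · have := h1 _ (h.trans_inv (c := c * D.w) (by rwa [mul_assoc, D.w_sq, mul_one])).1
      rw [show c * D.w * (c * D.w) = c * (D.w * c * D.w) by group, hl.mul c hc _ (w_C0 hc)] at this
      rw [eq_inv_of_mul_eq_one_right this, inv_pow]
    · rw [hl.pow (h.full.T_le_C0 hτ)]; exact odd τ (h.full.T_le_C0 hτ) e
    · have key : ∀ s ∈ D.T, s * s = 1 → g * s * g⁻¹ ∈ D.T := fun s hs hs2 =>
        h15 _ (h.full.C0_cube hc) (nOm c hc e) _ (by simp [mul_assoc, mul_mul_self hs2]) (by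
          have := D.T_comm s hs _ (h.full.C0_cube hc')
          rw [show (g⁻¹ * c * g) ^ 3 = g⁻¹ * c ^ 3 * g by simp [pow_three, mul_assoc]] at this
          calc g * s * g⁻¹ * c ^ 3 = g * (s * (g⁻¹ * c ^ 3 * g)) * g⁻¹ := by group
            _ = _ := by rw [this]; group)
      exact act_cases (key _ D.t_T D.t_sq) (key _ D.u_mem D.u_sq)
    · have := hl3.conj_mem ha hc
      rw [inv_eq_self ha2, e, hl3.inv hc] at this
      rw [pow_two]; nth_rw 1 [← this]; exact inv_mul_cancel₀ (hl3.ne_zero hc)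
  have hZ := D.two_dvd_Z
  have hd5 : 5 ≤ d := by
    by_contra h5
    have := Nat.odd_iff.1 hdo
    have : d = 1 ∨ d = 3 := by omega
    rcases this with rfl | rfl <;> refine hd ?_ <;> rw [← hdm]
    exact ⟨3, by ring⟩
  have hm : 10 ≤ N.m := hdm ▸ Nat.mul_le_mul hd5 (Nat.le_of_dvd D.Z_pos hZ)
  have hc := N.cases
  obtain ⟨x, hx⟩ := h.beta' (by omega) hβ hs (fun y hy hyZ hC g hc => by
    by_contra e
    have hT := h.full.C0_cube hc
    have e3 : (g⁻¹ * y * g) ^ 3 = g⁻¹ * y ^ 3 * g := by simp [pow_three, mul_assoc]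
    have hW : (g⁻¹ * y * g) ^ 3 ∈ (D.conj g⁻¹).W := by
      rw [mem_conj_W, e3]; simpa [mul_assoc] using pow_mem hy 3
    have h3 : (D.conj g⁻¹).t ∈ D.T := h15 _ hT (nOm _ hc e) _ (D.conj g⁻¹).t_sq
      ((D.conj g⁻¹).W_comm _ (D.conj g⁻¹).t_W _ hW)
    have key : ∀ s ∈ D.T, s * s = 1 → s ≠ 1 → s = (D.conj g⁻¹).t := fun s hs hs2 hs1 =>
      ((D.conj g⁻¹).W_inv ((D.conj g⁻¹).cent_W _ hW (fun hz => nOm _ hc e (mem_Om hT hz)) s
        (h.full.conj _ s (D.T_comm s hs _ h3)) (D.T_comm s hs _ hT)) hs2).resolve_left hs1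
    exact D.u_ne_t ((key _ D.u_mem D.u_sq D.u_ne_one).trans (key _ D.t_T D.t_sq D.t_ne).symm))
    h.relIndex_C0 h.full.T_le_C0
  rw [h.ncard_C0] at hx
  have h3 : (N.n : ℤ) * (x - 1) = 3 * N.m * (x + 1) :=
    mul_left_cancel₀ (a := 3 * (N.m : ℤ)) (by positivity) (by push_cast at hx; linear_combination hx)
  have h4 : (N.n : ℤ) = N.m + 2 ∨ (N.n : ℤ) = N.m - 2 := by omega
  have h5 : (10 : ℤ) ≤ N.m := by exact_mod_cast hm
  generalize (N.n : ℤ) = n at *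
  generalize (N.m : ℤ) = m at *
  rcases lt_trichotomy x (-2) with e | rfl | e <;> rcases h4 with rfl | rfl <;> nlinarith

end GD

end H4
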