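import Cfsg.Agent.H4.GD7b
import Cfsg.Agent.H4.AbC
import Cfsg.Agent.H20.GF2

/-! The case "index 15" of `H4.abc` (proof in `H20/GF1`, `H20/GF2`). -/

namespace H4.GD
theorem Cfg.fifteen {G : Type*} [Group G] [Finite G] {N : NP} {D : GD G N} (h : D.Cfg)
    {L : Subgroup G} (hTL : D.T ≤ L) (hi : D.T.relIndex L = 15) (h8 : ¬ 8 ∣ Nat.card D.T)
    (hc : ∀ r ∈ D.T, Odd (orderOf r) → ∀ g ∈ L, g * r = r * g)
    {ρ : G} (hρ : ρ ∈ L) (h1 : ρ * D.t * ρ⁻¹ = D.u) (h2 : ρ * D.u * ρ⁻¹ = D.t * D.u) :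
    N.m ∣ 3 * Nat.card D.Z := by
  by_contra hn
  obtain ⟨d, hF⟩ := H20.GF.exists_F h hTL hi h8 hc hρ h1 h2 hn
  exact hF.false
end H4.GD
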