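import Cfsg.Agent.H4.GD
import Cfsg.Prelude.Def_LieClassical
import Cfsg.Agent.H22.GDM0
import Cfsg.Agent.H16.GL2Two

/-! `GL₂(F)` and `GU₂(q)` satisfy the conditions of `H4.GD`. -/

set_option autoImplicit false

namespace H22.GDM

open Matrix H4 H15 H16 H7

variable {F : Type*} [Field F]

/-- upper unitriangular matrices -/
def xu (a : F) : GL (Fin 2) F :=
  ⟨!![1, a; 0, 1], !![1, -a; 0, 1], by simp [one_fin_two], by simp [one_fin_two]⟩

theorem one_add_smul (a : F) :
    (1 : Matrix (Fin 2) (Fin 2) F) + a • !![0, 1; 0, 0] = !![1, a; 0, 1] := by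
  simp [one_fin_two]

theorem mem_diag2 {g : GL (Fin 2) F} (h1 : g.1 0 1 = 0) (h2 : g.1 1 0 = 0) :
    ∃ x, diag2 x = g := by
  have h := g.det_ne_zero
  rw [det_fin_two, h1, h2, mul_zero, sub_zero] at h
  refine ⟨(Units.mk0 _ (left_ne_zero_of_mul h), Units.mk0 _ (right_ne_zero_of_mul h)),
    Units.ext ?_⟩
  ext i j
  fin_cases i <;> fin_cases j <;> simp [diag2, h1, h2]

section GU

variable (σ : F →+* F) {c : F}

/-- upper triangular matrices for a hyperbolic basis -/
def tri (c x y z : F) : Matrix (Fin 2) (Fin 2) F := !![x + z, (y - z) * c⁻¹; (y + z) * c, x - z]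

theorem tri_eq (c x y z : F) : tri c x y z =
    x • (1 : Matrix (Fin 2) (Fin 2) F) + y • !![0, c⁻¹; c, 0] + z • !![1, -c⁻¹; c, -1] := by
  ext i j
  fin_cases i <;> fin_cases j <;> simp [tri] <;> ring

theorem tri_comm (c x y : F) : tri c x y 0 * !![0, c⁻¹; c, 0] = !![0, c⁻¹; c, 0] * tri c x y 0 := by
  ext i j
  fin_cases i <;> fin_cases j <;> simp [tri, mul_apply, Fin.sum_univ_two] <;> ring

theorem tri_eq_one (h2 : (2 : F) ≠ 0) (hc : c ≠ 0) {x y z : F} :
    tri c x y z = 1 ↔ x = 1 ∧ y = 0 ∧ z = 0 := by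
  refine ⟨fun h => ?_, by rintro ⟨rfl, rfl, rfl⟩; simp [tri, one_fin_two]⟩
  have h0 := congrFun (congrFun h 0) 0
  have h1 := congrFun (congrFun h 1) 1
  have h3 := congrFun (congrFun h 1) 0
  simp [tri, hc] at h0 h1 h3
  have hz : z = 0 := (mul_eq_zero.1 (show 2 * z = 0 by linear_combination h0 - h1)).resolve_left h2
  exact ⟨by simpa [hz] using h0, by simpa [hz] using h3, hz⟩

theorem tri_unitary (h2 : (2 : F) ≠ 0) (hc : c * σ c = -1) {x y z : F} :
    ((tri c x y z).map σ)ᵀ * tri c x y z = 1 ↔ σ x * x - σ y * y = 1 ∧ σ x * y - σ y * x = 0 ∧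
      σ x * z - σ y * z + σ z * x - σ z * y = 0 := by
  have hc0 : c ≠ 0 := by rintro rfl; simp at hc
  have h1 : σ c = -c⁻¹ := by field_simp; linear_combination hc
  rw [← tri_eq_one h2 hc0]
  refine Eq.congr_left ?_
  ext i j
  fin_cases i <;> fin_cases j <;> simp [tri, mul_apply, Fin.sum_univ_two, h1] <;> field_simp <;>
    ring

/-- the split torus -/
def tor (h2 : (2 : F) ≠ 0) (hc : c ≠ 0) : F × F →* Matrix (Fin 2) (Fin 2) F where
  toFun x := tri c ((x.1 + x.2) / 2) ((x.1 - x.2) / 2) 0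
  map_one' := (tri_eq_one h2 hc).2 ⟨by simp [one_add_one_eq_two, h2], by simp, rfl⟩
  map_mul' x y := by
    ext i j
    fin_cases i <;> fin_cases j <;> simp [tri, mul_apply, Fin.sum_univ_two] <;> field_simp <;> ring

variable [Fintype F] {q : ℕ} (hF : Fintype.card F = q ^ 2)

theorem mem_GU {g : GL (Fin 2) F} : g ∈ Cfsg.GU 2 F q ↔ (g.1.map (frob hF))ᵀ * g.1 = 1 := by
  refine ⟨fun h => ?_, fun h u v => ?_⟩
  · ext i j
    have := h (Pi.single j 1) (Pi.single i 1)
    simp only [Cfsg.hermForm, ← frob_apply hF] at this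
    fin_cases i <;> fin_cases j <;> simpa [mul_apply, mul_comm] using this
  · have h0 := congrFun (congrFun h 0) 0
    have h1 := congrFun (congrFun h 0) 1
    have h2 := congrFun (congrFun h 1) 0
    have h3 := congrFun (congrFun h 1) 1
    simp [mul_apply] at h0 h1 h2 h3
    simp only [Cfsg.hermForm, ← frob_apply hF]
    simp [mulVec, dotProduct]
    linear_combination u 0 * frob hF (v 0) * h0 + u 1 * frob hF (v 0) * h1 +
      u 0 * frob hF (v 1) * h2 + u 1 * frob hF (v 1) * h3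

/-- the underlying matrix -/
def ιu (F : Type*) [Field F] (q : ℕ) : Cfsg.GU 2 F q →* Matrix (Fin 2) (Fin 2) F :=
  (Units.coeHom _).comp (Cfsg.GU 2 F q).subtype

theorem exists_gu {A : Matrix (Fin 2) (Fin 2) F} (h : (A.map (frob hF))ᵀ * A = 1) :
    ∃ g, ιu F q g = A :=
  ⟨⟨⟨A, _, mul_eq_one_comm.1 h, h⟩, (mem_GU hF).2 h⟩, rfl⟩

end GU

end H22.GDM

namespace H4

open H22.GDM Matrix H15 H16 H7

theorem exists_GD_gl {F : Type*} [Field F] [Fintype F] (hF : Odd (Fintype.card F)) :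
    ∃ (N : NP) (D : GD (GL (Fin 2) F) N), N.ε = 1 ∧ N.q = Fintype.card F ∧ D.H = ⊤ ∧
      D.Z = Subgroup.center _ ∧ Nonempty (GL2P D F) := by
  obtain ⟨p, hp, f, hp', hf⟩ := FiniteField.card' F
  have h1 : 1 < Fintype.card F := Fintype.one_lt_card
  have h2 : (2 : F) ≠ 0 := card_odd_iff.1 hF
  let N : NP := ⟨Fintype.card F, p, f, Fintype.card F - 1, Fintype.card F + 1, 1, hp',
    by rintro rfl; exact h2 (CharP.cast_eq_zero F 2), f.pos, hf, Or.inl rfl,
    by push_cast [h1.le]; rfl, by simp⟩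
  obtain ⟨δ, hδ⟩ := FiniteField.exists_nonsquare (ringChar_ne_two_iff.2 h2)
  have ha : Aniso 0 (-δ) := fun x y h => by
    have hy : y = 0 := by_contra fun hy => hδ ⟨x / y, by field_simp; linear_combination -h⟩
    exact ⟨by simpa [hy] using h, hy⟩
  have := ha.fact
  have := qa_finite 0 (-δ)
  have hR : (!![0, 1; 0, 0] : Matrix (Fin 2) (Fin 2) F) * !![0, 1; 0, 0] = 0 := by
    ext i j; fin_cases i <;> fin_cases j <;> simp
  have hX : ∀ g, g ∈ Xs (Units.coeHom _) _ hR ↔ ∃ a : F, g = xu a := fun g =>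
    exists_congr fun a => by rw [one_add_smul, Units.ext_iff]; rfl
  have hδ0 : δ * 1 ≠ 0 := by simpa using ha.b_ne_zero
  obtain ⟨D, e1, e2, e3, e4, e5⟩ := exists_GD (ι := Units.coeHom _) N Units.val_injective h2
    (Units.coeHom F) Units.val_injective (card_units_eq rfl) (e := -1) rfl diag2 (fun _ => rfl)
    (fun _ => mem_diag2) (w := swap2) rfl hδ0 (Units.map (mulMat 0 (-δ)))
    (Units.map_injective (mulMat_injective _ _))
    (by rw [Nat.card_units, qa_card rfl]; exact (Nat.sq_sub_sq _ 1).trans (mul_comm _ _))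
    (by
      refine le_antisymm ?_ fun g hg => ?_
      · rintro _ ⟨z, rfl⟩
        change mulMat _ _ _ * _ = _ * mulMat _ _ _
        simp [mulMat_apply, mul_comm]
      · obtain ⟨x, y, h⟩ := Tor.exists_eq h2 ⟨by simp, by simpa using hδ0⟩ hg
        have h3 : mulMat 0 (-δ) ⟨x, y⟩ = g.1 := by
          refine Eq.trans ?_ h.symm
          simp [mulMat_apply, one_fin_two, mul_comm]
        refine ⟨Units.mk0 ⟨x, y⟩ fun h0 => GeneralLinearGroup.det_ne_zero g ?_, Units.ext h3⟩
        rw [← h3, mulMat_det, h0, QuadraticAlgebra.norm_zero])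
    (fun z => by
      obtain ⟨x, hx⟩ := ha.norm_surjective z
      exact ⟨Units.mk0 x (by rintro rfl; exact z.ne_zero (by simpa using hx.symm)),
        (mulMat_det _ _ _).trans hx⟩)
    hR (Or.inl ⟨rfl, rfl⟩) (by simp) (by ext i j; fin_cases i <;> fin_cases j <;> simp)
    (fun h => by simpa using congrFun (congrFun h 0) 1)
    (by
      rw [show N.q = Nat.card F from Nat.card_eq_fintype_card.symm]
      exact (Nat.card_congr (Equiv.ofBijective
        (fun a : F => (⟨xu a, (hX _).2 ⟨a, rfl⟩⟩ : Xs (Units.coeHom _) _ hR))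
        ⟨fun a b h => congrArg (fun g : Xs (Units.coeHom _) _ hR => g.1.1 0 1) h,
          fun ⟨g, hg⟩ => ((hX g).1 hg).imp fun _ h => Subtype.ext h.symm⟩)).symm)
    (fun g hg => by
      have h3 : g.1 1 0 = 0 := by
        simpa [mul_apply, vecMul, dotProduct] using congrFun (congrFun hg 0) 1
      have h := GeneralLinearGroup.det_ne_zero g
      rw [det_fin_two, h3, mul_zero, sub_zero] at h
      refine ⟨diag2 (Units.mk0 _ (left_ne_zero_of_mul h), Units.mk0 _ (right_ne_zero_of_mul h)),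
        show _ = _ by simp [diag2], g.1 0 1, ?_⟩
      ext i j
      fin_cases i <;> fin_cases j <;> simp [diag2, h3])
    ((card_gl_two rfl).trans (by simp only [N]; ring))
  refine ⟨N, D, rfl, rfl, e1, e2, ⟨⟨xu, fun a b => Units.ext (by simp [xu, add_comm]),
    e4 ▸ hX, fun a h => by simpa [xu] using congrArg (fun g : GL (Fin 2) F => g.1 0 1) h,
    fun r hr => ?_, fun r s hr hs => Units.ext ?_, fun τ hτ => ?_⟩⟩⟩
  · rw [e3, e5]
    exact mem_diag2 (by simp [xu, swap2, hr]) (by simp [xu, swap2, hr])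
  · have : r * s * (s⁻¹ * r⁻¹) = 1 := by field_simp
    simp [e3, xu, swap2, hr, hs, this, mul_comm (s⁻¹ * r⁻¹), mul_comm r⁻¹]
  · obtain ⟨⟨a, b⟩, rfl⟩ := e5 ▸ hτ
    refine ⟨a / b, by simp, fun x => ?_, fun x => ?_⟩ <;> rw [mul_inv_eq_iff_eq_mul] <;>
      apply Units.ext <;> simp [e3, xu, swap2, diag2] <;> field_simp

theorem exists_GD_gu {F : Type*} [Field F] [Fintype F] (q : ℕ) (hq : Odd q) (hF : Fintype.card F = q ^ 2) :
    ∃ (N : NP) (D : GD (Cfsg.GU 2 F q) N), N.ε = -1 ∧ N.q = q ∧ D.H = ⊤ ∧ D.Z = Subgroup.center _ := by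
  obtain ⟨p, f, hp', hp, hf0, hf⟩ := exists_char_pow hF
  have h1 := two_le_of_card_sq hF
  have h2 : (2 : F) ≠ 0 := card_odd_iff.1 (hF ▸ hq.pow)
  let N : NP := ⟨q, p, f, q + 1, q - 1, -1, hp',
    by rintro rfl; exact h2 (CharP.cast_eq_zero F 2), hf0, hf, Or.inr rfl,
    by simp, by push_cast [show 1 ≤ q by omega]; rfl⟩
  let σ := frob hF
  have hσ : ∀ x, σ (σ x) = x := frob_frob hF
  obtain ⟨c, hc⟩ := norm_surj σ (frob_ne_id hF) hσ (a := -1) (by simp)
  have hc0 : c ≠ 0 := by rintro rfl; simp at hc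
  let U := (powMonoidHom (q + 1) : Fˣ →* Fˣ).ker
  have hU : ∀ x : Fˣ, x ∈ U ↔ σ x * x = 1 := fun x => by
    rw [mul_comm, mul_frob, MonoidHom.mem_ker, Units.ext_iff]; simp
  have hι : Function.Injective (ιu F q) := Units.val_injective.comp Subtype.val_injective
  have hg : ∀ g, ((ιu F q g).map σ)ᵀ * ιu F q g = 1 := fun g => (mem_GU hF).1 g.2
  let ψ := ((tor h2 hc0).comp ((Units.coeHom F).prod
    ((Units.coeHom F).comp (Units.map σ.toMonoidHom)⁻¹))).toHomUnits.codRestrict (Cfsg.GU 2 F q)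
      fun a => (mem_GU hF).2 ((tri_unitary σ h2 hc).2 (by
        have := a.ne_zero
        have := (map_ne_zero σ).2 a.ne_zero
        simp [hσ, map_ofNat]
        constructor <;> field_simp <;> ring))
  have hψ : ∀ a : Fˣ, ιu F q (ψ a) = tri c ((a + (σ a)⁻¹) / 2) ((a - (σ a)⁻¹) / 2) 0 :=
    fun a => by simp [ψ, ιu, tor]
  have hR : (!![1, -c⁻¹; c, -1] : Matrix (Fin 2) (Fin 2) F) * !![1, -c⁻¹; c, -1] = 0 := by
    ext i j; fin_cases i <;> fin_cases j <;> simp [hc0]
  have hcc : c⁻¹ * c ≠ 0 := by simp [hc0]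
  obtain ⟨D, e1, e2, -⟩ := exists_GD (ι := ιu F q) N hι h2
    ((Units.coeHom F).comp U.subtype) (Units.val_injective.comp Subtype.val_injective)
    (card_norm_one_units hF) (e := ⟨-1, (hU _).2 (by simp)⟩) rfl
    ((diag2.comp (U.subtype.prodMap U.subtype)).codRestrict _ fun x => (mem_GU hF).2 (by
      have h3 := (hU _).1 x.1.2
      have h4 := (hU _).1 x.2.2
      ext i j
      fin_cases i <;> fin_cases j <;> simp [diag2, mul_apply, σ] at h3 h4 ⊢ <;> assumption))
    (fun _ => rfl)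
    (fun g h3 h4 => by
      obtain ⟨⟨a, b⟩, h⟩ := mem_diag2 (g := g.1) h3 h4
      have h5 := (mem_GU hF).1 g.2
      rw [← h] at h5
      exact ⟨(⟨a, (hU _).2 (by simpa [diag2, mul_apply] using congrFun (congrFun h5 0) 0)⟩,
        ⟨b, (hU _).2 (by simpa [diag2, mul_apply] using congrFun (congrFun h5 1) 1)⟩),
        Subtype.ext h⟩)
    (w := ⟨swap2, (mem_GU hF).2 (by
      ext i j; fin_cases i <;> fin_cases j <;> simp [swap2, mul_apply])⟩) rfl hcc ψ
    ((injective_iff_map_eq_one ψ).2 fun a h => by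
      have h3 := hψ a
      rw [h, map_one, eq_comm, tri_eq_one h2 hc0] at h3
      exact Units.ext (by
        rw [Units.val_one, ← h3.1, ← add_zero ((_ + _) / 2), ← h3.2.1]; field_simp; ring))
    (card_units_sq hF)
    (by
      refine le_antisymm ?_ fun g h => ?_
      · rintro _ ⟨z, rfl⟩
        change _ = _
        rw [hψ, tri_comm]
      · obtain ⟨x, y, h⟩ := Tor.exists_eq h2 ⟨by simp, by simpa using hcc⟩ h
        have h3 : ιu F q g = tri c x y 0 := by rw [h, tri_eq, zero_smul, add_zero]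
        obtain ⟨h4, h5, -⟩ := (tri_unitary σ h2 hc).1 (h3 ▸ hg g)
        have h6 : σ (x + y) * (x - y) = 1 := by rw [map_add]; linear_combination h4 - h5
        refine ⟨Units.mk0 (x + y) fun h0 => by simp [h0] at h6, hι ?_⟩
        rw [hψ, h3, Units.val_mk0, inv_eq_of_mul_eq_one_right h6]
        congr 1 <;> field_simp <;> ring)
    (fun z => by
      obtain ⟨x, hx, h⟩ := hilbert90 σ (frob_ne_id hF) hσ
        ((mul_comm _ _).trans ((hU _).1 z.2))
      refine ⟨Units.mk0 x hx, ?_⟩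
      change _ = (z.1 : F)
      rw [hψ, h]
      simp [tri, det_fin_two]
      field_simp
      ring)
    hR (Or.inr ⟨rfl, rfl⟩) (by simp [hc0]) (by simp [hc0])
    (fun h => by simpa using congrFun (congrFun h 0) 0)
    (by
      have h3 : ∀ a : F, 1 + a • !![1, -c⁻¹; c, -1] = tri c 1 0 a := fun a => by simp [tri_eq]
      have h4 : ∀ a : F, ((tri c 1 0 a).map σ)ᵀ * tri c 1 0 a = 1 ↔ a + a ^ q = 0 := fun a => by
        simp [tri_unitary σ h2 hc, ← frob_apply hF, σ]
      choose x hx using fun a : {x : F // x + x ^ q = 0} => exists_gu hF ((h4 _).2 a.2)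
      refine Eq.trans (Nat.card_congr (Equiv.ofBijective
        (fun a => (⟨x a, a, (hx a).trans (h3 _).symm⟩ : Xs (ιu F q) _ hR))
        ⟨fun a b h => ?_, fun ⟨g, a, ha⟩ => ?_⟩)).symm (card_trace_eq hF 0 (zero_pow (by omega)))
      · have := congrArg (fun g : Xs (ιu F q) _ hR => ιu F q g 0 0) h
        exact Subtype.ext (by simpa [hx, tri] using this)
      · rw [h3] at ha
        exact ⟨⟨a, (h4 a).1 (ha ▸ hg g)⟩, Subtype.ext (hι ((hx _).trans ha.symm))⟩)
    (fun g h => by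
      have h3 := congrFun (congrFun h 0) 0
      obtain ⟨A, hA⟩ : ∃ A, A = ιu F q g := ⟨_, rfl⟩
      rw [← hA] at h3 ⊢
      simp [mul_apply, vecMul, dotProduct] at h3
      have h4 : A = tri c ((A 0 0 + A 1 1) / 2) ((A 0 0 - A 1 1) / 2 + A 0 1 * c)
          ((A 0 0 - A 1 1) / 2) := by
        field_simp at h3
        ext i j
        fin_cases i <;> fin_cases j <;> simp [tri] <;> field_simp
        · ring
        · linear_combination -2 * h3
        · ring
      obtain ⟨h5, h6, -⟩ := (tri_unitary σ h2 hc).1 (h4 ▸ hA ▸ hg g)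
      obtain ⟨s, hs⟩ := exists_gu hF ((tri_unitary σ h2 hc (z := 0)).2 ⟨h5, h6, by simp⟩)
      refine ⟨s, show _ = _ by rw [hs, tri_comm], (A 0 0 - A 1 1) / 2, ?_⟩
      rw [hs, tri_eq, zero_smul, add_zero, ← tri_eq, ← h4])
    ((card_gu_two hF).trans (by simp only [N]; ring))
  exact ⟨N, D, rfl, rfl, e1, e2⟩

end H4
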