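import Cfsg.Agent.H4.GD7
import Cfsg.Agent.H4.Frobenius
import Cfsg.Agent.H2.U3D
import Cfsg.Agent.H18.Sieve2
import Cfsg.Agent.H24.Base5

/-! The unitary endgame (written by helper17). -/

set_option autoImplicit false
set_option linter.unusedSectionVars false

namespace H17.GU

open Subgroup H24 H4 H4.GD

variable {G : Type*} [Group G] [Finite G]

theorem fw_rel {M H N : Subgroup G} (hHM : H ≤ M) (hNH : N ≤ H)
    (hTI : ∀ g ∈ M, ∀ x ∈ H, x ∉ N → g * x * g⁻¹ ∈ H → g ∈ H) (hN : H ≤ N[N]) :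
    ∃ K : Subgroup G, K ⊴ M ∧ K ⊓ H = N ∧ K ⊔ H = M := by
  obtain ⟨K, h1, -, h2, h3⟩ := frobenius_wielandt (H.subgroupOf M) (N.subgroupOf M) (comap_mono hNH)
    (fun g hg x hx e => by_contra fun h => hg (hTI g g.2 x hx h e)) fun g hg x hx => conj_mem (H := N) (hN hg) hx
  have e : ∀ A ≤ M, (A.subgroupOf M).map M.subtype = A := fun A hA => map_subgroupOf_eq_of_le hA
  refine ⟨K.map M.subtype, nml_map_subtype _, ?_, ?_⟩
  · rw [← e H hHM, ← map_inf _ _ _ M.subtype_injective, h2, e N (hNH.trans hHM)]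
  · rw [← e H hHM, ← Subgroup.map_sup, h3, ← MonoidHom.range_eq_map, range_subtype]

theorem syl_count {p : ℕ} (hp : p.Prime) {L P : Subgroup G} (h : Syl p L P) :
    N[P].relIndex L % p = 1 := by
  have := Fact.mk hp
  obtain ⟨S, rfl⟩ := h.exists_sylow hp
  rw [relIndex, subgroupOf_normalizer_eq (map_subtype_le _), subgroupOf,
    comap_map_eq_self_of_injective L.subtype_injective, ← Nat.mod_eq_of_lt hp.one_lt]
  exact S.card_eq_index_normalizer ▸ card_sylow_modEq_one p L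

theorem arith {q p i d c w : ℕ} (hp : p.Prime) (hp2 : p ≠ 2) (hpq : p ∣ q) (hd : d ∣ 3)
    (hw : d * w + 1 = q ^ 2) (e : p ^ i = 1 + c * w) (hc : c ≠ 0) (hi : p ^ i ≤ q ^ 2) :
    p ^ i = q ^ 2 := by
  have w0 : w ≠ 0 := by
    rintro rfl
    exact hp.one_lt.ne' (Nat.dvd_one.1 (by simpa [← hw] using hpq.trans (dvd_pow_self q two_ne_zero)))
  have i0 : i ≠ 0 := by rintro rfl; simp [hc, w0] at e
  have h1 : p ∣ 1 + c * w := e ▸ dvd_pow_self p i0
  have h2 : p ∣ d * w + 1 := hw ▸ hpq.trans (dvd_pow_self q two_ne_zero)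
  have h3 : c ≤ d := Nat.le_of_mul_le_mul_right (by omega) (Nat.pos_of_ne_zero w0)
  obtain ⟨k, rfl⟩ := Nat.exists_eq_add_of_le h3
  have h4 : p ∣ k := by
    have a1 : p ∣ k * w := (Nat.dvd_add_right h1).1 (by convert h2 using 1; ring)
    exact (hp.dvd_mul.1 a1).resolve_right fun a => hp.one_lt.ne'
      (Nat.dvd_one.1 ((Nat.dvd_add_right (a.mul_left c)).1 (by rwa [add_comm])))
  have := Nat.le_of_dvd (by norm_num) hd
  have := hp.two_le
  rcases Nat.eq_zero_or_pos k with rfl | k0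
  · rw [e, ← hw]; ring
  · have := Nat.le_of_dvd k0 h4; omega

variable {N : NP} {D : GD G N}

theorem X_ex (D : GD G N) : ∃ x ∈ D.X, x ≠ 1 :=
  exists_ne_one fun e => by have := D.cX; have := N.three_le_q; simp [e] at *; omega

theorem eq_of_inv (hε : N.ε = -1) {s x : G} (hs : s ∈ D.H) (hs2 : s * s = 1) (hx : x ∈ D.H)
    (hp : x ^ N.p = 1) (hx1 : x ≠ 1) (e : s * x * s = x⁻¹) : s = 1 ∨ s = D.t := by
  obtain ⟨k, hk, h1⟩ := D.exists_conj_X hx hp
  rw [← D.conj_t_eq hk]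
  exact (D.conj k).B_inv hε ((D.conj k).mem_B_of_conj (D.conj_H_eq hk ▸ hs) h1 hx1
    (by rw [inv_eq_self hs2, e]; exact inv_mem h1)) hs2

theorem B_le_M (D : GD G N) : D.B ≤ N[D.X] := le_N_iff.2 fun _ hb _ hx => D.B_norm hb hx

theorem mem_B (D : GD G N) {g : G} (hg : g ∈ N[D.X]) (hH : g ∈ D.H) : g ∈ D.B := by
  obtain ⟨x, hx, hx1⟩ := X_ex D
  exact D.mem_B_of_conj hH hx hx1 (conj_mem hg hx)

theorem t_B (D : GD G N) : D.t ∈ D.B := D.S_le_B (D.Z_le_S D.t_mem)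

variable (h : D.Cfg) (hε : N.ε = -1) (hW : ∀ y ∈ D.W, y ≠ 1 → ∀ g, g * y = y * g → g ∈ D.H)
include hε hW

theorem cent_B {x g : G} (hx : x ∈ D.B) (hX : x ∉ D.X) (e : g * x = x * g) : g ∈ D.H := by
  by_cases hA : x ∈ D.A
  · have h1 := mt (D.mem_X_of_pow hA) hX
    obtain ⟨z, hz, y, hy, rfl⟩ := D.mem_A.1 hA
    refine hW _ ?_ h1 g (pow_comm_of e _)
    rw [(show Commute z y from D.Z_comm z hz y (D.X_le hy)).mul_pow, D.X_pow y hy, mul_one]
    exact D.Z_le_W (pow_mem hz _)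
  · obtain ⟨y, hy, h1⟩ := D.B_conj hx hA
    have := hW _ (D.S_eq_W hε ▸ h1) (by rintro e; simp at e; exact hX (e ▸ one_mem _)) (y * g * y⁻¹)
      (by simp only [conj_mul, e])
    simpa [mul_assoc] using mul_mem (mul_mem (inv_mem (D.X_le hy)) this) (D.X_le hy)

omit hW in
theorem eq_t {g : G} (hg : g ∈ N[D.X]) (h1 : g * D.t * g⁻¹ ∈ D.H) : g * D.t * g⁻¹ = D.t :=
  (D.B_inv hε (mem_B D (mul_mem (mul_mem hg (B_le_M D (t_B D))) (inv_mem hg)) h1)
    (by simp [D.t_sq])).resolve_left (by simpa using D.t_ne)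

theorem cnt {K : Subgroup G} (hK : K ≤ N[D.X]) (hn : D.W ≤ N[K]) :
    ∃ c, ♯K = (1 + c * ♯D.W) * ♯(K ⊓ C{D.t}) := by
  set S := {x | ∃ g ∈ K, g * D.t * g⁻¹ = x}
  have h1 : D.t ∈ S := ⟨1, one_mem _, by simp⟩
  obtain ⟨c, hc⟩ := card_dvd_of_conj D.W (S \ {D.t}) (by
    rintro y hy _ ⟨⟨g, hg, rfl⟩, h2⟩
    have e := D.conj_Z D.t_mem (D.W_le hy)
    exact ⟨⟨_, conj_mem (hn hy) hg, by nth_rw 1 [← e]; group⟩, fun h3 => h2 (by
      simpa using (show _ = _ from h3).trans e.symm)⟩) (by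
    rintro y hy _ ⟨⟨g, hg, rfl⟩, h2⟩ e
    exact by_contra fun h3 => h2 (eq_t hε (hK hg) (hW y hy h3 _ e.symm)))
  refine ⟨c, ?_⟩
  rw [← ncard_conj_class K D.t, mul_comm c, ← hc, add_comm, Set.ncard_sdiff_singleton_add_one h1]

include h

theorem exists_K : ∃ K : Subgroup G, K ⊴ N[D.X] ∧ D.X ≤ K ∧ (∀ x ∈ K, x * D.t = D.t * x → x ∈ D.X) ∧
    ♯N[D.X] = ♯K * ♯D.W ∧ (∀ L, D.X ≤ L → L ≤ K → K ≤ N[L]) ∧
    ∀ L, D.X ≤ L → L ≤ K → D.W ≤ N[L] → ∃ c, ♯L = (1 + c * ♯D.W) * N.q := by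
  obtain ⟨K, h1, h2, h3⟩ := fw_rel (B_le_M D) D.X_le_B (fun g hg x hx hX e => mem_B D hg (h.full _
    (mul_inv_eq_iff_eq_mul.1 (eq_t hε hg (cent_B hε hW e (fun f => hX ((conj_mem_iff hg).1 f)) (by
      simp only [conj_mul, D.t_comm (D.B_le hx)])))))) (B_le_M D)
  have XK : D.X ≤ K := h2 ▸ inf_le_left
  have hC : ∀ x ∈ K, x * D.t = D.t * x → x ∈ D.X := fun x hx e =>
    h2 ▸ ⟨hx, mem_B D (h1.le hx) (h.full x e)⟩
  have WB : D.W ≤ D.B := D.S_eq_W hε ▸ D.S_le_B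
  have hc : ∀ L, D.X ≤ L → L ≤ K → D.W ≤ N[L] → ∃ c, ♯L = (1 + c * ♯D.W) * N.q := fun L a1 a2 a3 => by
    obtain ⟨c, hc⟩ := cnt hε hW (a2.trans h1.le) a3
    exact ⟨c, by rw [hc, ← D.cX, show L ⊓ C{D.t} = D.X from le_antisymm (fun x hx => hC x (a2 hx.1)
      (mem_C1.1 hx.2)) fun x hx => ⟨a1 hx, mem_C1.2 (D.t_comm (D.X_le hx)).symm⟩]⟩
  have Ko : Odd ♯K := by
    obtain ⟨c, hc⟩ := hc K XK le_rfl (WB.trans ((B_le_M D).trans h1.norm))
    exact hc ▸ (odd_one.add_even ((D.cW ▸ N.n_even.mul_left _).mul_left c)).mul N.q_odd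
  have tK : ∀ x ∈ K, D.t * x * D.t ∈ K := fun x hx => by
    simpa [D.t_inv] using conj_mem (h1.norm (B_le_M D (t_B D))) hx
  have inv : ∀ f ∈ K, f * (D.t * f * D.t) ∈ D.X := fun f hf => by
    obtain ⟨c, hc, j, hj, e1, e2, rfl⟩ := exists_cent_inv Ko D.t_sq tK hf
    have := mul_mem (hC c hc e1) (conj_mem (h1.le hj) (hC c hc e1))
    convert this using 1
    calc _ = c * j * (D.t * c) * D.t * (D.t * j * D.t) := by simp [mul_assoc, mul_mul_self D.t_sq]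
      _ = _ := by rw [← e1, e2]; simp [mul_assoc, mul_mul_self D.t_sq]
  refine ⟨K, h1, XK, hC, ?_, fun L a1 a2 => le_N_iff.2 fun a ha b hb => ?_, hc⟩
  · have := card_sup ((B_le_M D).trans h1.norm)
    rw [h2, h3, B, GD.card_sup_of_inf D.S_le_normalizer D.X_inf_S, D.S_eq_W hε] at this
    exact Nat.eq_of_mul_eq_mul_right (card_pos D.X) (by rw [this]; ring)
  · have b1 := mul_mem (mul_mem (inv _ (mul_mem ha (a2 hb))) (inv_mem (inv _ (a2 hb))))
      (inv_mem (conj_mem (h1.le (a2 hb)) (inv a ha)))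
    convert mul_mem (a1 b1) hb using 1
    simp [mul_assoc, mul_mul_self D.t_sq, D.t_inv]

theorem exists_P : ∃ (K P : Subgroup G) (a i c : ℕ), Syl N.p N[D.X] P ∧ N[D.X] ≤ N[P] ∧ D.X ≤ P ∧
    (∀ x ∈ P, x * D.t = D.t * x → x ∈ D.X) ∧ ♯P = N.p ^ i * N.q ∧ N.p ^ i = 1 + c * ♯D.W ∧
    N.p ^ i ∣ D.H.index ∧ (N.p ∣ D.H.index → c ≠ 0) ∧
    K ⊴ N[D.X] ∧ ♯K = (1 + a * ♯D.W) * N.q ∧ ♯N[D.X] = ♯K * ♯D.W := by
  obtain ⟨K, h1, XK, hC, cM, hn, hc⟩ := exists_K h hε hW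
  have WM : D.W ≤ N[D.X] := (D.S_eq_W hε ▸ D.S_le_B).trans (B_le_M D)
  obtain ⟨P, hP, XP⟩ := Sylow_superset N.hp (isPi_of_card N.hp (D.cX.trans N.hq)) XK
  have MP := h1.norm.trans (hP.norm_le_norm_of_nml (hn P XP hP.le))
  obtain ⟨a, ha⟩ := hc K XK le_rfl (WM.trans h1.norm)
  obtain ⟨c, hc⟩ := hc P XP hP.le (WM.trans MP)
  obtain ⟨j, hj⟩ := hP.pi.card_eq_pow N.hp
  obtain ⟨i, -, hi⟩ := (Nat.dvd_prime_pow N.hp).1 (hj ▸ Dvd.intro _ hc.symm)
  have PM : Syl N.p N[D.X] P := Hall.of_idx hP h1.le ((piNat_compl_singleton N.hp).2 (by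
    rw [Nat.eq_of_mul_eq_mul_left (card_pos K) ((card_mul_relIndex h1.le).trans cM)]
    exact D.p_not_dvd_W))
  have q0 : 0 < N.q := by have := N.three_le_q; omega
  have cG : Nat.card G = (D.H.index * (♯D.W * N.m)) * N.q := by
    rw [← D.H.card_mul_index, D.cH, D.cW]; ring
  refine ⟨K, P, a, i, c, PM, MP, XP, fun x hx => hC x (hP.le hx), hi ▸ hc, hi.symm, ?_, ?_, h1, ha, cM⟩
  · have := P.card_subgroup_dvd_card
    rw [hc, hi, cG, Nat.mul_dvd_mul_iff_right q0] at this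
    exact (Nat.Coprime.pow_left _ ((N.hp.coprime_iff_not_dvd).2 (N.hp.not_dvd_mul D.p_not_dvd_W
      N.p_not_dvd_m))).dvd_of_dvd_mul_right this
  · rintro hp rfl
    rw [← eq_of_card_eq XP (by simp [hc, D.cX])] at PM
    refine (PM.of_norm_le N.hp le_top inf_le_right).not_dvd N.hp (hp.trans ?_)
    rw [relIndex_top_right]; exact index_dvd_of_le D.X_le

omit hW in
theorem inf_cj {P : Subgroup G} (hP : IsPi {N.p} P) (tP : D.t ∈ N[P])
    (hC : ∀ x ∈ P, x * D.t = D.t * x → x ∈ D.X) : P ⊓ cj D.v P = ⊥ := by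
  have vt : D.v * D.t = D.t * D.v := (D.t_comm D.v_mem).symm
  have v1 : D.v ≠ 1 := fun e => D.v_not_Z (e ▸ one_mem _)
  have v2 : D.v ≠ D.t := fun e => D.v_not_Z (e ▸ D.t_mem)
  have ho : Odd ♯(P ⊓ cj D.v P) := by
    obtain ⟨k, hk⟩ := (hP.inf_left (cj D.v P)).card_eq_pow N.hp
    exact hk ▸ N.p_odd.pow
  have nt : ∀ x ∈ P ⊓ cj D.v P, D.t * x * D.t ∈ P ⊓ cj D.v P := fun x hx =>
    ⟨by simpa [D.t_inv] using conj_mem tP hx.1, mem_cj.2 (by
      convert conj_mem tP (mem_cj.1 hx.2) using 1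
      rw [D.v_inv', D.t_inv]
      simp only [mul_assoc, vt]; simp only [← mul_assoc, vt])⟩
  have ct : ∀ x ∈ P ⊓ cj D.v P, x * D.t = D.t * x → x = 1 := fun x hx e => by_contra fun x1 =>
    (D.B_inv hε (D.mem_B_of_conj D.v_mem (hC x hx.1 e) x1 (hC _ (by
      simpa [D.v_inv'] using mem_cj.1 hx.2) (by
        rw [D.v_inv', mul_assoc, vt, ← mul_assoc, mul_assoc _ x, e]
        simp only [← mul_assoc, vt]))) D.v_sq).elim v1 v2
  have cs : ∀ s : G, s * s = 1 → s ≠ 1 → s ≠ D.t → D.t * s = s * D.t → ∀ x ∈ P ⊓ cj D.v P,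
      x * s = s * x → x ∈ (⊥ : Subgroup G) := fun s s2 s1 st e x hx ex => by_contra fun x1 => by
    obtain ⟨g, rfl⟩ := h.inv_conj s2 s1
    obtain ⟨y, hy, oy⟩ := exists_orderOf_eq N.hp ((hP.of_le (zpowers_le.2 hx.1)).dvd_card
      (by simpa using x1))
    exact (eq_of_inv (D := D.conj g) hε ((h.full.conj g) _ e) D.t_sq ((h.full.conj g) _ (mem_C1.1
      (zpowers_le.2 (mem_C1.2 ex) hy))) (oy ▸ pow_orderOf_eq_one y) (ne_one_of_orderOf oy N.hp.ne_one)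
      (inv_of_fpf ho D.t_sq nt ct (zpowers_le.2 hx hy))).elim D.t_ne st.symm
  refine le_bot_iff.1 (le_of_four ho D.t_sq D.v_sq vt D.t_ne v1 v2 nt (fun x hx => ⟨by
    simpa [D.v_inv'] using mem_cj.1 hx.2, by
      have := H24.conj_mem_cj D.v hx.1; rwa [D.v_inv'] at this⟩) ct
    (cs _ D.v_sq v1 v2 vt.symm) (cs _ ?_ ?_ (by simpa using v1) (by rw [mul_assoc, vt])))
  · rw [mul_assoc, ← mul_assoc D.v, vt, mul_assoc, D.v_sq, mul_one, D.t_sq]
  · exact fun e => v2 (by rw [← D.t_inv]; exact (eq_inv_of_mul_eq_one_right e))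

end H17.GU

namespace H4.GD
open Subgroup H24 H17.GU
theorem Cfg.psu {G : Type*} [Group G] [Finite G] [IsSimpleGroup G] {N : NP} {D : GD G N} (h : D.Cfg)
    (hε : N.ε = -1) (hd : N.m ∣ 3 * Nat.card D.Z)
    (hW : ∀ y ∈ D.W, y ≠ 1 → ∀ g, g * y = y * g → g ∈ D.H)
    (hg : (D.H.index : ℤ) = N.q ^ 2 * (N.q ^ 2 - N.q + 1) ∨
      (D.H.index : ℤ) = N.q * (N.q ^ 2 - N.q - 1) * (N.q - 2) ∨
      (N.q = 5 ∧ (D.H.index = 45 ∨ D.H.index = 357 ∨ D.H.index = 621 ∨ D.H.index = 1365)))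
    (K : Type*) [Field K] [Fintype K] (hK : Fintype.card K = N.q ^ 2) :
    Nonempty (G ≃* Cfsg.PSU 3 K N.q) := by
  obtain ⟨L, P, a, i, c, PM, MP, XP, hC, cP, hi, hig, hc, hL, cL, cM⟩ := exists_P h hε hW
  obtain ⟨d, hd2, hd1⟩ := D.cZ
  have d3 : d ∣ 3 := Nat.dvd_of_mul_dvd_mul_right D.Z_pos (hd1 ▸ hd)
  have dW : d * ♯D.W + 1 = N.q ^ 2 := by rw [D.cW, ← mul_assoc, hd1, N.m_mul_n]
  obtain ⟨hm, hn⟩ : N.m = N.q + 1 ∧ N.n + 1 = N.q := (N.cases.resolve_left (by simp [hε])).2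
  have cG : Nat.card G = D.H.index * (♯D.W * N.m * N.q) := by
    rw [← D.H.card_mul_index, D.cH, D.cW]; ring
  have q3 := N.three_le_q
  have pq : (N.p : ℤ) ∣ N.q := Int.natCast_dvd_natCast.2 N.p_dvd_q
  have key : ∀ (j : ℕ) (r : ℤ), 0 < j → j ≤ 2 → (D.H.index : ℤ) = N.q ^ j * r → ¬ (N.p : ℤ) ∣ r →
      N.p ^ i = N.q ^ 2 ∧ j = 2 := fun j r j0 j2 e hr => by
    have a1 : N.p ^ i ≤ N.q ^ j := Nat.le_of_dvd (by positivity) (Int.natCast_dvd_natCast.1 (by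
      push_cast
      exact (((Nat.prime_iff_prime_int.1 N.hp).coprime_iff_not_dvd.2 hr).pow_left).dvd_of_dvd_mul_right
        (e ▸ by exact_mod_cast hig)))
    have a2 := arith N.hp N.p_ne N.p_dvd_q d3 dW hi (hc (Int.natCast_dvd_natCast.1
      (e ▸ (pq.trans (dvd_pow_self _ j0.ne')).mul_right r))) (a1.trans (Nat.pow_le_pow_right (by omega) j2))
    exact ⟨a2, le_antisymm j2 ((Nat.pow_le_pow_iff_right (by omega)).1 (a2 ▸ a1))⟩
  have p1 : ¬ (N.p : ℤ) ∣ 1 := by exact_mod_cast N.hp.not_dvd_one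
  rcases hg with hg | hg | ⟨q5, hg⟩
  · have hq := (key 2 _ two_pos le_rfl hg fun e => p1 ((dvd_add_right (dvd_sub
      (pq.trans (dvd_pow_self _ two_ne_zero)) pq)).1 e)).1
    have WM : D.W ≤ N[D.X] := (D.S_eq_W hε ▸ D.S_le_B).trans (B_le_M D)
    have BM : P ⊔ D.W ≤ N[D.X] := sup_le PM.le WM
    have free : ∀ u ∈ P, D.v⁻¹ * u * D.v ∈ P ⊔ D.W → u = 1 := fun u hu e =>
      mem_bot.1 (inf_cj h hε PM.pi (MP (B_le_M D (t_B D))) hC ▸ (⟨hu, mem_cj.2 (PM.mem_of_nml MP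
        (by simpa using (PM.pi.piElt hu).conj D.v⁻¹) (BM e))⟩ : u ∈ P ⊓ cj D.v P))
    obtain ⟨x, hx, x1⟩ := X_ex D
    have vW : ∀ y ∈ D.W, D.v⁻¹ * y * D.v ∈ D.W := fun y hy => by rw [D.v_inv']; exact D.v_conj_mem hy
    refine H2.U3.core_sub (B := P ⊔ D.W) (U := P) (s := D.v) (H := D.W) (fun e => x1 (free x (XP hx)
      (mul_mem (mul_mem (inv_mem e) (mem_sup_left (XP hx))) e))) le_sup_left
      (fun g hg u hu => conj_mem (MP (BM hg)) hu) ?_ free (by rw [cP, hq]; ring)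
      ⟨N.p, N.f, N.hp, N.p_ne, N.f_pos.ne', N.hq⟩ (fun g => ⟨fun hg => ⟨mem_sup_right hg,
        mem_sup_right (vW g hg)⟩, fun ⟨a1, a2⟩ => ?_⟩) D.isCyclic_W ⟨d, hd2, by omega⟩ K hK
    · have a1 := (P ⊔ D.W).card_mul_index
      rw [H24.card_sup_of_inf (WM.trans MP) (PM.pi.inf_eq_bot ((isPi_compl_iff N.hp).2 D.p_not_dvd_W)),
        cG, cP, hq, hm] at a1
      refine Nat.eq_of_mul_eq_mul_left (show 0 < N.q ^ 2 * N.q * ♯D.W from
        Nat.mul_pos (by positivity) (card_pos _)) (a1.trans ?_)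
      zify; rw [hg]; ring
    · obtain ⟨u, hu, y, hy, rfl⟩ := (isProd_sup (WM.trans MP)).3 g a1
      rwa [free u hu (by simpa [mul_assoc] using mul_mem a2 (inv_mem (mem_sup_right (vW y hy)))), one_mul]
  · refine absurd (key 1 _ one_pos one_le_two (by rw [hg, pow_one, mul_assoc]) fun e => ?_).2 (by omega)
    rcases (Nat.prime_iff_prime_int.1 N.hp).dvd_or_dvd e with e | e
    · exact p1 (by simpa using dvd_sub (dvd_sub (pq.trans (dvd_pow_self _ two_ne_zero)) pq) e)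
    · exact N.p_ne ((Nat.prime_dvd_prime_iff_eq N.hp Nat.prime_two).1 (by
        exact_mod_cast (by simpa using dvd_sub pq e : (N.p : ℤ) ∣ 2)))
  have p5 : N.p = 5 := (N.eq_p_of_dvd (by norm_num) (by rw [q5])).symm
  have W8 : ♯D.W = 8 ∨ ♯D.W = 24 := by
    rw [q5] at dW
    rcases (Nat.dvd_prime Nat.prime_three).1 d3 with rfl | rfl <;> omega
  rw [hm, q5] at cG
  rcases hg with hg | hg | hg | hg
  · exact absurd (key 1 9 one_pos one_le_two (by simp [hg, q5]) (by norm_num [p5])).2 (by omega)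
  · have i0 : i = 0 := by
      rw [hg, p5] at hig
      exact by_contra fun e => by simpa using (dvd_pow_self 5 e).trans hig
    rw [← eq_of_card_eq XP (by simp [cP, D.cX, i0]), p5] at PM
    have X5 := PM.of_norm_le (by norm_num) le_top inf_le_right
    have a1 := syl_count (by norm_num) X5
    have a2 := N[D.X].card_mul_index
    rw [relIndex_top_right] at a1
    rw [cM, cL, cG, hg, q5] at a2
    obtain ⟨a3, a4⟩ : 1 + a * ♯D.W = 17 ∧ N[D.X].index = 126 := by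
      have a5 : (1 + a * ♯D.W) * N[D.X].index = 2142 :=
        Nat.eq_of_mul_eq_mul_right (show 0 < 5 * ♯D.W from Nat.mul_pos (by norm_num) (card_pos _))
          (by linarith)
      have a6 : (1 + a * ♯D.W) % 8 = 1 := by rcases W8 with e | e <;> rw [e] <;> omega
      generalize 1 + a * ♯D.W = b at a5 a6
      have : b ∈ Nat.divisors 2142 := Nat.mem_divisors.2 ⟨Dvd.intro _ a5, by norm_num⟩
      rw [show Nat.divisors 2142 = {1, 2, 3, 6, 7, 9, 14, 17, 18, 21, 34, 42, 51, 63, 102, 119, 126, 153,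
        238, 306, 357, 714, 1071, 2142} by decide +kernel] at this
      simp only [Finset.mem_insert, Finset.mem_singleton] at this
      rcases this with h | h | h | h | h | h | h | h | h | h | h | h | h | h | h | h | h | h | h | h | h |
        h | h | h <;> subst h <;> omega
    rw [a3, q5] at cL
    obtain ⟨S, hS⟩ := Sylow_exists (p := 17) (by norm_num) L
    have b1 : L ≤ N[S] := relIndex_eq_one.1 ((by decide +kernel : ∀ x ∈ Nat.divisors (17 * 5),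
      x % 17 = 1 → x = 1) _ (Nat.mem_divisors.2 ⟨cL ▸ relIndex_dvd_card _ _, by norm_num⟩)
      (syl_count (by norm_num) hS))
    have b2 := hL.norm.trans (hS.norm_le_norm_of_nml b1)
    have b3 := syl_count (by norm_num) (X5.of_le ((norm_self _).trans b2) le_top)
    have b4 := syl_count (by norm_num) (Hall.of_idx hS le_top ((piNat_compl_singleton (by norm_num)).2 (by
      have := L.card_mul_index
      rw [cL, cG, hg] at this
      rw [relIndex_top_right]; omega)))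
    have b5 := relIndex_mul_index b2
    rw [relIndex_top_right] at b4
    have b6 := (by decide +kernel : ∀ x ∈ Nat.divisors 126, x % 17 = 1 → x = 1 ∨ x = 18) _
      (Nat.mem_divisors.2 ⟨Dvd.intro_left _ (b5.trans a4), by norm_num⟩) b4
    rcases (normalizer_eq_top_iff.1 (index_eq_one.1 (b6.resolve_right fun e => by
      rw [e] at b5; omega))).eq_bot_or_eq_top with e | e
    · exact absurd e (hS.ne_bot (by norm_num) rfl (by rw [cL]; norm_num))
    · rw [show N[D.X] = ⊤ from top_le_iff.1 (e ▸ hS.le.trans hL.le)] at a4; simp at a4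
  · rcases W8 with e | e <;> rw [hg, e] at cG
    · exact absurd cG (H18.Sv.card_ne 700 (by norm_num) (by decide +kernel))
    · exact absurd cG (H18.Sv.card_ne 700 (by norm_num) (by decide +kernel))
  · exact absurd (key 1 273 one_pos one_le_two (by simp [hg, q5]) (by norm_num [p5])).2 (by omega)
end H4.GD
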