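import Cfsg.Agent.H4.GD12
import Cfsg.Agent.H4.GDFifteen
import Cfsg.Agent.H4.GDUni
import Cfsg.Agent.H4.GDModel
import Cfsg.Agent.H26.B71C

/-!
Simple groups with an involution centraliser `GL₂^±(q) / Z₀`.
-/

set_option autoImplicit false

open Cfsg H4

namespace H4

open Subgroup

theorem exists_conj_mem_of_odd {G : Type*} [Group G] [Finite G] {H M : Subgroup G}
    (h : Odd (H.relIndex M)) {s : G} (hs : s ∈ M) (hs2 : s * s = 1) : ∃ m ∈ M, m⁻¹ * s * m ∈ H := by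
  classical
  have hp : IsPGroup 2 (zpowers (⟨s, hs⟩ : M)) := IsPGroup.of_card (n := if s = 1 then 0 else 1) (by
    rw [Nat.card_zpowers, ← orderOf_injective _ M.subtype_injective]
    split_ifs with e
    · simp [e]
    · exact orderOf_eq_prime (p := 2) (x := s) (by rwa [pow_two]) e)
  obtain ⟨x, hx⟩ := hp.nonempty_fixed_point_of_prime_not_dvd_card (M ⧸ H.subgroupOf M)
    (fun e => Nat.not_even_iff_odd.2 h (even_iff_two_dvd.2 e))
  obtain ⟨m, rfl⟩ := QuotientGroup.mk_surjective x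
  have := QuotientGroup.eq.1 (hx ⟨_, mem_zpowers _⟩).symm
  exact ⟨m, m.2, by simpa [mem_subgroupOf, mul_assoc] using this⟩

namespace GD

variable {G : Type*} [Group G] [Finite G] {N : NP} {D : GD G N}

theorem Full.cfg [IsSimpleGroup G] (h : D.Full) : D.Cfg := by
  obtain ⟨σ, h1, h2⟩ := h.fus
  refine ⟨h, ⟨σ, h1, h2⟩, fun z hz hc => ?_⟩
  by_contra hz1
  have hE := h.conj σ
  have mY : ∀ {y}, y ∈ D.Z ⊓ (D.conj σ).Z ↔ (∀ x, x * D.t = D.t * x → y * x = x * y) ∧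
      ∀ x, x * D.u = D.u * x → y * x = x * y := by
    intro y; rw [mem_inf, h.mem_Z, hE.mem_Z, conj_t, h1]
  have hzY : z ∈ D.Z ⊓ (D.conj σ).Z := mY.2 ⟨h.mem_Z.1 hz, hc⟩
  have hYo : Odd (Nat.card (D.Z ⊓ (D.conj σ).Z : Subgroup G)) := by
    by_contra e
    obtain ⟨⟨s, hs⟩, ho⟩ := exists_prime_orderOf_dvd_card' (G := (D.Z ⊓ (D.conj σ).Z : Subgroup G)) 2
      (even_iff_two_dvd.1 (Nat.not_odd_iff_even.1 e))
    rw [← orderOf_injective _ (subtype_injective _)] at ho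
    have e1 := (D.Z_inv hs.1 (sq_of_orderOf_two ho)).resolve_left (ne_one_of_orderOf ho (by decide))
    have e2 := ((D.conj σ).Z_inv hs.2 (sq_of_orderOf_two ho)).resolve_left (ne_one_of_orderOf ho (by decide))
    exact D.u_ne_t (h1.symm.trans (e2.symm.trans e1))
  generalize hY : D.Z ⊓ (D.conj σ).Z = Y at *
  have hH : D.H ≤ normalizer (Y : Set G) := fun g hg => mem_normalizer_of fun y hy => by
    rwa [D.conj_Z (hY.ge.trans inf_le_left hy) hg]
  have hσ : σ ∈ normalizer (Y : Set G) := mem_normalizer_of fun y hy => by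
    have key : ∀ {a b : G}, σ * a * σ⁻¹ = b → (∀ x, x * a = a * x → y * x = x * y) →
        ∀ x, x * b = b * x → σ * y * σ⁻¹ * x = x * (σ * y * σ⁻¹) := fun {a b} e h x hx => by
      have := h (σ⁻¹ * x * σ) (by
        rw [← e] at hx
        calc σ⁻¹ * x * σ * a = σ⁻¹ * (x * (σ * a * σ⁻¹)) * σ := by group
          _ = _ := by rw [hx]; group)
      calc σ * y * σ⁻¹ * x = σ * (y * (σ⁻¹ * x * σ)) * σ⁻¹ := by group
        _ = _ := by rw [this]; group
    exact mY.2 ⟨key h2 (mY.1 hy).2, key h1 (mY.1 hy).1⟩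
  have hO : ∀ K : Subgroup G, K.Normal → Odd (Nat.card K) → K = ⊥ := fun K hK ho =>
    hK.eq_bot_or_eq_top.resolve_right fun e => by
      have := odd_orderOf ho (e ▸ mem_top D.t)
      rw [D.orderOf_t] at this
      exact absurd this (by decide)
  have hodd : Odd D.H.index := by
    rw [h.H_eq]
    exact H5.odd_index_centralizer_of_conj D.orderOf_t fun u hu => isConj_iff.2
      (h.inv_conj ⟨σ, h1⟩ (sq_of_orderOf_two hu) (ne_one_of_orderOf hu (by decide)))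
  have conj : ∀ s ∈ normalizer (Y : Set G), s * s = 1 → s ≠ 1 →
      ∃ m ∈ normalizer (Y : Set G), m * D.t * m⁻¹ = s := fun s hs hs2 hs1 => by
    obtain ⟨m, hm, e⟩ := exists_conj_mem_of_odd
      (hodd.of_dvd_nat (relIndex_dvd_index_of_le hH)) hs hs2
    by_cases e' : m⁻¹ * s * m = D.t
    · exact ⟨m, hm, by rw [← e']; group⟩
    obtain ⟨k, hk, e⟩ := D.inv_conj e (by simp [mul_assoc, mul_mul_self hs2])
      (by simpa [mul_assoc, inv_mul_eq_iff_eq_mul] using hs1) e'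
    refine ⟨m * k * σ, mul_mem (mul_mem hm (hH hk)) hσ, ?_⟩
    calc m * k * σ * D.t * (m * k * σ)⁻¹ = m * (k * (σ * D.t * σ⁻¹) * k⁻¹) * m⁻¹ := by group
      _ = _ := by rw [h1, e]; group
  have hse : IsStronglyEmbedded (normalizer (Y : Set G)) := by
    refine ⟨fun e => hz1 ?_, even_iff_two_dvd.2 (D.orderOf_t ▸ orderOf_dvd_natCard _ (hH D.t_H)),
      fun g hg => ?_⟩
    · simpa [hO Y (normalizer_eq_top_iff.1 e) hYo] using hzY
    by_contra e
    obtain ⟨⟨s, hs, hs'⟩, ho⟩ := exists_prime_orderOf_dvd_card' 2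
      (even_iff_two_dvd.1 (Nat.not_odd_iff_even.1 e))
    rw [← orderOf_injective _ (subtype_injective _)] at ho
    have hs2 : s * s = 1 := sq_of_orderOf_two ho
    have hs1 : s ≠ 1 := ne_one_of_orderOf ho (by decide)
    obtain ⟨m, hm, e1⟩ := conj s hs hs2 hs1
    obtain ⟨m', hm', e2⟩ := conj _ (mem_map_conj.1 hs') (by simp [mul_assoc, mul_mul_self hs2])
      (by simpa [mul_assoc, inv_mul_eq_iff_eq_mul] using hs1)
    have : m⁻¹ * g * m' ∈ D.H := h _ (by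
      calc m⁻¹ * g * m' * D.t = m⁻¹ * g * (m' * D.t * m'⁻¹) * m' := by group
        _ = _ := by rw [e2, ← e1]; group)
    exact hg (by simpa [mul_assoc] using mul_mem (mul_mem hm (hH this)) (inv_mem hm'))
  have := H26.BR.s1221 hse (le_OC le_normalizer hYo (fun g hg x => conj_mem_of_normalizer hg) hzY)
  exact hz1 (by simpa [hO (oddCore G) inferInstance H17.odd_card_pPrimeCore] using this)

theorem Cfg.dvd_three (h : D.Cfg) : N.m ∣ 3 * Nat.card D.Z := by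
  by_contra hd
  refine hd (h.dvd_three_aux fun a ha hO s hs e => ?_)
  have hT : D.T ≤ centralizer {a} := fun y hy => mem_cent.2 (D.T_comm y hy a ha)
  rcases h.abc' ha (fun g _ hz => hO (mem_Om ha hz)) with e1 | ⟨⟨ρ, hρ, h1, h2⟩, e1 | e1⟩
  · exact e1 ▸ mem_cent.2 e
  · obtain ⟨m, hm, e2⟩ := exists_conj_mem_of_odd (e1.1 ▸ (by decide : Odd 3)) (mem_cent.2 e) hs
    simpa [mul_assoc] using e1.2 m hm _ e2
  · exact absurd (h.fifteen hT e1.1 e1.2.1 e1.2.2 hρ h1 h2) hd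

theorem exists_full {G₀ : Type*} [Group G₀] [Finite G₀] (D₀ : GD G₀ N) (hH : D₀.H = ⊤)
    (hZ : D₀.Z = center G₀) (Z : Subgroup G₀) [Z.Normal] (hZc : Z ≤ center G₀) (hZo : Odd (Nat.card Z))
    {t : G} (ht : orderOf t = 2) (e : centralizer ({t} : Set G) ≃* G₀ ⧸ Z) :
    ∃ D : GD G N, D.Full ∧ ∀ (F : Type _) [Field F], GL2P D₀ F → Nonempty (GL2P D F) := by
  let φ : G₀ →* G := (centralizer {t}).subtype.comp (e.symm.toMonoidHom.comp (QuotientGroup.mk' Z))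
  have hφ : ∀ a, φ a = 1 ↔ a ∈ Z := fun a => by
    simp [φ]
  let D := D₀.mapK φ Z hZo (hZ ▸ hZc) (fun a _ => (hφ a).1) fun a => (hφ a).2
  have hD : D.H = centralizer {t} := by
    change D₀.H.map φ = _
    rw [hH, ← MonoidHom.range_eq_map]
    refine le_antisymm (by rintro _ ⟨a, rfl⟩; exact Subtype.property _) fun g hg => ?_
    obtain ⟨a, ha⟩ := QuotientGroup.mk_surjective (e ⟨g, hg⟩)
    exact ⟨a, by simp [φ, ha]⟩
  have h1 : t = D.t := (D.Z_inv (D.mem_Z_of_comm (hD ▸ mem_cent.2 rfl)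
    (mem_cent.1 (hD ▸ D.u_H)).symm (mem_cent.1 (hD ▸ D.w_mem)).symm) (sq_of_orderOf_two ht)).resolve_left
      (ne_one_of_orderOf ht (by decide))
  exact ⟨D, fun g hg => hD ▸ mem_cent.2 (h1 ▸ hg), fun F _ P => ⟨P.mapK φ Z hZo _ _ _⟩⟩

end GD

theorem gl2_centralizer {G : Type*} [Group G] [Finite G] [IsSimpleGroup G] {F : Type*} [Field F] [Fintype F]
    (hF : Odd (Fintype.card F)) (Z : Subgroup (GL (Fin 2) F)) [Z.Normal] (hZc : Z ≤ center (GL (Fin 2) F))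
    (hZo : Odd (Nat.card Z)) (t : G) (ht : orderOf t = 2)
    (hC : Nonempty (centralizer ({t} : Set G) ≃* (GL (Fin 2) F ⧸ Z))) :
    Nonempty (G ≃* Matrix.ProjectiveSpecialLinearGroup (Fin 3) F) ∨ Nat.card G = 7920 := by
  obtain ⟨e⟩ := hC
  obtain ⟨N, D₀, hε, hq, hH, hZ, ⟨P₀⟩⟩ := exists_GD_gl hF
  obtain ⟨D, h, hP⟩ := GD.exists_full D₀ hH hZ Z hZc hZo ht e
  obtain ⟨P⟩ := hP F P₀
  exact h.cfg.psl3 hε hq P h.cfg.dvd_three

theorem gu2_centralizer {G : Type*} [Group G] [Finite G] [IsSimpleGroup G] {F : Type*} [Field F] [Fintype F]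
    (q : ℕ) (hq : Odd q) (hF : Fintype.card F = q ^ 2) (Z : Subgroup (GU 2 F q)) [Z.Normal]
    (hZc : Z ≤ center (GU 2 F q)) (hZo : Odd (Nat.card Z)) (t : G) (ht : orderOf t = 2)
    (hC : Nonempty (centralizer ({t} : Set G) ≃* (GU 2 F q ⧸ Z))) : Nonempty (G ≃* PSU 3 F q) := by
  obtain ⟨e⟩ := hC
  obtain ⟨N, D₀, hε, rfl, hH, hZ⟩ := exists_GD_gu q hq hF
  obtain ⟨D, h, -⟩ := GD.exists_full.{_, _, 0} D₀ hH hZ Z hZc hZo ht e
  have hg := h.cfg.g_list h.cfg.dvd_three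
  rw [hε] at hg
  refine h.cfg.psu hε h.cfg.dvd_three (h.cfg.cent_W' h.cfg.dvd_three) ?_ F hF
  rcases hg with e | e | e
  exacts [Or.inl (by rw [e]; ring), Or.inr (Or.inl (by rw [e]; ring)), Or.inr (Or.inr e.2)]

end H4
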