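import Mathlib
import Cfsg.Agent.H4.K3SC
import Cfsg.Agent.H19.K3A
import Cfsg.Agent.H26.S01
import Cfsg.Agent.H25.Rank2

/-!
# Solvable `{2,3}`-groups without `E₉`
-/

set_option autoImplicit false
set_option linter.unusedSectionVars false
set_option linter.unusedVariables false

open Cfsg H24 H26 H26.Gold H23.TC H3.B71 Subgroup

namespace H4.K3

universe u

variable {G : Type u} [Group G] [Finite G] {r p a b : ℕ} {A H P Q S T : Subgroup G} {g w x y : G}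

/-- no elementary abelian subgroup of order nine -/
def No9 (H : Subgroup G) : Prop := ∀ B, B ≤ H → IsElementaryAbelian 3 B → ♯B ≤ 3

theorem No9.cyc (h : No9 H) (hT : T ≤ H) (h3 : IsPi {3} T) : Cyc T := by
  refine H25.isCyclic_of_pRankLE_one Nat.prime_three (by norm_num) _ T rfl
    (h3.isPGroup Nat.prime_three) fun B hB he => ?_
  rw [← card_map_of_injective T.subtype_injective]
  refine h _ ((map_subtype_le B).trans hT) ⟨Abl.map hB _, ?_⟩
  rintro _ ⟨x, hx, rfl⟩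
  exact congrArg Subtype.val (he x hx)

theorem mem_zp3 (hy : orderOf y = 3) (hx : x ∈ zpowers y) : x = 1 ∨ x = y ∨ x = y⁻¹ := by
  classical
  rw [mem_zpowers_iff_mem_range_orderOf, hy, Finset.mem_image] at hx
  obtain ⟨k, hk, rfl⟩ := hx
  have h3 : y ^ 3 = 1 := by rw [← hy, pow_orderOf_eq_one]
  rw [Finset.mem_range] at hk
  interval_cases k
  · simp
  · simp
  · exact .inr (.inr (eq_inv_of_mul_eq_one_left (by rw [← pow_succ, h3])))

theorem pi3 (h : orderOf x = 3) : PiElt {3} x := fun q hq hd =>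
  (Nat.prime_dvd_prime_iff_eq hq Nat.prime_three).1 (h ▸ hd)

theorem core (hs : Sol H) (hπ : IsPi {2, 3} H) (h0 : O[{2}, H] = ⊥)
    (hc : ∀ T, T ≤ H → IsPi {3} T → Cyc T) (h1 : H ≠ ⊥) :
    ∃ y ∈ H, orderOf y = 3 ∧ H ≤ N[zpowers y] ∧ (∀ z ∈ H, z ^ 3 = 1 → z ∈ zpowers y) ∧
      ∀ c ∈ H, TwoE c → c * y * c⁻¹ = y → c = 1 := by
  have p3 := Nat.prime_three
  have h2 : O[{3}ᶜ, H] = ⊥ := by
    rw [eq_bot_iff, ← h0]
    refine pcore_max (((pcore_pi _ H).inter (hπ.of_le (pcore_le _ H))).mono ?_) (pcore_nml _ H)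
    rintro q ⟨h3, rfl | h4⟩
    exacts [rfl, absurd h4 h3]
  have hC := cent_sub_pcore p3 hs h2
  have hR := pcore_pi {3} H
  have nR := pcore_nml {3} H
  generalize O[{3}, H] = R at *
  have R1 : R ≠ ⊥ := fun e => h1 (by rw [e, C_bot, inf_top_eq] at hC; exact eq_bot_iff.2 hC)
  obtain ⟨y, hy, ho⟩ := exists_orderOf_eq p3 (hR.dvd_card R1)
  have k : ∀ z ∈ H, z ^ 3 = 1 → z ∈ zpowers y := fun z hz h3 => by
    have hz3 : IsPi {3} (zpowers z) := PiElt.isPi (piElt_of_pow_eq_one (fun _ hr hd =>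
      (Nat.prime_dvd_prime_iff_eq hr p3).1 hd) h3)
    have := hc _ (sup_le nR.le (zpowers_le.2 hz)) (hR.sup hz3 (zpowers_le.2 (nR.norm hz)))
    exact H25.cyc_mem_of_pow_card this (zpowers_le.2 (mem_sup_left hy))
      (mem_sup_right (mem_zpowers z)) (by rw [card_zpowers', ho]; exact h3)
  refine ⟨y, nR.le hy, ho, ?_, k, fun c hcH c2 e => ?_⟩
  · exact H25.cyc_norm (hc R nR.le hR) (zpowers_le.2 hy) nR.norm
  · have h3 := coprime_odd_faithful_Ohm1 (A := zpowers c) p3 hR (zpowers_le.2 (nR.norm hcH))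
      (hR.coprime (c2.isPi.of_mem (by simp))) (by
        obtain ⟨n, hn⟩ := hR.card_eq_pow p3
        rw [hn]; exact Odd.pow (by decide)) (by
        refine cents_symm ((closure_le _).2 fun z hz => ?_)
        exact (zpowers_le.2 (mem_C_iff_le_C1.2 (zpowers_le.2 (mem_C1.2 (comm_of_conj e)))) :
          zpowers y ≤ C[zpowers c]) (k z (nR.le hz.1) hz.2))
    exact (hR.piElt (hC ⟨hcH, h3 (mem_zpowers c)⟩)).eq_one (c2.of_mem (by simp))

theorem quo_core (hs : Sol H) (hπ : IsPi {2, 3} H) (h9 : No9 H) (hx : x ∈ H)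
    (hn : x ∉ O[{2}, H]) :
    ∃ y ∈ quo H O[{2}, H], orderOf y = 3 ∧ quo H O[{2}, H] ≤ N[zpowers y] ∧
      (∀ z ∈ quo H O[{2}, H], z ^ 3 = 1 → z ∈ zpowers y) ∧
      ∀ c ∈ quo H O[{2}, H], TwoE c → c * y * c⁻¹ = y → c = 1 := by
  have nO := (pcore_nml {2} H).norm
  refine core (hs.quo _) (hπ.quo _) (pcore_quo_pcore _ _) (fun T hT h3 => ?_) fun e => ?_
  · obtain ⟨S, hS⟩ := Sylow_exists Nat.prime_three H
    obtain ⟨g, -, e⟩ := Sylow_subJ Nat.prime_three (hS.quo nO) h3 hT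
    exact (((h9.cyc hS.le hS.pi).quo _).cj g).of_le e
  · exact hn ((cs_eq_one (nO hx)).1 (mem_bot.1 (e ▸ cs_mem_quo hx (nO hx))))

/-- a `2`-subgroup is almost contained in `O₂` -/
theorem ix2 (hs : Sol H) (hπ : IsPi {2, 3} H) (h9 : No9 H) (hA : A ≤ H) (h2 : TwoG A) :
    Ix2 O[{2}, H] A := fun s hs' t ht h1 h1' => by
  have nO := (pcore_nml {2} H).norm
  obtain ⟨y, hy, ho, hN, -, k⟩ := quo_core hs hπ h9 (hA hs') h1
  have y1 : y ≠ 1 := ne_one_of_orderOf_prime (ho ▸ Nat.prime_three)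
  have iv : ∀ s ∈ A, s ∉ O[{2}, H] →
      cs O[{2}, H] s * y * (cs O[{2}, H] s)⁻¹ = y⁻¹ := fun s hs hn => by
    have m := cs_mem_quo (hA hs) (nO (hA hs))
    rcases mem_zp3 ho (conj_mem (hN m) (mem_zpowers y)) with e | e | e
    · exact absurd e (conj_ne y1 _)
    · exact absurd ((cs_eq_one (nO (hA hs))).1
        (k _ m ((h2.piElt hs).ap _ (nO (hA hs))) e)) hn
    · exact e
  have hst := hA (mul_mem hs' ht)
  refine (cs_eq_one (nO hst)).1 (k _ (cs_mem_quo hst (nO hst))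
    ((h2.piElt (mul_mem hs' ht)).ap _ (nO hst)) ?_)
  rw [cs, ap_mul _ (nO (hA hs')) (nO (hA ht))]
  have e1 := iv s hs' h1
  have e2 := iv t ht h1'
  simp only [cs] at e1 e2
  generalize ap (coset O[{2}, H]) s = σ at *
  generalize ap (coset O[{2}, H]) t = τ at *
  calc σ * τ * y * (σ * τ)⁻¹ = (σ * (τ * y * τ⁻¹)⁻¹ * σ⁻¹)⁻¹ := by group
    _ = y := by rw [e2, inv_inv, e1, inv_inv]

/-- a `2`-subgroup normalised by an element of order three lies in `O₂` -/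
theorem le_O2 (hs : Sol H) (hπ : IsPi {2, 3} H) (h9 : No9 H) (hA : A ≤ H) (h2 : TwoG A)
    (hx : x ∈ H) (h3 : orderOf x = 3) (hn : x ∈ N[A]) : A ≤ O[{2}, H] := fun s hs' => by
  have nO := (pcore_nml {2} H).norm
  have x3 : PiElt {3} x := pi3 h3
  have xO : x ∉ O[{2}, H] := fun e => ne_one_of_orderOf_prime (h3 ▸ Nat.prime_three)
    (x3.eq_one (((pcore_pi _ H).piElt e).of_mem (by simp)))
  obtain ⟨y, hy, ho, hN, k0, k⟩ := quo_core hs hπ h9 hx xO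
  have mx := cs_mem_quo hx (nO hx)
  have ms := cs_mem_quo (hA hs') (nO (hA hs'))
  have h4 := k0 _ mx (by rw [cs, ← ap_pow _ (nO hx), ← h3, pow_orderOf_eq_one, ap_one])
  have s2 := (h2.piElt hs').ap (coset O[{2}, H]) (nO (hA hs'))
  have hc : s⁻¹ * (x * s * x⁻¹) ∈ A := mul_mem (inv_mem hs') (conj_mem hn hs')
  have c2 := (h2.piElt hc).ap (coset O[{2}, H]) (nO (hA hc))
  rw [ap_mul _ (nO (hA (inv_mem hs'))) (nO (hA (conj_mem hn hs'))),
    ap_mul _ (nO (mul_mem hx (hA hs'))) (nO (inv_mem hx)), ap_mul _ (nO hx) (nO (hA hs')),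
    ap_inv _ (nO hx), ap_inv _ (nO (hA hs'))] at c2
  have x1 := mt (cs_eq_one (nO hx)).1 xO
  refine (cs_eq_one (nO (hA hs'))).1 (k _ ms s2 ?_)
  simp only [cs] at *
  generalize ap (coset O[{2}, H]) s = σ at *
  generalize ap (coset O[{2}, H]) x = ξ at *
  have m : σ⁻¹ * (ξ * σ * ξ⁻¹) ∈ zpowers y := by
    rw [show σ⁻¹ * (ξ * σ * ξ⁻¹) = σ⁻¹ * ξ * σ * ξ⁻¹ by group]
    exact mul_mem (conj_mem' (hN ms) h4) (inv_mem h4)
  have y3 : PiElt {3} y := pi3 ho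
  have e := (y3.of_mem_zpowers m).eq_one (c2.of_mem (by simp))
  have e' : σ * ξ * σ⁻¹ = ξ := by
    calc σ * ξ * σ⁻¹ = σ * (σ⁻¹ * (ξ * σ * ξ⁻¹)) * ξ * σ⁻¹ := by rw [e, mul_one]
      _ = ξ := by group
  rcases mem_zp3 ho h4 with e1 | rfl | rfl
  · exact absurd e1 x1
  · exact e'
  · simpa [mul_assoc] using congrArg (·⁻¹) e'

theorem pi23 (h : H18.K3.KT G p a b) (hH : ¬ p ∣ ♯H) : IsPi {2, 3} H := fun q hq hd => by
  have h1 : q ∣ p * 3 ^ a * 2 ^ b := h.card ▸ hd.trans (card_subgroup_dvd_card H)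
  rcases (Nat.Prime.dvd_mul hq).1 h1 with h1 | h1
  · rcases (Nat.Prime.dvd_mul hq).1 h1 with h1 | h1
    · exact absurd ((Nat.prime_dvd_prime_iff_eq hq h.prime).1 h1 ▸ hd) hH
    · exact .inr ((Nat.prime_dvd_prime_iff_eq hq Nat.prime_three).1 (hq.dvd_of_dvd_pow h1))
  · exact .inl ((Nat.prime_dvd_prime_iff_eq hq Nat.prime_two).1 (hq.dvd_of_dvd_pow h1))

theorem ndvd (h : H18.K3.KT G p a b) (hw : Inv w) : ¬ p ∣ ♯C{w} :=
  h.not_dvdC hw.1 (by
    rw [ord2 hw.1 hw.2]; exact fun e => absurd (Nat.le_of_dvd two_pos e) (by have := h.five; omega))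

theorem no9 (h3 : H19.K3.Mx 3 G) (hw : Inv w) : No9 C{w} :=
  fun B hB he => h3 w B (ord2 hw.1 hw.2) he hB

theorem thin_ix2 (h : H18.K3.KT G p a b) (h3 : H19.K3.Mx 3 G) (hw : Inv w) (hA : A ≤ C{w})
    (h2 : TwoG A) : Ix2 O[{2}, C{w}] A :=
  ix2 (h.sol (ndvd h hw)) (pi23 h (ndvd h hw)) (no9 h3 hw) hA h2

theorem thin_le_O2 (h : H18.K3.KT G p a b) (h3 : H19.K3.Mx 3 G) (hw : Inv w) (hA : A ≤ C{w})
    (h2 : TwoG A) (hx : x ∈ C{w}) (ho : orderOf x = 3) (hn : x ∈ N[A]) : A ≤ O[{2}, C{w}] :=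
  le_O2 (h.sol (ndvd h hw)) (pi23 h (ndvd h hw)) (no9 h3 hw) hA h2 hx ho hn

/-- the strongly closed subgroup in the thin case -/
theorem thin_sc (h : H18.K3.KT G p a b) (h3 : H19.K3.Mx 3 G) (hQ : Hy r Q) (S : Sylow 2 G)
    (hle : Q ≤ S) : IsStronglyClosed Q (S : Subgroup G) :=
  hQ.sc (fun T hT h1 => h.loc2 hT h1) (fun w hw A hA he => thin_ix2 h h3 hw hA he.two)
    (isPi_of_isPGroup p2 S.isPGroup') hle

end H4.K3
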