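import Mathlib
import Cfsg.Agent.H20.So0

/-! Transport of permutations along embeddings, and small tools for the pin group. -/

set_option autoImplicit false
set_option linter.all false

open Subgroup Equiv Equiv.Perm H5.Ly H20.So
open scoped commutatorElement

namespace H4.So

variable {n m : ℕ}

/-- transport along an embedding -/
noncomputable def via (f : Fin m ↪ Fin n) : Perm (Fin m) →* Perm (Fin n) := viaEmbeddingHom f

theorem via_ap (f : Fin m ↪ Fin n) (μ : Perm (Fin m)) (i : Fin m) : via f μ (f i) = f (μ i) :=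
  viaEmbedding_apply μ f i

theorem via_out (f : Fin m ↪ Fin n) (μ : Perm (Fin m)) {x : Fin n} (h : ∀ i, f i ≠ x) : via f μ x = x :=
  viaEmbedding_apply_of_notMem μ f x fun ⟨i, hi⟩ => h i hi

theorem via_inj (f : Fin m ↪ Fin n) : Function.Injective (via f) := viaEmbeddingHom_injective f

theorem via_sign (f : Fin m ↪ Fin n) (μ : Perm (Fin m)) : sign (via f μ) = sign μ := by
  exact @sign_extendDomain _ _ _ _ _ _ μ _ (fun a => Classical.propDecidable _) _

theorem via_card (f : Fin m ↪ Fin n) (μ : Perm (Fin m)) : (via f μ).support.card = μ.support.card := by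
  exact @card_support_extend_domain _ _ _ _ _ _ _ (fun a => Classical.propDecidable _) _ μ

theorem ext_via (f : Fin m ↪ Fin n) {σ τ : Perm (Fin n)} (h1 : ∀ i, σ (f i) = τ (f i))
    (h2 : ∀ x, (∀ i, f i ≠ x) → σ x = τ x) : σ = τ := Equiv.ext fun x => by
  by_cases h : ∃ i, f i = x
  · obtain ⟨i, rfl⟩ := h; exact h1 i
  · exact h2 x fun i hi => h ⟨i, hi⟩

theorem via_swap (f : Fin m ↪ Fin n) (i j : Fin m) : via f (swap i j) = swap (f i) (f j) :=
  ext_via f (fun k => by rw [via_ap, f.injective.map_swap]) fun x hx => by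
    rw [via_out f _ hx, swap_apply_of_ne_of_ne (hx i).symm (hx j).symm]

theorem via_conj (f : Fin m ↪ Fin n) (μ : Perm (Fin m)) (ρ : Perm (Fin n)) :
    ρ * via f μ * ρ⁻¹ = via (f.trans ρ.toEmbedding) μ := by
  rw [mul_inv_eq_iff_eq_mul]
  refine ext_via f (fun i => ?_) fun x hx => ?_
  · rw [mul_apply, mul_apply, via_ap]; exact (via_ap (f.trans ρ.toEmbedding) μ i).symm
  · rw [mul_apply, mul_apply, via_out f _ hx, via_out _ _ fun i hi => hx i (ρ.injective hi)]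

theorem via_comm (f : Fin m ↪ Fin n) {σ : Perm (Fin n)} {s μ : Perm (Fin m)} (h : ∀ i, σ (f i) = f (s i))
    (hμ : s * μ = μ * s) : σ * via f μ = via f μ * σ :=
  ext_via f (fun i => by rw [mul_apply, mul_apply, via_ap, h, h, via_ap, ← mul_apply, hμ, mul_apply]) fun x hx => by
    rw [mul_apply, mul_apply, via_out f _ hx, via_out f _ fun i hi => hx (s⁻¹ i) (σ.injective (by
      rw [h, ← hi]; simp))]

theorem t8_via (f : Fin m ↪ Fin n) {μ : Perm (Fin m)} (h : T8 μ) : T8 (via f μ) :=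
  ⟨by rw [← map_mul, h.1, map_one], by rw [via_card, h.2]⟩

theorem nb_via (f : Fin m ↪ Fin n) {μ ν : Perm (Fin m)} (h : Nb μ ν) : Nb (via f μ) (via f ν) :=
  ⟨t8_via f h.1, t8_via f h.2.1, map_mul (via f) μ ν ▸ t8_via f h.2.2.1, by rw [← map_mul, h.2.2.2, map_mul]⟩

instance (σ : Perm (Fin n)) : Decidable (T8 σ) := inferInstanceAs (Decidable (_ ∧ _))
instance (σ τ : Perm (Fin n)) : Decidable (Nb σ τ) := inferInstanceAs (Decidable (_ ∧ _))
instance (σ τ : Perm (Fin n)) : Decidable (Fx σ τ) := inferInstanceAs (Decidable (∀ _, _))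

theorem inv_ct {σ : Perm (Fin n)} (h : σ * σ = 1) :
    ∃ k, σ.cycleType = Multiset.replicate k 2 ∧ σ.support.card = 2 * k ∧ sign σ = (-1) ^ k := by
  have k : ∃ k, σ.cycleType = Multiset.replicate k 2 := by
    by_cases h1 : σ = 1
    · exact ⟨0, by simp [h1]⟩
    · obtain ⟨k, hk⟩ := cycleType_prime_order (σ := σ) (iv_of h h1 ▸ Nat.prime_two)
      exact ⟨_, iv_of h h1 ▸ hk⟩
  obtain ⟨k, hk⟩ := k
  refine ⟨k, hk, by rw [← sum_cycleType, hk]; simp [mul_comm], ?_⟩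
  rw [sign_of_cycleType', hk]; simp

theorem t8_isConj {σ τ : Perm (Fin n)} (hσ : T8 σ) (hτ : T8 τ) : ∃ ρ, ρ * σ * ρ⁻¹ = τ := by
  obtain ⟨k, h1, h2, -⟩ := inv_ct hσ.1
  obtain ⟨l, h3, h4, -⟩ := inv_ct hτ.1
  rw [hσ.2] at h2
  rw [hτ.2] at h4
  exact isConj_iff.1 (isConj_iff_cycleType_eq.2 (by rw [h1, h3, show k = l by omega]))

/-- the standard involution -/
def t0 : Perm (Fin 8) := swap 0 1 * swap 2 3 * (swap 4 5 * swap 6 7)

theorem t8_t0 : T8 t0 := by decide +kernel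

theorem t8_std {τ : Perm (Fin n)} (h : T8 τ) : ∃ f : Fin 8 ↪ Fin n, τ = via f t0 := by
  have hn : 8 ≤ n := by simpa [h.2] using τ.support.card_le_univ
  obtain ⟨ρ, hρ⟩ := t8_isConj (t8_via (Fin.castLEEmb hn) t8_t0) h
  exact ⟨_, hρ.symm.trans (via_conj _ _ _)⟩

theorem t0_ne : ∀ i, t0 i ≠ i := by decide +kernel

theorem mv_iff (f : Fin 8 ↪ Fin n) (x : Fin n) : via f t0 x ≠ x ↔ ∃ i, f i = x :=
  ⟨fun h => by_contra fun k => h (via_out f _ fun i hi => k ⟨i, hi⟩),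
    by rintro ⟨i, rfl⟩; rw [via_ap]; exact f.injective.ne (t0_ne i)⟩

theorem two_vv (x : PP n) {i j k l : Fin n} (h : i ≠ j) (h' : k ≠ l) :
    x * (vv h * vv h') = vv ((pr x).injective.ne h) * vv ((pr x).injective.ne h') * x := by
  rcases Int.units_eq_one_or (sign (pr x)) with e | e
  · rw [← mul_assoc, even_vv e, mul_assoc, even_vv e, mul_assoc]
  · rw [← mul_assoc, odd_vv e, mul_assoc, mul_assoc, odd_vv e, ← mul_assoc (vv _) zz, ← zz_comm, mul_assoc zz,
      ← mul_assoc zz zz, zz_mul_zz, one_mul, mul_assoc]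

theorem vv_anti {a b c d : Fin n} (hab : a ≠ b) (hcd : c ≠ d) (hac : a ≠ c)
    (had : a ≠ d) (hbc : b ≠ c) (hbd : b ≠ d) : vv hcd * vv hab = zz * (vv hab * vv hcd) := by
  rw [odd_vv (by simp [hcd]) hab, vv_congr ((pr (vv hcd)).injective.ne hab) hab
    (swap_apply_of_ne_of_ne hac had) (swap_apply_of_ne_of_ne hbc hbd)]

theorem vv_flip {x : PP n} (hq : ∀ a, pr x (pr x a) = a) {a : Fin n} (ha : a ≠ pr x a) :
    vv ((pr x).injective.ne ha) = zz * vv ha := by
  rw [← vv_symm ha]; exact vv_congr _ _ rfl (hq a)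

theorem blk_comm {x : PP n} (hq : ∀ a, pr x (pr x a) = a) {a c : Fin n} (ha : a ≠ pr x a) (hc : c ≠ pr x c) :
    x * (vv ha * vv hc) = vv ha * vv hc * x := by
  rw [two_vv, vv_flip hq ha, vv_flip hq hc, mul_assoc zz, ← mul_assoc (vv ha), ← zz_comm, ← mul_assoc, ← mul_assoc,
    zz_mul_zz, one_mul]

theorem fix_comm {x : PP n} {a b c d : Fin n} (hab : a ≠ b) (hcd : c ≠ d) (ha : pr x a = a) (hb : pr x b = b)
    (hc : pr x c = c) (hd : pr x d = d) : x * (vv hab * vv hcd) = vv hab * vv hcd * x := by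
  rw [two_vv, vv_congr _ hab ha hb, vv_congr _ hcd hc hd]

theorem q8 {x y : PP n} (hx : x * x = zz) (hy : y * y = zz) (h : x * y * (x * y) = zz) : ⁅x, y⁆ = zz := by
  have k : ∀ {x : PP n}, x * x = zz → x⁻¹ = zz * x := fun {x} hx =>
    inv_eq_of_mul_eq_one_left (by rw [mul_assoc, hx, zz_mul_zz])
  rw [commutatorElement_def, k hx, k hy, mul_assoc (x * y), mul_assoc zz, ← mul_assoc x zz, ← zz_comm,
    mul_assoc zz, ← mul_assoc zz zz, zz_mul_zz, one_mul, h]

theorem sq_ap {σ : Perm (Fin n)} (h : σ * σ = 1) (a : Fin n) : σ (σ a) = a := by rw [← mul_apply, h, one_apply]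

theorem pick {σ : Perm (Fin n)} (s : Finset (Fin n)) (h : s.card < σ.support.card) : ∃ x, σ x ≠ x ∧ x ∉ s :=
  let ⟨x, h1, h2⟩ := Finset.exists_mem_notMem_of_card_lt_card h
  ⟨x, mem_support.1 h1, h2⟩

theorem pick4 (s : Finset (Fin n)) (h : s.card + 4 ≤ n) : ∃ a b c d, a ∉ s ∧ b ∉ s ∧ c ∉ s ∧ d ∉ s ∧
    a ≠ b ∧ a ≠ c ∧ a ≠ d ∧ b ≠ c ∧ b ≠ d ∧ c ≠ d := by
  have : 3 < sᶜ.card := by rw [Finset.card_compl, Fintype.card_fin]; omega
  simpa using Finset.three_lt_card_iff.1 this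

theorem third {σ : Perm (Fin n)} (h6 : 5 ≤ σ.support.card) (a c : Fin n) :
    ∃ d, σ d ≠ d ∧ d ≠ a ∧ d ≠ σ a ∧ d ≠ c ∧ d ≠ σ c := by
  simpa using pick {a, σ a, c, σ c} (lt_of_le_of_lt Finset.card_le_four h6)

theorem odd_fix {η : Perm (Fin n)} (ho : Odd (orderOf η)) {a : Fin n} (h : η (η a) = a) : η a = a := by
  obtain ⟨k, hk⟩ := ho
  have h1 : ((η * η) ^ k) a = a := pow_apply_eq_self_of_apply_eq_self (f := η * η) h k
  have h2 := pow_orderOf_eq_one η
  rw [hk, pow_succ', pow_mul, pow_two] at h2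
  rw [← h1, ← mul_apply, h2, h1, one_apply]

end H4.So
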