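import Mathlib
import Cfsg.Agent.H27.K3A0
import Cfsg.Agent.H23.Components
import Cfsg.Agent.H2.Quaternion
import Cfsg.Agent.S0095
import Cfsg.Prelude.Def_ClassificationK

/-!
# From the ambient form of symplectic type to the intrinsic one
-/

set_option autoImplicit false
set_option linter.unusedSectionVars false
set_option linter.unusedVariables false

open Cfsg H24 H26 H26.Gold H23.TC Subgroup

namespace H4.K3

universe u

variable {G : Type u} [Group G] [Finite G] {z : G}

theorem fs_eq (h : C{z} ⊓ C[O[{2}, C{z}]] ≤ O[{2}, C{z}]) :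
    generalizedFittingSubgroup C{z} = pCore 2 C{z} := by
  haveI : Fact (Nat.Prime 2) := ⟨p2⟩
  refine H23.fstar_eq_pCore_iff.2 fun g hg => ?_
  rw [pcore_singleton p2] at h
  obtain ⟨k, hk, e⟩ := h (x := g.1) ⟨g.2, mem_C.2 (by
    rintro _ ⟨k, hk, rfl⟩
    exact congrArg Subtype.val (mem_centralizer_iff.1 hg k hk))⟩
  rwa [← show k = g from Subtype.ext e]

theorem fs_card (h : C{z} ⊓ C[O[{2}, C{z}]] ≤ O[{2}, C{z}]) :
    Nat.card (generalizedFittingSubgroup C{z}) = ♯O[{2}, C{z}] := by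
  rw [fs_eq h, pcore_singleton p2, card_map_of_injective (subtype_injective _)]

theorem fs_sympl (h : C{z} ⊓ C[O[{2}, C{z}]] ≤ O[{2}, C{z}])
    (hs : ∀ X : Subgroup G, X ≤ O[{2}, C{z}] → EA X → C{z} ≤ N[X] → ♯X ≤ 2) :
    IsOfSymplecticType (generalizedFittingSubgroup C{z}) := by
  haveI : Fact (Nat.Prime 2) := ⟨p2⟩
  have h2 : IsPGroup 2 (generalizedFittingSubgroup C{z}) :=
    H23.fstar_eq_pCore_iff_isPGroup.1 (fs_eq h)
  refine ⟨h2, fun A hA hA' => ?_⟩
  set A1 := A.map (generalizedFittingSubgroup C{z}).subtype with hA1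
  have hn : A1.Normal := ConjAct.normal_of_characteristic_of_normal
  have hN : A1.map (C{z}).subtype ⊴ C{z} := nml_map_subtype A1
  have hab : Abl (A1.map (C{z}).subtype) := Abl.map (Abl.map hA' _) _
  have hle : A1.map (C{z}).subtype ≤ O[{2}, C{z}] := by
    rw [pcore_singleton p2, ← fs_eq h]; exact map_mono (map_subtype_le A)
  have hc := hs _ ((Om_le _).trans hle) (ea_Om hab) (hN.norm.trans (N_le_N_Om _))
  have key : ∀ v : A, v ^ 2 = 1 → (v.1.1 : G) ∈ Om (A1.map (C{z}).subtype) := fun v hv =>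
    mem_Om' ⟨v.1.1, ⟨v.1, v.2, rfl⟩, rfl⟩ (by
      rw [pow_two] at hv
      exact congrArg (fun w : A => (w.1.1 : G)) hv)
  refine H2.UniqueOrderP.isCyclic_of_comm (p := 2) (h2.to_subgroup A) fun x y x1 hx hy => ?_
  have x1' : (x.1.1 : G) ≠ 1 := fun e => x1 (Subtype.ext (Subtype.ext (Subtype.ext e)))
  have x2 := (ea_Om hab).sq (key x hx)
  have e := eq_of_card_ge (zpowers_le.2 (key x hx)) (by rw [card_zpowers', ord2 x1' x2]; exact hc)
  rcases (mem_zp x2).1 (e ▸ key y hy) with e | e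
  · rw [show y = 1 from Subtype.ext (Subtype.ext (Subtype.ext e))]; exact one_mem _
  · rw [show y = x from Subtype.ext (Subtype.ext (Subtype.ext e))]
    exact mem_zpowers x

theorem sy_out (ht : H27.K3A.Th G) (h : H27.K3A.Sy z) : orderOf z = 2 ∧
    IsOfSymplecticType (generalizedFittingSubgroup C{z}) ∧
      (¬ IsExtraspecial 2 (generalizedFittingSubgroup C{z}) ∨
        Nat.card (generalizedFittingSubgroup C{z}) = 32 ∨
        Nat.card (generalizedFittingSubgroup C{z}) = 128 ∨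
        Nat.card (generalizedFittingSubgroup C{z}) = 512) := by
  haveI : Fact (Nat.Prime 2) := ⟨p2⟩
  obtain ⟨z1, z2, hs, hc⟩ := h
  have hl := ht.loc z z1 z2
  refine ⟨ord2 z1 z2, fs_sympl hl hs, ?_⟩
  rw [← fs_card hl] at hc
  rcases hc with e | e | e
  · exact .inr (.inl e)
  · refine .inl fun hE => ?_
    obtain ⟨n, -, hn⟩ := Cfsg.Agent.S0095.result hE
    have : 6 = 2 * n + 1 := Nat.pow_right_injective (le_refl 2) (e.symm.trans hn)
    omega
  · exact .inr (.inr (.inl e))

end H4.K3
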