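import Cfsg.Agent.H4.GD3
import Cfsg.Agent.H5.SIrr

/-!
Generalized characters of norm three induced from linear characters, and the class sum formula.
-/

set_option autoImplicit false

open Cfsg H4

namespace H4.LT

open Subgroup H5 Finset
open scoped ComplexConjugate Classical

variable {G : Type*} [Group G]

/-- `lam` is a linear character of `C`. -/
structure Lin (C : Subgroup G) (lam : G → ℂ) : Prop where
  one : lam 1 = 1
  mul : ∀ a ∈ C, ∀ b ∈ C, lam (a * b) = lam a * lam b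

namespace Lin

variable {C : Subgroup G} {lam mu : G → ℂ}

theorem mul_inv (h : Lin C lam) {a : G} (ha : a ∈ C) : lam a * lam a⁻¹ = 1 := by
  rw [← h.mul a ha _ (inv_mem ha), mul_inv_cancel, h.one]
theorem ne_zero (h : Lin C lam) {a : G} (ha : a ∈ C) : lam a ≠ 0 := left_ne_zero_of_mul_eq_one (h.mul_inv ha)
theorem inv (h : Lin C lam) {a : G} (ha : a ∈ C) : lam a⁻¹ = (lam a)⁻¹ :=
  eq_inv_of_mul_eq_one_right (h.mul_inv ha)
theorem pow (h : Lin C lam) {a : G} (ha : a ∈ C) (k : ℕ) : lam (a ^ k) = lam a ^ k := by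
  induction k with
  | zero => simp [h.one]
  | succ k ih => rw [pow_succ, h.mul _ (pow_mem ha k) a ha, ih, pow_succ]
theorem mono (h : Lin C lam) {K : Subgroup G} (hK : K ≤ C) : Lin K lam :=
  ⟨h.one, fun a ha b hb => h.mul a (hK ha) b (hK hb)⟩
theorem const (C : Subgroup G) : Lin C fun _ => 1 := ⟨rfl, by simp⟩
theorem mul' (h : Lin C lam) (h' : Lin C mu) : Lin C fun g => lam g * mu g :=
  ⟨by simp [h.one, h'.one], fun a ha b hb => by rw [h.mul a ha b hb, h'.mul a ha b hb]; ring⟩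
theorem inv' (h : Lin C lam) : Lin C fun g => (lam g)⁻¹ :=
  ⟨by simp [h.one], fun a ha b hb => by rw [h.mul a ha b hb, _root_.mul_inv]⟩
theorem comp (h : Lin C lam) {K : Subgroup G} {f : G → G} (h1 : f 1 = 1) (hf : ∀ a ∈ K, f a ∈ C)
    (hm : ∀ a ∈ K, ∀ b ∈ K, f (a * b) = f a * f b) : Lin K fun g => lam (f g) :=
  ⟨by simp [h1, h.one], fun a ha b hb => by rw [hm a ha b hb, h.mul _ (hf a ha) _ (hf b hb)]⟩
theorem conj_mem (h : Lin C lam) {a b : G} (ha : a ∈ C) (hb : b ∈ C) : lam (a⁻¹ * b * a) = lam b := by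
  rw [h.mul _ (mul_mem (inv_mem ha) hb) a ha, h.mul _ (inv_mem ha) b hb, h.inv ha]
  field_simp [h.ne_zero ha]

theorem irr (h : Lin C lam) : IsIrrCharacter C fun c : C => lam c :=
  isIrrCharacter_monoidHom (G := C) ⟨⟨fun c => lam c, h.one⟩, fun a b => h.mul a a.2 b b.2⟩

theorem conj_eq [Finite G] (h : Lin C lam) {a : G} (ha : a ∈ C) : conj (lam a) = (lam a)⁻¹ := by
  rw [← h.inv ha]; exact (h.irr.apply_inv ⟨a, ha⟩).symm

theorem eq_one_of_odd (h : Lin C lam) {a : G} (ha : a ∈ C) (ho : Odd (orderOf a)) (h2 : lam a ^ 2 = 1) :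
    lam a = 1 := by
  obtain ⟨k, hk⟩ := ho
  have := h.pow ha (orderOf a)
  rwa [pow_orderOf_eq_one, h.one, hk, pow_succ, pow_mul, h2, one_pow, one_mul, eq_comm] at this

end Lin

theorem exists_lin [Finite G] {C K : Subgroup G} (hK : K ≤ C)
    (hc : ∀ a ∈ C, ∀ b ∈ C, a * b * a⁻¹ * b⁻¹ ∈ K) {c : G} (hcC : c ∈ C) (hcK : c ∉ K) :
    ∃ lam, Lin C lam ∧ (∀ k ∈ K, lam k = 1) ∧ lam c ≠ 1 := by
  haveI hN : (K.subgroupOf C).Normal := ⟨fun x hx g => by
    simpa [mem_subgroupOf] using mul_mem (hc g g.2 x x.2) hx⟩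
  letI : CommGroup (C ⧸ K.subgroupOf C) := { (inferInstance : Group (C ⧸ K.subgroupOf C)) with
    mul_comm := by
      rintro ⟨a⟩ ⟨b⟩
      refine QuotientGroup.eq.2 ?_
      simpa [mem_subgroupOf, mul_assoc] using hc _ (inv_mem b.2) _ (inv_mem a.2) }
  obtain ⟨φ, hφ⟩ := CommGroup.exists_apply_ne_one_of_hasEnoughRootsOfUnity (C ⧸ K.subgroupOf C) ℂ
    (a := (⟨c, hcC⟩ : C)) (fun h => hcK ((QuotientGroup.eq_one_iff (N := K.subgroupOf C) ⟨c, hcC⟩).1 h))
  refine ⟨fun g => if h : g ∈ C then (φ (⟨g, h⟩ : C) : ℂ) else 0, ⟨?_, fun a ha b hb => ?_⟩,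
    fun k hk => ?_, ?_⟩
  · simp only [one_mem, dite_true]
    rw [show ((⟨1, one_mem _⟩ : C) : C ⧸ K.subgroupOf C) = 1 from rfl]; simp
  · simp only [ha, hb, mul_mem ha hb, dite_true]
    rw [← Units.val_mul, ← map_mul]; rfl
  · simp only [hK hk, dite_true]
    rw [(QuotientGroup.eq_one_iff (⟨k, hK hk⟩ : C)).2 hk]; simp
  · simpa [hcC] using hφ

variable [Fintype G]

/-- The elements of a subgroup. -/
noncomputable def fs (C : Subgroup G) : Finset G := univ.filter (· ∈ C)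

@[simp] theorem mem_fs {C : Subgroup G} {g : G} : g ∈ fs C ↔ g ∈ C := by simp [fs]

theorem sum_fs (C : Subgroup G) (F : G → ℂ) : ∑ c : C, F c = ∑ c ∈ fs C, F c :=
  (Finset.sum_subtype (fs C) (fun _ => mem_fs) F).symm

theorem card_fs (C : Subgroup G) : (fs C).card = Nat.card C := by
  rw [Nat.card_eq_fintype_card, Fintype.card_of_subtype (fs C) fun _ => mem_fs]

theorem sum_fs_const (C : Subgroup G) (c : ℂ) : ∑ _c ∈ fs C, c = Nat.card C * c := by
  rw [sum_const, card_fs, nsmul_eq_mul]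

theorem Lin.sum_eq_zero {C : Subgroup G} {lam : G → ℂ} (h : Lin C lam) {c : G} (hc : c ∈ C)
    (h1 : lam c ≠ 1) : ∑ a ∈ fs C, lam a = 0 := by
  have : ∑ a ∈ fs C, lam a = lam c * ∑ a ∈ fs C, lam a := by
    rw [mul_sum]
    refine (sum_bij' (fun a _ => c * a) (fun a _ => c⁻¹ * a) ?_ ?_ ?_ ?_ ?_).symm
    · exact fun a ha => mem_fs.2 (mul_mem hc (mem_fs.1 ha))
    · exact fun a ha => mem_fs.2 (mul_mem (inv_mem hc) (mem_fs.1 ha))
    · simp
    · simp
    · exact fun a ha => (h.mul c hc a (mem_fs.1 ha)).symm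
  by_contra h0
  exact h1 (mul_right_cancel₀ h0 (by rw [one_mul, ← this]))

/-- Induction of the restriction of `f` to `C`. -/
noncomputable def ind (C : Subgroup G) (f : G → ℂ) : G → ℂ := indFun C fun c : C => f c

theorem ext0_apply (C : Subgroup G) (f : G → ℂ) (g : G) :
    extendByZero C (fun c : C => f c) g = if g ∈ C then f g else 0 := by
  rw [extendByZero_eq_dite]; split_ifs <;> rfl

theorem ind_apply (C : Subgroup G) (f : G → ℂ) (g : G) :
    ind C f g = (Nat.card C : ℂ)⁻¹ * ∑ x, if x⁻¹ * g * x ∈ C then f (x⁻¹ * g * x) else 0 := by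
  simp only [ind, indFun_apply, ext0_apply]

theorem ind_eq_zero {C : Subgroup G} {f : G → ℂ} {g : G}
    (h : ∀ x, x⁻¹ * g * x ∈ C → f (x⁻¹ * g * x) = 0) : ind C f g = 0 := by
  rw [ind_apply, sum_eq_zero, mul_zero]
  intro x _
  split_ifs with h1
  exacts [h x h1, rfl]

theorem ind_loc {C M : Subgroup G} {f : G → ℂ} {g : G}
    (h : ∀ x, x⁻¹ * g * x ∈ C → f (x⁻¹ * g * x) ≠ 0 → x ∈ M) (h' : ∀ x ∈ M, x⁻¹ * g * x ∈ C) :
    ind C f g = (Nat.card C : ℂ)⁻¹ * ∑ x ∈ fs M, f (x⁻¹ * g * x) := by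
  rw [ind_apply, fs, sum_filter]
  congr 1
  refine sum_congr rfl fun x _ => ?_
  by_cases hx : x ∈ M
  · simp [hx, h' x hx]
  · rw [if_neg hx]
    split_ifs with h1
    · by_contra h2; exact hx (h x h1 h2)
    · rfl

theorem ind_classFun (C : Subgroup G) (f : G → ℂ) : IsClassFunction G (ind C f) := indFun_classFun _ _

theorem ind_sub (C : Subgroup G) (f f' : G → ℂ) : ind C (fun g => f g - f' g) = ind C f - ind C f' :=
  indFun_sub C (fun c : C => f c) fun c : C => f' c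

theorem Lin.gen {C : Subgroup G} {lam : G → ℂ} (h : Lin C lam) : IsGeneralizedCharacter G (ind C lam) :=
  h.irr.isGen.indFun

theorem inner_ind (C : Subgroup G) (f : G → ℂ) {χ : G → ℂ} (hχ : IsClassFunction G χ) :
    classInner (ind C f) χ = (Nat.card C : ℂ)⁻¹ * ∑ c ∈ fs C, f c * conj (χ c) := by
  rw [ind, classInner_indFun_left _ _ hχ, classInner_def, sum_fs C fun c => f c * conj (χ c)]

theorem sum_cl_ind (C : Subgroup G) (f : G → ℂ) (t : G) :
    ∑ a ∈ cl t, ∑ b ∈ cl t, ind C f (a * b) =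
      C.index * ∑ a ∈ cl t, ∑ b ∈ cl t, if a * b ∈ C then f (a * b) else 0 := by
  simp only [ind, sum_cl_cl_indFun, ext0_apply]

theorem sum_ext2 {C : Subgroup G} {w : G} {hw : w * w = 1} {h : ∀ y ∈ C, w * y * w ∈ C} (hwC : w ∉ C)
    (F : G → ℂ) : ∑ x ∈ fs (ext2 C w hw h), F x = ∑ c ∈ fs C, F c + ∑ c ∈ fs C, F (c * w) := by
  have e : fs (ext2 C w hw h) = fs C ∪ (fs C).image (· * w) := by
    ext x
    simp only [mem_fs, mem_ext2, mem_union, mem_image]
    refine or_congr_right ⟨fun hx => ⟨_, hx, by rw [mul_assoc, hw, mul_one]⟩, ?_⟩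
    rintro ⟨c, hc, rfl⟩
    rwa [mul_assoc, hw, mul_one]
  rw [e, sum_union, sum_image (fun a _ b _ h => mul_right_cancel h)]
  rw [disjoint_left]
  intro x hx hx'
  obtain ⟨c, hc, rfl⟩ := mem_image.1 hx'
  exact hwC ((mul_mem_cancel_left (mem_fs.1 hc)).1 (mem_fs.1 hx))

/-- The hypotheses of `Lemma T`. -/
structure THyp (C : Subgroup G) (w : G) (lam : G → ℂ) : Prop where
  sq : w * w = 1
  norm : ∀ y ∈ C, w * y * w ∈ C
  nmem : w ∉ C
  lin : Lin C lam
  inv : ∀ c ∈ C, lam (w * c * w) = (lam c)⁻¹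
  ne : ∃ c ∈ C, lam c ^ 2 ≠ 1
  ti : ∀ c ∈ C, lam c ≠ 1 → ∀ g, g⁻¹ * c * g ∈ C → lam (g⁻¹ * c * g) ≠ 1 → g ∈ C ∨ g * w ∈ C
  real : ∀ a ∈ C, ∀ c ∈ C, a * a = 1 → a * c * a = c⁻¹ → lam c = 1

namespace THyp

variable {C : Subgroup G} {w : G} {lam : G → ℂ} (h : THyp C w lam)
include h

theorem gen : IsGeneralizedCharacter G (ind C fun g => 1 - lam g) := by
  rw [ind_sub]; exact (Lin.const C).gen.sub h.lin.gen

theorem apply {c : G} (hc : c ∈ C) (h1 : lam c ≠ 1) :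
    ind C (fun g => 1 - lam g) c = 2 - lam c - (lam c)⁻¹ := by
  rw [ind_loc (M := ext2 C w h.sq h.norm) (fun x hx h2 => h.ti c hc h1 x hx fun e => h2 (by simp [e]))
    (fun x hx => by simpa using ext2_conj (inv_mem hx) hc), sum_ext2 h.nmem,
    sum_congr (f := fun x => 1 - lam (x⁻¹ * c * x)) rfl (g := fun _ => 1 - lam c) fun x hx => by
      rw [h.lin.conj_mem (mem_fs.1 hx) hc],
    sum_congr (f := fun x => 1 - lam ((x * w)⁻¹ * c * (x * w))) rfl (g := fun _ => 1 - (lam c)⁻¹)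
      fun x hx => by
      rw [mul_inv_rev, inv_eq_self h.sq, show w * x⁻¹ * c * (x * w) = w * (x⁻¹ * c * x) * w by group,
        h.inv _ (by have := mem_fs.1 hx; exact mul_mem (mul_mem (inv_mem this) hc) this),
        h.lin.conj_mem (mem_fs.1 hx) hc],
    sum_fs_const, sum_fs_const]
  field_simp [card_ne_zero C]; ring

theorem apply_one : ind C (fun g => 1 - lam g) 1 = 0 :=
  ind_eq_zero fun x _ => by simp [h.lin.one]

theorem sum_lam : ∑ c ∈ fs C, lam c = 0 := by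
  obtain ⟨c, hc, h1⟩ := h.ne
  exact h.lin.sum_eq_zero hc fun e => h1 (by simp [e])

theorem inner_one : classInner (ind C fun g => 1 - lam g) (fun _ => 1) = 1 := by
  rw [inner_ind _ _ (isClassFunction_const 1)]
  simp only [map_one, mul_one, sum_sub_distrib, h.sum_lam, sum_fs_const]
  field_simp [card_ne_zero C]; ring

theorem inner_self : classInner (ind C fun g => 1 - lam g) (ind C fun g => 1 - lam g) = 3 := by
  obtain ⟨c, hc, h1⟩ := h.ne
  have h0 : lam c ≠ 1 := fun e => h1 (by simp [e])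
  rw [inner_ind _ _ (ind_classFun _ _), sum_congr rfl
    (g := fun c => 3 - 3 * lam c - (lam c)⁻¹ + lam c * lam c) fun x hx => by
      by_cases e : lam x = 1
      · simp [e]
      · have hx := mem_fs.1 hx
        rw [h.apply hx e]
        simp only [map_sub, map_inv₀, h.lin.conj_eq hx, inv_inv, map_ofNat]
        field_simp [h.lin.ne_zero hx]; ring]
  simp only [sum_add_distrib, sum_sub_distrib, ← mul_sum, h.sum_lam, sum_fs_const,
    h.lin.inv'.sum_eq_zero hc (by simpa using h0),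
    (h.lin.mul' h.lin).sum_eq_zero hc (by simpa [pow_two] using h1)]
  field_simp [card_ne_zero C]; ring

theorem sum_cl {t : G} (ht : ∀ s, s ∈ cl t ↔ s * s = 1 ∧ s ≠ 1) :
    ∑ a ∈ cl t, ∑ b ∈ cl t, ind C (fun g => 1 - lam g) (a * b) =
      C.index * ({a | a * a = 1 ∧ a * w ∈ C}.ncard : ℂ) ^ 2 := by
  set J : Finset G := univ.filter fun a => a * a = 1 ∧ a * w ∈ C with hJ
  have mJ : ∀ {a}, a ∈ J ↔ a * a = 1 ∧ a * w ∈ C := by simp [hJ]
  have hJc : {a | a * a = 1 ∧ a * w ∈ C}.ncard = J.card := by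
    rw [← Set.ncard_coe_finset]; congr 1; ext; simp [hJ]
  have hJcl : J ⊆ cl t := fun a ha => (ht a).2 ⟨(mJ.1 ha).1, fun e => h.nmem (by simpa [e] using (mJ.1 ha).2)⟩
  have hmul : ∀ a ∈ J, ∀ b ∈ J, a * b ∈ C := fun a ha b hb => by
    simpa [mul_assoc, mul_mul_self h.sq, h.sq] using mul_mem (mJ.1 ha).2 (h.norm _ (mJ.1 hb).2)
  have key : ∀ a ∈ cl t, ∀ b ∈ cl t, a * b ∈ C → lam (a * b) ≠ 1 → a ∈ J ∧ b ∈ J := by
    intro a ha b hb hab h1
    have ha2 := ((ht a).1 ha).1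
    have hb2 := ((ht b).1 hb).1
    have e : a * (a * b) * a = (a * b)⁻¹ := by
      rw [mul_mul_self ha2, mul_inv_rev, inv_eq_self ha2, inv_eq_self hb2]
    have e' : a⁻¹ * (a * b) * a = (a * b)⁻¹ := by rw [inv_eq_self ha2, e]
    rcases h.ti _ hab h1 a (e' ▸ inv_mem hab) (by rw [e', h.lin.inv hab]; simpa using h1) with h2 | h2
    · exact absurd (h.real a h2 _ hab ha2 e) h1
    · refine ⟨mJ.2 ⟨ha2, h2⟩, mJ.2 ⟨hb2, ?_⟩⟩
      simpa [mul_assoc, inv_eq_self ha2, inv_eq_self hb2, mul_mul_self ha2] using mul_mem (inv_mem hab) h2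
  have h1 : ∑ a ∈ cl t, ∑ b ∈ cl t, (if a * b ∈ C then 1 - lam (a * b) else 0) =
      ∑ a ∈ J, ∑ b ∈ J, (1 - lam (a * b)) := by
    rw [← sum_subset hJcl, sum_congr rfl]
    · intro a ha
      rw [← sum_subset hJcl, sum_congr rfl fun b hb => if_pos (hmul a ha b hb)]
      intro b hb hb'
      split_ifs with e
      · by_contra h2; exact hb' (key a (hJcl ha) b hb e fun e => h2 (by simp [e])).2
      · rfl
    · intro a ha ha'
      refine sum_eq_zero fun b hb => ?_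
      split_ifs with e
      · by_contra h2; exact ha' (key a ha b hb e fun e => h2 (by simp [e])).1
      · rfl
  have h2 : ∀ a ∈ J, ∑ b ∈ J, lam (a * b) = 0 := by
    intro a ha
    obtain ⟨c, hc, h3⟩ := h.ne
    have hcj : ∀ {c b : G}, c ∈ C → b ∈ J → c⁻¹ * b * c ∈ J := fun {c b} hc hb => mJ.2 ⟨by
      simp [mul_assoc, mul_mul_self (mJ.1 hb).1], by
      simpa [mul_assoc, mul_mul_self h.sq] using mul_mem (mul_mem (inv_mem hc) (mJ.1 hb).2) (h.norm c hc)⟩
    have : ∑ b ∈ J, lam (a * b) = lam c ^ 2 * ∑ b ∈ J, lam (a * b) := by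
      rw [mul_sum]
      refine (sum_bij' (fun b _ => c⁻¹ * b * c) (fun b _ => c⁻¹⁻¹ * b * c⁻¹) (fun b hb => hcj hc hb)
        (fun b hb => hcj (inv_mem hc) hb) (by simp [mul_assoc]) (by simp [mul_assoc]) fun b hb => ?_).symm
      have haw := (mJ.1 ha).2
      have e1 : a * c⁻¹ * a = (a * w)⁻¹⁻¹ * (w * c⁻¹ * w) * (a * w)⁻¹ := by
        simp [mul_assoc, mul_mul_self h.sq, inv_eq_self h.sq, inv_eq_self (mJ.1 ha).1]
      have e2 : a * c⁻¹ * a ∈ C := e1 ▸ mul_mem (mul_mem (inv_mem (inv_mem haw)) (h.norm _ (inv_mem hc)))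
        (inv_mem haw)
      rw [show a * (c⁻¹ * b * c) = a * c⁻¹ * a * (a * b) * c by
          simp [mul_assoc, mul_mul_self (mJ.1 ha).1],
        h.lin.mul _ (mul_mem e2 (hmul a ha b hb)) c hc, h.lin.mul _ e2 _ (hmul a ha b hb), e1,
        h.lin.conj_mem (inv_mem haw) (h.norm _ (inv_mem hc)), h.inv _ (inv_mem hc), h.lin.inv hc, inv_inv]
      ring
    by_contra h0
    exact h3 (mul_right_cancel₀ h0 (by rw [one_mul, ← this]))
  rw [sum_cl_ind, h1, hJc]
  simp only [sum_sub_distrib, sum_congr rfl h2, sum_const, nsmul_eq_mul]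
  ring

end THyp

theorem _root_.H5.SIrr.exists_int_inv {X : G → ℂ} (hX : SIrr X) {u : G} (hu : u * u = 1) :
    ∃ v : ℤ, X u = v := by
  have key : ∀ {χ : G → ℂ}, IsCharacter G χ → ∃ v : ℤ, χ u = v := fun hχ => by
    obtain ⟨n, ω, -, h1, h2⟩ := hχ.exists_eigenvalues u
    have h3 : ∀ i, ∃ c : ℤ, ω i = c := fun i => by
      obtain ⟨k, hk⟩ := orderOf_dvd_of_pow_eq_one (x := u) (n := 2) (by rw [pow_two, hu])
      rcases mul_self_eq_one_iff.mp (by rw [← pow_two, hk, pow_mul, h1, one_pow] : ω i * ω i = 1)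
        with e | e
      exacts [⟨1, by simp [e]⟩, ⟨-1, by simp [e]⟩]
    choose c hc using h3
    exact ⟨∑ i, c i, by simpa [hc] using h2 1⟩
  rcases hX.irr_or with h | h
  · exact key h.isCharacter
  · obtain ⟨v, hv⟩ := key h.isCharacter
    exact ⟨-v, by push_cast; rw [← hv]; simp⟩

/-- `Θ = 1 + α + β` with orthonormal `1, α, β`. -/
structure Dec (Θ α β : G → ℂ) : Prop where
  eq : Θ = (fun _ => 1) + α + β
  sa : SIrr α
  sb : SIrr β
  a1 : classInner α (fun _ => 1) = 0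
  b1 : classInner β (fun _ => 1) = 0
  ab : classInner α β = 0

theorem Dec.symm {Θ α β : G → ℂ} (h : Dec Θ α β) : Dec Θ β α :=
  ⟨h.eq.trans (add_right_comm _ _ _), h.sb, h.sa, h.b1, h.a1, classInner_comm_of_eq_zero h.ab⟩

theorem exists_dec {Θ : G → ℂ} (hΘ : IsGeneralizedCharacter G Θ) (h3 : classInner Θ Θ = 3)
    (h1 : classInner Θ (fun _ => 1) = 1) : ∃ α β, Dec Θ α β := by
  have h2 : classInner (Θ - fun _ => 1) (Θ - fun _ => 1) = 2 := by
    rw [sirr_one.norm_sub hΘ h1, h3]; norm_num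
  have hg := hΘ.sub isGen_one
  obtain ⟨α, hα, h4⟩ := exists_sirr_inner_eq_one hg (n := 1) (by norm_num) (by rw [h2]; norm_num)
  have hβ := sirr_sub_of_norm_two hα hg h2 h4
  have hab := classInner_comm_of_eq_zero (hα.inner_sub h4)
  have h5 : classInner (α + (Θ - (fun _ => 1) - α)) (fun _ => 1) = 0 := by
    rw [add_sub_cancel]; exact sirr_one.inner_sub h1
  exact ⟨α, _, by abel, hα, hβ, hα.inner_eq_zero_of_add hβ sirr_one hab h5,
    hβ.inner_eq_zero_of_add hα sirr_one (classInner_comm_of_eq_zero hab) (add_comm α _ ▸ h5), hab⟩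

theorem Dec.inner {Θ α β Θ' α' β' : G → ℂ} (h : Dec Θ α β) (h' : Dec Θ' α' β') :
    classInner Θ Θ' = 1 + (classInner α α' + classInner α β' + classInner β α' + classInner β β') := by
  rw [h.eq, h'.eq]
  simp only [classInner_add_left, classInner_add_right, classInner_one_one, h.a1, h.b1,
    classInner_comm_of_eq_zero h'.a1, classInner_comm_of_eq_zero h'.b1]
  ring

theorem inner_cases' {X Y : G → ℂ} (hX : SIrr X) (hY : SIrr Y) :
    classInner X Y = 0 ∨ (X = Y ∧ classInner X Y = 1) ∨ (X = -Y ∧ classInner X Y = -1) := by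
  by_cases h : classInner X Y = 0
  · exact Or.inl h
  rcases hX.eq_or_eq_neg hY h with e | e
  · exact Or.inr (Or.inl ⟨e, e ▸ hX.norm⟩)
  · exact Or.inr (Or.inr ⟨e, by rw [e, classInner_neg_left, hY.norm]⟩)

theorem Dec.common {Θ α β Θ' α' β' : G → ℂ} (h : Dec Θ α β) (h' : Dec Θ' α' β')
    (e : classInner Θ Θ' = 2) : ∃ a b c, Dec Θ a b ∧ Dec Θ' a c := by
  rw [h.inner h'] at e
  rcases inner_cases' h.sa h'.sa with e1 | ⟨rfl, -⟩ | ⟨-, e1⟩
  rotate_left
  · exact ⟨_, _, _, h, h'⟩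
  all_goals rcases inner_cases' h.sa h'.sb with e2 | ⟨rfl, -⟩ | ⟨-, e2⟩
  any_goals exact ⟨_, _, _, h, h'.symm⟩
  all_goals rcases inner_cases' h.sb h'.sa with e3 | ⟨rfl, -⟩ | ⟨-, e3⟩
  any_goals exact ⟨_, _, _, h.symm, h'⟩
  all_goals rcases inner_cases' h.sb h'.sb with e4 | ⟨rfl, -⟩ | ⟨-, e4⟩
  any_goals exact ⟨_, _, _, h.symm, h'.symm⟩
  all_goals rw [e1, e2, e3, e4] at e; norm_num at e

theorem Dec.opp {Θ α β Θ' α' β' : G → ℂ} (h : Dec Θ α β) (h' : Dec Θ' α' β')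
    (e : classInner Θ Θ' = 0) : ∃ a b c, Dec Θ a b ∧ Dec Θ' (-a) c := by
  rw [h.inner h'] at e
  rcases inner_cases' h.sa h'.sa with e1 | ⟨-, e1⟩ | ⟨rfl, -⟩
  rotate_right
  · exact ⟨_, _, _, h, by rwa [neg_neg]⟩
  all_goals rcases inner_cases' h.sa h'.sb with e2 | ⟨-, e2⟩ | ⟨rfl, -⟩
  any_goals exact ⟨_, _, _, h, by rw [neg_neg]; exact h'.symm⟩
  all_goals rcases inner_cases' h.sb h'.sa with e3 | ⟨-, e3⟩ | ⟨rfl, -⟩
  any_goals exact ⟨_, _, _, h.symm, by rwa [neg_neg]⟩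
  all_goals rcases inner_cases' h.sb h'.sb with e4 | ⟨-, e4⟩ | ⟨rfl, -⟩
  any_goals exact ⟨_, _, _, h.symm, by rw [neg_neg]; exact h'.symm⟩
  all_goals rw [e1, e2, e3, e4] at e; norm_num at e

theorem Dec.apply {Θ α β : G → ℂ} (h : Dec Θ α β) (g : G) : Θ g = 1 + α g + β g := by rw [h.eq]; rfl

/-- The class sum formula. -/
theorem Dec.formula {Θ α β : G → ℂ} (h : Dec Θ α β) (h1 : Θ 1 = 0) {t : G} {x a b c : ℤ}
    (hx : α 1 = -x) (ha : α t = -a) (hb : β t = b) {g : ℕ} (hg : (cl t).card = g) (hg0 : g ≠ 0)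
    (hs : ∑ u ∈ cl t, ∑ v ∈ cl t, Θ (u * v) = g * c) :
    x ≠ 0 ∧ x ≠ 1 ∧ g * (x * (x - 1) - a ^ 2 * (x - 1) + b ^ 2 * x) = c * (x * (x - 1)) := by
  have hβ : β 1 = x - 1 := by rw [h.apply, hx] at h1; linear_combination h1
  have hx0 : (x : ℂ) ≠ 0 := fun e => h.sa.apply_one_ne_zero (by rw [hx, e, neg_zero])
  have hx1 : (x : ℂ) - 1 ≠ 0 := hβ ▸ h.sb.apply_one_ne_zero
  refine ⟨by exact_mod_cast hx0, fun e => hx1 (by simp [e]), ?_⟩
  simp only [h.apply, sum_add_distrib, h.sa.sum_cl_cl, h.sb.sum_cl_cl, sum_const, nsmul_eq_mul, hg, hx,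
    ha, hb, hβ] at hs
  have hg0' : (g : ℂ) ≠ 0 := by exact_mod_cast hg0
  field_simp at hs
  apply Int.cast_injective (α := ℂ)
  push_cast
  linear_combination hs

/-- Bessel's inequality at an element. -/
theorem sq_le_card {ι : Type*} [Fintype ι] (X : ι → G → ℂ) (hX : ∀ i, SIrr (X i))
    (ho : ∀ i j, i ≠ j → classInner (X i) (X j) = 0) (t : G) :
    ∑ i, ‖X i t‖ ^ 2 ≤ (Nat.card (centralizer ({t} : Set G)) : ℝ) := by
  have : ∀ i, ∃ χ : IrrCharacter G, X i = χ ∨ X i = -χ := fun i => by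
    rcases (hX i).irr_or with h | h
    exacts [⟨⟨_, h⟩, Or.inl rfl⟩, ⟨⟨_, h⟩, Or.inr (neg_neg _).symm⟩]
  choose χ hχ using this
  have hinj : Function.Injective χ := fun i j e => by
    by_contra hne
    have h1 := ho i j hne
    have h2 := (χ j).2.inner_self
    rcases hχ i with a | a <;> rcases hχ j with b | b <;>
      simp [a, b, e, classInner_neg_left, classInner_neg_right, h2] at h1
  rw [← sum_norm_sq_irr, sum_congr rfl (g := fun i => ‖(χ i : G → ℂ) t‖ ^ 2) fun i _ => by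
    rcases hχ i with a | a <;> simp [a], ← sum_image (f := fun χ : IrrCharacter G => ‖(χ : G → ℂ) t‖ ^ 2)
      fun a _ b _ h => hinj h]
  exact sum_le_sum_of_subset_of_nonneg (subset_univ _) fun _ _ _ => by positivity

end H4.LT
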