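import Mathlib
import Cfsg.Agent.H11.HsM

/-! A homomorphism from the model of `4³ : D₈`. -/

set_option autoImplicit false
set_option maxRecDepth 100000
set_option linter.all false

open Subgroup H11.Hs

namespace H4.YH

/-- coordinates -/
abbrev Z3 : Type := ZMod 4 × ZMod 4 × ZMod 4

/-- change of coordinates -/
def T (n : ℕ) : Z3 := ((n : ZMod 4) + (n / 16 : ℕ), 3 * (n / 4 : ℕ) + (n / 16 : ℕ), 2 * (n / 4 : ℕ) + 3 * (n / 16 : ℕ))

/-- a linear map -/
def lin (a b c v : Z3) : Z3 := v.1.val • a + v.2.1.val • b + v.2.2.val • c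

/-- words -/
def wd (d : ℕ) : List Bool := [[], [true, false, true, false], [false], [true, false, true], [true],
  [false, true, false], [false, true], [true, false]].getD d []

/-- letters -/
def lt (b : Bool) : ℕ := cond b 4 2

variable {G : Type*} [Group G]

/-- the abelian part -/
def ψ (u1 u2 u3 : G) (v : Z3) : G := u1 ^ v.1.val * u2 ^ v.2.1.val * u3 ^ v.2.2.val

/-- the value of a word -/
def δ (x a : G) (l : List Bool) : G := (l.map fun b => cond b x a).prod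

theorem exists_hom {u1 u2 u3 x a : G}
    (o1 : u1 ^ 4 = 1) (o2 : u2 ^ 4 = 1) (o3 : u3 ^ 4 = 1) (c12 : Commute u1 u2)
    (c13 : Commute u1 u3) (c23 : Commute u2 u3) (xx : x * x = 1) (aa : a * a = 1)
    (xa : (x * a) ^ 4 = 1) (x1 : x * u1 * x⁻¹ = u1) (x2 : x * u2 * x⁻¹ = u1 ^ 3 * u2 ^ 3 * u3 ^ 2)
    (x3 : x * u3 * x⁻¹ = u3 ^ 3) (a1 : a * u1 * a⁻¹ = u1 ^ 3) (a2 : a * u2 * a⁻¹ = u2)
    (a3 : a * u3 * a⁻¹ = u1 ^ 2 * u2 * u3 ^ 3) :
    ∃ φ : S0 →* G, φ (el 2) = u1 * u1 ∧ φ.range = closure {u1, u2, u3, x, a} := by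
  have p0 : ∀ {u : G}, u ^ 4 = 1 → ∀ i j : ZMod 4, u ^ (i + j).val = u ^ i.val * u ^ j.val := fun {u} h i j => by
    rw [ZMod.val_add, ← pow_eq_pow_mod _ h, pow_add]
  have p1 : ∀ v w, ψ u1 u2 u3 (v + w) = ψ u1 u2 u3 v * ψ u1 u2 u3 w := fun v w => by
    simp only [ψ, Prod.fst_add, Prod.snd_add, p0 o1, p0 o2, p0 o3, mul_assoc]
    rw [(c13.symm.pow_pow _ _).left_comm, (c12.symm.pow_pow _ _).left_comm, (c23.symm.pow_pow _ _).left_comm]
  have p2 : ψ u1 u2 u3 0 = 1 := by simp [ψ]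
  have p3 : ∀ (n : ℕ) v, ψ u1 u2 u3 (n • v) = ψ u1 u2 u3 v ^ n := fun n v => by
    induction n with
    | zero => rw [zero_smul, p2, pow_zero]
    | succ n ih => rw [succ_nsmul, p1, ih, pow_succ]
  have p4 : ∀ (g : G) (b c d : Z3), g * u1 * g⁻¹ = ψ u1 u2 u3 b → g * u2 * g⁻¹ = ψ u1 u2 u3 c →
      g * u3 * g⁻¹ = ψ u1 u2 u3 d → ∀ v, g * ψ u1 u2 u3 v * g⁻¹ = ψ u1 u2 u3 (lin b c d v) :=
    fun g b c d h1 h2 h3 v => by
      rw [lin, p1, p1, p3, p3, p3, ← h1, ← h2, ← h3, conj_pow, conj_pow, conj_pow, ψ]; group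
  have v0 : (0 : ZMod 4).val = 0 := rfl
  have v1 : (1 : ZMod 4).val = 1 := rfl
  have v2 : (2 : ZMod 4).val = 2 := rfl
  have v3 : (3 : ZMod 4).val = 3 := rfl
  have p5 : ∀ b, ∀ n < 64, cond b x a * ψ u1 u2 u3 (T n) * (cond b x a)⁻¹ = ψ u1 u2 u3 (T (ac (lt b) n)) :=
    fun b n hn => by
      have k : ∀ n < 64, T (ac (lt true) n) = lin (1, 0, 0) (3, 3, 2) (0, 0, 3) (T n) ∧
        T (ac (lt false) n) = lin (3, 0, 0) (0, 1, 0) (2, 1, 3) (T n) := by decide +kernel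
      cases b
      · rw [(k n hn).2]
        exact p4 a _ _ _ (by simp [ψ, a1, v0, v3]) (by simp [ψ, a2, v0, v1]) (by simp [ψ, a3, v1, v2, v3]) _
      · rw [(k n hn).1]
        exact p4 x _ _ _ (by simp [ψ, x1, v0, v1]) (by simp [ψ, x2, v2, v3]) (by simp [ψ, x3, v0, v3]) _
  have p6 : ∀ l : List Bool, ∀ n < 64, δ x a l * ψ u1 u2 u3 (T n) * (δ x a l)⁻¹ =
      ψ u1 u2 u3 (T (l.foldr (fun b n => ac (lt b) n) n)) := fun l n hn => by
    induction l with
    | nil => simp [δ]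
    | cons b l ih =>
      rw [List.foldr_cons, ← p5 b _ (by cases l; exacts [hn, ac_lt _ _]), ← ih]
      simp [δ, mul_assoc]
  have xx' : ∀ g, x * (x * g) = g := fun g => by rw [← mul_assoc, xx, one_mul]
  have aa' : ∀ g, a * (a * g) = g := fun g => by rw [← mul_assoc, aa, one_mul]
  have q1 : a * (x * (a * x)) = x * (a * (x * a)) := by
    have : x * (a * (x * (a * (x * (a * (x * a)))))) = 1 := by simpa [pow_succ, mul_assoc] using xa
    have := congrArg (fun g => a * (x * (a * (x * g)))) this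
    simpa [xx', aa'] using this.symm
  have q2 : x * (a * (x * (a * x))) = a * (x * a) := by rw [q1, xx']
  have p7 : ∀ d < 8, ∀ b, δ x a (wd d) * cond b x a = δ x a (wd (dm d (lt b))) := fun d hd b => by
    have k : ∀ d < 8, ∀ b, dm d (lt b) = (cond b [4, 5, 6, 7, 0, 1, 2, 3] [2, 3, 0, 1, 7, 6, 5, 4]).getD d 0 := by
      decide +kernel
    rw [k d hd b]
    interval_cases d <;> cases b <;> simp [δ, wd, mul_assoc, xx, aa, xx', aa', q1, q2]
  have p8 : ∀ l : List Bool, ∀ d < 8, δ x a (wd d) * δ x a l =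
      δ x a (wd (l.foldl (fun d b => dm d (lt b)) d)) := fun l => by
    induction l with
    | nil => simp [δ]
    | cons b l ih =>
      intro d hd
      rw [List.foldl_cons, ← ih _ (dm_lt _ _), ← p7 d hd]
      simp [δ, mul_assoc]
  let φ : S0 →* G := MonoidHom.mk' (fun s => ψ u1 u2 u3 (T (s.n % 64)) * δ x a (wd (s.n / 64))) fun s t => by
    have e : (s * t).n = mulN s.n t.n := rfl
    have k1 : ∀ m < 64, ∀ n < 64, T (ad m n) = T m + T n := by decide +kernel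
    have k2 : ∀ d < 8, ∀ n < 64, (wd d).foldr (fun b n => ac (lt b) n) n = ac d n := by decide +kernel
    have k3 : ∀ d < 8, ∀ e < 8, (wd e).foldl (fun d b => dm d (lt b)) d = dm d e := by decide +kernel
    have hs := s.lt
    have ht := t.lt
    rw [e, mulN_eq, Nat.add_mul_mod_self_left, Nat.mod_eq_of_lt (ad_lt _ _), Nat.add_mul_div_left _ _ (by norm_num),
      Nat.div_eq_of_lt (ad_lt _ _), zero_add, k1 _ (by omega) _ (ac_lt _ _), p1, ← k2 _ (by omega) _ (by omega),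
      ← p6 _ _ (by omega), ← k3 _ (by omega) _ (by omega), ← p8 _ _ (by omega)]
    group
  have f : ∀ n < 512, φ (el n) = ψ u1 u2 u3 (T (n % 64)) * δ x a (wd (n / 64)) := fun n hn => by
    conv_rhs => rw [← el_val hn]
    rfl
  refine ⟨φ, ?_, le_antisymm ?_ ((closure_le _).2 ?_)⟩
  · rw [f 2 (by decide), show T (2 % 64) = (2, 0, 0) by decide]
    simp [ψ, δ, wd, v0, v2, pow_two]
  · rintro _ ⟨s, rfl⟩
    refine mul_mem (mul_mem (mul_mem (pow_mem ?_ _) (pow_mem ?_ _)) (pow_mem ?_ _)) (list_prod_mem fun g hg => ?_)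
    iterate 3 exact subset_closure (by simp)
    obtain ⟨b, -, rfl⟩ := List.mem_map.1 hg
    cases b <;> exact subset_closure (by simp)
  · rintro _ (rfl | rfl | rfl | rfl | rfl)
    · exact ⟨el 1, by rw [f 1 (by decide), show T (1 % 64) = (1, 0, 0) by decide]; simp [ψ, δ, wd, v0, v1]⟩
    · exact ⟨el 38, by rw [f 38 (by decide), show T (38 % 64) = (0, 1, 0) by decide]; simp [ψ, δ, wd, v0, v1]⟩
    · exact ⟨el 23, by rw [f 23 (by decide), show T (23 % 64) = (0, 0, 1) by decide]; simp [ψ, δ, wd, v0, v1]⟩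
    · exact ⟨el 256, by rw [f 256 (by decide), show T (256 % 64) = 0 by decide, p2]; simp [δ, wd]⟩
    · exact ⟨el 128, by rw [f 128 (by decide), show T (128 % 64) = 0 by decide, p2]; simp [δ, wd]⟩

end H4.YH
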