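import Mathlib
import Cfsg.Agent.H27.PRC
import Cfsg.Agent.H16.PSL2Inv

/-! Orders of involution centralisers in groups of `2`-rank two. -/

set_option autoImplicit false
set_option linter.all false

open Subgroup Matrix Cfsg H15 H27.PR
open scoped MatrixGroups

namespace H4.YR

variable {G : Type*} [Group G] {F : Type*} [Field F]

theorem card_cent {K : Type*} [Group K] (e : G ≃* K) (s : K) :
    Nat.card (centralizer ({e.symm s} : Set G)) = Nat.card (centralizer ({s} : Set K)) :=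
  Nat.card_congr (Equiv.subtypeEquiv e.toEquiv fun g => by
    rw [mem_centralizer_singleton_iff, mem_centralizer_singleton_iff, ← e.injective.eq_iff]
    simp)

theorem ord2 {K : Type*} [Group K] (e : G ≃* K) {s : K} (h1 : s ≠ 1) (h2 : s * s = 1) :
    orderOf (e.symm s) = 2 := by
  rw [MulEquiv.orderOf_eq]; exact orderOf_eq_prime (by rw [sq, h2]) h1

theorem odd_cent {K : Type*} [Group K] (e : G ≃* K)
    (hc : ∀ s : G, orderOf s = 2 → IsPGroup 2 (centralizer ({s} : Set G))) {s t : K} (h1 : s ≠ 1)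
    (h2 : s * s = 1) (h3 : t * s = s * t) {n : ℕ} (hn : Odd n) (ht : t ^ n = 1) : t = 1 := by
  obtain ⟨k, hk⟩ := hc _ (ord2 e h1 h2) ⟨e.symm t, mem_centralizer_singleton_iff.2 (by
    rw [← map_mul, h3, map_mul])⟩
  have h4 : t ^ 2 ^ k = 1 := e.symm.injective (by simpa using congrArg Subtype.val hk)
  exact (pow_eq_one_iff_of_coprime ((Nat.coprime_two_right.2 hn).pow_right k)).1 ⟨ht, h4⟩

theorem bk_cy {A : Matrix (Fin 2) (Fin 2) F}
    (h : bk A * !![0, 0, 1; 1, 0, 0; 0, 1, 0] = !![0, 0, 1; 1, 0, 0; 0, 1, 0] * bk A) : A = 1 := by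
  have h1 := fun i j => congrFun (congrFun h i) j
  have a := h1 0 0
  have b := h1 0 2
  have c := h1 2 0
  have d := h1 2 1
  simp [bk, mul_apply, Fin.sum_univ_three] at a b c d
  ext i j
  fin_cases i <;> fin_cases j <;> simp [a, b, ← c, ← d]

theorem blk {H L : Type*} [Group H] [Group L] (h2 : (2 : F) ≠ 0)
    (μ : H →* Matrix (Fin 3) (Fin 3) F) (hμ : Function.Injective μ) {z c : H} (hz : μ z = U3 F)
    (hc : μ c = !![0, 0, 1; 1, 0, 0; 0, 1, 0]) (B : L →* H) (ν : L →* Matrix (Fin 2) (Fin 2) F)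
    (hν : Function.Injective ν) (hB : ∀ y, μ (B y) = bk (ν y)) (e : G ≃* H ⧸ center H) :
    ∃ s : G, orderOf s = 2 ∧ Nat.card L ∣ Nat.card (centralizer ({s} : Set G)) := by
  have k : ∀ x A, μ x = bk A → (x : H ⧸ center H) = 1 → A = 1 := fun x A hx h => bk_cy (by
    rw [← hx, ← hc, ← map_mul, ← map_mul, mem_center_iff.1 ((QuotientGroup.eq_one_iff x).1 h) c])
  refine ⟨e.symm z, ord2 e (fun h => h2 ?_) ?_, ?_⟩
  · have := k z (-1) (by rw [hz]; simp [bk, U3]) h
    have := congrFun (congrFun this 0) 0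
    simp at this
    linear_combination -this
  · rw [← QuotientGroup.mk_mul, show z * z = 1 from hμ (by rw [map_mul, hz, map_one, one_fin_three]; simp [U3])]
    rfl
  · rw [card_cent]
    let f : L →* centralizer ({(z : H ⧸ center H)} : Set (H ⧸ center H)) :=
      ((QuotientGroup.mk' _).comp B).codRestrict _ fun y => mem_centralizer_singleton_iff.2 (by
        have : B y * z = z * B y := hμ (by rw [map_mul, map_mul, hz, hB]; simp [bk, U3])
        exact congrArg (QuotientGroup.mk' (center H)) this)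
    refine card_dvd_of_injective f ((injective_iff_map_eq_one _).2 fun y hy => hν ?_)
    rw [k _ _ (hB y) (congrArg Subtype.val hy), map_one]

theorem l3 [Fintype F] (hF : Odd (Fintype.card F)) (e : G ≃* PSL(3, F)) : ∃ s : G, orderOf s = 2 ∧
    Fintype.card F * (Fintype.card F ^ 2 - 1) ∣ Nat.card (centralizer ({s} : Set G)) := by
  have h := blk (card_odd_iff.1 hF) (slToMat 3 F) (fun _ _ e => Subtype.ext e) (z := u3 F)
    (c := ⟨!![0, 0, 1; 1, 0, 0; 0, 1, 0], by simp [det_fin_three]⟩) rfl rfl (bkSL F) (slToMat 2 F)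
    (fun _ _ e => Subtype.ext e) (fun _ => rfl) e
  have h1 := H7.card_sl (F := F) rfl 2 (by norm_num)
  have h3 : 1 < Fintype.card F := Fintype.one_lt_card
  generalize Fintype.card F = q at *
  rw [Fin.prod_univ_two] at h1
  rwa [Nat.eq_of_mul_eq_mul_left (show 0 < q - 1 by omega) (h1.trans (b := _) (c := (q - 1) * (q * (q ^ 2 - 1))) (by
    obtain ⟨k, rfl⟩ : ∃ k, q = k + 1 := ⟨q - 1, by omega⟩
    simp only [Fin.val_zero, Fin.val_one, pow_zero, pow_one, Nat.add_sub_cancel]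
    rw [show (k + 1) ^ 2 - (k + 1) = k * (k + 1) from Nat.sub_eq_of_eq_add (by ring)]; ring))] at h

theorem u3' [Fintype F] {q : ℕ} (hF : Fintype.card F = q ^ 2) (hq : Odd q) (e : G ≃* PSU 3 F q) :
    ∃ s : G, orderOf s = 2 ∧ q * (q ^ 2 - 1) ∣ Nat.card (centralizer ({s} : Set G)) :=
  card_su2 hF ▸ blk (card_odd_iff.1 (hF ▸ hq.pow)) (muU 3 F q) muU_inj (z := mkU hF xu_U3) (c := mkU hF xu_cy)
    rfl rfl (bkSU hF) (muU 2 F q) muU_inj (fun _ => rfl) e

theorem l2 [Fintype F] (hF : Odd (Fintype.card F)) (e : G ≃* PSL(2, F)) : ∃ s : G, orderOf s = 2 ∧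
    (Nat.card (centralizer ({s} : Set G)) + 1 = Fintype.card F ∨
      Nat.card (centralizer ({s} : Set G)) = Fintype.card F + 1) := by
  have h2 := card_odd_iff.1 hF
  have hg := H16.wS_mul_self (F := F)
  refine ⟨e.symm (H16.wS : SL(2, F)), ord2 e (H16.mk_ne_one_of_sq h2 _ hg) (H16.mk_mul_self_of_sq _ hg), ?_⟩
  rw [card_cent]
  have e1 := H16.psl2_card_preimage h2 (centralizer ({((H16.wS : SL(2, F)) : PSL(2, F))} : Set PSL(2, F)))
  have h3 : (QuotientGroup.mk ⁻¹' (centralizer ({((H16.wS : SL(2, F)) : PSL(2, F))} : Set PSL(2, F)) :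
      Set PSL(2, F)) : Set SL(2, F)) = {c : SL(2, F) | c * H16.wS = H16.wS * c ∨ c * H16.wS = -(H16.wS * c)} := by
    ext c
    simp only [Set.mem_preimage, SetLike.mem_coe, mem_centralizer_singleton_iff, Set.mem_ofPred_eq]
    rw [eq_comm, ← QuotientGroup.mk_mul, ← QuotientGroup.mk_mul, H16.psl2_mk_eq_iff]
  rw [h3, H16.card_pm_eq h2 _ hg, H16.card_comm_eq h2 _ hg] at e1
  have e2 := (Nat.eq_of_mul_eq_mul_left two_pos e1).symm
  have e3 := H16.card_circle (F := F) rfl hF
  have h4 : 1 < Fintype.card F := Fintype.one_lt_card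
  have h5 := Nat.odd_iff.1 hF
  rcases (by omega : Fintype.card F % 4 = 1 ∨ Fintype.card F % 4 = 3) with h | h
  · left; erw [e2, e3.1 h]; omega
  · right; erw [e2, e3.2 h]

theorem u34 [Fintype F] (hF : Fintype.card F = 16) (e : G ≃* PSU 3 F 4)
    (hc : ∀ s : G, orderOf s = 2 → IsPGroup 2 (centralizer ({s} : Set G))) : False := by
  have hF' : Fintype.card F = 4 ^ 2 := hF
  haveI : Fact (Nat.Prime 5) := ⟨by norm_num⟩
  obtain ⟨l, hl⟩ := exists_prime_orderOf_dvd_card' (G := Fˣ) 5 (by rw [card_units_sq hF']; norm_num)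
  have l5 : (l : F) ^ 5 = 1 := by rw [← Units.val_pow_eq_pow_val, ← hl, pow_orderOf_eq_one, Units.val_one]
  have l2 : (l : F) ≠ (l : F) ^ 3 := fun h => by
    have : l ^ 2 = 1 := by
      have : l = l ^ 3 := Units.ext (by simpa using h)
      rwa [pow_succ, eq_comm, mul_eq_right] at this
    exact absurd (hl ▸ orderOf_dvd_of_pow_eq_one this) (by norm_num)
  generalize (l : F) = a at l5 l2
  have k : ∀ x : SU 3 F 4, (x : PSU 3 F 4) = 1 →
      muU 3 F 4 x * !![0, 0, 1; 1, 0, 0; 0, 1, 0] = !![0, 0, 1; 1, 0, 0; 0, 1, 0] * muU 3 F 4 x := fun x h => by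
    rw [← mu_mkU hF' xu_cy, ← map_mul, ← map_mul, mem_center_iff.1 ((QuotientGroup.eq_one_iff x).1 h)]
  have x1 : XU (frob hF') !![a, 0, 0; 0, a, 0; 0, 0, a ^ 3] :=
    xu_dg (by rw [frob_apply]; linear_combination l5) (by rw [frob_apply]; linear_combination l5)
      (by rw [frob_apply]; linear_combination (a ^ 10 + a ^ 5 + 1) * l5) (by linear_combination l5)
  have h := odd_cent e hc (s := (mkU hF' xu_w : SU 3 F 4)) (t := (mkU hF' x1 : SU 3 F 4)) (fun h => by
      have := congrFun (congrFun (k _ h) 0) 0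
      simp [mu_mkU, mul_apply, Fin.sum_univ_three] at this)
    (by
      rw [← QuotientGroup.mk_mul, show mkU hF' xu_w * mkU hF' xu_w = 1 from muU_inj (by
        rw [map_mul, map_one, mu_mkU, one_fin_three]; simp)]
      rfl)
    (by
      rw [← QuotientGroup.mk_mul, ← QuotientGroup.mk_mul, show mkU hF' x1 * mkU hF' xu_w = mkU hF' xu_w * mkU hF' x1
        from muU_inj (by rw [map_mul, map_mul, mu_mkU, mu_mkU]; simp)]) (n := 5) (by decide)
    (by
      rw [← QuotientGroup.mk_pow, show mkU hF' x1 ^ 5 = 1 from muU_inj (by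
        rw [map_pow, map_one, mu_mkU, one_fin_three]
        simp [pow_succ]
        exact ⟨by linear_combination l5, by linear_combination (a ^ 10 + a ^ 5 + 1) * l5⟩)]
      rfl)
  have := congrFun (congrFun (k _ h) 0) 2
  simp [mu_mkU, mul_apply, Fin.sum_univ_three] at this
  exact l2 this

open Equiv in
theorem a7 (e : G ≃* alternatingGroup (Fin 7))
    (hc : ∀ s : G, orderOf s = 2 → IsPGroup 2 (centralizer ({s} : Set G))) : False := by
  have h := odd_cent e hc (s := ⟨swap 0 1 * swap 2 3, by simp [Perm.mem_alternatingGroup]⟩)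
    (t := ⟨swap 4 5 * swap 5 6, by simp [Perm.mem_alternatingGroup]⟩)
    (fun h => absurd (congrArg Subtype.val h) (by decide)) (Subtype.ext (by decide)) (Subtype.ext (by decide))
    (n := 3) (by decide) (Subtype.ext (by decide))
  exact absurd (congrArg Subtype.val h) (by decide)

theorem no_pow [Finite G] (hc : ∀ s : G, orderOf s = 2 → IsPGroup 2 (centralizer ({s} : Set G))) {q : ℕ}
    (hq : Odd q) (h2 : 2 ≤ q)
    (h : ∃ s : G, orderOf s = 2 ∧ q * (q ^ 2 - 1) ∣ Nat.card (centralizer ({s} : Set G))) : False := by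
  obtain ⟨s, h1, h3⟩ := h
  obtain ⟨k, hk⟩ := IsPGroup.iff_card.1 (hc s h1)
  have := ((Nat.coprime_two_right.2 hq).pow_right k).eq_one_of_dvd (hk ▸ (dvd_mul_right _ _).trans h3)
  omega

theorem three [Finite G] (hc : ∀ s : G, orderOf s = 2 → Nat.card (centralizer ({s} : Set G)) ≤ 96) {q : ℕ}
    (hq : Odd q) (h2 : 2 ≤ q)
    (h : ∃ s : G, orderOf s = 2 ∧ q * (q ^ 2 - 1) ∣ Nat.card (centralizer ({s} : Set G))) : q = 3 := by
  obtain ⟨s, h1, h3⟩ := h
  have h4 := (Nat.le_of_dvd Nat.card_pos h3).trans (hc s h1)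
  have h5 := Nat.odd_iff.1 hq
  by_contra h6
  have h7 : 5 ≤ q := by omega
  have : 5 * (5 ^ 2 - 1) ≤ q * (q ^ 2 - 1) :=
    Nat.mul_le_mul h7 (Nat.sub_le_sub_right (Nat.pow_le_pow_left h7 2) 1)
  omega

end H4.YR
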