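import Mathlib
import Cfsg.Agent.H28.ThMod
import Cfsg.Agent.H15.Fin
import Cfsg.Agent.H15.KM5
import Cfsg.Agent.H11.C3H
import Cfsg.Agent.H4.C2TG

/-! Vocabulary for the recognition of the second Conway group. -/

set_option autoImplicit false

open Subgroup H24 H29 H9 H9.MX H15.XP H11

namespace H4.C2

open H28.Th (th Heis)
open H7.Cay (pk)

/-- packed images of the basis of `2^(1+8)` under the seven reflections. -/
def TT (i : ℕ) : ℕ := [611083087481171345922, 1181750212542265033729, 1197940801362256201217,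
  2135656223961145677062, 1191018744133012685825, 616875943530220652418,
  1191005246665440363521].getD i 0

/-- the spin module of `Sp₆(2)`: code of the image of the basis vector `j` under reflection `i`. -/
def Msp (i j : ℕ) : ℕ := pk (TT i) 9 j % 256

/-- Coordinates on the centraliser of `t`. -/
structure Eng {G : Type} [Group G] [Finite G] (t : G) (Q : Subgroup G) (π : C{t} →* C3S.S)
    (x r : ℕ → G) (σ : G) : Prop where
  lx : LX t Q
  card : Nat.card Q = 512
  heis : Heis x
  x8 : x 8 = t
  xQ : ∀ i < 9, x i ∈ Q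
  acts : ∀ i < 7, H28.Th.Acts x (r i) (TT i)
  rel : ∀ w ∈ C3T0.R0, ev (C3.eH r σ) w = 1
  sig : σ = 1 ∨ σ = t
  ker : ∀ g ∈ C{t}, ap π g = 1 ↔ g ∈ Q
  pr : ∀ i < 7, ap π (r i) = C3S.τ (2 * i)

/-- some conjugate of `t` other than `t` commutes with `t`. -/
def NotIso {G : Type*} [Group G] (t : G) : Prop := ∃ g, g * t * g⁻¹ ∈ C{t} ∧ g * t * g⁻¹ ≠ t

/-- the model on 2300 points. -/
abbrev S0 : Type := PG C2TG.nl

/-- the generators of the model. -/
noncomputable abbrev m0 : ℕ → S0 := pe C2TG.nl

end H4.C2
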