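import Mathlib
import Cfsg.Agent.H4.C2Def
import Cfsg.Agent.H28.C2B

/-! The faithful eight-dimensional orthogonal modules of `Sp₆(2)` over the field with two elements. -/

set_option autoImplicit false
set_option synthInstance.maxSize 2000

open Subgroup H24 H29 H9 H9.MX H15.XP H11

namespace H28.C2A

open H8.ThM C3S

def wZ : List ℕ := [2, 2, 6, 8, 10, 4, 6, 8, 0, 4, 6, 2, 6, 4, 0, 8, 6, 4, 10, 8, 6, 2]
def wC : List ℕ := [6, 8, 10, 2, 6, 8, 4, 6, 0, 4, 2, 6, 2, 0]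
def wD : List ℕ := [2, 6, 8, 4, 6, 0, 4, 2, 6, 8, 4, 6, 0, 4, 2, 6, 0]
def wE (i : ℕ) : List ℕ := [[], [4, 6, 0, 4, 2, 6], [], [0, 4, 6], [4, 6, 8, 0, 4, 6],
  [6, 8, 10, 4, 6, 8, 0, 4, 6], [8, 10, 12, 6, 8, 10, 4, 6, 8, 0, 4, 6]].getD i []
def Pa : List (ℕ × ℕ × ℕ × List ℕ) := [(0, 2, 3, [6, 4, 2, 6]), (2, 3, 1, [2, 6]), (2, 3, 4, [8, 6]),
  (3, 4, 5, [10, 8, 4, 6]), (4, 5, 6, [12, 10, 6, 8, 4, 6])]
def wY (w : List ℕ) : List ℕ := w ++ [0, 4] ++ w.reverse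
def CL : List (List ℕ × List ℕ × List ℕ) :=
  [([0, 4], [8, 10], [8, 10]), ([0, 4], wZ, wZ), ([8, 10], wZ, wZ), ([8, 2], [0, 4], [0, 4]),
    ([0, 8], wZ, wZ), (wC, [0, 4], [8, 10]), (wC, [8, 10], wZ), (wC, wZ, [0, 4]), (wD, [0, 4], [0, 4]),
    (wD, [8, 10], wZ)] ++ Ed.map (fun p => (wE p.2, [0, 4], [2 * p.1, 2 * p.2])) ++
  Pa.flatMap fun p => [(p.2.2.2, [0, 4], wY p.2.2.2), ([2 * p.2.1], wY p.2.2.2, wY p.2.2.2),
    (2 * p.2.1 :: wY p.2.2.2, [2 * p.2.1, 2 * p.1], [2 * p.2.1, 2 * p.2.2.1])]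
def CI : List (List ℕ × List ℕ) := [([8, 2], [8, 10]), ([8, 2], wZ), ([0, 8], [0, 4]), ([0, 8], [8, 10])]

theorem cl : ∀ p ∈ CL, ev τ p.1 * ev τ p.2.1 = ev τ p.2.2 * ev τ p.1 := fun p hp =>
  mul_inv_eq_iff_eq_mul.1 (C3.cjS (by decide +kernel) p hp)

theorem ci : ∀ p ∈ CI, ev τ p.1 * ev τ p.2 = (ev τ p.2)⁻¹ * ev τ p.1 := fun p hp => by
  rw [← ev_invW hiv]
  exact mul_inv_eq_iff_eq_mul.1 (C3.cjS (l := CI.map fun p => (p.1, p.2, invW (ivOf C3T0.ivl) p.2))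
    (by decide +kernel) _ (List.mem_map_of_mem hp))

theorem cube : ∀ w ∈ [[0, 4], [8, 10], wZ], ev τ w * ev τ w * ev τ w = 1 := fun w hw => by
  rw [← ev_append, ← ev_append]
  exact rel (R := [[0, 4], [8, 10], wZ].map fun w => w ++ w ++ w) (by decide +kernel) _
    (List.mem_map_of_mem hw)

theorem tri6 : Tri (ev τ [0, 4]) (ev τ [8, 10]) (ev τ wZ) (ev τ [8, 2]) (ev τ [0, 8]) (ev τ wC) :=
  ⟨cube _ (by decide), cube _ (by decide), cube _ (by decide), cl (_, _, _) (by decide),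
    cl (_, _, _) (by decide), cl (_, _, _) (by decide), cl (_, _, _) (by decide), ci (_, _) (by decide),
    ci (_, _) (by decide), ci (_, _) (by decide), ci (_, _) (by decide), cl (_, _, _) (by decide),
    cl (_, _, _) (by decide), cl (_, _, _) (by decide), cl (_, _, _) (by decide)⟩

theorem ev1 (a : ℕ) : ev τ [a] = τ a := by simp
theorem ev2 (a b : ℕ) : ev τ [a, b] = τ a * τ b := by simp

theorem r2 : ∀ i < 7, τ (2 * i) * τ (2 * i) = 1 := fun i hi => by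
  rw [← ev2]
  exact rel (R := (List.range 7).map fun i => [2 * i, 2 * i]) (by decide +kernel) _
    (List.mem_map_of_mem (List.mem_range.2 hi))

theorem rc : ∀ i < 7, ∀ j < 7, adj i j = false → τ (2 * i) * τ (2 * j) = τ (2 * j) * τ (2 * i) :=
  fun i hi j hj e => by
    have := C3.cjS (l := (List.range 7).flatMap fun i => ((List.range 7).filter fun j => !adj i j).map
      fun j => ([2 * i], [2 * j], [2 * j])) (by decide +kernel) ([2 * i], [2 * j], [2 * j])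
      (List.mem_flatMap.2 ⟨i, List.mem_range.2 hi, List.mem_map_of_mem (List.mem_filter.2
        ⟨List.mem_range.2 hj, by simp [e]⟩)⟩)
    rwa [ev1, ev1, mul_inv_eq_iff_eq_mul] at this

theorem ce : ∀ p ∈ Ed, ev τ (wE p.2) * ev τ [0, 4] = τ (2 * p.1) * τ (2 * p.2) * ev τ (wE p.2) :=
  fun p hp => by
    rw [← ev2]
    exact cl (_, _, _) (List.mem_append_left _ (List.mem_append_right _ (List.mem_map_of_mem hp)))

theorem cube_of {G : Type*} [Group G] {g x y : G} (e : g * x = y * g) (h : x * x * x = 1) :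
    y * y * y = 1 := by
  rw [← mul_inv_eq_iff_eq_mul] at e
  calc _ = g * (x * x * x) * g⁻¹ := by rw [← e]; group
    _ = 1 := by rw [h]; simp

theorem ed_lt : ∀ p ∈ Ed, p.1 < 7 ∧ p.2 < 7 := by decide

theorem fix_all {V : Type*} [MulAction S V] {w : V} (h : ∀ i < 7, τ (2 * i) • w = w) (g : S) :
    g • w = w := by
  have : gen τ C3T0.cols ≤ MulAction.stabilizer S w := gen_le.2 fun c hc => by
    have : (∃ i < 7, c = 2 * i) ∨ (∃ i < 7, c = ivOf C3T0.ivl (2 * i)) ∨ c = 14 := by revert c; decide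
    rcases this with ⟨i, hi, rfl⟩ | ⟨i, hi, rfl⟩ | rfl
    · exact h i hi
    · rw [hiv]; exact inv_mem (h i hi)
    · rw [← ev1, hR [14] (by decide)]; exact one_mem _
  exact this (top ▸ mem_top g)

end H28.C2A

namespace H4.C2

open H28.Th (th Heis lin q0)
open H8.ThM (QF)

open H8.ThM H28.C2A C3S in
theorem modl {V : Type*} [AddCommGroup V] [Finite V] [DistribMulAction C3S.S V]
    (hV : Nat.card V = 256) (hne : ∃ (g : C3S.S) (v : V), g • v ≠ v)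
    {q : V → ZMod 2} {B : V →+ V →+ ZMod 2} (h : QF q B)
    (inv : ∀ (g : C3S.S) v, q (g • v) = q v) :
    (∃ β : ℕ → V, (∀ v, ∃ n < 256, lin β n = v) ∧ (∀ n < 256, q (lin β n) = q0 n) ∧
      ∀ i < 7, ∀ j < 8, C3S.τ (2 * i) • β j = lin β (Msp i j)) ∨
    ∃ w : V, q w = 1 ∧ (∀ g : C3S.S, g • w = w) ∧ ∀ a x : V, a ≠ 0 → q a = 0 → B a w = 0 →
      q x = 0 → B a x = 0 → x ≠ 0 → x ≠ a → ∃ g : C3S.S, g • a = a ∧ B x (g • x) = 1 := by
  have h2 := h.two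
  have x3 := tri6.x3
  rcases tri6.dich hV h2 with hd | hd
  · let s : ℕ → AddMonoid.End V := fun i => DistribSMul.toAddMonoidHom V (τ (2 * i))
    have k : ∀ p ∈ Ed, s p.1 * s p.2 + s p.2 * s p.1 = 1 := fun p hp => by
      ext v
      change τ (2 * p.1) • τ (2 * p.2) • v + τ (2 * p.2) • τ (2 * p.1) • v = v
      have e := Nx_sq h2 (show v ∈ Nx V (τ (2 * p.1) * τ (2 * p.2)) by
        simpa using Nx_conj (ce p hp) (hd ((ev τ (wE p.2))⁻¹ • v)))
      rw [← mul_smul, eq_inv_of_mul_eq_one_left (cube_of (ce p hp) x3), mul_inv_rev,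
        inv_eq_of_mul_eq_one_right (r2 _ (ed_lt p hp).1), inv_eq_of_mul_eq_one_right (r2 _ (ed_lt p hp).2),
        mul_smul, mul_smul] at e
      rw [e, add_comm v, ← add_assoc, h2, zero_add]
    obtain ⟨β, h1, h3⟩ := H28.C2A.spin_core hV h2 s (fun i hi => by
        ext v
        change τ (2 * i) • τ (2 * i) • v = v
        rw [← mul_smul, r2 i hi, one_smul])
      (fun i hi j hj => by
        split_ifs with e
        · have : (i, j) ∈ Ed ∨ (j, i) ∈ Ed := by revert i j; decide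
          exact this.elim (k _) fun e => (add_comm _ _).trans (k _ e)
        · ext v
          change τ (2 * i) • τ (2 * j) • v + τ (2 * j) • τ (2 * i) • v = 0
          rw [← mul_smul, rc i hi j hj (by simpa using e), mul_smul, h2])
    obtain ⟨g, v, hv⟩ := hne
    exact .inl ⟨β, h1, H28.C2A.spin_q h (v := v) (fun e => hv (by rw [e, smul_zero])) h1 fun i hi n => by
      rw [← (h3 i hi).lin h2]; exact inv _ _, h3⟩
  have hz : ∀ v ∈ Nx V (ev τ [0, 4]), v ∈ Fx V (ev τ wZ) := fun v hv => by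
    have e := cl (wD, [0, 4], [0, 4]) (by decide)
    have e3 : (ev τ wD)⁻¹ * ev τ [0, 4] = ev τ [0, 4] * (ev τ wD)⁻¹ := by
      rw [inv_mul_eq_iff_eq_mul, ← mul_assoc, e]; group
    simpa using Fx_conj (cl (wD, [8, 10], wZ) (by decide)) (hd _ (Nx_conj e3 hv))
  obtain ⟨u, u0, -, hu⟩ : ∃ u : V, u ≠ 0 ∧ u ∈ (⊤ : AddSubgroup V) ∧ u ∈ Nx V (ev τ [0, 4]) := by
    by_contra hc
    have f0 : ev τ [0, 4] ∈ (MulAction.toPermHom S V).ker := Equiv.ext fun v => by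
      by_contra e
      exact hc (split h2 x3 (inv_top _) trivial e)
    obtain ⟨g, v, hg⟩ := hne
    rcases simple.eq_bot_or_eq_top_of_normal (MulAction.toPermHom S V).ker inferInstance with e | e
    · rw [e, mem_bot] at f0
      exact ev_ne_one_of_chk (b := 4) C3T0.hn (fun c _ => pe_rho _ c) (by decide +kernel) f0
    · exact hg (congrArg (· v) (e.ge (mem_top g)) :)
  have h4 := tri6.four hV h2 hd hz u0 hu
  have e4 : ∀ p ∈ Ed, Nat.card (Nx V (τ (2 * p.1) * τ (2 * p.2))) = 4 := fun p hp =>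
    (card_conj (ce p hp)).symm.trans h4
  have e4' : ∀ p ∈ Ed, ∃ v : V, Vx (τ (2 * p.2)) (τ (2 * p.1)) v := fun p hp =>
    exists_vx h2 (r2 _ (ed_lt p hp).2) (r2 _ (ed_lt p hp).1)
      ((card_conj (g := τ (2 * p.2)) (mul_assoc _ _ _).symm).symm.trans (e4 p hp))
  have pa : ∀ p ∈ Pa, p.2.1 < 7 → ∀ v : V, Vx (τ (2 * p.2.1)) (τ (2 * p.1)) v →
      Vx (τ (2 * p.2.1)) (τ (2 * p.2.2.1)) v := fun p hp l v k => by
    have m : ∀ t ∈ [(p.2.2.2, [0, 4], wY p.2.2.2), ([2 * p.2.1], wY p.2.2.2, wY p.2.2.2),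
        (2 * p.2.1 :: wY p.2.2.2, [2 * p.2.1, 2 * p.1], [2 * p.2.1, 2 * p.2.2.1])],
        ev τ t.1 * ev τ t.2.1 = ev τ t.2.2 * ev τ t.1 := fun t ht =>
      cl t (List.mem_append_right _ (List.mem_flatMap.2 ⟨p, hp, ht⟩))
    simp only [List.mem_cons, List.not_mem_nil, or_false, forall_eq_or_imp, forall_eq] at m
    obtain ⟨m1, m2, m3⟩ := m
    rw [ev1] at m2
    rw [ev_cons, ev2, ev2] at m3
    exact k.path h inv (r2 _ l) (cube_of m1 x3) ((card_conj m1).symm.trans h4) m2 m3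
  obtain ⟨v0, k0⟩ := exists_vx h2 (r2 0 (by norm_num)) (r2 2 (by norm_num)) (e4 (0, 2) (by decide))
  obtain ⟨v2, k2⟩ := e4' (0, 2) (by decide)
  obtain ⟨v3, k3⟩ := e4' (2, 3) (by decide)
  obtain ⟨v1, k1⟩ := e4' (3, 1) (by decide)
  obtain ⟨v4, k4⟩ := e4' (3, 4) (by decide)
  obtain ⟨v5, k5⟩ := e4' (4, 5) (by decide)
  obtain ⟨v6, k6⟩ := e4' (5, 6) (by decide)
  have ed : ∀ p ∈ Ed, ∀ v u : V, Vx (τ (2 * p.1)) (τ (2 * p.2)) v → Vx (τ (2 * p.2)) (τ (2 * p.1)) u → _ :=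
    fun p hp v u k l => k.edge h inv l (r2 _ (ed_lt p hp).1) (r2 _ (ed_lt p hp).2)
      (cube_of (ce p hp) x3) (e4 p hp)
  obtain ⟨w, w1, w2, w3⟩ := H28.C2A.nat_core hV h inv (fun i => τ (2 * i))
    (fun i => [v0, v1, v2, v3, v4, v5, v6].getD i 0) rfl r2 rc (fun i hi => by
      interval_cases i
      exacts [k0.fix (r2 _ hi), k1.fix (r2 _ hi), k2.fix (r2 _ hi), k3.fix (r2 _ hi), k4.fix (r2 _ hi),
        k5.fix (r2 _ hi), k6.fix (r2 _ hi)]) (by
      simp only [Ed, List.mem_cons, List.not_mem_nil, or_false, forall_eq_or_imp, forall_eq]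
      exact ⟨ed (0, 2) (by decide) _ _ k0 k2,
        ed (2, 3) (by decide) _ _ (pa (0, 2, 3, [6, 4, 2, 6]) (by decide) (by decide) _ k2) k3,
        ed (3, 1) (by decide) _ _ (pa (2, 3, 1, [2, 6]) (by decide) (by decide) _ k3) k1,
        ed (3, 4) (by decide) _ _ (pa (2, 3, 4, [8, 6]) (by decide) (by decide) _ k3) k4,
        ed (4, 5) (by decide) _ _ (pa (3, 4, 5, [10, 8, 4, 6]) (by decide) (by decide) _ k4) k5,
        ed (5, 6) (by decide) _ _ (pa (4, 5, 6, [12, 10, 6, 8, 4, 6]) (by decide) (by decide) _ k5) k6⟩)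
  exact .inr ⟨w, w1, fix_all w2, w3⟩

end H4.C2
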