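import Mathlib
import Cfsg.Agent.H4.C2Def
import Cfsg.Agent.H25.CNa

/-! The natural module does not occur. -/

set_option autoImplicit false
set_option linter.unusedSectionVars false

open Subgroup H24 H15.XP
open scoped commutatorElement

namespace H25.CN

variable {G : Type*} [Group G] [Finite G]

/-- the data at an involution -/
structure Fm (t : G) (Q : Subgroup G) (u : G) : Prop where
  lx : LX t Q
  card : Nat.card Q = 512
  mem : u ∈ Q
  sq : u * u = t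
  hn : ∀ g ∈ C{t}, g * u * g⁻¹ = u ∨ g * u * g⁻¹ = u⁻¹
  hi : ∀ a ∈ Q, ∀ x ∈ Q, a * a = 1 → a ∉ zpowers t → a * u = u * a → x * x = 1 →
      a * x = x * a → x ∉ zpowers t → x * a ∉ zpowers t →
      ∃ g ∈ C{t}, g * a = a * g ∧ x * (g * x * g⁻¹) ≠ g * x * g⁻¹ * x

namespace Fm

variable {t u a p : G} {Q P : Subgroup G}

theorem cj (h : Fm t Q u) (k : G) : Fm (k * t * k⁻¹) (cj k Q) (k * u * k⁻¹) where
  lx := h.lx.cj k
  card := by rw [card_cj, h.card]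
  mem := conj_mem_cj k h.mem
  sq := by rw [← h.sq]; group
  hn := fun g hg => by
    rw [← cj_C1, mem_cj'] at hg
    obtain ⟨y, hy, rfl⟩ := hg
    rcases h.hn y hy with e | e
    · left; conv_rhs => rw [← e]
      group
    · right; rw [show (k * u * k⁻¹)⁻¹ = k * u⁻¹ * k⁻¹ by group, ← e]; group
  hi := fun a' ha' x' hx' => by
    obtain ⟨a, ha, rfl⟩ := mem_cj'.1 ha'
    obtain ⟨x, hx, rfl⟩ := mem_cj'.1 hx'
    have m : ∀ y z : G, k * y * k⁻¹ * (k * z * k⁻¹) = k * (y * z) * k⁻¹ := fun y z => by group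
    have i : ∀ y z : G, k * y * k⁻¹ = k * z * k⁻¹ ↔ y = z := fun y z => by simp
    have o : ∀ y : G, k * y * k⁻¹ = 1 ↔ y = 1 := fun y => by simp [mul_inv_eq_one]
    simp only [m, i, o, ← cj_zpowers, conj_mem_cj_iff]
    intro h1 h2 h3 h4 h5 h6 h7
    obtain ⟨g, hg, e1, e2⟩ := h.hi a ha x hx h1 h2 h3 h4 h5 h6 h7
    refine ⟨k * g * k⁻¹, by rw [← cj_C1]; exact conj_mem_cj k hg, by rw [m, m, e1], ?_⟩
    rw [show (k * g * k⁻¹)⁻¹ = k * g⁻¹ * k⁻¹ by group]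
    simpa only [m, Ne, i] using e2

theorem sq_cent (h : Fm t Q u) {g : G} (hg : g ∈ C{t}) : g * g ∈ C{u} := by
  rw [mem_C1_iff_conj, show g * g * u * (g * g)⁻¹ = g * (g * u * g⁻¹) * g⁻¹ by group]
  rcases h.hn g hg with e | e
  · rw [e, e]
  · rw [e, show g * u⁻¹ * g⁻¹ = (g * u * g⁻¹)⁻¹ by group, e, inv_inv]

variable (h : Fm t Q u) (k : Fm a P p)
include h k

theorem sym0 (h1 : a ∈ C{u}) : t ∈ C{p} := h.sq ▸ k.sq_cent (mem_C1_comm.1 h1)

theorem one_of (ne : a ≠ t) {c : G} (h1 : c ∈ zpowers t) (h2 : c ∈ zpowers a) : c = 1 := by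
  rcases (zp h.lx).1 h1 with e | e
  · exact e
  rcases (zp k.lx).1 h2 with e' | e'
  · exact e'
  exact absurd (e'.symm.trans e) ne

theorem not_zp (ne : a ≠ t) : a ∉ zpowers t := fun e => k.lx.ne_one (h.one_of k ne e (mem_zpowers a))

theorem mem_of (h1 : a ∈ C{u}) : a ∈ Q := by
  by_contra hn
  have pt : p ∈ C{t} := mem_C1_comm.1 (h.sym0 k h1)
  have at' : a ∈ C{t} := k.sq ▸ mul_mem pt pt
  have cp : ∀ x ∈ Q, x ∈ C{a} → x ∈ C{p} := fun x hx xa => by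
    refine mem_C1_iff_conj.2 ((k.hn x xa).resolve_right fun e => hn ?_)
    have := inv_mem (comm_mem' h.lx pt hx)
    rwa [commutatorElement_def, e, ← mul_inv_rev, inv_inv, k.sq] at this
  let D : G → G := fun x => x⁻¹ * (p * x * p⁻¹)
  have DQ : ∀ x ∈ Q, D x ∈ Q := fun x hx => mul_mem (inv_mem hx) (conj_mem (h.lx.norm pt) hx)
  have cj1 : ∀ x, p * x * p⁻¹ = x * D x := fun x => by simp [D]
  have cj2 : ∀ x, a * x * a⁻¹ = p * (p * x * p⁻¹) * p⁻¹ := fun x => by rw [← k.sq]; group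
  have pc : ∀ c ∈ zpowers t, p * c * p⁻¹ = c := fun c hc => by
    rw [cen hc pt, mul_inv_cancel_right]
  have A : ∀ w ∈ Q, D (D (D w)) ∈ zpowers t → D (D w) = 1 := fun w hw h3 => by
    have hx := DQ w hw
    have hy := DQ _ hx
    have ex : D w = w⁻¹ * (p * w * p⁻¹) := rfl
    have e1 := cj1 (D w)
    have e2 := cj1 (D (D w))
    have c1 := cp _ hx
    have dx : D w ∈ C{p} → D (D w) = 1 := fun e => by
      rw [mem_C1_comm, mem_C1_iff_conj] at e
      exact mul_left_cancel (e1.symm.trans (e.trans (mul_one _).symm))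
    generalize D (D (D w)) = c at h3 e2
    generalize D (D w) = y at hy e1 e2 dx
    generalize D w = x at hx ex e1 c1 dx
    have y1 : y ∈ C{p} := cp y hy (mem_C1_comm.1 (mem_C1_iff_conj.2 (by
      rw [cj2, e2, show p * (y * c) * p⁻¹ = (p * y * p⁻¹) * (p * c * p⁻¹) by group, e2, pc c h3,
        mul_assoc, zsq h.lx h3, mul_one])))
    have y2 : p * y * p⁻¹ = y := mem_C1_iff_conj.1 (mem_C1_comm.1 y1)
    have y3 : y * p * y⁻¹ = p := mem_C1_iff_conj.1 y1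
    have z1 := h.lx.xs.comm y hy w hw
    have e3 : y * w * y⁻¹ = ⁅y, w⁆ * w := by simp [commutatorElement_def]
    have e4 : y * x * y⁻¹ = x := by
      rw [ex, show y * (w⁻¹ * (p * w * p⁻¹)) * y⁻¹ =
        (y * w * y⁻¹)⁻¹ * ((y * p * y⁻¹) * (y * w * y⁻¹) * (y * p * y⁻¹)⁻¹) by group, y3, e3,
        show p * (⁅y, w⁆ * w) * p⁻¹ = (p * ⁅y, w⁆ * p⁻¹) * (p * w * p⁻¹) by group, pc _ z1]
      group
    have e5 : x * y * (x * y) = x * x := by
      rw [← e1, show p * x * p⁻¹ * (p * x * p⁻¹) = p * (x * x) * p⁻¹ by group, pc _ (sqz h.lx hx)]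
    have e6 : y * y = 1 := by
      rw [show x * y * (x * y) = x * (y * x * y⁻¹) * (y * y) by group, e4] at e5
      exact mul_left_cancel (e5.trans (mul_one _).symm)
    refine dx (c1 (mem_C1_comm.1 (mem_C1_iff_conj.2 ?_)))
    rw [cj2, e1, show p * (x * y) * p⁻¹ = (p * x * p⁻¹) * (p * y * p⁻¹) by group, e1, y2, mul_assoc,
      e6, mul_one]
  have Dc : ∀ c ∈ zpowers t, ∀ y, D (c * y) = D y := fun c hc y => by
    simp only [D]
    rw [show p * (c * y) * p⁻¹ = (p * c * p⁻¹) * (p * y * p⁻¹) by group, pc c hc]; group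
  have D2 : ∀ w ∈ Q, ∃ c ∈ zpowers t, D (D w) = c * (w⁻¹ * (a * w * a⁻¹)) := fun w hw => by
    have hv := conj_mem (h.lx.norm pt) hw
    refine ⟨((p * w * p⁻¹)⁻¹ * w * ((p * w * p⁻¹)⁻¹ * w)), sqz h.lx (mul_mem (inv_mem hv) hw), ?_⟩
    rw [cj2]; simp only [D]; group
  have D4 : ∀ w ∈ Q, D (D (D (D w))) ∈ zpowers t := fun w hw => by
    obtain ⟨c, hc, e⟩ := D2 w hw
    have hv := conj_mem (h.lx.norm at') hw
    obtain ⟨d, hd, e'⟩ := D2 _ (mul_mem (inv_mem hw) hv)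
    rw [e, Dc c hc, e']
    refine mul_mem hd ?_
    have := sqz h.lx (mul_mem (inv_mem hv) hw)
    rwa [show (w⁻¹ * (a * w * a⁻¹))⁻¹ * (a * (w⁻¹ * (a * w * a⁻¹)) * a⁻¹) =
      (a * w * a⁻¹)⁻¹ * w * ((a * w * a⁻¹)⁻¹ * (a * a * w * (a * a)⁻¹)) by group, k.lx.sq, one_mul,
      inv_one, mul_one]
  refine hn (inner h.lx at' fun w hw => ?_)
  obtain ⟨c, hc, e⟩ := D2 w⁻¹ (inv_mem hw)
  have e1 := A _ (inv_mem hw) (by rw [A _ (DQ _ (inv_mem hw)) (D4 _ (inv_mem hw))]; exact one_mem _)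
  rw [e1] at e
  rw [show ⁅a, w⁆ = (w⁻¹⁻¹ * (a * w⁻¹ * a⁻¹))⁻¹ by simp [commutatorElement_def, mul_assoc],
    ← eq_inv_of_mul_eq_one_left e.symm]
  exact hc

theorem caseI (ne : a ≠ t) (h1 : a ∈ C{u}) : False := by
  have aQ := h.mem_of k h1
  have tP := k.mem_of h (h.sym0 k h1)
  have at' := h.lx.le aQ
  have a2 := k.lx.sq
  have an := h.not_zp k ne
  have I : ∀ x ∈ Q, x ∈ P → x ∈ R4 at' a2 := fun x hx hx' => by
    by_contra hn
    rw [mem_R4, not_or] at hn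
    obtain ⟨g, hg, e1, e2⟩ := h.hi a aQ x hx a2 an (mem_C1.1 h1)
      (h.one_of k ne (sqz h.lx hx) (sqz k.lx hx')) (mem_C1.1 (k.lx.le hx')).symm hn.1 hn.2
    exact e2 (commutatorElement_eq_one_iff_mul_comm.1 (h.one_of k ne
      (h.lx.xs.comm _ hx _ (conj_mem (h.lx.norm hg) hx))
      (k.lx.xs.comm _ hx' _ (conj_mem (k.lx.norm (mem_C1.2 e1)) hx'))))
  have cR : ∀ c ∈ R4 at' a2, ∀ g ∈ C{t}, g ∈ C{a} → g * c * g⁻¹ = c := by
    rintro c (hc | hc) g g1 g2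
    · rw [cen hc g1, mul_inv_cancel_right]
    · have := cen hc g1
      rw [← mul_assoc, mul_assoc c, ← mem_C1.1 g2, ← mul_assoc] at this
      rw [mul_right_cancel this, mul_inv_cancel_right]
  have mR : ∀ c ∈ R4 at' a2, ∀ d ∈ R4 at' a2,
      c * d ∈ zpowers t ↔ (c ∈ zpowers t ↔ d ∈ zpowers t) := fun c hc d hd => by
    by_cases c1 : c ∈ zpowers t
    · simp [c1, mul_mem_cancel_left c1]
    by_cases d1 : d ∈ zpowers t
    · simp [c1, d1, mul_mem_cancel_right d1]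
    have c2 := hc.resolve_left c1
    have d2 := hd.resolve_left d1
    have := mul_mem c2 d2
    rw [mul_assoc, cen d2 at', mul_assoc d, a2, mul_one] at this
    simp [c1, d1, this]
  have cI : ∀ v ∈ P ⊓ C{t}, ∀ z ∈ Q ⊓ C{a}, ⁅v, z⁆ ∈ R4 at' a2 := fun v hv z hz =>
    I _ (comm_mem h.lx hv.2 hz.1) (comm_mem' k.lx hz.2 hv.1)
  have key := dc (U := P ⊓ C{t}) (A := Q ⊓ C{a}) (RU := R4 at' a2) (RA := zpowers u ⊔ zpowers a)
    (fun v z => ⁅v, z⁆ ∈ zpowers t) (fun v hv w hw z hz => by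
      rw [show ⁅v * w, z⁆ = v * ⁅w, z⁆ * v⁻¹ * ⁅v, z⁆ by simp [commutatorElement_def, mul_assoc],
        cR _ (cI w hw z hz) v hv.2 (k.lx.le hv.1), mR _ (cI w hw z hz) _ (cI v hv z hz)]
      exact ⟨Iff.symm, Iff.symm⟩)
    (fun v hv z hz y hy => by
      rw [show ⁅v, z * y⁆ = ⁅v, z⁆ * (z * ⁅v, y⁆ * z⁻¹) by simp [commutatorElement_def, mul_assoc],
        cR _ (cI v hv y hy) z (h.lx.le hz.1) hz.2, mR _ (cI v hv z hz) _ (cI v hv y hy)])
    (fun v hv e => I v (l4 h.lx aQ a2 hv.2 fun z z1 z2 => e z ⟨z1, z2⟩) hv.1)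
    (sup_le (zpowers_le.2 ⟨h.mem, mem_C1_comm.1 h1⟩) (zpowers_le.2 ⟨aQ, self_mem_C1 a⟩))
    (fun z hz v hv => by
      let K : Subgroup G :=
        { carrier := {z | z ∈ Q ∧ ⁅v, z⁆ ∈ zpowers t}
          one_mem' := ⟨one_mem _, by simp⟩
          mul_mem' := fun {x y} hx hy => ⟨mul_mem hx.1 hy.1, by
            rw [show ⁅v, x * y⁆ = ⁅v, x⁆ * (x * ⁅v, y⁆ * x⁻¹) by
              simp [commutatorElement_def, mul_assoc], cen hy.2 (h.lx.le hx.1), mul_inv_cancel_right]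
            exact mul_mem hx.2 hy.2⟩
          inv_mem' := fun {x} hx => ⟨inv_mem hx.1, by
            rw [show ⁅v, x⁻¹⁆ = x⁻¹ * ⁅v, x⁆⁻¹ * x by simp [commutatorElement_def, mul_assoc],
              cen (inv_mem hx.2) (inv_mem (h.lx.le hx.1)), inv_mul_cancel_right]
            exact inv_mem hx.2⟩ }
      have : zpowers u ⊔ zpowers a ≤ K := sup_le (zpowers_le.2 ⟨h.mem, by
        rcases h.hn v hv.2 with e | e <;> rw [commutatorElement_def, e]
        · simp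
        · rw [← mul_inv_rev, h.sq]; exact inv_mem (mem_zpowers t)⟩) (zpowers_le.2 ⟨aQ, by
          rw [commutatorElement_def, mem_C1_iff_conj.1 (k.lx.le hv.1)]; simp⟩)
      exact (this hz).2)
  have c1 := c256 h.lx h.card aQ an
  have c2 := c256 k.lx k.card tP (k.not_zp h ne.symm)
  have c3 := card_R4 h.lx at' a2
  have o4 : orderOf u = 2 ^ 2 := orderOf_eq_prime_pow (n := 1)
    (by rw [pow_one, pow_two, h.sq]; exact h.lx.ne_one)
    (by rw [show 2 ^ (1 + 1) = 2 * 2 from rfl, pow_mul, pow_two u, h.sq, pow_two, h.lx.sq])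
  have c4 : zpowers u < zpowers u ⊔ zpowers a := lt_of_le_of_ne le_sup_left fun e => by
    obtain ⟨n, e1⟩ : a ∈ zpowers u := e ▸ mem_sup_right (mem_zpowers a)
    simp only at e1
    obtain ⟨m, rfl | rfl⟩ := Int.even_or_odd' n
    · rw [zpow_mul, zpow_two, h.sq] at e1
      exact an (e1 ▸ zpow_mem_zpowers t m)
    · rw [zpow_add, zpow_mul, zpow_two, h.sq, zpow_one] at e1
      rw [← e1, mul_assoc, ← mul_assoc u, cen (zpow_mem_zpowers t m) (h.lx.le h.mem), mul_assoc, h.sq,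
        ← mul_assoc, zsq h.lx (zpow_mem_zpowers t m), one_mul] at a2
      exact h.lx.ne_one a2
  have c5 := card_lt c4
  rw [Nat.card_zpowers, o4] at c5
  rw [c1, c2] at key
  omega

theorem small (hc : a ∈ C{t}) (h1 : a ∉ C{u}) : Nat.card ↥(Q ⊓ C{a}) ≤ 32 := by
  have h2 : t ∉ C{p} := fun e => h1 (k.sym0 h e)
  have s : ∀ x ∈ Q ⊓ C{a}, x * x = 1 := fun x hx =>
    (h.lx.sq_or hx.1).resolve_right fun e => h2 (e ▸ k.sq_cent hx.2)
  refine abl32 h.lx h.card inf_le_left ⟨h.lx.xs.mem, mem_C1_comm.1 hc⟩ fun x hx =>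
    mem_C.2 fun y hy => ?_
  rw [← inv_eq_of_mul_eq_one_right (s _ (mul_mem hy hx)), mul_inv_rev,
    inv_eq_of_mul_eq_one_right (s x hx), inv_eq_of_mul_eq_one_right (s y hy)]

theorem prod (hc : a ∈ C{t}) (h1 : a ∉ C{u}) : ∃ R r, Fm (a * t) R r := by
  have e := (h.hn a hc).resolve_left fun e => h1 (mem_C1_iff_conj.2 e)
  have e' : u * a * u⁻¹ = a * t⁻¹ := by
    have : a⁻¹ * u * a = u⁻¹ := by
      have i := inv_eq_of_mul_eq_one_right k.lx.sq
      rw [← e, i]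
    rw [← h.sq, mul_inv_rev, ← mul_assoc]
    nth_rewrite 2 [← this]
    group
  rw [inv_eq_of_mul_eq_one_right h.lx.sq] at e'
  exact ⟨_, _, e' ▸ k.cj u⟩

theorem notin (ne : a ≠ t) : a ∉ Q := fun aQ => by
  by_cases h1 : a ∈ C{u}
  · exact h.caseI k ne h1
  have := h.small k (h.lx.le aQ) h1
  have := c256 h.lx h.card aQ (h.not_zp k ne)
  omega

theorem main (ne : a ≠ t) (hc : a ∈ C{t}) : False := by
  by_cases h1 : a ∈ C{u}
  · exact h.caseI k ne h1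
  have s := h.small k hc h1
  have a2 := k.lx.sq
  have ai := inv_eq_of_mul_eq_one_right a2
  have cQ : ∀ x ∈ Q, ⁅x, a⁆ ∈ Q := fun x hx => comm_mem' h.lx hc hx
  have iv : ∀ x : G, a * ⁅x, a⁆ * a⁻¹ = ⁅x, a⁆⁻¹ := fun x => by
    simp [commutatorElement_def, ai, mul_assoc, a2]
  obtain ⟨x, hx, x1, x2⟩ : ∃ x ∈ Q, ⁅x, a⁆ * ⁅x, a⁆ = 1 ∧ ⁅x, a⁆ ∉ zpowers t := by
    by_contra hn
    push Not at hn
    obtain ⟨w, w1, w2⟩ : ∃ w : G, orderOf w ≤ 4 ∧ ∀ x ∈ Q, ⁅x, a⁆ ∈ zpowers w := by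
      by_cases e : ∃ x ∈ Q, ⁅x, a⁆ * ⁅x, a⁆ = t
      · obtain ⟨x, hx, e⟩ := e
        have tz : zpowers t ≤ zpowers ⁅x, a⁆ :=
          zpowers_le.2 (e ▸ mul_mem (mem_zpowers _) (mem_zpowers _))
        refine ⟨⁅x, a⁆, orderOf_le_of_pow_eq_one (by norm_num) (by
          rw [show 4 = 2 * 2 from rfl, pow_mul, pow_two ⁅x, a⁆, e, pow_two, h.lx.sq]), fun y hy => ?_⟩
        rcases h.lx.sq_or (cQ y hy) with e' | e'
        · exact tz (hn y hy e')
        have z := h.lx.xs.comm x hx _ (cQ y hy)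
        have f : ⁅x * y, a⁆ = ⁅x, ⁅y, a⁆⁆ * (⁅y, a⁆ * ⁅x, a⁆) := by
          simp [commutatorElement_def, mul_assoc]
        have i1 := iv (x * y)
        have m := hn _ (mul_mem hx hy)
        rw [f] at i1 m
        rw [show a * (⁅x, ⁅y, a⁆⁆ * (⁅y, a⁆ * ⁅x, a⁆)) * a⁻¹ = a * ⁅x, ⁅y, a⁆⁆ * a⁻¹ *
          ((a * ⁅y, a⁆ * a⁻¹) * (a * ⁅x, a⁆ * a⁻¹)) by group, iv, iv, cen z hc,
          mul_inv_cancel_right] at i1
        have cx := h.lx.le (cQ x hx)
        have cy := h.lx.le (cQ y hy)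
        generalize ⁅x, ⁅y, a⁆⁆ = d at z i1 m
        generalize ⁅x, a⁆ = b at *
        generalize ⁅y, a⁆ = c at *
        have d2 := zsq h.lx z
        rw [mul_inv_rev, inv_eq_of_mul_eq_one_right d2, cen z (inv_mem (mul_mem cy cx)),
          ← mul_inv_rev] at i1
        have bc : b * c = c * b := inv_injective (mul_left_cancel i1)
        have := m (by
          rw [show d * (c * b) * (d * (c * b)) = d * (c * b * d) * (c * b) by group,
            cen z (mul_mem cy cx), show d * (d * (c * b)) * (c * b) = d * d * (c * (b * c) * b) by group,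
            d2, bc, show c * (c * b) * b = c * c * (b * b) by group, e, e', h.lx.sq, one_mul])
        rw [mul_mem_cancel_left z] at this
        exact (mul_mem_cancel_right (mem_zpowers b)).1 (tz this)
      · push Not at e
        exact ⟨t, by rw [h.lx.xs.ord]; norm_num, fun x hx =>
          hn x hx ((h.lx.sq_or (cQ x hx)).resolve_right (e x hx))⟩
    have r := H3.relIndex_centralizer_le_card Q _ a w2
    have e := card_inf_mul_relIndex C{a} Q
    rw [Nat.card_zpowers] at r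
    rw [inf_comm, h.card] at e
    have := Nat.mul_le_mul s (r.trans w1)
    omega
  have k' := k.cj x
  have e : x * a * x⁻¹ = ⁅x, a⁆ * a := by simp [commutatorElement_def]
  have n1 : x * a * x⁻¹ ≠ a := fun e' => x2 (by
    rw [commutatorElement_def, e', mul_inv_cancel]; exact one_mem _)
  have c1 : x * a * x⁻¹ ∈ C{a} := by
    rw [e]
    exact mul_mem (mem_C1_comm.1 (mem_C1_iff_conj.2 (by rw [iv, inv_eq_of_mul_eq_one_right x1])))
      (self_mem_C1 a)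
  by_cases h2 : x * a * x⁻¹ ∈ C{p}
  · exact k.caseI k' n1 h2
  obtain ⟨R, r, f⟩ := k.prod k' c1 h2
  rw [e, mul_assoc, a2, mul_one] at f
  exact h.notin f (fun e' => x2 (e' ▸ mem_zpowers _)) (cQ x hx)

end Fm

end H25.CN

namespace H4.C2

theorem natural_false {G : Type*} [Group G] [Finite G] {t : G} {Q : Subgroup G} (h : LX t Q)
    (hc : Nat.card Q = 512) (hz : NotIso t) {u : G} (hu : u ∈ Q) (h2 : u * u = t)
    (hn : ∀ g ∈ C{t}, g * u * g⁻¹ = u ∨ g * u * g⁻¹ = u⁻¹)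
    (hi : ∀ a ∈ Q, ∀ x ∈ Q, a * a = 1 → a ∉ zpowers t → a * u = u * a → x * x = 1 →
      a * x = x * a → x ∉ zpowers t → x * a ∉ zpowers t →
      ∃ g ∈ C{t}, g * a = a * g ∧ x * (g * x * g⁻¹) ≠ g * x * g⁻¹ * x) : False := by
  obtain ⟨g, g1, g2⟩ := hz
  have F : H25.CN.Fm t Q u := ⟨h, hc, hu, h2, hn, hi⟩
  exact F.main (F.cj g) g2 g1

end H4.C2
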