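import Mathlib
import Cfsg.Agent.H4.C2Mod
import Cfsg.Agent.H4.C2Nat
import Cfsg.Agent.H28.ThL
import Cfsg.Agent.H13.PConstrained

/-! Coordinates on a centraliser `2^(1+8).Sp₆(2)`. -/

set_option autoImplicit false
set_option maxRecDepth 100000

open Subgroup H24 H29 H9 H9.MX H15.XP H11

namespace H28.C2A

open H28.Th H7.Cay C3S H4.C2
open H14.He (ES bt bp bt_zero bt_conj bt_congr bt_symm)

theorem modl' {V : Type*} [AddCommGroup V] [Finite V] (hV : Nat.card V = 256)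
    (h2 : ∀ v : V, v + v = 0) (ρ : S → V → V)
    (ρ1 : ∀ v, ρ 1 v = v) (ρmul : ∀ g h v, ρ (g * h) v = ρ g (ρ h v))
    (ρadd : ∀ g v w, ρ g (v + w) = ρ g v + ρ g w) (hne : ∃ g v, ρ g v ≠ v)
    (q : V → ZMod 2) (B : V → V → ZMod 2) (hq : ∀ x y, q (x + y) = q x + q y + B x y)
    (hB : ∀ x y z, B (x + y) z = B x z + B y z) (nd : ∀ x, (∀ y, B x y = 0) → x = 0)
    (inv : ∀ g v, q (ρ g v) = q v) :
    (∃ β : ℕ → V, (∀ v, ∃ n < 256, lin β n = v) ∧ (∀ n < 256, q (lin β n) = q0 n) ∧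
      ∀ i < 7, ∀ j < 8, ρ (τ (2 * i)) (β j) = lin β (Msp i j)) ∨
    ∃ w : V, q w = 1 ∧ (∀ g, ρ g w = w) ∧ ∀ a x : V, a ≠ 0 → q a = 0 → B a w = 0 →
      q x = 0 → B a x = 0 → x ≠ 0 → x ≠ a → ∃ g, ρ g a = a ∧ B x (ρ g x) = 1 := by
  letI : DistribMulAction S V :=
    { smul := ρ
      one_smul := ρ1
      mul_smul := ρmul
      smul_zero := fun g => (AddMonoidHom.mk' (ρ g) (ρadd g)).map_zero
      smul_add := ρadd }
  have sy : ∀ x y, B x y = B y x := fun x y => by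
    have h1 := hq x y
    rw [add_comm x y, hq y x, add_comm (q y)] at h1
    exact (add_left_cancel h1).symm
  let B' : V →+ V →+ ZMod 2 := AddMonoidHom.mk'
    (fun x => AddMonoidHom.mk' (B x) fun y z => by rw [sy, hB, sy y, sy z])
    (fun x y => by ext z; exact hB x y z)
  exact modl hV hne (B := B') ⟨h2, hq, nd⟩ inv

variable {H : Type} [Group H] {Q : Subgroup H} {t : H}

theorem stage1 [Finite H] (h : ES Q t) (hx : Cfsg.IsExtraspecial 2 Q) (hc : Nat.card Q = 512)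
    (π : H →* S) (ker : ∀ g, π g = 1 ↔ g ∈ Q) (sur : ∀ σ, ∃ g, π g = σ)
    (cen : centralizer (Q : Set H) ≤ Q) :
    (∃ a : ℕ → H, Heis a ∧ (∀ i < 9, a i ∈ Q) ∧ a 8 = t ∧ ∀ i < 7, ∃ g, π g = τ (2 * i) ∧ ∀ j < 8,
      g * a j = th a (pk (TT i) 9 j) * g ∨ g * a j = th a (pk (TT i) 9 j) * g * t) ∨
    ∃ u ∈ Q, u * u = t ∧ (∀ g, g * u * g⁻¹ = u ∨ g * u * g⁻¹ = u⁻¹) ∧
      ∀ a ∈ Q, ∀ x ∈ Q, a * a = 1 → a ∉ zpowers t → a * u = u * a → x * x = 1 →
      a * x = x * a → x ∉ zpowers t → x * a ∉ zpowers t →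
      ∃ g, g * a = a * g ∧ x * (g * x * g⁻¹) ≠ g * x * g⁻¹ * x := by
  classical
  have := h.nor
  let V := Additive (Abelianization Q)
  let ψ : H → V := fun a => if ha : a ∈ Q then Additive.ofMul (Abelianization.of ⟨a, ha⟩) else 0
  have ψ1 : ∀ a (ha : a ∈ Q), ψ a = Additive.ofMul (Abelianization.of ⟨a, ha⟩) :=
    fun a ha => dif_pos ha
  have ψmul : ∀ a ∈ Q, ∀ b ∈ Q, ψ (a * b) = ψ a + ψ b := fun a ha b hb => by
    rw [ψ1 a ha, ψ1 b hb, ψ1 _ (Q.mul_mem ha hb), ← ofMul_mul, ← map_mul]; rfl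
  have ψeq : ∀ a ∈ Q, ∀ b ∈ Q, ψ a = ψ b ↔ b = a ∨ b = a * t := fun a ha b hb => by
    rw [ψ1 a ha, ψ1 b hb, Additive.ofMul.apply_eq_iff_eq, ← inv_mul_eq_one, ← map_inv, ← map_mul,
      ← MonoidHom.mem_ker, Abelianization.ker_of, hx.1.2.2]
    constructor
    · intro h1
      exact (h.cen _ (Q.mul_mem (Q.inv_mem ha) hb) fun r hr =>
        (congrArg Subtype.val (mem_center_iff.1 h1 ⟨r, hr⟩)).symm).imp
        (fun h2 => (inv_mul_eq_one.1 h2).symm) fun h2 => by rw [← h2]; group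
    · rintro (rfl | rfl)
      · simp
      · exact mem_center_iff.2 fun r => Subtype.ext (by simpa using h.tc r)
  have ψsur : ∀ v : V, ∃ a ∈ Q, ψ a = v := fun v => by
    obtain ⟨a, ha⟩ := QuotientGroup.mk_surjective (s := commutator Q) (Additive.toMul v)
    exact ⟨a, a.2, by rw [ψ1 a a.2]; exact congrArg Additive.ofMul ha⟩
  have ψone : ψ 1 = 0 := by rw [ψ1 1 Q.one_mem]; rfl
  have ψt : ψ t = 0 := ψone ▸ ((ψeq 1 Q.one_mem t h.tQ).2 (Or.inr (one_mul t).symm)).symm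
  have hV : Nat.card V = 256 := by
    have := (commutator Q).index_mul_card
    rw [hc, hx.1.2.2, hx.2, ← hx.1.2.2] at this
    change (commutator Q).index = 256
    omega
  choose pre pre1 pre2 using ψsur
  have h2 : ∀ v : V, v + v = 0 := fun v => by
    rw [← pre2 v, ← ψmul _ (pre1 v) _ (pre1 v)]
    rcases h.sq (pre1 v) with h1 | h1 <;> rw [h1]
    exacts [ψone, ψt]
  have prψ : ∀ a ∈ Q, pre (ψ a) = a ∨ pre (ψ a) = a * t := fun a ha =>
    (ψeq a ha _ (pre1 _)).1 (pre2 _).symm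
  choose l hl using sur
  have cj : ∀ x, ∀ a ∈ Q, x * a * x⁻¹ ∈ Q := fun x a ha => h.nor.conj_mem a ha x
  have cjt : ∀ x a : H, x * (a * t) * x⁻¹ = x * a * x⁻¹ * t := fun x a => by
    rw [mul_assoc _ x⁻¹ t, h.tc x⁻¹]; group
  let ρ : S → V → V := fun g v => ψ (l g * pre v * (l g)⁻¹)
  have ρψ : ∀ (g : S) x, π x = g → ∀ a ∈ Q, ρ g (ψ a) = ψ (x * a * x⁻¹) := by
    intro g x hx a ha
    have hq : x⁻¹ * l g ∈ Q := (ker _).1 (by rw [map_mul, map_inv, hx, hl, inv_mul_cancel])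
    have h3 : ψ (x⁻¹ * l g * pre (ψ a) * (x⁻¹ * l g)⁻¹) = ψ a := by
      rw [ψmul _ (Q.mul_mem hq (pre1 _)) _ (Q.inv_mem hq), ψmul _ hq _ (pre1 _), pre2,
        add_right_comm, ← ψmul _ hq _ (Q.inv_mem hq), mul_inv_cancel, ψone, zero_add]
    have h4 : l g * pre (ψ a) * (l g)⁻¹ =
        x * (x⁻¹ * l g * pre (ψ a) * (x⁻¹ * l g)⁻¹) * x⁻¹ := by group
    change ψ _ = _
    rw [h4, ψeq _ (cj _ _ (cj _ _ (pre1 _))) _ (cj _ _ ha)]
    refine ((ψeq _ (cj _ _ (pre1 _)) _ ha).1 h3).imp (fun h5 => by rw [← h5]) fun h5 => ?_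
    rw [← cjt, ← h5]
  let sq : H → ZMod 2 := fun a => if a * a = 1 then 0 else 1
  have sqt : ∀ a, sq (a * t) = sq a := fun a => by
    simp only [sq]
    rw [show a * t * (a * t) = a * a * (t * t) by rw [mul_assoc, ← mul_assoc t, ← h.tc]; group,
      h.t2, mul_one]
  have qψ : ∀ a ∈ Q, sq (pre (ψ a)) = sq a := fun a ha => by
    rcases prψ a ha with h1 | h1 <;> rw [h1]
    exact sqt a
  have Bψ : ∀ a ∈ Q, ∀ b ∈ Q, bt (pre (ψ a)) (pre (ψ b)) = bt a b := fun a ha b hb => by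
    have h1 : bt (pre (ψ a)) (pre (ψ b)) = bt a (pre (ψ b)) := by
      rcases prψ a ha with h1 | h1 <;> rw [h1]
      exact h.bt_t _ _
    rw [h1]
    rcases prψ b hb with h1 | h1 <;> rw [h1]
    rw [bt_symm, h.bt_t, bt_symm]
  have hsq : ∀ a ∈ Q, ∀ b ∈ Q, sq (a * b) = sq a + sq b + bt a b := fun a ha b hb => by
    have t1 := h.t1
    have e1 : a * b = b * a → a * b * (a * b) = a * a * (b * b) := fun h1 => by
      rw [mul_assoc, ← mul_assoc b, ← h1]; group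
    have e2 : a * b = b * a * t → a * b * (a * b) = a * a * (b * b) * t := fun h1 => by
      have : b * a = a * b * t := by rw [h1, mul_assoc, h.t2, mul_one]
      rw [mul_assoc, ← mul_assoc b, this, mul_assoc _ t, ← h.tc]; group
    simp only [sq]
    rcases h.com a ha b hb with h1 | h1
    · rw [e1 h1, bt_zero.2 h1]
      rcases h.sq ha with h3 | h3 <;> rcases h.sq hb with h4 | h4 <;>
        simp [h3, h4, t1, h.t2] <;> decide
    · rw [e2 h1, (h.bt_one ha hb).2 h1]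
      rcases h.sq ha with h3 | h3 <;> rcases h.sq hb with h4 | h4 <;>
        simp [h3, h4, t1, h.t2] <;> decide
  have ind : ∀ {p : V → Prop}, (∀ a ∈ Q, p (ψ a)) → ∀ v, p v := fun hp v =>
    pre2 v ▸ hp _ (pre1 v)
  obtain ⟨β, -, hβ2, hβ3⟩ | ⟨w, w1, w2, w3⟩ := modl' hV h2 ρ
    (ind fun a ha => by rw [ρψ 1 1 (map_one π) a ha]; simp)
    (fun g k => ind fun a ha => by
      rw [ρψ k _ (hl k) a ha, ρψ g _ (hl g) _ (cj _ _ ha),
        ρψ (g * k) (l g * l k) (by rw [map_mul, hl, hl]) a ha]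
      congr 1
      group)
    (fun g => ind fun a ha => ind fun b hb => by
      rw [← ψmul a ha b hb, ρψ g _ (hl g) a ha, ρψ g _ (hl g) b hb,
        ρψ g _ (hl g) _ (Q.mul_mem ha hb), ← ψmul _ (cj _ _ ha) _ (cj _ _ hb), conj_mul])
    (by
      by_contra! h1
      have h3 : ∀ a ∈ Q, l (ev τ [0, 4]) * a * (l (ev τ [0, 4]))⁻¹ = a ∨ l (ev τ [0, 4]) * a * (l (ev τ [0, 4]))⁻¹ = a * t :=
        fun a ha => (ψeq a ha _ (cj _ _ ha)).1 (by rw [← ρψ _ _ (hl _) a ha, h1])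
      have h4 : l (ev τ [0, 4]) * l (ev τ [0, 4]) ∈ Q := cen fun a ha => by
        have : l (ev τ [0, 4]) * (l (ev τ [0, 4]) * a * (l (ev τ [0, 4]))⁻¹) * (l (ev τ [0, 4]))⁻¹ = a := by
          rcases h3 a ha with h5 | h5
          · rw [h5, h5]
          · rw [h5, cjt, h5, mul_assoc, h.t2, mul_one]
        conv_lhs => rw [← this]
        group
      rw [← ker, map_mul, hl, ← ev_append] at h4
      exact ev_ne_one_of_chk (b := 4) C3T0.hn (fun c _ => pe_rho _ c) (by decide +kernel) h4)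
    (fun v => sq (pre v)) (fun v w => bt (pre v) (pre w))
    (ind fun a ha => ind fun b hb => by
      rw [← ψmul a ha b hb, qψ a ha, qψ b hb, qψ _ (Q.mul_mem ha hb), Bψ a ha b hb, hsq a ha b hb])
    (ind fun a ha => ind fun b hb => ind fun c hc => by
      rw [← ψmul a ha b hb, Bψ a ha c hc, Bψ b hb c hc, Bψ _ (Q.mul_mem ha hb) c hc,
        h.bt_mul ha hb hc])
    (ind fun a ha h1 => by
      rcases h.cen a ha fun r hr => bt_zero.1 (by rw [← Bψ a ha r hr]; exact h1 _) with h3 | h3 <;>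
        rw [h3]
      exacts [ψone, ψt])
    (fun g => ind fun a ha => by
      rw [ρψ g _ (hl g) a ha, qψ a ha, qψ _ (cj _ _ ha)]
      simp only [sq, conj_mul, conj_eq_one_iff])
  swap
  · have u2 : pre w * pre w = t := (h.sq (pre1 w)).resolve_left fun e => by simp [sq, e] at w1
    have nz : ∀ a ∈ Q, a ∉ zpowers t → ψ a ≠ 0 := fun a ha n e => by
      rcases (ψeq 1 Q.one_mem a ha).1 (ψone.trans e.symm) with k | k <;> rw [k] at n
      exacts [n (one_mem _), n (by simp)]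
    refine .inr ⟨pre w, pre1 w, u2, fun g => ?_, fun a ha x hx a2 an au x2 ax xn xa => ?_⟩
    · refine ((ψeq _ (pre1 w) _ (cj g _ (pre1 w))).1 ?_).imp_right fun e => ?_
      · rw [← ρψ _ g rfl _ (pre1 w), pre2, w2]
      · rw [e, eq_inv_iff_mul_eq_one, mul_assoc, ← h.tc, ← mul_assoc, u2, h.t2]
    obtain ⟨g, g1, g2⟩ := w3 (ψ a) (ψ x) (nz a ha an) (by rw [qψ a ha]; exact if_pos a2)
      (by rw [← pre2 w, Bψ a ha _ (pre1 w), bt_zero, au]) (by rw [qψ x hx]; exact if_pos x2)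
      (by rw [Bψ a ha x hx, bt_zero, ax]) (nz x hx xn) (fun e => xa (by
        rcases (ψeq x hx a ha).1 e with k | k <;> rw [k]
        · rw [x2]; exact one_mem _
        · rw [← mul_assoc, x2, one_mul]; exact mem_zpowers t))
    obtain ⟨k, k1, k2⟩ : ∃ k, π k = g ∧ k * a * k⁻¹ = a := by
      rw [ρψ g _ (hl g) a ha, eq_comm, ψeq a ha _ (cj _ _ ha)] at g1
      rcases g1 with e | e
      · exact ⟨_, hl g, e⟩
      obtain ⟨c, hc, n⟩ : ∃ c ∈ Q, ¬ a * c = c * a := by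
        by_contra! n
        rcases h.cen a ha n with k | k <;> rw [k] at an
        exacts [an (one_mem _), an (mem_zpowers t)]
      refine ⟨c * l g, by rw [map_mul, (ker c).2 hc, hl, one_mul], ?_⟩
      rw [show c * l g * a * (c * l g)⁻¹ = c * (l g * a * (l g)⁻¹) * c⁻¹ by group, e, ← mul_assoc,
        ← (h.com a ha c hc).resolve_left n, mul_inv_cancel_right]
    rw [ρψ g k k1 x hx, Bψ x hx _ (cj _ _ hx)] at g2
    exact ⟨k, mul_inv_eq_iff_eq_mul.1 k2, fun e => by rw [bt_zero.2 e] at g2; exact absurd g2 (by decide)⟩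
  let a : ℕ → H := fun j => if j < 8 then pre (β j) else t
  have a1 : ∀ j < 8, a j = pre (β j) := fun j hj => if_pos hj
  have a8 : a 8 = t := rfl
  have aQ : ∀ j, a j ∈ Q := fun j => by
    simp only [a]
    split_ifs
    exacts [pre1 _, h.tQ]
  have ab : ∀ i < 8, ∀ k < 8, bt (a i) (a k) = q0 (2 ^ i ^^^ 2 ^ k) + q0 (2 ^ i) + q0 (2 ^ k) :=
    fun i hi k hk => by
      have p : ∀ i < 8, 2 ^ i < 2 ^ 8 := fun i hi => Nat.pow_lt_pow_right (by norm_num) hi
      rw [← hβ2 _ (Nat.xor_lt_two_pow (p i hi) (p k hk)), ← hβ2 _ (p i hi), ← hβ2 _ (p k hk),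
        lin_xor h2, lin_pow β hi, lin_pow β hk, a1 i hi, a1 k hk]
      have := hsq _ (pre1 (β i)) _ (pre1 (β k))
      rw [← qψ _ (Q.mul_mem (pre1 _) (pre1 _)), ψmul _ (pre1 _) _ (pre1 _), pre2, pre2] at this
      simp only [this]
      generalize sq (pre (β i)) = x, sq (pre (β k)) = y, bt (pre (β i)) (pre (β k)) = z
      revert x y z
      decide
  have ha : Heis a := by
    refine ⟨fun i hi => ?_, fun i hi k hk hik => ?_, fun i hi => ?_⟩
    · by_cases h8 : i = 8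
      · rw [h8, a8, h.t2]
      · have h1 := hβ2 (2 ^ i) (Nat.pow_lt_pow_right (by norm_num) (show i < 8 by omega))
        rw [lin_pow β (by omega), ← a1 i (by omega),
          (by decide : ∀ i < 8, q0 (2 ^ i) = 0) i (by omega)] at h1
        by_contra h3
        simp [sq, h3] at h1
    · by_cases h8 : i = 8
      · rw [h8, a8, h.tc]
      · rw [← bt_zero, ab i (by omega) k (by omega)]
        exact (by decide : ∀ i < 8, ∀ k < i, (i = k + 4 → k = 4) →
          q0 (2 ^ i ^^^ 2 ^ k) + q0 (2 ^ i) + q0 (2 ^ k) = 0) i (by omega) k hk hik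
    · rw [← mul_assoc, a8, ← h.bt_one (aQ _) (aQ _), ab _ (by omega) _ (by omega)]
      exact (by decide : ∀ i < 4,
        q0 (2 ^ (i + 4) ^^^ 2 ^ i) + q0 (2 ^ (i + 4)) + q0 (2 ^ i) = 1) i hi
  have ψth : ∀ n, ψ (th a n) = lin β n := fun n => by
    have b1 : ∀ i b, bp (a i) b ∈ Q := fun i b => by
      cases b
      exacts [Q.one_mem, aQ i]
    have b2 : ∀ i < 8, ∀ r ∈ Q, ψ (bp (a i) (n.testBit i) * r) =
        (if n.testBit i then β i else 0) + ψ r := fun i hi r hr => by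
      rw [ψmul _ (b1 _ _) _ hr]
      cases n.testBit i
      · simp [bp, ψone]
      · simp [bp, a1 i hi, pre2]
    have b3 : ψ (bp (a 8) (n.testBit 8)) = 0 := by
      cases n.testBit 8
      exacts [ψone, ψt]
    simp (disch := (first | omega | repeat first | exact b1 _ _ | apply Q.mul_mem)) only
      [th, b2, b3, H28.Th.lin, Finset.sum_range_succ, Finset.sum_range_zero, zero_add, add_zero, add_assoc]
  refine .inl ⟨a, ha, fun i _ => aQ i, a8, fun i hi => ⟨_, hl (τ (2 * i)), fun j hj => ?_⟩⟩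
  have h1 := hβ3 i hi j hj
  rw [lin_congr β (m := pk (TT i) 9 j) fun k hk => by
      rw [Msp, show 256 = 2 ^ 8 from rfl, Nat.testBit_mod_two_pow, decide_eq_true hk, Bool.true_and],
    ← ψth, ← pre2 (β j), ← a1 j hj, ρψ _ _ (hl _) _ (aQ j),
    eq_comm, ψeq _ (th_mem (fun i _ => aQ i) _) _ (cj _ _ (aQ j))] at h1
  refine h1.imp (fun h3 => by rw [← h3]; group) fun h3 => ?_
  rw [mul_assoc, h.tc, ← mul_assoc, ← h3]; group

theorem stage2 (h : ES Q t) (π : H →* S) (ker : ∀ g, π g = 1 ↔ g ∈ Q) {a : ℕ → H} (ha : Heis a)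
    (hQ : ∀ i < 9, a i ∈ Q) (h8 : a 8 = t) {g : H} {T : ℕ} (g2 : ∀ j < 8,
      g * a j = th a (pk T 9 j) * g ∨ g * a j = th a (pk T 9 j) * g * t) :
    ∃ k, π k = π g ∧ Acts a k T := by
  classical
  obtain ⟨m, hm⟩ := (by decide +kernel : ∀ δ : Fin 8 → Bool, ∃ m ∈
    [∑ j : Fin 8, if δ j then 0 else 2 ^ ((j.val + 4) % 8)], ∀ j : Fin 8,
      mulQ m (2 ^ j.val) = mulQ (mulQ (2 ^ j.val) m) (if δ j then 0 else 256))
    fun j => decide (g * a j = th a (pk T 9 j) * g)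
  refine ⟨g * th a m, by rw [map_mul, (ker _).2 (th_mem hQ m), mul_one],
    fun j hj => ?_, by rw [h8, h.tc]⟩
  have h2 := congrArg (th a) (hm.2 ⟨j, hj⟩)
  rw [← ha.th_mul, ← ha.th_mul, ← ha.th_mul, th_pow (by omega)] at h2
  rw [mul_assoc, h2]
  by_cases h3 : g * a j = th a (pk T 9 j) * g
  · rw [if_pos (decide_eq_true h3), th_zero, mul_one, ← mul_assoc, h3, mul_assoc]
  · rw [if_neg (by simpa using h3), th_256, h8, ← mul_assoc, ← mul_assoc,
      (g2 j hj).resolve_left h3, mul_assoc _ t, ← h.tc, mul_assoc, mul_assoc, mul_assoc, h.t2,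
      mul_one]

/-- the tables of the letters -/
def TL (c : ℕ) : ℕ := if c < 14 then TT (c / 2) else idT

theorem stage3 [Finite H] (h : ES Q t) (hc : Nat.card Q = 512) (π : H →* S) (ker : ∀ g, π g = 1 ↔ g ∈ Q)
    (cen : centralizer (Q : Set H) ≤ Q) {a : ℕ → H} (ha : Heis a) (hQ : ∀ i < 9, a i ∈ Q) (h8 : a 8 = t)
    (r : ℕ → H) (hr : ∀ i < 7, π (r i) = τ (2 * i) ∧ Acts a (r i) (TT i)) :
    ∃ (r : ℕ → H) (σ : H), (∀ i < 7, π (r i) = τ (2 * i) ∧ Acts a (r i) (TT i)) ∧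
      (∀ w ∈ C3T0.R0, ev (C3.eH r σ) w = 1) ∧ (σ = 1 ∨ σ = t) := by
  have tz : t ∈ center H := mem_center_iff.2 h.tc
  have : (zpowers t).Normal := ⟨fun n hn g => by
    rw [mem_center_iff.1 (zpowers_le.2 tz hn) g, mul_inv_cancel_right]; exact hn⟩
  have cs : ∀ c, (∃ i < 7, c = 2 * i) ∨ (∃ i < 7, c = 2 * i + 1) ∨ 14 ≤ c := fun c => by
    by_cases k : 14 ≤ c
    · exact .inr (.inr k)
    rcases Nat.mod_two_eq_zero_or_one c with e | e
    exacts [.inl ⟨c / 2, by omega, by omega⟩, .inr (.inl ⟨c / 2, by omega, by omega⟩)]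
  have e1 : ∀ (r : ℕ → H) σ, ∀ i < 7, C3.eH r σ (2 * i) = r i := fun r σ i hi => by
    rw [C3.eH, if_pos (by omega), if_pos (by omega), show 2 * i / 2 = i by omega]
  have e2 : ∀ (r : ℕ → H) σ, ∀ i < 7, C3.eH r σ (2 * i + 1) = (r i)⁻¹ := fun r σ i hi => by
    rw [C3.eH, if_pos (by omega), if_neg (by omega), show (2 * i + 1) / 2 = i by omega]
  have e3 : ∀ c, 14 ≤ c → C3.eH r 1 c = 1 := fun c hc => by rw [C3.eH, if_neg (by omega), ite_self]
  have hA : ∀ c, Acts a (C3.eH r 1 c) (TL c) := fun c => by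
    rcases cs c with ⟨i, hi, rfl⟩ | ⟨i, hi, rfl⟩ | k
    · rw [e1 r 1 i hi, TL, if_pos (by omega), show 2 * i / 2 = i by omega]; exact (hr i hi).2
    · rw [e2 r 1 i hi, TL, if_pos (by omega), show (2 * i + 1) / 2 = i by omega]
      exact (hr i hi).2.inv ha (by revert i; decide +kernel)
    · rw [e3 c k, TL, if_neg (by omega)]; exact acts_one
  have hW : ∀ w n, ev (C3.eH r 1) w * th a n = th a (apW TL w n) * ev (C3.eH r 1) w := fun w n => by
    induction w with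
    | nil => simp [apW]
    | cons c w ih => rw [ev_cons, mul_assoc, ih, ← mul_assoc, (hA c).th ha, mul_assoc]; rfl
  have iv : ∀ i < 7, ivOf C3T0.ivl (2 * i) = 2 * i + 1 := by decide
  have hπ : ∀ c ∈ C3T0.cols, π (C3.eH r 1 c) = τ c := fun c hc => by
    rcases cs c with ⟨i, hi, rfl⟩ | ⟨i, hi, rfl⟩ | k
    · rw [e1 r 1 i hi, (hr i hi).1]
    · rw [e2 r 1 i hi, map_inv, (hr i hi).1, ← iv i hi, hiv]
    · rw [e3 c k, map_one, show c = 14 by revert c; decide, ← ev1, hR [14] (by decide)]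
  let p := QuotientGroup.mk' (zpowers t)
  have i1 : IvOK (C3.eH r 1) (ivOf C3T0.ivl) := C3.ivH r (one_mul 1)
  have i2 := ivOK_map p i1
  have tr : Tr τ (fun c => p (C3.eH r 1 c)) C3T0.cols := tr_of_bd ubd1 hL hiv i2 hR
    (rels_map p fun w hw => by
      have k : ∀ q ∈ Q, ev (C3.eH r 1) w * q = q * ev (C3.eH r 1) w := fun q hq => by
        obtain ⟨n, hn, rfl⟩ := ha.th_surj (h8 ▸ h.t1) hQ hc hq
        refine (mem_C1.1 (th_mem (Q := C{ev (C3.eH r 1) w}) (fun j hj => mem_C1.2 ?_) n)).symm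
        by_cases j8 : j = 8
        · rw [j8, h8, h.tc]
        · rw [← th_pow (e := a) hj, hW,
            (by decide +kernel : ∀ w ∈ R1, ∀ j < 8, apW TL w (2 ^ j) = 2 ^ j) w hw j (by omega)]
      rw [QuotientGroup.ker_mk']
      rcases h.cen _ (cen fun q hq => (k q hq).symm) k with e | e <;> rw [e]
      exacts [one_mem _, mem_zpowers t]) (by rw [top, card_top, card])
  let H0 := (gen (fun c => p (C3.eH r 1 c)) C3T0.cols).comap p
  have m0 : ∀ w : List ℕ, (∀ c ∈ w, c ∈ C3T0.cols) → ev (C3.eH r 1) w ∈ H0 ∧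
      π (ev (C3.eH r 1) w) = ev τ w := fun w hw =>
    ⟨by rw [mem_comap, map_ev]; exact ev_mem_gen hw, by rw [map_ev, ev_congr fun c hc => hπ c (hw c hc)]⟩
  have pt : p t = 1 := (QuotientGroup.eq_one_iff t).2 (mem_zpowers t)
  have t0 : t ∈ H0 := by rw [mem_comap, pt]; exact one_mem _
  have hk : ∀ x ∈ H0, π x = 1 → x = 1 ∨ x = t := fun x hx e => by
    obtain ⟨w, hw, k⟩ := exists_word i2 hL hx
    rw [← map_ev] at k
    have k2 : π ((ev (C3.eH r 1) w)⁻¹ * x) = 1 :=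
      (ker _).2 (zpowers_le.2 h.tQ (QuotientGroup.eq.1 k))
    rw [map_mul, e, mul_one, map_inv, inv_eq_one, (m0 w hw).2] at k2
    have := tr w hw k2
    rw [← map_ev, k] at this
    exact mem_zp (orderOf_eq_prime (by rw [pow_two, h.t2]) h.t1) ((QuotientGroup.eq_one_iff x).1 this)
  obtain ⟨e, j1, j2, j3⟩ := C3.exists_rels (f := π.comp H0.subtype) (z := ⟨t, t0⟩) (fun s => by
      obtain ⟨w, hw, rfl⟩ := exists_word hiv hL (top ▸ mem_top s)
      exact ⟨⟨_, (m0 w hw).1⟩, (m0 w hw).2⟩)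
    (mem_center_iff.2 fun g => Subtype.ext (h.tc g)) (Subtype.ext h.t2)
    (fun k => h.t1 (congrArg Subtype.val k)) ((ker t).2 h.tQ)
    fun x k => (hk x x.2 k).imp Subtype.ext Subtype.ext
  refine ⟨fun i => e (2 * i), e 14, fun i hi => ⟨j3 _, ?_⟩, fun w hw => ?_,
    hk _ (e 14).2 ((j3 14).trans ((ev1 14).symm.trans (hR [14] (by decide))))⟩
  · have m := (m0 [2 * i] (by revert i; decide)).1
    rw [ev_cons, ev_nil, mul_one, e1 r 1 i hi] at m
    rcases hk _ (mul_mem (inv_mem m) (e (2 * i)).2) (by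
      rw [map_mul, map_inv, (hr i hi).1, inv_mul_eq_one]; exact (j3 _).symm) with k | k <;>
      rw [inv_mul_eq_iff_eq_mul] at k <;> beta_reduce <;> rw [k]
    · rw [mul_one]; exact (hr i hi).2
    · refine ⟨fun j hj => ?_, by rw [h8, h.tc]⟩
      rw [mul_assoc, ← h.tc, ← mul_assoc, (hr i hi).2.bas j hj, mul_assoc]
  · rw [ev_congr (e' := fun c => H0.subtype (e c)) fun c hc => ?_, ← map_ev, j2 w hw, map_one]
    have l : c < 15 := (by decide +kernel : ∀ w ∈ C3T0.R0, ∀ c ∈ w, c < 15) w hw c hc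
    rcases cs c with ⟨i, hi, rfl⟩ | ⟨i, hi, rfl⟩ | k
    · exact e1 _ _ i hi
    · rw [e2 _ _ i hi, ← iv i hi, j1]; rfl
    · rw [show c = 14 by omega]; rfl

end H28.C2A

namespace H4.C2

open H28.Th (th Heis lin q0)
open H8.ThM (QF)

open H28.C2A in
theorem exists_eng {G : Type} [Group G] [Finite G] (hO : Cfsg.oddCore G = ⊥)
    (hZ : Subgroup.center G = ⊥) (t : G) (ht : orderOf t = 2)
    (hcon : Cfsg.IsPConstrained 2 (Subgroup.centralizer ({t} : Set G)))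
    (hQ : Cfsg.IsExtraspecial 2 (Cfsg.pCore 2 (Subgroup.centralizer ({t} : Set G))))
    (hcard : Nat.card (Cfsg.pCore 2 (Subgroup.centralizer ({t} : Set G))) = 2 ^ 9)
    (e : (Subgroup.centralizer ({t} : Set G)) ⧸ Cfsg.pCore 2 (Subgroup.centralizer ({t} : Set G)) ≃*
      Matrix.symplecticGroup (Fin 3) (ZMod 2)) :
    NotIso t ∧ ∃ (Q : Subgroup G) (π : C{t} →* C3S.S) (x r : ℕ → G) (σ : G), Eng t Q π x r σ := by
  have t2 : t * t = 1 := by rw [← pow_two, ← ht, pow_orderOf_eq_one]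
  have t1 : t ≠ 1 := fun h => by rw [h, orderOf_one] at ht; omega
  have hN : NotIso t := by
    by_contra n
    refine t1 (mem_bot.1 (hZ ▸ mem_center_iff.2 fun g => (H17.zstar_central hO ⟨ht, fun c hc => ?_⟩ g).eq.symm))
    by_contra k
    exact n ⟨c, mem_C1.2 hc.eq.symm, k⟩
  obtain ⟨f⟩ := C3S.iso
  set Q := Cfsg.pCore 2 C{t}
  let π : C{t} →* C3S.S := (e.trans f.symm).toMonoidHom.comp (QuotientGroup.mk' _)
  have sur : Function.Surjective π := (e.trans f.symm).surjective.comp (QuotientGroup.mk'_surjective _)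
  have ker : ∀ a, π a = 1 ↔ a ∈ Q := fun a =>
    (e.trans f.symm).map_eq_one_iff.trans (QuotientGroup.eq_one_iff a)
  have hO' : Cfsg.pPrimeCore 2 C{t} = ⊥ := by
    have co := H2.pPrimeCore_coprime 2 C{t}
    rcases C3S.simple.eq_bot_or_eq_top_of_normal ((Cfsg.pPrimeCore 2 C{t}).map π)
      (Normal.map inferInstance _ sur) with k | k
    · have := card_dvd_of_le (H := Cfsg.pPrimeCore 2 C{t}) (K := Q) fun x hx =>
        (ker x).1 (mem_bot.1 (k ▸ mem_map_of_mem π hx))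
      rw [hcard] at this
      exact card_eq_one.1 (Nat.Coprime.eq_one_of_dvd (co.pow_right 9) this)
    · have := card_map_dvd (Cfsg.pPrimeCore 2 C{t}) π
      rw [k, card_top, C3S.card] at this
      exact absurd (co.coprime_dvd_left this) (by norm_num)
  have cen := (H13.isPConstrained_iff_of_pPrimeCore_eq_bot hO').1 hcon
  have lx := lx_of ht Q cen hQ
  have h := H14.He.es_of (t := ⟨t, self_mem_C1 t⟩) hQ cen
    (fun g => Subtype.ext (mem_C1.1 g.2)) (Subtype.ext t2) fun h => t1 (congrArg Subtype.val h)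
  have cQ : Nat.card (Q.map C{t}.subtype) = 512 := by
    rw [card_map_of_injective (subtype_injective _), hcard]; rfl
  refine ⟨hN, ?_⟩
  rcases stage1 h hQ hcard π ker sur cen with ⟨a, ha, aQ, a8, hg⟩ | ⟨u, hu, u2, hn, hi⟩
  · have : ∀ i : ℕ, ∃ k, i < 7 → π k = C3S.τ (2 * i) ∧ H28.Th.Acts a k (TT i) := fun i => by
      by_cases hi : i < 7
      · obtain ⟨g, g1, g2⟩ := hg i hi
        obtain ⟨k, k1, k2⟩ := stage2 h π ker ha aQ a8 g2
        exact ⟨k, fun _ => ⟨k1.trans g1, k2⟩⟩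
      · exact ⟨1, fun k => absurd k hi⟩
    choose r hr using this
    obtain ⟨r, σ, h1, h2, h3⟩ := stage3 h hcard π ker cen ha aQ a8 r hr
    refine ⟨_, π, fun i => a i, fun i => r i, σ, lx, cQ, ha.map C{t}.subtype, congrArg Subtype.val a8,
      fun i hi => mem_map_of_mem _ (aQ i hi), fun i hi => (h1 i hi).2.map C{t}.subtype, fun w hw => ?_,
      h3.imp (congrArg Subtype.val) (congrArg Subtype.val), fun g hg => ?_,
      fun i hi => (ap_coe _ _).trans (h1 i hi).1⟩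
    · rw [ev_congr (e' := fun c => C{t}.subtype (C3.eH r σ c)) fun c _ => ?_, ← map_ev, h2 w hw, map_one]
      unfold C3.eH
      split_ifs <;> rfl
    · rw [ap_of_mem π hg, ker]
      exact (mem_map_iff_mem (subtype_injective _) (x := ⟨g, hg⟩)).symm
  · have zp : ∀ {x : C{t}}, (x : G) ∉ zpowers t → x ∉ zpowers (⟨t, self_mem_C1 t⟩ : C{t}) :=
      fun n ⟨k, e⟩ => n ⟨k, congrArg Subtype.val e⟩
    refine (natural_false lx cQ hN (mem_map_of_mem _ hu) (congrArg Subtype.val u2)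
      (fun g hg => (hn ⟨g, hg⟩).imp (congrArg Subtype.val) (congrArg Subtype.val)) ?_).elim
    rintro _ ⟨a, ha, rfl⟩ _ ⟨x, hx, rfl⟩ a2 an au x2 ax xn xa
    obtain ⟨g, g1, g2⟩ := hi a ha x hx (Subtype.ext a2) (zp an) (Subtype.ext au) (Subtype.ext x2)
      (Subtype.ext ax) (zp xn) (zp xa)
    exact ⟨g, g.2, congrArg Subtype.val g1, fun e => g2 (Subtype.ext e)⟩

end H4.C2
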