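import Mathlib
import Cfsg.Agent.H4.C2Def
import Cfsg.Agent.H4.C2D

/-! The word problem in the centraliser `2^(1+8).Sp₆(2)`. -/

set_option autoImplicit false
set_option linter.unusedSectionVars false
set_option maxRecDepth 100000
set_option exponentiation.threshold 5000

open Subgroup H24 H29 H9 H9.MX H15.XP H15.KM H11

namespace H4.C2

open H28.Th (th Heis mulQ invQ mulQ_lt invQ_lt th_zero th_pow th_256 th_mem th_congr)
open H7.Cay (pk)

/-- table lookup. -/
def lk (T b i m : ℕ) : ℕ := Nat.land (Nat.shiftRight T (Nat.mul b i)) m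
/-- lookup in a table of 9-bit numbers. -/
def lk9 (T i : ℕ) : ℕ := Nat.land (Nat.shiftRight T (Nat.mul 9 i)) 511
theorem lk9_lt (T i : ℕ) : lk9 T i < 512 := Nat.and_lt_two_pow _ (n := 9) (by norm_num)
/-- the `Q`-part of a letter. -/
def qc (c : ℕ) : ℕ := lk9 QC c
/-- action of the complement part of a word on codes. -/
noncomputable def act (w : List ℕ) (n : ℕ) : ℕ :=
  List.rec (motive := fun _ => ℕ) n (fun c _ ih => lk9 (tabs c) ih) w
/-- the `Q`-part of a word. -/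
noncomputable def nOf (w : List ℕ) : ℕ :=
  List.rec (motive := fun _ => ℕ) 0
    (fun c _ ih => lit (qc c) fun a => lit (lk9 (tabs c) ih) fun b => mulQ a b) w

theorem act_cons (c : ℕ) (w : List ℕ) (n : ℕ) : act (c :: w) n = lk9 (tabs c) (act w n) := rfl
theorem nOf_cons (c : ℕ) (w : List ℕ) : nOf (c :: w) = mulQ (qc c) (lk9 (tabs c) (nOf w)) := rfl
theorem act_lt {n : ℕ} (hn : n < 512) : ∀ w, act w n < 512
  | [] => hn
  | _ :: _ => lk9_lt _ _
theorem nOf_lt : ∀ w, nOf w < 512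
  | [] => by decide
  | _ :: _ => mulQ_lt (lk9_lt _ _) (lk9_lt _ _)
theorem act_append (n : ℕ) (v : List ℕ) : ∀ u, act (u ++ v) n = act u (act v n)
  | [] => rfl
  | c :: u => congrArg (lk9 (tabs c)) (act_append n v u)

noncomputable def runK (w : List ℕ) : (ℕ → ℕ → ℕ → ℕ → ℕ → ℕ → ℕ → ℕ → ℕ → ℕ) → ℕ :=
  List.rec (motive := fun _ => (ℕ → ℕ → ℕ → ℕ → ℕ → ℕ → ℕ → ℕ → ℕ → ℕ) → ℕ)
    (fun k => k 0 1 2 4 8 16 32 64 128)
    (fun c _ ih k => ih fun n a0 a1 a2 a3 a4 a5 a6 a7 => lit (tabs c) fun T => lit (qc c) fun a =>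
      lit (lk9 T n) fun b => lit (mulQ a b) fun n => lit (lk9 T a0) fun a0 =>
      lit (lk9 T a1) fun a1 => lit (lk9 T a2) fun a2 => lit (lk9 T a3) fun a3 =>
      lit (lk9 T a4) fun a4 => lit (lk9 T a5) fun a5 => lit (lk9 T a6) fun a6 =>
      lit (lk9 T a7) fun a7 => k n a0 a1 a2 a3 a4 a5 a6 a7) w

theorem runK_eq : ∀ (w : List ℕ) (k : ℕ → ℕ → ℕ → ℕ → ℕ → ℕ → ℕ → ℕ → ℕ → ℕ), runK w k =
    k (nOf w) (act w 1) (act w 2) (act w 4) (act w 8) (act w 16) (act w 32) (act w 64) (act w 128)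
  | [], _ => rfl
  | _ :: w, _ => runK_eq w _

/-- pairing in base 512. -/
def pa (a b : ℕ) : ℕ := Nat.add a (Nat.mul 512 b)
theorem pa_inj {a b c d : ℕ} (h1 : a < 512) (h2 : c < 512) (h : pa a b = pa c d) : a = c ∧ b = d := by
  change a + 512 * b = c + 512 * d at h; omega

/-- normal form modulo `Q`. -/
noncomputable def runH (w : List ℕ) : ℕ := runK w fun _ a0 a1 a2 a3 a4 a5 a6 a7 =>
  pa a0 (pa a1 (pa a2 (pa a3 (pa a4 (pa a5 (pa a6 a7))))))
/-- normal form in the split group. -/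
noncomputable def runC (w : List ℕ) : ℕ := runK w fun n a0 a1 a2 a3 a4 a5 a6 a7 =>
  pa n (pa a0 (pa a1 (pa a2 (pa a3 (pa a4 (pa a5 (pa a6 a7)))))))

theorem runC_eq (w : List ℕ) : runC w = pa (nOf w) (runH w) := by
  rw [runC, runH, runK_eq, runK_eq]

theorem runH_iff {u v : List ℕ} : runH u = runH v ↔ ∀ j < 8, act u (2 ^ j) = act v (2 ^ j) := by
  rw [runH, runH, runK_eq, runK_eq]
  constructor
  · intro h j hj
    have l : ∀ (w : List ℕ) (n : ℕ), n < 512 → act w n < 512 := fun w n h => act_lt h w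
    obtain ⟨a0, h⟩ := pa_inj (l _ _ (by norm_num)) (l _ _ (by norm_num)) h
    obtain ⟨a1, h⟩ := pa_inj (l _ _ (by norm_num)) (l _ _ (by norm_num)) h
    obtain ⟨a2, h⟩ := pa_inj (l _ _ (by norm_num)) (l _ _ (by norm_num)) h
    obtain ⟨a3, h⟩ := pa_inj (l _ _ (by norm_num)) (l _ _ (by norm_num)) h
    obtain ⟨a4, h⟩ := pa_inj (l _ _ (by norm_num)) (l _ _ (by norm_num)) h
    obtain ⟨a5, h⟩ := pa_inj (l _ _ (by norm_num)) (l _ _ (by norm_num)) h
    obtain ⟨a6, a7⟩ := pa_inj (l _ _ (by norm_num)) (l _ _ (by norm_num)) h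
    interval_cases j <;> assumption
  · intro h
    rw [show act u 1 = act v 1 from h 0 (by norm_num), show act u 2 = act v 2 from h 1 (by norm_num),
      show act u 4 = act v 4 from h 2 (by norm_num), show act u 8 = act v 8 from h 3 (by norm_num),
      show act u 16 = act v 16 from h 4 (by norm_num), show act u 32 = act v 32 from h 5 (by norm_num),
      show act u 64 = act v 64 from h 6 (by norm_num),
      show act u 128 = act v 128 from h 7 (by norm_num)]

/-- conjugation of a code by a word. -/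
noncomputable def cjq (w : List ℕ) (n : ℕ) : ℕ :=
  lit (nOf w) fun a => lit (act w n) fun b => lit (mulQ a b) fun c => lit (invQ a) fun d => mulQ c d

theorem cjq_lt (w : List ℕ) {n : ℕ} (hn : n < 512) : cjq w n < 512 :=
  mulQ_lt (mulQ_lt (nOf_lt w) (act_lt hn w)) (invQ_lt (nOf_lt w))

/-- all letters are their own inverses. -/
def iv0 (c : ℕ) : ℕ := c

variable {G : Type} [Group G] [Finite G]

/-- the basis of `Q` among the letters. -/
def xs (e : ℕ → G) (j : ℕ) : G := if j < 8 then e (12 + j) else e 0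
/-- the element of `Q` with a given code. -/
def θ (e : ℕ → G) (n : ℕ) : G := th (xs e) n
/-- the complement (or its double cover). -/
def HH (e : ℕ → G) (σ : G) : Subgroup G := gen (C3.eH (fun i => e (i + 1)) σ) C3T0.cols
/-- letters of `Q`. -/
def lQ : List ℕ := [12, 13, 14, 15, 16, 17, 18, 19, 0]
/-- the word of a code. -/
noncomputable def qw (n : ℕ) : List ℕ := mw lQ n

/-- The letters of the centraliser. -/
structure Let (e : ℕ → G) (σ : G) : Prop where
  heis : Heis (xs e)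
  ne : e 0 ≠ 1
  acts : ∀ i < 7, H28.Th.Acts (xs e) (e (i + 1)) (TT i)
  rel : ∀ w ∈ C3T0.R0, ev (C3.eH (fun i => e (i + 1)) σ) w = 1
  sig : σ = 1 ∨ σ = e 0
  e9 : e 9 = 1
  e11 : e 11 = 1
  e10 : e 10 = e 12
  df : ∀ c, c = 8 ∨ 20 ≤ c → e c = ev e (nth [] defs c)

theorem chk_slp : chkSlp defs = true := by decide +kernel

theorem chk_tab : (allN 81 fun c => lit c fun c => or2 (eqL (nth [] defs c) [c])
    (frc (nth [] defs c) fun w => and2 (Nat.beq (qc c) (nOf w))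
      (lit (tabs c) fun T => allN 512 fun n => lit n fun n => Nat.beq (lk9 T n) (act w n)))) = true := by
  decide +kernel

theorem chk_r : (allN 7 fun i => lit i fun i => and2 (Nat.beq (qc (i + 1)) 0)
    (lit (tabs (i + 1)) fun T => lit (TT i) fun U => allN 512 fun n => lit n fun n =>
      Nat.beq (lk9 T n) (H28.Th.ap U n))) = true := by decide +kernel

theorem lk9_IDT : ∀ n < 512, lk9 IDT n = n := by decide +kernel

theorem tabs_big {c : ℕ} (h : 81 ≤ c) : tabs c = IDT ∧ qc c = 0 := by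
  by_cases h1 : c < 128
  · exact (by decide +kernel : ∀ c < 128, 81 ≤ c → tabs c = IDT ∧ qc c = 0) c h1 h
  · refine ⟨by rw [tabs, ble_true.2 (not_lt.1 h1)], ?_⟩
    have : QC >>> (9 * c) = 0 := Nat.shiftRight_eq_zero _ _
      (lt_of_lt_of_le (by decide +kernel : QC < 2 ^ (9 * 128))
        (Nat.pow_le_pow_right (by norm_num) (by omega)))
    change Nat.land (QC >>> (9 * c)) 511 = 0
    rw [this]; rfl

variable {e : ℕ → G} {σ : G}

theorem θ_zero : θ e 0 = 1 := th_zero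
theorem θ_256 : θ e 256 = e 0 := th_256
theorem θ_pow {j : ℕ} (hj : j < 8) : θ e (2 ^ j) = e (12 + j) :=
  (th_pow (by omega)).trans (if_pos hj)

theorem ev_qw (n : ℕ) : ev e (qw n) = θ e n := by
  have k : ∀ (c : ℕ) (l : List ℕ) (n : ℕ), ev e (mw (c :: l) n) =
      H14.He.bp (e c) (n.testBit 0) * ev e (mw l (n / 2)) := fun c l n => by
    obtain ⟨k, rfl | rfl⟩ := Nat.even_or_odd' n
    · rw [mw_even, show 2 * k / 2 = k by omega]; simp [H14.He.bp]
    · rw [mw_odd, show (2 * k + 1) / 2 = k by omega, ev_cons]; simp [H14.He.bp, Nat.testBit_zero]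
  simp only [qw, lQ, k, Nat.testBit_div_two, θ, th, xs]
  norm_num [mw]

namespace Let

variable (h : Let e σ)
include h

theorem θ_mul (n m : ℕ) : θ e n * θ e m = θ e (mulQ n m) := h.heis.th_mul n m
theorem θ_inv {n : ℕ} (hn : n < 512) : θ e (invQ n) = (θ e n)⁻¹ := h.heis.th_inv hn
theorem θ_inj {n m : ℕ} (hn : n < 512) (hm : m < 512) (h1 : θ e n = θ e m) : n = m :=
  h.heis.th_inj h.ne hn hm h1
theorem t2 : e 0 * e 0 = 1 := h.heis.sq 8 (by norm_num)
theorem θ_t (n : ℕ) : e 0 * θ e n = θ e n * e 0 := h.heis.th_eight n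
theorem s2 : σ * σ = 1 := by rcases h.sig with a | a <;> rw [a]; exacts [mul_one 1, h.t2]
theorem ivH : IvOK (C3.eH (fun i => e (i + 1)) σ) (ivOf C3T0.ivl) := C3.ivH _ h.s2

theorem r_mem {i : ℕ} (hi : i < 7) : e (i + 1) ∈ HH e σ := by
  have : C3.eH (fun i => e (i + 1)) σ (2 * i) = e (i + 1) := by
    rw [C3.eH, if_pos (by omega), if_pos (by omega), show 2 * i / 2 = i by omega]
  exact this ▸ mem_gen ((by decide : ∀ i < 7, 2 * i ∈ C3T0.cols) i hi)

theorem s_mem : σ ∈ HH e σ := mem_gen (e := C3.eH _ σ) (c := 14) (by decide)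

theorem HH_le {K : Subgroup G} (h1 : ∀ i < 7, e (i + 1) ∈ K) (h2 : σ ∈ K) : HH e σ ≤ K :=
  gen_le.2 fun c hc => by
    have : c < 15 := (by decide : ∀ c ∈ C3T0.cols, c < 15) c hc
    unfold C3.eH
    split_ifs
    exacts [h1 _ (by omega), inv_mem (h1 _ (by omega)), h2, one_mem _]

theorem HH_C : HH e σ ≤ C{e 0} :=
  h.HH_le (fun i hi => mem_C1.2 (h.acts i hi).eight) (by
    rcases h.sig with a | a <;> rw [a]
    exacts [one_mem _, self_mem_C1 _])

theorem nf_of {w : List ℕ} (hw : ∀ c ∈ w, ∃ k ∈ HH e σ, e c = θ e (qc c) * k ∧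
    ∀ n < 512, k * θ e n = θ e (lk9 (tabs c) n) * k) : ∃ k ∈ HH e σ, ev e w = θ e (nOf w) * k ∧
      ∀ n < 512, k * θ e n = θ e (act w n) * k := by
  induction w with
  | nil => exact ⟨1, one_mem _, by simp [nOf, θ_zero], fun n _ => by simp [act]⟩
  | cons c w ih =>
    obtain ⟨k, a1, a2, a3⟩ := ih fun y hy => hw y (List.mem_cons_of_mem _ hy)
    obtain ⟨l, b1, b2, b3⟩ := hw c List.mem_cons_self
    refine ⟨l * k, mul_mem b1 a1, ?_, fun n hn => ?_⟩
    · rw [ev_cons, a2, b2, nOf_cons, ← h.θ_mul, mul_assoc, ← mul_assoc l, b3 _ (nOf_lt w)]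
      simp only [mul_assoc]
    · rw [mul_assoc, a3 n hn, ← mul_assoc, b3 _ (act_lt hn w), act_cons, mul_assoc]

theorem dat (c : ℕ) : ∃ k ∈ HH e σ, e c = θ e (qc c) * k ∧
    ∀ n < 512, k * θ e n = θ e (lk9 (tabs c) n) * k := by
  induction c using Nat.strong_induction_on with
  | _ c ih =>
    have q : tabs c = IDT → e c = θ e (qc c) → ∃ k ∈ HH e σ, e c = θ e (qc c) * k ∧
        ∀ n < 512, k * θ e n = θ e (lk9 (tabs c) n) * k := fun a1 a2 =>
      ⟨1, one_mem _, by simpa using a2, fun n hn => by rw [a1, lk9_IDT n hn]; simp⟩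
    by_cases h1 : 81 ≤ c
    · refine q (tabs_big h1).1 ?_
      rw [(tabs_big h1).2, θ_zero, h.df c (.inr (by omega)), nth_default _ (by exact h1)]; rfl
    by_cases h2 : c = 8 ∨ 20 ≤ c
    · have a1 := allN_true.1 chk_tab c (by omega)
      have a0 : nth [] defs c ≠ [c] :=
        (by decide +kernel : ∀ c < 81, c = 8 ∨ 20 ≤ c → nth [] defs c ≠ [c]) c (by omega) h2
      simp only [lit_eq, or2_true, frc_eq, and2_true, allN_true, H29.beq_true] at a1
      obtain ⟨a2, a3⟩ := a1.resolve_left fun a => a0 (eqL_true a)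
      obtain ⟨k, b1, b2, b3⟩ := h.nf_of (w := nth [] defs c) fun y hy =>
        ih y ((chkSlp_spec chk_slp c).resolve_left a0 y hy)
      exact ⟨k, b1, by rw [a2, ← b2]; exact h.df c h2, fun n hn => by rw [a3 n hn, b3 n hn]⟩
    by_cases h3 : 1 ≤ c ∧ c ≤ 7
    · obtain ⟨i, rfl⟩ : ∃ i, c = i + 1 := ⟨c - 1, by omega⟩
      have a1 := allN_true.1 chk_r i (by omega)
      simp only [lit_eq, and2_true, allN_true, H29.beq_true] at a1
      exact ⟨e (i + 1), h.r_mem (by omega), by rw [a1.1, θ_zero, one_mul], fun n hn => by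
        rw [a1.2 n hn]; exact (h.acts i (by omega)).th h.heis n⟩
    have a1 : tabs c = IDT := (by decide +kernel : ∀ c < 20, ¬ c = 8 → ¬ (1 ≤ c ∧ c ≤ 7) →
      tabs c = IDT) c (by omega) (by omega) h3
    refine q a1 ?_
    by_cases h4 : 12 ≤ c
    · obtain ⟨j, rfl⟩ : ∃ j, c = 12 + j := ⟨c - 12, by omega⟩
      rw [(by decide +kernel : ∀ j < 8, qc (12 + j) = 2 ^ j) j (by omega), θ_pow (by omega)]
    · obtain rfl | rfl | rfl | rfl : c = 0 ∨ c = 9 ∨ c = 10 ∨ c = 11 := by omega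
      · exact θ_256.symm
      · rw [h.e9]; exact θ_zero.symm
      · rw [h.e10]; exact (θ_pow (j := 0) (by norm_num)).symm
      · rw [h.e11]; exact θ_zero.symm

theorem nf (w : List ℕ) : ∃ k ∈ HH e σ, ev e w = θ e (nOf w) * k ∧
    ∀ n < 512, k * θ e n = θ e (act w n) * k := h.nf_of fun c _ => h.dat c

theorem ev_C (w : List ℕ) : ev e w ∈ C{e 0} := by
  obtain ⟨k, a1, a2, -⟩ := h.nf w
  exact a2 ▸ mul_mem (mem_C1.2 (h.θ_t _).symm) (h.HH_C a1)

theorem e_C (c : ℕ) : e c ∈ C{e 0} := by simpa using h.ev_C [c]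

theorem conj (w : List ℕ) {n : ℕ} (hn : n < 512) :
    ev e w * θ e n * (ev e w)⁻¹ = θ e (cjq w n) := by
  obtain ⟨k, -, a2, a3⟩ := h.nf w
  simp only [cjq, lit_eq]
  rw [a2, ← h.θ_mul, ← h.θ_mul, h.θ_inv (nOf_lt w), mul_assoc _ k, a3 n hn]; group

theorem mem_Q {g : G} : g ∈ gen e lQ ↔ ∃ n < 512, θ e n = g := by
  constructor
  · intro hg
    induction hg using Subgroup.closure_induction with
    | mem x hx =>
      obtain ⟨c, hc, rfl⟩ := hx
      rcases (by decide : ∀ c ∈ lQ, c = 0 ∨ ∃ j < 8, c = 12 + j) c hc with rfl | ⟨j, hj, rfl⟩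
      · exact ⟨256, by norm_num, θ_256⟩
      · exact ⟨2 ^ j, Nat.pow_lt_pow_right (n := 9) (by norm_num) (by omega), θ_pow hj⟩
    | one => exact ⟨0, by norm_num, θ_zero⟩
    | mul x y _ _ hx hy =>
      obtain ⟨n, hn, rfl⟩ := hx
      obtain ⟨m, hm, rfl⟩ := hy
      exact ⟨_, mulQ_lt hn hm, (h.θ_mul n m).symm⟩
    | inv x _ hx => obtain ⟨n, hn, rfl⟩ := hx; exact ⟨_, invQ_lt hn, h.θ_inv hn⟩
  · rintro ⟨n, -, rfl⟩
    rw [← ev_qw]; exact ev_mem_gen (mem_mw _ _)

theorem θ_mem (n : ℕ) : θ e n ∈ gen e lQ := by rw [← ev_qw]; exact ev_mem_gen (mem_mw _ _)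

/-- two words act alike on `Q` if their tables agree. -/
theorem cen_of_runH {u v : List ℕ} {k l : G} (huv : runH u = runH v) (hk : k ∈ HH e σ)
    (hl : l ∈ HH e σ) (a : ∀ n < 512, k * θ e n = θ e (act u n) * k)
    (b : ∀ n < 512, l * θ e n = θ e (act v n) * l) : l⁻¹ * k ∈ C[gen e lQ] := by
  refine cents_symm (gen_le.2 fun c hc => ?_) (mem_zpowers _)
  rw [C_zpowers]
  rcases (by decide : ∀ c ∈ lQ, c = 0 ∨ ∃ j < 8, c = 12 + j) c hc with rfl | ⟨j, hj, rfl⟩
  · exact mem_C1_comm.1 (h.HH_C (mul_mem (inv_mem hl) hk))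
  · have p : 2 ^ j < 512 := Nat.pow_lt_pow_right (n := 9) (by norm_num) (by omega)
    have a1 := a _ p
    rw [runH_iff.1 huv j hj, eq_mul_inv_of_mul_eq (b _ p).symm] at a1
    rw [← θ_pow (e := e) hj, mem_C1, mul_assoc l⁻¹, a1]; group

theorem runH_of_cen {u v : List ℕ} {k l : G} (a : ∀ n < 512, k * θ e n = θ e (act u n) * k)
    (b : ∀ n < 512, l * θ e n = θ e (act v n) * l) (hc : l⁻¹ * k ∈ C[gen e lQ]) :
    runH u = runH v := runH_iff.2 fun j hj => by
  have p : 2 ^ j < 512 := Nat.pow_lt_pow_right (n := 9) (by norm_num) (by omega)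
  refine h.θ_inj (act_lt p u) (act_lt p v) ?_
  rw [eq_mul_inv_of_mul_eq (a _ p).symm, eq_mul_inv_of_mul_eq (b _ p).symm]
  have := mem_C'.1 hc _ (h.θ_mem (2 ^ j))
  calc _ = l * (l⁻¹ * k * θ e (2 ^ j)) * k⁻¹ := by group
    _ = _ := by rw [this]; group

theorem HH_N : HH e σ ≤ N[gen e lQ] := h.HH_le (fun i hi => mem_N_of_finite fun x hx => by
    obtain ⟨n, hn, rfl⟩ := h.mem_Q.1 hx
    have := h.conj [i + 1] hn
    rw [ev_cons, ev_nil, mul_one] at this
    exact this ▸ h.θ_mem _) (by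
  rcases h.sig with a | a <;> rw [a]
  exacts [one_mem _, norm_self _ (mem_gen (by decide))])

end Let

namespace Let

variable (h : Let e 1)
include h

theorem simpleH : IsSimpleGroup (HH e 1) := by
  have hR : ∀ r ∈ C3S.R1, ev (C3.eH (fun i => e (i + 1)) 1) r = 1 :=
    rels_append h.rel (by simp [C3.eH])
  obtain ⟨f, hf, -⟩ := (tr_of_bd C3S.ubd1 C3S.hL C3S.hiv h.ivH C3S.hR hR
    (by rw [C3S.top, Subgroup.card_top, C3S.card])).exists_surj C3S.hiv h.ivH C3S.hL
  have := C3S.simple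
  have : IsSimpleGroup (gen C3S.τ C3T0.cols) := by
    rw [C3S.top]; exact Subgroup.topEquiv.isSimpleGroup
  have : Nontrivial (HH e 1) := (nontrivial_iff_exists_ne_one _).2 ⟨e 1, h.r_mem (i := 0) (by norm_num),
    fun a => by
      have := h.conj [1] (n := 1) (by norm_num)
      rw [ev_cons, a] at this
      exact absurd (h.θ_inj (n := 1) (by norm_num) (cjq_lt [1] (n := 1) (by norm_num))
        (by simpa using this)) (by decide +kernel)⟩
  exact IsSimpleGroup.isSimpleGroup_of_surjective f hf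

theorem triv {K : Subgroup G} (h1 : HH e 1 ≤ N[K]) (h2 : e 1 ∉ K) {k : G} (hk : k ∈ HH e 1)
    (hK : k ∈ K) : k = 1 := by
  have := h.simpleH
  have : (K.subgroupOf (HH e 1)).Normal := ⟨fun a ha g => mem_subgroupOf.2 (conj_mem (h1 g.2) (mem_subgroupOf.1 ha))⟩
  rcases IsSimpleGroup.eq_bot_or_eq_top_of_normal (K.subgroupOf (HH e 1)) this with a | a
  · exact congrArg Subtype.val (mem_bot.1 (a ▸ hK : (⟨k, hk⟩ : HH e 1) ∈ ⊥))
  · exact absurd (subgroupOf_eq_top.1 a (h.r_mem (i := 0) (by norm_num))) h2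

theorem triv_Q {k : G} (hk : k ∈ HH e 1) (hK : k ∈ gen e lQ) : k = 1 :=
  h.triv h.HH_N (fun a => by
    obtain ⟨n, hn, a⟩ := h.mem_Q.1 a
    have := h.conj [1] (n := 1) (by norm_num)
    rw [ev_cons, ev_nil, mul_one, ← a, mul_inv_eq_iff_eq_mul, h.θ_mul, h.θ_mul] at this
    exact (by decide +kernel : ∀ n < 512, mulQ n 1 ≠ mulQ (cjq [1] 1) n) n hn
      (h.θ_inj (mulQ_lt hn (by norm_num)) (mulQ_lt (cjq_lt _ (by norm_num)) hn) this)) hk hK

theorem triv_C {k : G} (hk : k ∈ HH e 1) (hK : k ∈ C[gen e lQ]) : k = 1 :=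
  h.triv (h.HH_N.trans (N_le_NC _)) (fun a => by
    have := h.conj [1] (n := 1) (by norm_num)
    rw [ev_cons, ev_nil, mul_one, mem_C'.1 a _ (h.θ_mem 1), mul_inv_cancel_right] at this
    exact absurd (h.θ_inj (by norm_num) (cjq_lt _ (by norm_num)) this) (by decide +kernel)) hk hK

theorem iso : Iso runC e := fun u v => by
  obtain ⟨k, a1, a2, a3⟩ := h.nf u
  obtain ⟨l, b1, b2, b3⟩ := h.nf v
  rw [runC_eq, runC_eq, a2, b2]
  constructor
  · intro a
    obtain ⟨c1, c2⟩ := pa_inj (nOf_lt u) (nOf_lt v) a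
    rw [c1, inv_mul_eq_one.1 (h.triv_C (mul_mem (inv_mem b1) a1) (h.cen_of_runH c2 a1 b1 a3 b3))]
  · intro a
    have c1 : k = l := mul_inv_eq_one.1 (h.triv_Q (mul_mem a1 (inv_mem b1)) (by
      rw [show k * l⁻¹ = (θ e (nOf u))⁻¹ * θ e (nOf v) by
        rw [eq_inv_mul_iff_mul_eq, ← mul_assoc, a, mul_inv_cancel_right]]
      exact mul_mem (inv_mem (h.θ_mem _)) (h.θ_mem _)))
    subst c1
    rw [h.θ_inj (nOf_lt u) (nOf_lt v) (mul_right_cancel a), h.runH_of_cen a3 b3 (by simp)]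

theorem iv : IvOK e iv0 := fun c => eq_inv_of_mul_eq_one_right (by
  change e c * e c = 1
  by_cases h1 : c < 81
  · simpa using h.iso.eqW.1 (allN_true.1 (by decide +kernel :
      (allN 81 fun c => lit c fun c => eqW runC [c, c] []) = true) c h1)
  · rw [h.df c (.inr (by omega)), nth_default _ (by exact not_lt.1 h1)]; simp)

theorem sq (c : ℕ) : e c * e c = 1 := by nth_rw 1 [show e c = (e c)⁻¹ from h.iv c]; simp

end Let

end H4.C2
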