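import Mathlib
import Cfsg.Agent.H4.C2E

/-! Coset representatives of a Sylow subgroup of `Sp₆(2)`: the checks. -/

set_option autoImplicit false
set_option maxRecDepth 100000
set_option Elab.async false

open H29 H15.KM

namespace H4.C2

/-- decode a word of at most `k` nonzero seven-bit letters. -/
noncomputable def dec (k : ℕ) : ℕ → List ℕ :=
  Nat.rec (motive := fun _ => ℕ → List ℕ) (fun _ => [])
    (fun _ ih n => Bool.rec (motive := fun _ => List ℕ)
      (lit (Nat.land n 127) fun a => lit (Nat.shiftRight n 7) fun m => a :: ih m) [] (Nat.beq n 0)) k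

/-- the coset representatives. -/
noncomputable def wd (i : ℕ) : List ℕ := lit (lk WW 35 i 34359738367) (dec 5)

/-- the Sylow subgroup of `Sp₆(2)`. -/
def lT : List ℕ := [75, 3, 8, 5, 76, 77, 78, 79, 7]

noncomputable def chkCv (c D : ℕ) : Bool :=
  allN 2835 fun i => lit i fun i => lit (lk D 21 i 2097151) fun d => lit (Nat.land d 4095) fun j =>
    and2 (Nat.ble j 2834) (eqW runH (c :: wd i) (app (wd j) (mw lT (Nat.shiftRight d 12))))

theorem cv1 : chkCv 1 D1 = true := by decide +kernel
theorem cv2 : chkCv 2 D2 = true := by decide +kernel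
theorem cv3 : chkCv 3 D3 = true := by decide +kernel
theorem cv4 : chkCv 4 D4 = true := by decide +kernel
theorem cv5 : chkCv 5 D5 = true := by decide +kernel
theorem cv6 : chkCv 6 D6 = true := by decide +kernel
theorem cv7 : chkCv 7 D7 = true := by decide +kernel

theorem cv {c : ℕ} (hc : c ∈ [1, 2, 3, 4, 5, 6, 7]) {i : ℕ} (hi : i < 2835) :
    ∃ j < 2835, ∃ n, runH (c :: wd i) = runH (wd j ++ mw lT n) := by
  have k : ∀ D, chkCv c D = true → ∃ j < 2835, ∃ n, runH (c :: wd i) = runH (wd j ++ mw lT n) :=
    fun D h => by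
      have := allN_true.1 h i hi
      simp only [lit_eq, and2_true, ble_true, eqW, H29.beq_true, app_eq] at this
      exact ⟨_, Nat.lt_succ_of_le this.1, _, this.2⟩
  simp only [List.mem_cons, List.not_mem_nil, or_false] at hc
  rcases hc with rfl | rfl | rfl | rfl | rfl | rfl | rfl
  exacts [k _ cv1, k _ cv2, k _ cv3, k _ cv4, k _ cv5, k _ cv6, k _ cv7]

/-- representatives of the classes of involutions of `Sp₆(2)` (and the identity). -/
def rp5 : List (List ℕ) := [[], [7], [76], [76, 7], [3, 5, 7]]

theorem chk_cj : (allN 512 fun n => lit n fun n => frc (mw lT n) fun w =>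
    or2 (not1 (eqW runH (app w w) [])) (lit (lk CJ 38 n 274877906943) fun d =>
      frc (dec 5 (Nat.shiftRight d 3)) fun g => and2 (Nat.ble (Nat.land d 7) 4)
        (eqW runH (app g w) (app (nth [] rp5 (Nat.land d 7)) g)))) = true := by decide +kernel

theorem chk_pcT : chkPC runH iv0 lT = true := by decide +kernel

end H4.C2
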