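import Mathlib
import Cfsg.Agent.H4.C2Cov

/-! The centraliser `2^(1+8).Sp₆(2)` with its projection. -/

set_option autoImplicit false
set_option linter.unusedSectionVars false
set_option maxRecDepth 100000

open Subgroup H24 H29 H9 H9.MX H15.XP H15.KM H11

namespace H4.C2

open H28.Th (th Heis mulQ invQ mulQ_lt invQ_lt th_zero th_pow th_256 th_mem th_congr)

variable {G : Type} [Group G] [Finite G]

instance finS : Finite C3S.S := Nat.finite_of_card_ne_zero (by rw [C3S.card]; norm_num)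

/-- The letters of the centraliser of `e 0` with the projection to `Sp₆(2)`. -/
structure En (e : ℕ → G) (π : C{e 0} →* C3S.S) (σ : G) : Prop extends Let e σ where
  lx : LX (e 0) (gen e lQ)
  ker : ∀ g ∈ C{e 0}, ap π g = 1 ↔ g ∈ gen e lQ
  pr : ∀ i < 7, ap π (e (i + 1)) = C3S.τ (2 * i)

theorem Eng.exists_en {t : G} {Q : Subgroup G} {π : C{t} →* C3S.S} {x r : ℕ → G} {σ : G}
    (h : Eng t Q π x r σ) : ∃ e : ℕ → G, e 0 = t ∧ ∃ π' : C{e 0} →* C3S.S, En e π' σ := by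
  let b : ℕ → G := fun c => if 1 ≤ c ∧ c ≤ 7 then r (c - 1) else th x (qc c)
  let e := slp b defs
  have hb : ∀ c < 20, c ≠ 8 → e c = b c := fun c h1 h2 =>
    slp_base b ((by decide +kernel : ∀ c < 20, c ≠ 8 → nth [] defs c = [c]) c h1 h2)
  have h0 : e 0 = t := (hb 0 (by norm_num) (by norm_num)).trans (th_256.trans h.x8)
  have hr : ∀ i < 7, e (i + 1) = r i := fun i hi =>
    (hb _ (by omega) (by omega)).trans (if_pos (by omega))
  have hx : ∀ j < 9, xs e j = x j := fun j hj => by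
    by_cases h8 : j = 8
    · subst h8; exact h0.trans h.x8.symm
    · rw [xs, if_pos (by omega), hb _ (by omega) (by omega)]
      simp only [b]
      rw [if_neg (by omega), (by decide +kernel : ∀ j < 8, qc (12 + j) = 2 ^ j) j (by omega),
        th_pow hj]
  have hH : C3.eH (fun i => e (i + 1)) σ = C3.eH r σ := funext fun c => by
    unfold C3.eH
    split_ifs
    exacts [hr _ (by omega), congrArg _ (hr _ (by omega)), rfl, rfl]
  have hL : Let e σ :=
    { heis := ⟨fun i hi => by rw [hx i hi, h.heis.sq i hi], fun i hi k hk hik => by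
        rw [hx i hi, hx k (by omega), h.heis.comm i hi k hk hik], fun i hi => by
        rw [hx i (by omega), hx (i + 4) (by omega), hx 8 (by omega), h.heis.pair i hi]⟩
      ne := h0 ▸ h.lx.ne_one
      acts := fun i hi => ⟨fun j hj => by
        rw [hx j (by omega), th_congr hx, hr i hi, (h.acts i hi).bas j hj], by
        rw [hx 8 (by omega), hr i hi, (h.acts i hi).eight]⟩
      rel := hH ▸ h.rel
      sig := h0 ▸ h.sig
      e9 := (hb 9 (by norm_num) (by norm_num)).trans th_zero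
      e11 := (hb 11 (by norm_num) (by norm_num)).trans th_zero
      e10 := (hb 10 (by norm_num) (by norm_num)).trans (hb 12 (by norm_num) (by norm_num)).symm
      df := fun c _ => slp_def b chk_slp c }
  have hQ : gen e lQ = Q := by
    ext g
    rw [hL.mem_Q]
    simp only [θ, th_congr hx]
    exact ⟨fun ⟨n, _, hn⟩ => hn ▸ th_mem h.xQ n,
      h.heis.th_surj (h.x8 ▸ h.lx.ne_one) h.xQ h.card⟩
  refine ⟨e, h0, ?_⟩
  have a1 := h.lx
  have a2 := h.ker
  have a3 : ∀ i < 7, ap π (e (i + 1)) = C3S.τ (2 * i) := fun i hi => hr i hi ▸ h.pr i hi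
  rw [← hQ] at a1 a2
  clear_value e
  subst h0
  exact ⟨π, hL, a1, a2, a3⟩

variable {e : ℕ → G} {π : C{e 0} →* C3S.S} {σ : G}

theorem Let.cardQ (h : Let e σ) : Nat.card (gen e lQ) = 512 := by
  have hb : Function.Bijective fun n : Fin 512 => (⟨θ e n, h.θ_mem n⟩ : gen e lQ) :=
    ⟨fun a b hab => Fin.ext (h.θ_inj a.2 b.2 (congrArg Subtype.val hab)), fun g => by
      obtain ⟨n, hn, a⟩ := h.mem_Q.1 g.2
      exact ⟨⟨n, hn⟩, Subtype.ext a⟩⟩
  rw [← Nat.card_eq_of_bijective _ hb, Nat.card_fin]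

/-- the letters in `Sp₆(2)`. -/
noncomputable def eb (e : ℕ → G) (π : C{e 0} →* C3S.S) (c : ℕ) : C3S.S := ap π (e c)

/-- the Sylow subgroup of the centraliser. -/
noncomputable def TS (e : ℕ → G) (π : C{e 0} →* C3S.S) : Subgroup G := pre π (gen (eb e π) lT)

namespace En

variable (h : En e π σ)
include h

theorem ev_b (w : List ℕ) : ev (eb e π) w = ap π (ev e w) := ev_ap π fun c _ => h.e_C c

theorem kerQ : pre π ⊥ = gen e lQ := by
  ext g; rw [mem_pre_bot]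
  exact ⟨fun a => (h.ker g a.1).1 a.2, fun a => ⟨h.lx.le a, (h.ker g (h.lx.le a)).2 a⟩⟩

theorem tQ : e 0 ∈ gen e lQ := h.lx.xs.mem

theorem ap_θ (n : ℕ) : ap π (θ e n) = 1 := (h.ker _ (h.lx.le (h.θ_mem n))).2 (h.θ_mem n)

theorem topb : gen (eb e π) [1, 2, 3, 4, 5, 6, 7] = ⊤ := by
  rw [eq_top_iff, ← C3S.top]
  have k : ∀ i < 7, C3S.τ (2 * i) ∈ gen (eb e π) [1, 2, 3, 4, 5, 6, 7] := fun i hi =>
    h.pr i hi ▸ mem_gen (e := eb e π) ((by decide : ∀ i < 7, i + 1 ∈ [1, 2, 3, 4, 5, 6, 7]) i hi)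
  refine gen_le.2 fun c hc => ?_
  rcases (by decide : ∀ c ∈ C3T0.cols, c = 14 ∨ ∃ i < 7, c = 2 * i ∨ c = ivOf C3T0.ivl (2 * i)) c hc
    with rfl | ⟨i, hi, rfl | rfl⟩
  · rw [show C3S.τ 14 = 1 by simpa using C3S.hR [14] (by decide)]; exact one_mem _
  · exact k i hi
  · rw [C3S.hiv]; exact inv_mem (k i hi)

theorem imgH : img π (HH e σ) = ⊤ := by
  rw [eq_top_iff, ← h.topb]
  exact gen_le.2 fun c hc => by
    obtain ⟨i, hi, rfl⟩ := (by decide : ∀ c ∈ [1, 2, 3, 4, 5, 6, 7], ∃ i < 7, c = i + 1) c hc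
    exact ap_mem_img π (h.r_mem hi) (h.e_C _)

theorem range : π.range = ⊤ := eq_top_iff.2 (h.imgH.ge.trans (img_le_range _ _))

theorem surj (s : C3S.S) : ∃ g ∈ C{e 0}, ap π g = s := by
  obtain ⟨g, hg⟩ : s ∈ π.range := h.range ▸ mem_top s
  exact ⟨g, g.2, by simpa using hg⟩

theorem HQ {k : G} (hk : k ∈ HH e σ) (hQ : k ∈ gen e lQ) : k ∈ zpowers (e 0) := by
  rcases h.sig with a | a
  · subst a; rw [h.toLet.triv_Q hk hQ]; exact one_mem _
  · have a1 := card_img_mul π h.HH_C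
    have a2 := (C3S.ubd _ _ h.ivH h.rel).2
    rw [h.imgH, h.kerQ, Subgroup.card_top, C3S.card] at a1
    have a3 : zpowers (e 0) = gen e lQ ⊓ HH e σ := eq_of_card_ge
      (zpowers_le.2 ⟨h.tQ, a ▸ h.s_mem⟩) (by
        rw [card_zpowers', h.lx.xs.ord]
        change Nat.card (HH e σ) ≤ _ at a2
        omega)
    exact a3 ▸ ⟨hQ, hk⟩

theorem isoH : Iso runH (eb e π) := fun u v => by
  obtain ⟨k, a1, a2, a3⟩ := h.nf u
  obtain ⟨l, b1, b2, b3⟩ := h.nf v
  have c : ∀ n, θ e n ∈ C{e 0} := fun n => h.lx.le (h.θ_mem n)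
  rw [h.ev_b, h.ev_b, a2, b2, ap_mul π (c _) (h.HH_C a1), ap_mul π (c _) (h.HH_C b1), h.ap_θ, h.ap_θ,
    one_mul, one_mul, eq_comm (a := ap π k), ← inv_mul_eq_one (a := ap π l), ← ap_inv π (h.HH_C b1),
    ← ap_mul π (inv_mem (h.HH_C b1)) (h.HH_C a1), h.ker _ (h.HH_C (mul_mem (inv_mem b1) a1))]
  exact ⟨fun a => h.lx.zle (h.lx.cent (h.cen_of_runH a a1 b1 a3 b3)), fun a =>
    h.runH_of_cen a3 b3 (zpowers_le.2 (mem_C_iff_le_C1.2 h.lx.le) (h.HQ (mul_mem (inv_mem b1) a1) a))⟩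

/-- equality of normal forms gives equality modulo `e 0`. -/
theorem eq_mod {u v : List ℕ} (a : runC u = runC v) : ev e u = ev e v ∨ ev e u = ev e v * e 0 := by
  obtain ⟨k, a1, a2, a3⟩ := h.nf u
  obtain ⟨l, b1, b2, b3⟩ := h.nf v
  rw [runC_eq, runC_eq] at a
  obtain ⟨c1, c2⟩ := pa_inj (nOf_lt u) (nOf_lt v) a
  rw [a2, b2, c1]
  rcases h.lx.eq_or (h.cen_of_runH c2 a1 b1 a3 b3) with c | c
  · exact .inl (by rw [inv_mul_eq_one.1 c])
  · exact .inr (by rw [mul_assoc, ← c, mul_inv_cancel_left])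

theorem ivb : IvOK (eb e π) iv0 := fun c => eq_inv_of_mul_eq_one_right (by
  change eb e π c * eb e π c = 1
  by_cases h1 : c < 81
  · simpa using h.isoH.eqW.1 (allN_true.1 (by decide +kernel :
      (allN 81 fun c => lit c fun c => eqW runH [c, c] []) = true) c h1)
  · rw [eb, h.df c (.inr (by omega)), nth_default _ (by exact not_lt.1 h1)]; simp)

theorem cardC : Nat.card C{e 0} = 743178240 := by
  have := card_pre (f := π) (X := ⊤) h.range.ge
  rwa [pre_top, h.kerQ, h.cardQ, Subgroup.card_top, C3S.card] at this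

/-- lifting an equation in `Sp₆(2)`. -/
theorem lift {g : G} (hg : g ∈ C{e 0}) {w : List ℕ} (a : ap π g = ev (eb e π) w) :
    ∃ n < 512, g = θ e n * ev e w := by
  obtain ⟨n, hn, b⟩ := h.mem_Q.1 ((h.ker _ (mul_mem hg (inv_mem (h.ev_C w)))).1 (by
    rw [ap_mul π hg (inv_mem (h.ev_C w)), ap_inv π (h.ev_C w), a, h.ev_b, mul_inv_cancel]))
  exact ⟨n, hn, by rw [b, inv_mul_cancel_right]⟩

theorem word {g : G} (hg : g ∈ C{e 0}) : ∃ w, (∀ c ∈ w, c ∈ [1, 2, 3, 4, 5, 6, 7]) ∧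
    ∃ n < 512, g = θ e n * ev e w := by
  obtain ⟨w, a1, a2⟩ := exists_word h.ivb (l := [1, 2, 3, 4, 5, 6, 7]) (fun _ h => h)
    (h.topb ▸ mem_top (ap π g))
  exact ⟨w, a1, h.lift hg a2.symm⟩

theorem C_eq : C{e 0} = gen e ([1, 2, 3, 4, 5, 6, 7] ++ lQ) :=
  le_antisymm (fun g hg => by
    obtain ⟨w, a1, n, -, rfl⟩ := h.word hg
    exact mul_mem (gen_mono (fun _ => List.mem_append_right _) (h.θ_mem n))
      (ev_mem_gen fun c hc => List.mem_append_left _ (a1 c hc))) (gen_le.2 fun c _ => h.e_C c)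

theorem pcT : PC (eb e π) lT := h.isoH.pc h.ivb chk_pcT

theorem cardTb : Nat.card (gen (eb e π) lT) = 512 := h.pcT.card

theorem sylTb : Syl 2 ⊤ (gen (eb e π) lT) := Syl.mk' Nat.prime_two le_top h.pcT.pi (by
  have := card_mul_relIndex (le_top (a := gen (eb e π) lT))
  rw [h.cardTb, Subgroup.card_top, C3S.card] at this
  omega)

theorem cardT : Nat.card (TS e π) = 2 ^ 18 := by
  rw [TS, card_pre (h.range ▸ le_top), h.kerQ, h.cardQ, h.cardTb]; norm_num

theorem T_le : TS e π ≤ C{e 0} := pre_le _ _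

theorem Q_le_T : gen e lQ ≤ TS e π := h.kerQ ▸ ker_le_pre _ _

theorem sylT : Syl 2 C{e 0} (TS e π) :=
  Syl.mk' Nat.prime_two h.T_le (isPi_of_card Nat.prime_two h.cardT) (by
    have := card_mul_relIndex h.T_le
    rw [h.cardT, h.cardC] at this
    omega)

theorem sylG : Syl 2 ⊤ (TS e π) :=
  h.sylT.of_norm_le Nat.prime_two le_top (inf_le_right.trans (h.lx.norm_le h.sylT))

theorem e_T {c : ℕ} (hc : c ∈ lT) : e c ∈ TS e π := mem_pre.2 ⟨h.e_C c, mem_gen (e := eb e π) hc⟩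

theorem mem_T {g : G} : g ∈ TS e π ↔ ∃ k < 512, ∃ n < 512, g = θ e n * ev e (mw lT k) := by
  constructor
  · intro hg
    obtain ⟨k, a1, a2⟩ := h.pcT.cover (mem_pre.1 hg).2
    exact ⟨k, a1, h.lift (h.T_le hg) a2.symm⟩
  · rintro ⟨k, -, n, -, rfl⟩
    exact mul_mem (h.Q_le_T (h.θ_mem n)) (ev_mem fun c hc => h.e_T (mem_mw _ _ c hc))

theorem coverb (s : C3S.S) : ∃ i < 2835, ∃ k < 512, s = ev (eb e π) (wd i ++ mw lT k) := by
  suffices ∃ i < 2835, (ev (eb e π) (wd i))⁻¹ * s ∈ gen (eb e π) lT by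
    obtain ⟨i, a1, a2⟩ := this
    obtain ⟨k, a3, a4⟩ := h.pcT.cover a2
    exact ⟨i, a1, k, a3, by rw [ev_append, a4, mul_inv_cancel_left]⟩
  obtain ⟨w, a1, rfl⟩ := exists_word h.ivb (l := [1, 2, 3, 4, 5, 6, 7]) (fun _ h => h)
    (h.topb ▸ mem_top s)
  induction w with
  | nil => exact ⟨0, by norm_num, by rw [show wd 0 = [] by decide +kernel]; simp⟩
  | cons c w ih =>
    obtain ⟨i, b1, b2⟩ := ih fun y hy => a1 y (List.mem_cons_of_mem _ hy)
    obtain ⟨j, b3, n, b4⟩ := cv (a1 c List.mem_cons_self) b1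
    rw [h.isoH, ev_cons, ev_append] at b4
    refine ⟨j, b3, ?_⟩
    rw [ev_cons, eq_mul_inv_of_mul_eq b4, mul_assoc, mul_assoc, inv_mul_cancel_left]
    exact mul_mem (ev_mem_gen (mem_mw _ _)) b2

theorem cover {g : G} (hg : g ∈ C{e 0}) : ∃ i < 2835, ∃ k < 512, ∃ n < 512,
    g = θ e n * ev e (wd i ++ mw lT k) := by
  obtain ⟨i, a1, k, a2, a3⟩ := h.coverb (ap π g)
  exact ⟨i, a1, k, a2, h.lift hg a3⟩

/-- the classes of involutions of `Sp₆(2)`. -/
theorem inv_S {s : C3S.S} (hs : s * s = 1) :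
    ∃ g, ∃ k < 5, g * s * g⁻¹ = ev (eb e π) (nth [] rp5 k) := by
  obtain ⟨g, -, a1⟩ := Sylow_Jsub Nat.prime_two h.sylTb
    (piElt_of_pow_eq_one (piNat_self Nat.prime_two) (show s ^ 2 = 1 by rwa [pow_two])).isPi le_top
  obtain ⟨n, a2, a3⟩ := h.pcT.cover (a1 (conj_mem_cj g (mem_zpowers s)))
  have := allN_true.1 chk_cj n a2
  simp only [lit_eq, frc_eq, or2_true, not1_true, and2_true, h.isoH.eqW, app_eq, ev_append, a3,
    ble_true] at this
  obtain ⟨b1, b2⟩ := this.resolve_left fun a => a (by rw [conj_mul, hs]; simp)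
  rw [← mul_inv_eq_iff_eq_mul] at b2
  exact ⟨_ * g, _, Nat.lt_succ_of_le b1, Eq.trans (by rw [mul_inv_rev]; simp only [mul_assoc]; rfl) b2⟩

/-- the involutions of the centraliser, up to conjugacy. -/
theorem inv_C {y : G} (hy : y ∈ C{e 0}) (h2 : y * y ∈ gen e lQ) :
    ∃ g ∈ C{e 0}, ∃ k < 5, ∃ n < 512, g * y * g⁻¹ = θ e n * ev e (nth [] rp5 k) := by
  obtain ⟨s, k, a1, a2⟩ := h.inv_S (s := ap π y)
    (by rw [← ap_mul π hy hy, h.ker _ (mul_mem hy hy)]; exact h2)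
  obtain ⟨g, a3, rfl⟩ := h.surj s
  exact ⟨g, a3, k, a1, h.lift (mul_mem (mul_mem a3 hy) (inv_mem a3)) (by rw [ap_conj π a3 hy, a2])⟩

end En

end H4.C2
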