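import Mathlib
import Cfsg.Agent.H4.C2F
import Cfsg.Agent.H4.C2JD

/-! The elementary abelian subgroup of order `2^10`. -/

set_option autoImplicit false
set_option linter.unusedSectionVars false
set_option maxRecDepth 100000
set_option exponentiation.threshold 20000

open Subgroup H24 H29 H9.MX H15.XP H15.KM H11

namespace H4.C2

open H28.Th (th Heis mulQ invQ mulQ_lt invQ_lt testBit_mulQ_lt)

/-- letters of `E`. -/
def lE : List ℕ := [0, 7, 12, 13, 14, 15, 76, 77, 78, 79]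
/-- letters of `T / E`. -/
def lU : List ℕ := [75, 3, 8, 5, 16, 17, 18, 19]
/-- lookup in a table of 10-bit numbers. -/
def lk10 (T i : ℕ) : ℕ := Nat.land (Nat.shiftRight T (Nat.mul 10 i)) 1023
theorem lk10_lt (T i : ℕ) : lk10 T i < 1024 := Nat.and_lt_two_pow _ (n := 10) (by norm_num)
/-- action of a word on the codes of `E`. -/
noncomputable def aE (w : List ℕ) (n : ℕ) : ℕ :=
  List.rec (motive := fun _ => ℕ) n (fun c _ ih => lit ih (lk10 (tE c))) w
theorem aE_cons (c : ℕ) (w : List ℕ) (n : ℕ) : aE (c :: w) n = lk10 (tE c) (aE w n) := rfl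
theorem aE_lt {n : ℕ} (hn : n < 1024) : ∀ w, aE w n < 1024
  | [] => hn
  | _ :: _ => lk10_lt _ _
theorem xor_lt {n m : ℕ} (hn : n < 1024) (hm : m < 1024) : n ^^^ m < 1024 :=
  Nat.xor_lt_two_pow (n := 10) hn hm

/-- the table is linear. -/
noncomputable def lin10 (T : ℕ) : Bool :=
  and2 (Nat.beq (lk10 T 0) 0) (allN 1024 fun n => lit n fun n => or2 (Nat.beq n 0)
    (lit (Nat.log2 n) fun j => lit (Nat.pow 2 j) fun b => lit (Nat.xor n b) fun m =>
      and2 (and2 (Nat.ble j 9) (Nat.ble (Nat.succ m) n))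
        (Nat.beq (lk10 T n) (Nat.xor (lk10 T m) (lk10 T b)))))

theorem chk_tE : (allL LN fun c => lit c fun c => lit (tE c) fun T => and2 (lin10 T)
    (allN 10 fun j => lit j fun j => eqW runC [c, nth 0 lE j, c] (mw lE (lk10 T (Nat.pow 2 j))))) =
    true := by decide +kernel

theorem mulQ_mod (n m : ℕ) : mulQ n m % 256 = (n ^^^ m) % 256 :=
  Nat.eq_of_testBit_eq fun i => by
    rw [show 256 = 2 ^ 8 from rfl, Nat.testBit_mod_two_pow, Nat.testBit_mod_two_pow]
    by_cases hi : i < 8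
    · rw [testBit_mulQ_lt n m (by omega), Nat.testBit_xor]
    · simp [hi]

theorem cj_mod (a b : ℕ) : mulQ (mulQ a b) (invQ a) % 256 = b % 256 :=
  Nat.eq_of_testBit_eq fun i => by
    rw [show 256 = 2 ^ 8 from rfl, Nat.testBit_mod_two_pow, Nat.testBit_mod_two_pow]
    by_cases hi : i < 8
    · have : (invQ a).testBit i = a.testBit i := by
        change (a ^^^ mulQ a a).testBit i = _
        rw [Nat.testBit_xor, testBit_mulQ_lt a a (by omega)]; simp
      rw [testBit_mulQ_lt _ _ (by omega), testBit_mulQ_lt _ _ (by omega), this]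
      cases a.testBit i <;> simp
    · simp [hi]

variable {G : Type} [Group G] [Finite G]

theorem ev_mw_cons (e : ℕ → G) (c : ℕ) (l : List ℕ) (n : ℕ) : ev e (mw (c :: l) n) =
    H14.He.bp (e c) (n.testBit 0) * ev e (mw l (n / 2)) := by
  obtain ⟨k, rfl | rfl⟩ := Nat.even_or_odd' n
  · rw [mw_even, show 2 * k / 2 = k by omega]; simp [H14.He.bp]
  · rw [mw_odd, show (2 * k + 1) / 2 = k by omega, ev_cons]; simp [H14.He.bp, Nat.testBit_zero]

theorem ev_mw_xor {e : ℕ → G} : ∀ {l : List ℕ}, (∀ c ∈ l, e c * e c = 1) →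
    (∀ c ∈ l, ∀ d ∈ l, e c * e d = e d * e c) → ∀ n m,
    ev e (mw l n) * ev e (mw l m) = ev e (mw l (n ^^^ m))
  | [], _, _, _, _ => mul_one _
  | c :: l, h1, h2, n, m => by
    have a : ev e (mw l (n / 2)) ∈ C{e c} := ev_mem fun d hd =>
      mem_C1.2 (h2 d (List.mem_cons_of_mem _ (mem_mw _ _ d hd)) c List.mem_cons_self)
    have b := h1 c List.mem_cons_self
    rw [ev_mw_cons, ev_mw_cons, ev_mw_cons, Nat.xor_div_two, ← ev_mw_xor
      (fun d hd => h1 d (List.mem_cons_of_mem _ hd))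
      (fun d hd d' hd' => h2 d (List.mem_cons_of_mem _ hd) d' (List.mem_cons_of_mem _ hd')),
      Nat.testBit_xor]
    rw [mem_C1] at a
    cases n.testBit 0 <;> cases m.testBit 0 <;> simp only [H14.He.bp] <;>
      simp only [Bool.xor_self, Bool.xor_false, Bool.false_xor, cond_true, cond_false,
        Bool.cond_false, Bool.cond_true, one_mul, mul_assoc]
    · rw [← mul_assoc, a, mul_assoc]
    · rw [← mul_assoc _ (e c), a, ← mul_assoc, ← mul_assoc, b, one_mul]

/-- the element of `E` with a given code. -/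
noncomputable def ε (e : ℕ → G) (n : ℕ) : G := ev e (mw lE n)
/-- `g` acts on `E` by the table `T`. -/
def ActE (e : ℕ → G) (g : G) (T : ℕ) : Prop := ∀ n < 1024, g * ε e n * g⁻¹ = ε e (lk10 T n)

variable {e : ℕ → G}

theorem ε_zero : ε e 0 = 1 := rfl
theorem ε_pow {j : ℕ} (hj : j < 10) : ε e (2 ^ j) = e (nth 0 lE j) := by
  rw [ε, (by decide +kernel : ∀ j < 10, mw lE (2 ^ j) = [nth 0 lE j]) j hj]; simp
theorem ε_one : ε e 1 = e 0 := ε_pow (j := 0) (by norm_num)
theorem ε_two : ε e 2 = e 7 := ε_pow (j := 1) (by norm_num)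
theorem ε_four : ε e 4 = e 12 := ε_pow (j := 2) (by norm_num)
theorem ε_mem (n : ℕ) : ε e n ∈ gen e lE := ev_mem_gen (mem_mw _ _)

theorem aE_conj {e' : ℕ → G} {n : ℕ} (hn : n < 1024) : ∀ {w : List ℕ},
    (∀ c ∈ w, ActE e (e' c) (tE c)) → ev e' w * ε e n * (ev e' w)⁻¹ = ε e (aE w n)
  | [], _ => by simp [aE]
  | c :: w, h => by
    rw [aE_cons, ← h c List.mem_cons_self _ (aE_lt hn w),
      ← aE_conj hn fun d hd => h d (List.mem_cons_of_mem _ hd), ev_cons]; group

/-- the members of the flag in `Q`. -/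
def FF (h : Let e 1) (j : ℕ) : Subgroup G where
  carrier := {g | ∃ m < 512, m % 256 < 2 ^ (j + 1) ∧ θ e m = g}
  one_mem' := ⟨0, by norm_num, by simp, θ_zero⟩
  mul_mem' := by
    rintro _ _ ⟨n, a1, a2, rfl⟩ ⟨m, b1, b2, rfl⟩
    refine ⟨_, mulQ_lt a1 b1, ?_, (h.θ_mul n m).symm⟩
    rw [mulQ_mod, show 256 = 2 ^ 8 from rfl, Nat.xor_mod_two_pow]
    exact Nat.xor_lt_two_pow a2 b2
  inv_mem' := by
    rintro _ ⟨n, a1, a2, rfl⟩
    exact ⟨_, invQ_lt a1, by
      rwa [(by decide +kernel : ∀ n < 512, invQ n % 256 = n % 256) n a1], h.θ_inv a1⟩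

namespace Let

variable (h : Let e 1)
include h

theorem ε_mul (n m : ℕ) : ε e n * ε e m = ε e (n ^^^ m) :=
  ev_mw_xor (fun c _ => h.sq c) (fun c hc d hd => by
    simpa using h.iso.eqW.1 (allL_true.1 (allL_true.1 (by decide +kernel :
      (allL lE fun c => allL lE fun d => eqW runC [c, d] [d, c]) = true) c hc) d hd)) n m

theorem ε_sq (n : ℕ) : ε e n * ε e n = 1 := by rw [h.ε_mul, Nat.xor_self, ε_zero]
theorem ε_inv (n : ℕ) : (ε e n)⁻¹ = ε e n := inv_eq_of_mul_eq_one_right (h.ε_sq n)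
theorem ε_comm (n m : ℕ) : ε e n * ε e m = ε e m * ε e n := by rw [h.ε_mul, h.ε_mul, Nat.xor_comm]

theorem pcE : PC e lE := h.iso.pc h.iv (by decide +kernel)
theorem cardE : Nat.card (gen e lE) = 1024 := h.pcE.card
theorem mem_E {g : G} : g ∈ gen e lE ↔ ∃ n < 1024, ε e n = g :=
  ⟨h.pcE.cover, fun ⟨n, _, a⟩ => a ▸ ε_mem n⟩

theorem ε_inj {n m : ℕ} (hn : n < 1024) (hm : m < 1024) (a : ε e n = ε e m) : n = m := by
  have hb : Function.Surjective fun n : Fin 1024 => (⟨ε e n, ε_mem n⟩ : gen e lE) := fun g => by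
    obtain ⟨n, hn, a⟩ := h.mem_E.1 g.2
    exact ⟨⟨n, hn⟩, Subtype.ext a⟩
  exact congrArg Fin.val ((hb.bijective_of_nat_card_le (by rw [h.cardE, Nat.card_fin])).1
    (a₁ := ⟨n, hn⟩) (a₂ := ⟨m, hm⟩) (Subtype.ext a))

theorem E_sq {g : G} (hg : g ∈ gen e lE) : g * g = 1 := by
  obtain ⟨n, -, rfl⟩ := h.mem_E.1 hg; exact h.ε_sq n

theorem E_ab : gen e lE ≤ C[gen e lE] := fun a ha => mem_C'.2 fun b hb => by
  obtain ⟨n, -, rfl⟩ := h.mem_E.1 ha
  obtain ⟨m, -, rfl⟩ := h.mem_E.1 hb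
  exact h.ε_comm n m

theorem actE_of {g : G} {T : ℕ} (hT : lin10 T = true)
    (hb : ∀ j < 10, g * ε e (2 ^ j) * g⁻¹ = ε e (lk10 T (2 ^ j))) : ActE e g T := by
  simp only [lin10, and2_true, allN_true, lit_eq, or2_true, H29.beq_true, ble_true] at hT
  intro n
  induction n using Nat.strong_induction_on with
  | _ n ih =>
    intro hn
    rcases hT.2 n hn with rfl | ⟨⟨a1, a2⟩, a3⟩
    · rw [hT.1, ε_zero]; simp
    · have a4 : n = (n ^^^ 2 ^ n.log2) ^^^ 2 ^ n.log2 := by rw [Nat.xor_assoc]; simp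
      rw [a3]
      change _ = ε e (lk10 T (n ^^^ 2 ^ n.log2) ^^^ lk10 T (2 ^ n.log2))
      rw [← h.ε_mul, ← hb _ (by omega), ← ih (n ^^^ 2 ^ n.log2) a2 (lt_trans a2 hn)]
      nth_rw 1 [a4]
      rw [← h.ε_mul]; group

theorem actE {c : ℕ} (hc : c ∈ LN) : ActE e (e c) (tE c) := by
  have := allL_true.1 chk_tE c hc
  simp only [lit_eq, and2_true, allN_true, h.iso.eqW] at this
  refine h.actE_of this.1 fun j hj => ?_
  rw [ε_pow hj, ← show e c = (e c)⁻¹ from h.iv c]
  simpa [mul_assoc, ε] using this.2 j hj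

theorem cjE {w : List ℕ} (hw : ∀ c ∈ w, c ∈ LN) {n : ℕ} (hn : n < 1024) :
    ev e w * ε e n * (ev e w)⁻¹ = ε e (aE w n) := aE_conj hn fun c hc => h.actE (hw c hc)

theorem N_of_act {g : G} {T : ℕ} (a : ActE e g T) : g ∈ N[gen e lE] := mem_N_of_finite fun x hx => by
  obtain ⟨n, hn, rfl⟩ := h.mem_E.1 hx
  rw [a n hn]; exact ε_mem _

theorem ev_N {w : List ℕ} (hw : ∀ c ∈ w, c ∈ LN) : ev e w ∈ N[gen e lE] :=
  ev_mem fun c hc => h.N_of_act (h.actE (hw c hc))

theorem conjm (n : ℕ) (hn : n < 512) (w : List ℕ) {m : ℕ} (hm : m < 512) : ∃ m' < 512,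
    θ e n * ev e w * θ e m * (θ e n * ev e w)⁻¹ = θ e m' ∧ m' % 256 = act w m % 256 := by
  refine ⟨mulQ (mulQ n (cjq w m)) (invQ n), mulQ_lt (mulQ_lt hn (cjq_lt w hm)) (invQ_lt hn), ?_, ?_⟩
  · rw [← h.θ_mul, ← h.θ_mul, h.θ_inv hn, ← h.conj w hm]; group
  · rw [cj_mod]; exact cj_mod _ _

theorem N_FF {j n : ℕ} (hn : n < 512) {w : List ℕ}
    (a : ∀ m < 512, m % 256 < 2 ^ (j + 1) → act w m % 256 < 2 ^ (j + 1)) :
    θ e n * ev e w ∈ N[FF h j] := mem_N_of_finite (by
  rintro _ ⟨m, a1, a2, rfl⟩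
  obtain ⟨m', b1, b2, b3⟩ := h.conjm n hn w a1
  exact ⟨m', b1, b3 ▸ a m a1 a2, b2.symm⟩)

theorem act_of_N {j : ℕ} {w : List ℕ} (a : ev e w ∈ N[FF h j]) {m : ℕ} (hm : m < 512)
    (h1 : m % 256 < 2 ^ (j + 1)) : act w m % 256 < 2 ^ (j + 1) := by
  obtain ⟨m', b1, b2, b3⟩ := h.conjm 0 (by norm_num) w hm
  rw [θ_zero, one_mul] at b2
  obtain ⟨k, c1, c2, c3⟩ := conj_mem a (⟨m, hm, h1, rfl⟩ : θ e m ∈ FF h j)
  rwa [← b3, ← h.θ_inj c1 b1 (c3.trans b2)]

end Let

/-- the search for large elementary abelian subgroups of `T`. -/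
noncomputable def goL (ih : ℕ → ℕ → Bool) (F f : ℕ) (l : List (ℕ × ℕ × ℕ)) : ℕ → Bool :=
  List.rec (motive := fun _ => ℕ → Bool)
    (fun M => or2 (Nat.ble (Nat.mul f (popc 8 M)) 1023) (Nat.beq M 1))
    (fun a _ k M => Bool.rec (motive := fun _ => Bool) (k M)
      (and2 (lit (Nat.land F a.2.1) fun F' => lit (Nat.land M a.2.2) fun M' => ih F' M')
        (lit (Nat.xor M (bit a.1)) k)) (and2 (bitL M a.1) (not1 (sub F a.2.1)))) l

noncomputable def go (d : ℕ) : ℕ → ℕ → Bool :=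
  Nat.rec (motive := fun _ => ℕ → ℕ → Bool) (fun F M => Nat.ble (Nat.mul (popc 10 F) (popc 8 M)) 1023)
    (fun _ ih F M => lit (popc 10 F) fun f => or2 (Nat.ble (Nat.mul f (popc 8 M)) 1023)
      (goL ih F f PR M)) d

theorem chk_go : go 2 (2 ^ 1024 - 1) INV = true := by decide +kernel

theorem chk_PR : (allL PR fun a => lit a.1 fun u => frc (mw lU u) fun w => lit a.2.1 fun F =>
    lit a.2.2 fun M => and2 (allN 1024 fun m => lit m fun m => or2 (bitL F m) (not1 (Nat.beq (aE w m) m)))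
      (allN 256 fun v => lit v fun v => or2 (or2 (bitL M v) (not1 (bitL INV v))) (frc (mw lU v) fun x =>
        not1 (allN 10 fun j => lit (Nat.pow 2 j) fun b =>
          Nat.beq (aE (app w x) b) (aE (app x w) b))))) = true := by decide +kernel

theorem chk_INV : (allN 256 fun u => lit u fun u => or2 (bitL INV u) (frc (mw lU u) fun w =>
    not1 (allN 10 fun j => lit (Nat.pow 2 j) fun b => Nat.beq (aE (app w w) b) b))) = true := by
  decide +kernel

theorem chk_QU : (allN 512 fun n => lit n fun n => frc (mw [16, 17, 18, 19] (Nat.div n 16)) fun w =>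
    lit (Nat.mul 4 (Nat.mod n 16)) fun z => lit (runC (qw n)) fun r =>
      or2 (Nat.beq r (runC (app w (mw lE z)))) (Nat.beq r (runC (app w (mw lE (Nat.succ z)))))) = true := by
  decide +kernel

theorem chk_flT : (allL lT fun c => allN 4 fun j => lit (Nat.pow 2 (Nat.succ j)) fun b => allN 512 fun m =>
    lit m fun m => or2 (Nat.ble b (Nat.mod m 256)) (Nat.ble (Nat.succ (Nat.mod (act [c] m) 256)) b)) =
    true := by decide +kernel

theorem chk_flW : (allN 2835 fun i => lit i fun i => or2 (Nat.beq i 0) (frc (wd i) fun w =>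
    not1 (allN 4 fun j => lit (Nat.pow 2 j) fun b =>
      Nat.ble (Nat.succ (Nat.mod (act w b) 256)) (Nat.mul 2 b)))) = true := by decide +kernel

theorem lU_LN (u : ℕ) : ∀ c ∈ mw lU u, c ∈ LN := fun c hc =>
  (by decide : ∀ c ∈ lU, c ∈ LN) c (mem_mw _ _ c hc)

theorem card_le_popc {α : Type} [Finite α] {k M : ℕ} (f : α → ℕ) (hf : Function.Injective f)
    (h : ∀ a, f a < 2 ^ k ∧ M.testBit (f a) = true) : Nat.card α ≤ popc k M := by
  rw [popc_eq, ← Nat.card_eq_finsetCard]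
  exact Nat.card_le_card_of_injective (fun a => ⟨f a, by simpa using h a⟩)
    fun a b hab => hf (congrArg Subtype.val hab)

namespace En

variable {π : C{e 0} →* C3S.S} (h : En e π 1)
include h

theorem E_le_T : gen e lE ≤ TS e π := gen_le.2 fun c hc => by
  rcases (by decide : ∀ c ∈ lE, c ∈ lT ∨ c ∈ lQ) c hc with a | a
  exacts [h.e_T a, h.Q_le_T (mem_gen a)]

theorem E_le_C : gen e lE ≤ C{e 0} := h.E_le_T.trans h.T_le

theorem T_form {g : G} (hg : g ∈ TS e π) : ∃ u < 256, ∃ n < 1024, g = ev e (mw lU u) * ε e n := by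
  obtain ⟨k, a1, n, a2, rfl⟩ := h.mem_T.1 hg
  rw [(by decide +kernel : ∀ k < 512, mw lT k = mw [75, 3, 8, 5] (k % 16) ++
    mw [76, 77, 78, 79, 7] (k / 16)) k a1, ev_append]
  obtain ⟨m, b1, b2⟩ := h.mem_Q.1 (conj_mem' (h.lx.norm (h.ev_C (mw [75, 3, 8, 5] (k % 16))))
    (h.θ_mem n))
  have b3 := allN_true.1 chk_QU m b1
  simp only [lit_eq, frc_eq, or2_true, H29.beq_true, h.iso _ _, app_eq, ev_append, ev_qw] at b3
  obtain ⟨z, b4⟩ : ∃ z, θ e m = ev e (mw [16, 17, 18, 19] (m / 16)) * ε e z := b3.elim (⟨_, ·⟩) (⟨_, ·⟩)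
  obtain ⟨y, c1, c2⟩ := h.mem_E.1 (mul_mem (ε_mem z) (ev_mem_gen fun c hc =>
    (by decide : ∀ c ∈ [76, 77, 78, 79, 7], c ∈ lE) c (mem_mw _ (k / 16) c hc)))
  refine ⟨k % 16 + 16 * (m / 16 % 16), by omega, y, c1, ?_⟩
  rw [(by decide +kernel : ∀ a < 16, ∀ b < 32, mw lU (a + 16 * (b % 16)) = mw [75, 3, 8, 5] a ++
    mw [16, 17, 18, 19] b) _ (by omega) _ (by omega), ev_append, c2, mul_assoc, ← mul_assoc _ (ε e z),
    ← b4, b2]
  group

theorem T_NE : TS e π ≤ N[gen e lE] := fun g hg => by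
  obtain ⟨u, -, n, -, rfl⟩ := h.T_form hg
  exact mul_mem (h.ev_N (lU_LN u)) (norm_self _ (ε_mem n))

theorem act_form (u n : ℕ) {m : ℕ} (hm : m < 1024) : ev e (mw lU u) * ε e n * ε e m *
    (ev e (mw lU u) * ε e n)⁻¹ = ε e (aE (mw lU u) m) := by
  rw [← h.cjE (lU_LN u) hm, mul_assoc _ (ε e n), h.ε_comm]; group

theorem go_sound {A : Subgroup G} (hA : A ≤ TS e π) (h2 : ∀ a ∈ A, a * a = 1)
    (hc : 1024 ≤ Nat.card A) : ∀ d F M, go d F M = true →
    (∀ m < 1024, ε e m ∈ A → F.testBit m = true) →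
    (∀ u < 256, ∀ n, ev e (mw lU u) * ε e n ∈ A → M.testBit u = true ∧ INV.testBit u = true) →
    A ≤ gen e lE := by
  have ab : ∀ a ∈ A, ∀ b ∈ A, a * b = b * a := fun a ha b hb => by
    rw [← inv_eq_of_mul_eq_one_right (h2 _ (mul_mem ha hb)), mul_inv_rev,
      inv_eq_of_mul_eq_one_right (h2 a ha), inv_eq_of_mul_eq_one_right (h2 b hb)]
  have cnt : ∀ F M, (∀ m < 1024, ε e m ∈ A → F.testBit m = true) →
      (∀ u < 256, ∀ n, ev e (mw lU u) * ε e n ∈ A → M.testBit u = true ∧ INV.testBit u = true) →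
      ¬ popc 10 F * popc 8 M ≤ 1023 := fun F M hF hM hh => by
    choose u hu n hn e1 using fun a : A => h.T_form (hA a.2)
    choose z hz e2 using fun a : ↥(gen e lE ⊓ A) => h.mem_E.1 a.2.1
    have c1 := card_le_popc (k := 10) (M := F) z (fun a b ab => Subtype.ext (by rw [← e2, ab, e2]))
      fun a => ⟨hz a, hF _ (hz a) (e2 a ▸ a.2.2)⟩
    have c2 := card_le_popc (α := A ⧸ (gen e lE).subgroupOf A) (k := 8) (M := M) (fun q => u q.out)
      (fun a b ab => by
        rw [← a.out_eq', ← b.out_eq', QuotientGroup.eq, mem_subgroupOf]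
        change (a.out : G)⁻¹ * b.out ∈ _
        rw [e1, e1 b.out, ← show u a.out = u b.out from ab, mul_inv_rev, mul_assoc, inv_mul_cancel_left]
        exact mul_mem (inv_mem (ε_mem _)) (ε_mem _))
      fun a => ⟨hu _, (hM _ (hu _) _ (e1 a.out ▸ a.out.2)).1⟩
    have c3 := card_inf_mul_relIndex (gen e lE) A
    have := Nat.mul_le_mul c1 c2
    change Nat.card ↥(gen e lE ⊓ A) * (gen e lE).relIndex A ≤ _ at this
    omega
  intro d
  induction d with
  | zero => exact fun F M a hF hM => absurd (ble_true.1 a) (cnt F M hF hM)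
  | succ d ih =>
    intro F M a hF hM
    refine (or2_true.1 a).elim (fun a => absurd (ble_true.1 a) (cnt F M hF hM)) fun a => ?_
    have hP := allL_true.1 chk_PR
    replace a : goL (go d) F (popc 10 F) PR M = true := a
    rename_i a0
    clear a0
    generalize PR = l at a hP
    induction l generalizing M with
    | nil =>
      refine (or2_true.1 a).elim (fun a => absurd (ble_true.1 a) (cnt F M hF hM)) fun a g hg => ?_
      obtain ⟨u, a1, n, -, rfl⟩ := h.T_form (hA hg)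
      have := (hM u a1 n hg).1
      rw [H29.beq_true.1 a, show 1 = 2 ^ 0 from rfl, Nat.testBit_two_pow] at this
      obtain rfl : 0 = u := by simpa using this
      exact mul_mem (one_mem _) (ε_mem n)
    | cons p l ihl =>
      have hl := fun b hb => hP b (List.mem_cons_of_mem _ hb)
      have hp := hP p List.mem_cons_self
      change Bool.rec (motive := fun _ => Bool) _ _ (and2 (bitL M p.1) (not1 (sub F p.2.1))) = true at a
      cases c : and2 (bitL M p.1) (not1 (sub F p.2.1)) <;> rw [c] at a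
      · exact ihl M hM a hl
      obtain ⟨a1 : go d _ _ = true, a2 : goL (go d) F _ l _ = true⟩ := and2_true.1 a
      by_cases hu : ∃ n, ev e (mw lU p.1) * ε e n ∈ A
      · obtain ⟨n, hn⟩ := hu
        simp only [lit_eq, frc_eq, and2_true, allN_true, or2_true, not1_true, bitL_true,
          H29.beq_true, app_eq] at hp
        refine ih _ _ a1 (fun m b1 b2 => ?_) fun v b1 k b2 => ⟨?_, (hM v b1 k b2).2⟩
        · rw [land_eq, Nat.testBit_and, hF m b1 b2, (hp.1 m b1).resolve_right fun b => b ?_]; · rfl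
          refine h.ε_inj (aE_lt b1 _) b1 ?_
          rw [← h.act_form _ n b1, ab _ hn _ b2, mul_inv_cancel_right]
        · rw [land_eq, Nat.testBit_and, (hM v b1 k b2).1, ((hp.2 v b1).resolve_right fun b => b
            fun j hj => ?_).resolve_right fun b => b (hM v b1 k b2).2]; · rfl
          have p1 : Nat.pow 2 j < 1024 := Nat.pow_lt_pow_right (n := 10) (by norm_num) hj
          have e1 : ∀ u v, aE (mw lU u ++ mw lU v) (Nat.pow 2 j) = aE (mw lU u) (aE (mw lU v) (Nat.pow 2 j)) :=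
            fun u v => by
              induction mw lU u with
              | nil => rfl
              | cons c w ih => exact congrArg (lk10 (tE c)) ih
          refine h.ε_inj (aE_lt p1 _) (aE_lt p1 _) ?_
          rw [e1, e1, ← h.act_form _ n (aE_lt p1 _), ← h.act_form _ k (aE_lt p1 _),
            ← h.act_form v k p1, ← h.act_form p.1 n p1]
          have := ab _ hn _ b2
          generalize ev e (mw lU p.1) * ε e n = x at this
          generalize ev e (mw lU v) * ε e k = y at this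
          calc _ = x * y * ε e (Nat.pow 2 j) * (x * y)⁻¹ := by group
            _ = _ := by rw [this]; group
      · refine ihl _ (fun v b1 k b2 => ⟨?_, (hM v b1 k b2).2⟩) a2 hl
        have : p.1 ≠ v := fun b => hu ⟨k, b ▸ b2⟩
        change (M ^^^ bit p.1).testBit v = true
        rw [Nat.testBit_xor, (hM v b1 k b2).1, testBit_bit]; simp [this]

/-- `E` is the only elementary abelian subgroup of order `2^10` of `T`. -/
theorem JT {A : Subgroup G} (hA : A ≤ TS e π) (h2 : ∀ a ∈ A, a * a = 1)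
    (hc : 1024 ≤ Nat.card A) : A = gen e lE := by
  refine eq_of_card_ge (h.go_sound hA h2 hc 2 _ _ chk_go (fun m hm _ => ?_) fun u hu n a => ?_)
    (h.cardE ▸ hc)
  · rw [Nat.testBit_two_pow_sub_one]; simpa using hm
  · rw [and_self]
    have hp := allN_true.1 chk_INV u hu
    simp only [lit_eq, frc_eq, allN_true, or2_true, not1_true, bitL_true, H29.beq_true, app_eq] at hp
    refine hp.resolve_right fun b => b fun j hj => ?_
    have p1 : Nat.pow 2 j < 1024 := Nat.pow_lt_pow_right (n := 10) (by norm_num) hj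
    refine h.ε_inj (aE_lt p1 _) p1 ?_
    rw [← h.cjE (fun c hc => lU_LN u c ((List.mem_append.1 hc).elim id id)) p1, ev_append]
    have a1 : ev e (mw lU u) * ev e (mw lU u) ∈ gen e lE := by
      have := h2 _ a
      have b1 := mul_mem (inv_mem (conj_mem (h.ev_N (lU_LN u)) (ε_mem n))) (inv_mem (ε_mem n))
      generalize ev e (mw lU u) = x at this b1 ⊢
      rwa [show x * x = (x * ε e n * x⁻¹)⁻¹ * (x * ε e n * (x * ε e n)) * (ε e n)⁻¹ by group, this,
        mul_one]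
    rw [mem_C'.1 (h.E_ab a1) _ (ε_mem _), mul_inv_cancel_right]

theorem T_FF {j : ℕ} (hj : j < 4) : TS e π ≤ N[FF h.toLet j] := fun g hg => by
  obtain ⟨k, -, n, a2, rfl⟩ := h.mem_T.1 hg
  refine mul_mem (by simpa using h.N_FF (w := []) a2 fun m _ a => a) (ev_mem fun c hc => ?_)
  have := allN_true.1 (allL_true.1 chk_flT c (mem_mw _ _ c hc)) j hj
  simp only [lit_eq, allN_true, or2_true, ble_true] at this
  simpa [θ_zero] using h.N_FF (n := 0) (w := [c]) (by norm_num) fun m a1 a2 =>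
    (this m a1).resolve_left (not_le.2 a2)

/-- the stabiliser of the flag. -/
theorem mem_T_of {g : G} (hg : g ∈ C{e 0}) (a : ∀ j < 4, g ∈ N[FF h.toLet j]) : g ∈ TS e π := by
  obtain ⟨i, a1, k, a2, n, a3, rfl⟩ := h.cover hg
  have b1 : ev e (mw lT k) ∈ TS e π := ev_mem fun c hc => h.e_T (mem_mw _ _ c hc)
  have b2 := h.Q_le_T (h.θ_mem n)
  have hp := allN_true.1 chk_flW i a1
  simp only [lit_eq, frc_eq, allN_true, or2_true, not1_true, ble_true, H29.beq_true] at hp
  rw [ev_append] at a ⊢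
  rcases hp with rfl | b
  · rw [show wd 0 = [] by decide +kernel]; simpa using mul_mem b2 b1
  refine (b fun j hj => ?_).elim
  have := h.act_of_N (w := wd i) (j := j) (m := 2 ^ j) (by
    simpa using mul_mem (mul_mem (inv_mem (h.T_FF hj b2)) (a j hj)) (inv_mem (h.T_FF hj b1)))
    (by interval_cases j <;> norm_num) (by interval_cases j <;> norm_num)
  rw [pow_succ'] at this
  exact this

/-- an element acting trivially on `W` modulo `t` lies in `T`. -/
theorem mem_T_of' {g : G} (hg : g ∈ C{e 0})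
    (a : ∀ m < 16, g * θ e m * g⁻¹ = θ e m ∨ g * θ e m * g⁻¹ = θ e m * e 0) : g ∈ TS e π :=
  h.mem_T_of hg fun j hj => mem_N_of_finite (by
    rintro _ ⟨m, a1, a2, rfl⟩
    have t : e 0 ∈ FF h.toLet j := ⟨256, by norm_num, by simp, θ_256⟩
    have b : m % 256 < 16 := a2.trans_le (Nat.pow_le_pow_right (n := 2) (by norm_num) hj)
    have c : θ e (m % 256) ∈ FF h.toLet j := ⟨_, by omega, by rwa [Nat.mod_mod], rfl⟩
    have d : g * θ e (m % 256) * g⁻¹ ∈ FF h.toLet j := by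
      rcases a _ b with a | a <;> rw [a]
      exacts [c, mul_mem c t]
    rcases (by decide +kernel : ∀ m < 512, m = m % 256 ∨ m = mulQ (m % 256) 256) m a1 with b | b
    · rwa [b]
    · rw [b, ← h.θ_mul, θ_256, ← conj_mul, mem_C1_iff_conj.1 hg]; exact mul_mem d t)

theorem θ_E {m : ℕ} (hm : m < 16) : θ e m = ε e (4 * m) := by
  rw [← ev_qw]
  exact h.iso.eqW.1 (allN_true.1 (by decide +kernel :
    (allN 16 fun m => eqW runC (qw m) (mw lE (4 * m))) = true) m hm)

theorem CE : C[gen e lE] = gen e lE := le_antisymm (fun g hg => by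
  obtain ⟨u, a1, n, -, rfl⟩ := h.T_form (h.mem_T_of' (mem_C1.2 (mem_C'.1 hg _ (mem_gen (by decide))))
    fun m hm => .inl (by rw [h.θ_E hm, mem_C'.1 hg _ (ε_mem _), mul_inv_cancel_right]))
  rcases (by decide +kernel : ∀ u < 256, u = 0 ∨ ∃ j < 10, aE (mw lU u) (2 ^ j) ≠ 2 ^ j) u a1 with
    rfl | ⟨j, hj, b⟩
  · exact mul_mem (one_mem _) (ε_mem n)
  · have p1 : 2 ^ j < 1024 := Nat.pow_lt_pow_right (n := 10) (by norm_num) hj
    refine (b (h.ε_inj (aE_lt p1 _) p1 ?_)).elim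
    rw [← h.act_form _ n p1, mem_C'.1 hg _ (ε_mem _), mul_inv_cancel_right]) h.E_ab

theorem piE : IsPi {2} (gen e lE) := h.pcE.pi

/-- two conjugates of `E` in a `2`-group coincide. -/
theorem weak {P : Subgroup G} (hP : IsPi {2} P) {a b : G} (ha : cj a (gen e lE) ≤ P)
    (hb : cj b (gen e lE) ≤ P) : cj a (gen e lE) = cj b (gen e lE) := by
  obtain ⟨g, -, hg⟩ := Sylow_Jsub Nat.prime_two h.sylG hP le_top
  have k : ∀ a, cj a (gen e lE) ≤ P → cj g (cj a (gen e lE)) = gen e lE := fun a ha =>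
    h.JT ((cj_mono g ha).trans hg) (fun x hx => by
      rw [← cj_mul] at hx
      obtain ⟨y, hy, rfl⟩ := mem_cj'.1 hx
      rw [conj_mul, h.E_sq hy]; simp) (by simp [h.cardE])
  exact cj_inj.1 ((k a ha).trans (k b hb).symm)

/-- the normaliser of `E` controls fusion in `E`. -/
theorem fus {g y : G} (hy : y ∈ gen e lE) (hg : g * y * g⁻¹ ∈ gen e lE) :
    ∃ k ∈ N[gen e lE], k * y * k⁻¹ = g * y * g⁻¹ := by
  have a1 : gen e lE ≤ C{g * y * g⁻¹} := fun x hx => mem_C1.2 (mem_C'.1 (h.E_ab hx) _ hg)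
  have a2 : cj g (gen e lE) ≤ C{g * y * g⁻¹} :=
    cj_C1 g y ▸ cj_mono g fun x hx => mem_C1.2 (mem_C'.1 (h.E_ab hx) _ hy)
  obtain ⟨P, hP, b1⟩ := Sylow_superset Nat.prime_two h.piE a1
  obtain ⟨c, c1, c2⟩ := Sylow_Jsub Nat.prime_two hP (h.piE.cj g) a2
  rw [← cj_mul] at c2
  have := h.weak hP.pi c2 (b := 1) (by simpa using b1)
  refine ⟨c * g, mem_N_iff_cj.2 (by simpa using this), ?_⟩
  rw [← mem_C1_iff_conj.1 c1]; group

end En

end H4.C2
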