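import Mathlib
import Cfsg.Agent.H4.C2J

/-! The involutions of the centraliser: the checks. -/

set_option autoImplicit false
set_option linter.unusedSectionVars false
set_option maxRecDepth 100000
set_option exponentiation.threshold 20000

open Subgroup H24 H29 H9.MX H15.XP H15.KM H11

namespace H4.C2

open H28.Th (th Heis mulQ invQ mulQ_lt invQ_lt testBit_mulQ_lt)

/-- the orbit label of a code of `E`. -/
def lab (n : ℕ) : ℕ := lk LAB 4 n 15
/-- the orbit representatives. -/
noncomputable def rep (l : ℕ) : ℕ := nth 0 [0, 1, 2, 3, 4, 64, 65, 66, 67, 80] l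
/-- the class invariant: `77` at `1`, `0` on `2A`, `14` on `2B`, `2` on `2C`. -/
noncomputable def f2 (n : ℕ) : ℕ := nth 0 [77, 0, 0, 2, 14, 14, 0, 14, 2, 2] (lab n)
/-- the involution of the last class. -/
def b2 : List ℕ := [3, 8, 5]
/-- the class of an element of the Sylow subgroup of `Sp₆(2)`. -/
def cls (k : ℕ) : ℕ := Nat.land (lk CJ 38 k 274877906943) 7

theorem chk_EO : (allN 1024 fun n => lit n fun n => lit (lab n) fun l => and2 (Nat.ble l 9)
    (or2 (Nat.beq n (rep l)) (lit (lk HTL 11 n 2047) fun d => lit (Nat.div d 16) fun c =>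
      lit (lk10 (tE c) n) fun m => and2 (memL c LN) (and2 (Nat.beq (lab m) l)
        (Nat.ble (Nat.succ (Nat.mod (lk HTL 11 m 2047) 16)) (Nat.mod d 16)))))) = true := by
  decide +kernel

theorem EOw {n : ℕ} (hn : n < 1024) : ∃ w, (∀ c ∈ w, c ∈ LN) ∧ aE w n = rep (lab n) := by
  induction h : lk HTL 11 n 2047 % 16 using Nat.strong_induction_on generalizing n with
  | _ k ih =>
    have := allN_true.1 chk_EO n hn
    simp only [lit_eq, and2_true, or2_true, H29.beq_true, ble_true, memL_true] at this
    rcases this.2 with a | ⟨a1, a2, a3⟩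
    · exact ⟨[], by simp, a⟩
    · obtain ⟨w, b1, b2⟩ := ih _ (lt_of_lt_of_eq a3 h) (lk10_lt _ _) rfl
      refine ⟨w ++ [_], fun c hc => (List.mem_append.1 hc).elim (b1 c) fun b => by
        rwa [List.mem_singleton.1 b], ?_⟩
      rw [← a2, ← b2]
      clear b1 b2
      induction w with
      | nil => rfl
      | cons c w ih => exact congrArg (lk10 (tE c)) ih

theorem lab_lt {n : ℕ} (hn : n < 1024) : lab n < 10 := by
  have := allN_true.1 chk_EO n hn
  simp only [lit_eq, and2_true, ble_true] at this
  exact Nat.lt_succ_of_le this.1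

theorem rep_lt (l : ℕ) : rep l < 1024 := by
  by_cases h : l < 10
  · exact (by decide +kernel : ∀ l < 10, rep l < 1024) l h
  · rw [rep, nth_default _ (by simpa using h)]; norm_num

theorem chk_CL : (allN 5 fun k => lit k fun k => frc (nth [] rp5 k) fun r => allN 512 fun n =>
    lit n fun n => frc (app (qw n) r) fun y => or2 (not1 (eqW runC (app y y) []))
      (lit (lk CLT 46 (Nat.add (Nat.mul k 512) n) 70368744177663) fun d => lit (Nat.mod d 2048) fun z =>
        frc (dec 5 (Nat.div d 2048)) fun g => or2 (eqW runC (app g y) (app [65, 39, 3, 8, 5, 39, 65] g))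
          (and2 (and2 (Nat.ble z 1023) (or2 (Nat.ble k 2) (not1 (Nat.beq (f2 z) 0))))
            (eqW runC (app g y) (app (mw lE z) g))))) = true := by decide +kernel

/-- the test for `[y, q]² = 1` on the codes below `N`. -/
noncomputable def nqB (w : List ℕ) (m : ℕ) : Bool :=
  lit (Nat.xor (act w m) m) fun c => Nat.beq (mulQ c c) 0
noncomputable def nq8 (w : List ℕ) : Bool := allN 8 fun j => lit (Nat.pow 2 j) (nqB w)

noncomputable def okC (w : List ℕ) : Bool := frc w fun w => lit (runC (app w w)) fun s =>
  or2 (Nat.beq s (runC b2)) (and2 (Nat.beq s (runC [])) (lit (runC w) fun r =>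
    or2 (Nat.beq r (runC [])) (or2 (Nat.beq r (runC b2)) (and2 (and2 (nq8 w) (nq8 (app w b2)))
      (and2 (not1 (Nat.beq r (runC [0]))) (not1 (eqW runC (app w b2) [0])))))))

theorem chk_b : (allN 2835 fun i => lit i fun i => frc (wd i) fun v =>
    or2 (not1 (allN 3 fun j => Nat.ble (Nat.mod (act v (Nat.pow 2 j)) 256) 7))
    (allN 512 fun k => lit k fun k => frc (app v (mw lT k)) fun w =>
      or2 (not1 (and2 (eqW runH (app w b2) (app b2 w)) (and2 (eqW runH (app w w) [])
        (and2 (nq8 w) (nq8 (app w b2))))))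
      (or2 (or2 (eqW runH w [7]) (eqW runH w [3, 8, 5, 7])) (allN 512 fun n => lit n fun n =>
        frc (app (qw n) w) fun r => not1 (and2 (eqW runC (app r b2) (app b2 r))
          (and2 (eqW runC (app r r) []) (allL [[], [13], [75, 3, 78], [14], [27, 4, 75, 79]] fun g =>
            okC (app r (app g (app r (invW iv0 g))))))))))) = true := by decide +kernel

end H4.C2
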