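import Mathlib
import Cfsg.Agent.H4.C2KC

/-! The involutions of the centraliser. -/

set_option autoImplicit false
set_option linter.unusedSectionVars false
set_option maxRecDepth 100000
set_option exponentiation.threshold 20000

open Subgroup H24 H29 H9.MX H15.XP H15.KM H11

namespace H4.C2

open H28.Th (th Heis mulQ invQ mulQ_lt invQ_lt testBit_mulQ_lt)

variable {G : Type} [Group G] [Finite G]

/-- conjugates of `e 0`. -/
def DD (e : ℕ → G) (y : G) : Prop := ∃ g, g * e 0 * g⁻¹ = y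
/-- commutators with `Q` are involutions. -/
def NQ (e : ℕ → G) (y : G) : Prop :=
  ∀ q ∈ gen e lQ, y * q * y⁻¹ * q⁻¹ * (y * q * y⁻¹ * q⁻¹) = 1

variable {e : ℕ → G}

theorem cjC {a b : G} (g : G) (h : a ∈ C{b}) : g * a * g⁻¹ ∈ C{g * b * g⁻¹} :=
  cj_C1 g b ▸ conj_mem_cj g h

theorem DD.cj {y : G} (h : DD e y) (g : G) : DD e (g * y * g⁻¹) := by
  obtain ⟨k, rfl⟩ := h; exact ⟨g * k, by group⟩
theorem DD.of_cj {y g : G} (h : DD e (g * y * g⁻¹)) : DD e y := by simpa [mul_assoc] using h.cj g⁻¹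
theorem DD.self : DD e (e 0) := ⟨1, by simp⟩
theorem DD.sq {σ y : G} (h : Let e σ) (a : DD e y) : y * y = 1 := by
  obtain ⟨k, rfl⟩ := a; rw [conj_mul, h.t2]; simp
theorem DD.ne {σ y : G} (h : Let e σ) (a : DD e y) : y ≠ 1 := by
  obtain ⟨k, rfl⟩ := a; simpa using h.ne

theorem NQ.cj {y g : G} (h : NQ e y) (hg : g ∈ N[gen e lQ]) : NQ e (g * y * g⁻¹) := fun q hq => by
  have := h _ (conj_mem' hg hq)
  generalize hz : y * (g⁻¹ * q * g) * y⁻¹ * (g⁻¹ * q * g)⁻¹ = z at this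
  rw [show g * y * g⁻¹ * q * (g * y * g⁻¹)⁻¹ * q⁻¹ = g * z * g⁻¹ by rw [← hz]; group, conj_mul, this]
  simp

theorem Let.nq_iff (h : Let e 1) {n : ℕ} (hn : n < 512) (w : List ℕ) {m : ℕ} (hm : m < 512) :
    θ e n * ev e w * θ e m * (θ e n * ev e w)⁻¹ * (θ e m)⁻¹ *
      (θ e n * ev e w * θ e m * (θ e n * ev e w)⁻¹ * (θ e m)⁻¹) = 1 ↔ nqB w m = true := by
  obtain ⟨k, a1, a2, a3⟩ := h.conjm n hn w hm
  have b1 := mulQ_lt a1 (invQ_lt hm)
  have b2 : act w m ^^^ m < 512 := Nat.xor_lt_two_pow (n := 9) (act_lt hm w) hm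
  have s : ∀ a < 512, mulQ a a = mulQ (a % 256) (a % 256) := by decide +kernel
  rw [a2, ← h.θ_inv hm, h.θ_mul, h.θ_mul, nqB, lit_eq, H29.beq_true]
  change _ ↔ mulQ (act w m ^^^ m) (act w m ^^^ m) = 0
  rw [s _ b2, show (act w m ^^^ m) % 256 = mulQ k (invQ m) % 256 by
    rw [mulQ_mod, show 256 = 2 ^ 8 from rfl, Nat.xor_mod_two_pow, Nat.xor_mod_two_pow]
    exact congrArg₂ _ a3.symm ((by decide +kernel : ∀ n < 512, n % 256 = invQ n % 256) m hm), ← s _ b1]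
  exact ⟨fun a => h.θ_inj (mulQ_lt b1 b1) (by norm_num) (a.trans θ_zero.symm), fun a => a ▸ θ_zero⟩

theorem NQ.nq8 (h : Let e 1) {n : ℕ} (hn : n < 512) {w : List ℕ} (a : NQ e (θ e n * ev e w)) :
    nq8 w = true := allN_true.2 fun j hj =>
  (h.nq_iff hn w (Nat.pow_lt_pow_right (n := 9) (by norm_num) (by omega))).1 (a _ (h.θ_mem _))

theorem NQ.nq8' (h : Let e 1) {w : List ℕ} (a : NQ e (ev e w)) : C2.nq8 w = true :=
  NQ.nq8 h (n := 0) (by norm_num) (by rwa [θ_zero, one_mul])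

namespace En

variable {π : C{e 0} →* C3S.S} (h : En e π 1)
include h

theorem EO {n : ℕ} (hn : n < 1024) : ∃ g ∈ C{e 0}, g ∈ N[gen e lE] ∧
    g * ε e n * g⁻¹ = ε e (rep (lab n)) := by
  obtain ⟨w, a1, a2⟩ := EOw hn
  exact ⟨_, h.ev_C w, h.ev_N a1, a2 ▸ h.cjE a1 hn⟩

theorem nqE (n : ℕ) (hn : n < 1024) : NQ e (ε e n) := by
  obtain ⟨g, a1, -, a2⟩ := h.EO hn
  have : NQ e (ε e (rep (lab n))) := fun q hq => by
    obtain ⟨m, hm, rfl⟩ := h.mem_Q.1 hq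
    have := (h.nq_iff (n := 0) (by norm_num) _ hm).2 (allN_true.1 (allN_true.1 (by decide +kernel :
      (allN 10 fun l => frc (mw lE (rep l)) fun w => allN 512 fun m => lit m (nqB w)) = true) _
      (lab_lt hn) |> (frc_eq _ _ ▸ ·)) m hm)
    rwa [θ_zero, one_mul] at this
  simpa [← a2, mul_assoc] using this.cj (inv_mem (h.lx.norm a1))

theorem CLk {k n : ℕ} (hk : k < 5) (hn : n < 512) {y : G} (hy : y = θ e n * ev e (nth [] rp5 k))
    (h2 : y * y = 1) : ∃ g ∈ C{e 0}, g * y * g⁻¹ = ev e b2 ∨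
      ∃ z < 1024, g * y * g⁻¹ = ε e z ∧ (k ≤ 2 ∨ f2 z ≠ 0) := by
  have := allN_true.1 chk_CL k hk
  simp only [lit_eq, frc_eq, allN_true, or2_true, and2_true, not1_true, ble_true, H29.beq_true,
    h.iso.eqW, app_eq, ev_append, ev_qw] at this
  have := this n hn
  rw [← hy] at this
  rcases this.resolve_left fun a => a h2 with a | ⟨⟨a1, a2⟩, a3⟩
  · generalize dec 5 _ = w at a
    refine ⟨ev e [39, 65] * ev e w, mul_mem (h.ev_C _) (h.ev_C _), .inl ?_⟩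
    have := h.iso.eqW.1 (show eqW runC ([39, 65] ++ [65, 39, 3, 8, 5, 39, 65]) (b2 ++ [39, 65]) =
      true by decide +kernel)
    rw [ev_append, ev_append] at this
    rw [mul_assoc _ _ y, a, ← mul_assoc, this]; group
  · exact ⟨_, h.ev_C _, .inr ⟨_, Nat.lt_succ_of_le a1, by rw [a3, mul_inv_cancel_right]; rfl, a2⟩⟩

/-- the involutions of the centraliser. -/
theorem CL {y : G} (hy : y ∈ C{e 0}) (h2 : y * y = 1) : ∃ g ∈ C{e 0}, g * y * g⁻¹ = ev e b2 ∨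
    ∃ z < 1024, g * y * g⁻¹ = ε e z := by
  obtain ⟨g, a1, k, a2, n, a3, a4⟩ := h.inv_C hy (h2 ▸ one_mem _)
  obtain ⟨c, b1, b2⟩ := h.CLk a2 a3 a4 (by rw [conj_mul, h2]; simp)
  refine ⟨c * g, mul_mem b1 a1, ?_⟩
  rw [show c * g * y * (c * g)⁻¹ = c * (g * y * g⁻¹) * c⁻¹ by group]
  exact b2.imp_right fun ⟨z, c1, c2, _⟩ => ⟨z, c1, c2⟩

theorem nq_or {y : G} (hy : y ∈ C{e 0}) (h2 : y * y = 1) :
    NQ e y ∨ ∃ g, g * y * g⁻¹ = ev e b2 := by
  obtain ⟨g, a1, a | ⟨z, a2, a3⟩⟩ := h.CL hy h2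
  · exact .inr ⟨g, a⟩
  · exact .inl (by simpa [← a3, mul_assoc] using (h.nqE z a2).cj (inv_mem (h.lx.norm a1)))

/-- the last class of involutions is not conjugate to `t`. -/
theorem nb (qf : ∀ y, DD e y → y ∈ gen e lQ → y = e 0) : ¬ DD e (ev e b2) := by
  rintro ⟨g, hg⟩
  have L := hg ▸ h.lx.cj g
  have qb : ∀ y, DD e y → y ∈ cj g (gen e lQ) → y = ev e b2 := fun y a1 a2 => by
    have := qf _ (a1.cj g⁻¹) (by simpa using mem_cj.1 a2)
    rw [← hg, ← this]; group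
  have bC := h.ev_C b2
  have bQ : ev e b2 ∈ cj g (gen e lQ) := L.xs.mem
  have nq : ∀ u ∈ cj g (gen e lQ), u ∈ C{e 0} → u * u = 1 → u ≠ ev e b2 → NQ e u :=
    fun u a1 a2 a3 a4 => (h.nq_or a2 a3).resolve_right fun ⟨k, hk⟩ =>
      a4 (qb u (DD.of_cj (g := k) ⟨g, hg.trans hk.symm⟩) a1)
  have nq2 : ∀ u ∈ cj g (gen e lQ), u ∈ C{e 0} → u * u = 1 → u ≠ 1 → NQ e (u * ev e b2) :=
    fun u a1 a2 a3 a4 => nq _ (mul_mem a1 bQ) (mul_mem a2 bC) (by
      rw [mul_assoc, ← mul_assoc _ u, ← mem_C1.1 (L.le a1), mul_assoc, L.sq, mul_one, a3])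
      (by simpa using a4)
  have nt : e 0 ∉ cj g (gen e lQ) := fun a =>
    h.iso.ne (u := [0]) (v := b2) (by decide +kernel) (by simpa using qb _ DD.self a)
  have ok : ∀ w, ev e w ∈ cj g (gen e lQ) → okC w = true := fun w a => by
    simp only [okC, frc_eq, lit_eq, or2_true, and2_true, not1_true, H29.beq_true, h.iso _ _,
      h.iso.eqW, app_eq, ev_append, ev_nil]
    refine (L.sq_or a).symm.imp_right fun b => ⟨b, ?_⟩
    by_cases c1 : ev e w = 1; · exact .inl c1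
    by_cases c2 : ev e w = ev e b2; · exact .inr (.inl c2)
    exact .inr (.inr ⟨⟨(nq _ a (h.ev_C w) b c2).nq8' h.toLet,
      NQ.nq8' h.toLet (by rw [ev_append]; exact nq2 _ a (h.ev_C w) b c1)⟩,
      fun c => nt (by simpa [c] using a), fun c => nt (by simpa [c] using mul_mem a bQ)⟩)
  have key : ∀ r ∈ cj g (gen e lQ), r ∈ C{e 0} → r * r = 1 → r ≠ 1 → r ≠ ev e b2 →
      ∃ u ∈ [[7], [3, 8, 5, 7]], ap π r = ev (eb e π) u := fun r a1 a2 a3 a4 a5 => by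
    have rb := mem_C1.1 (L.le a1)
    have rN : r ∈ N[FF h.toLet 2] := mem_N_of_finite (by
      rintro _ ⟨m, b1, b3, rfl⟩
      obtain ⟨k, c1, c2⟩ := h.mem_Q.1 (conj_mem (h.lx.norm a2) (h.θ_mem m))
      have d : ∀ m < 512, m % 256 < 2 ^ (2 + 1) ↔ cjq b2 m = m := by decide +kernel
      refine ⟨k, c1, (d k c1).2 (h.θ_inj (cjq_lt _ c1) c1 ?_), c2⟩
      have := h.conj b2 b1
      rw [(d m b1).1 b3] at this
      rw [← h.conj b2 c1, c2, ← this]
      calc _ = ev e b2 * r * ev e b2 * θ e m * (ev e b2 * r * ev e b2)⁻¹ := by group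
        _ = _ := by rw [← rb, mul_assoc r, L.sq, mul_one, this])
    obtain ⟨i, b1, k, b3, n, b4, rfl⟩ := h.cover a2
    have hp := allN_true.1 chk_b i b1
    simp only [lit_eq, frc_eq, allN_true, or2_true, not1_true, ble_true, and2_true, allL_true,
      h.iso.eqW, h.isoH.eqW, app_eq] at hp
    have vN : ev e (wd i) ∈ N[FF h.toLet 2] := by
      rw [ev_append] at rN
      simpa using mul_mem (mul_mem (inv_mem (h.T_FF (by norm_num) (h.Q_le_T (h.θ_mem n)))) rN)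
        (inv_mem (h.T_FF (by norm_num) (ev_mem fun c hc => h.e_T (mem_mw lT k c hc))))
    have hq := hp.resolve_left (fun a => a fun j hj => Nat.le_of_lt_succ (h.act_of_N vN
      (by interval_cases j <;> decide) (by interval_cases j <;> decide))) k b3
    generalize wd i ++ mw lT k = w at *
    have pw : ap π (θ e n * ev e w) = ev (eb e π) w := by
      rw [ap_mul π (h.lx.le (h.θ_mem n)) (h.ev_C w), h.ap_θ, one_mul, h.ev_b]
    rcases hq.resolve_left fun a => a ⟨by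
        rw [ev_append, ev_append, ← pw, h.ev_b, ← ap_mul π a2 bC, rb, ap_mul π bC a2], by
        rw [ev_append, ← pw, ← ap_mul π a2 a2, a3]; simp,
        (nq _ a1 a2 a3 a5).nq8 h.toLet b4, NQ.nq8 h.toLet b4 (by
          rw [ev_append, ← mul_assoc]; exact nq2 _ a1 a2 a3 a4)⟩ with (a | a) | a
    · exact ⟨_, by simp, pw.trans a⟩
    · exact ⟨_, by simp, pw.trans a⟩
    refine (a n b4 ⟨by simpa only [ev_append, ev_qw] using rb, by simpa only [ev_append, ev_qw, ev_nil] using a3,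
      fun c hc => ok _ ?_⟩).elim
    simp only [ev_append, ev_qw, ev_invW h.iv]
    rw [← mul_assoc (ev e c)]
    refine mul_mem a1 (conj_mem (L.norm (mem_C1.2 ?_)) a1)
    simpa only [ev_append] using h.iso.eqW.1 (allL_true.1 (by decide +kernel :
      (allL [[], [13], [75, 3, 78], [14], [27, 4, 75, 79]] fun c => eqW runC (c ++ b2) (b2 ++ c)) = true) c hc)
  have tC : g⁻¹ * e 0 * g⁻¹⁻¹ ∈ C{e 0} := by
    have := cjC g⁻¹ (mem_C1_comm.1 bC)
    rwa [← hg, show g⁻¹ * (g * e 0 * g⁻¹) * g⁻¹⁻¹ = e 0 by group] at this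
  obtain ⟨c, c1, c2⟩ := h.CL tC (by rw [conj_mul, h.t2]; simp)
  have c3 : ∀ m < 4, θ e m ∈ C{c * (g⁻¹ * e 0 * g⁻¹⁻¹) * c⁻¹} := fun m hm => by
    rcases c2 with a | ⟨z, -, a⟩ <;> rw [a, mem_C1]
    · rw [← mul_inv_eq_iff_eq_mul.1 (h.conj b2 (n := m) (by omega) |>.trans (congrArg _
        ((by decide +kernel : ∀ m < 4, cjq b2 m = m) m hm)))]
    · rw [h.θ_E (by omega), h.ε_comm]
  have c4 : ∀ m < 4, m ≠ 0 → ∃ u ∈ [[7], [3, 8, 5, 7]],
      ap π (g * c⁻¹ * θ e m * (g * c⁻¹)⁻¹) = ev (eb e π) u := fun m h1 h2 => key _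
    (by rw [show g * c⁻¹ * θ e m * (g * c⁻¹)⁻¹ = g * (c⁻¹ * θ e m * c) * g⁻¹ by group]
        exact conj_mem_cj g (conj_mem' (h.lx.norm c1) (h.θ_mem m)))
    (by simpa [mul_assoc] using cjC (g * c⁻¹) (c3 m h1))
    (by rw [conj_mul, h.θ_mul, (by decide +kernel : ∀ m < 4, mulQ m m = 0) m h1, θ_zero]; simp)
    (fun a => h2 (h.θ_inj (by omega) (by norm_num) (by rwa [conj_eq_one_iff', ← θ_zero] at a)))
    (fun a => by
      rw [← hg, ← mem_C1_iff_conj.1 (inv_mem c1)] at a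
      have := h.θ_inj (n := m) (m := 256) (by omega) (by norm_num) (by
        simpa [mul_assoc, θ_256] using a)
      omega)
  obtain ⟨u1, a1, b1⟩ := c4 1 (by norm_num) (by norm_num)
  obtain ⟨u2, a2, b2⟩ := c4 2 (by norm_num) (by norm_num)
  obtain ⟨u3, a3, b3⟩ := c4 3 (by norm_num) (by norm_num)
  have d : ∀ m < 4, g * c⁻¹ * θ e m * (g * c⁻¹)⁻¹ ∈ C{e 0} := fun m h1 => by
    simpa [mul_assoc] using cjC (g * c⁻¹) (c3 m h1)
  rw [show θ e 3 = θ e 1 * θ e 2 from (h.θ_mul 1 2).symm, ← conj_mul,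
    ap_mul π (d 1 (by norm_num)) (d 2 (by norm_num)), b1, b2, ← ev_append, ← h.isoH] at b3
  exact (by decide +kernel : ∀ u1 ∈ [[7], [3, 8, 5, 7]], ∀ u2 ∈ [[7], [3, 8, 5, 7]],
    ∀ u3 ∈ [[7], [3, 8, 5, 7]], runH (u1 ++ u2) ≠ runH u3) u1 a1 u2 a2 u3 a3 b3

end En

end H4.C2
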