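import Mathlib
import Cfsg.Agent.H4.C2K

/-! Fusion in `E`: the checks. -/

set_option autoImplicit false
set_option linter.unusedSectionVars false
set_option maxRecDepth 100000
set_option exponentiation.threshold 20000

open Subgroup H24 H29 H9.MX H15.XP H15.KM H11

namespace H4.C2

open H28.Th (th Heis mulQ invQ mulQ_lt invQ_lt)

noncomputable def sumN (n : ℕ) (f : ℕ → ℕ) : ℕ → ℕ :=
  Nat.rec (motive := fun _ => ℕ → ℕ) (fun a => a)
    (fun m ih a => lit m fun m => lit (Nat.add a (f m)) ih) n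

theorem sumN_eq (f : ℕ → ℕ) : ∀ n a, sumN n f a = a + ∑ i ∈ Finset.range n, f i
  | 0, _ => rfl
  | n + 1, a => by
    rw [Finset.sum_range_succ, show sumN (n + 1) f a = sumN n f (a + f n) from rfl, sumN_eq f n]; ring

/-- convolution on the codes. -/
noncomputable def cnv (φ ψ : ℕ → ℕ) (r : ℕ) : ℕ :=
  sumN 1024 (fun n => lit (φ n) fun a => Bool.rec (Nat.mul a (ψ (Nat.xor r n))) 0 (Nat.beq a 0)) 0

theorem cnv_eq (φ ψ : ℕ → ℕ) (r : ℕ) : cnv φ ψ r = ∑ n ∈ Finset.range 1024, φ n * ψ (r ^^^ n) := by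
  rw [cnv, sumN_eq, zero_add]
  refine Finset.sum_congr rfl fun n _ => ?_
  rw [lit_eq]
  cases h : Nat.beq (φ n) 0
  · rfl
  · rw [H29.beq_true.1 h, zero_mul]

/-- the indicator of a union of orbits. -/
def lb (x n : ℕ) : ℕ := Nat.land (Nat.shiftRight x (lab n)) 1

noncomputable def cst (x : ℕ) (φ : ℕ → ℕ) : Bool := lit (φ 1) fun c => allN 10 fun l => lit l fun l =>
  or2 (not1 (bitL x l)) (lit (rep l) fun r => Nat.beq (φ r) c)

theorem chk_X : (allN 1024 fun x => lit x fun x => or2 (or2 (bitL x 0) (or2 (not1 (bitL x 1)) (bitL x 4)))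
    (or2 (or2 (Nat.beq x 2) (Nat.beq x 70)) (not1 (and2 (cst x (cnv (lb x) (lb x)))
      (frc (mapL (fun l => lit (rep l) (cnv (lb x) (lb x))) [0, 1, 2, 3, 4, 5, 6, 7, 8, 9]) fun V =>
        cst x (cnv (lb x) fun n => nth 0 V (lab n))))))) = true := by decide +kernel

theorem chk_f2 : ∀ l < 10, cnv (lb 70) (lb 70) (rep l) = f2 (rep l) := by decide +kernel

theorem lab_rep : ∀ l < 10, lab (rep l) = l := by decide +kernel

end H4.C2
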