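import Mathlib
import Cfsg.Agent.H4.C2XC

/-! Fusion in `E`. -/

set_option autoImplicit false
set_option linter.unusedSectionVars false
set_option maxRecDepth 100000
set_option exponentiation.threshold 20000

open Subgroup H24 H29 H9.MX H15.XP H15.KM H11

namespace H4.C2

open H28.Th (th Heis mulQ invQ mulQ_lt invQ_lt)

variable {G : Type} [Group G] [Finite G]

/-- functions on the codes that are invariant under the normaliser of `E`. -/
def InvF (e : ℕ → G) (φ : ℕ → ℕ) : Prop := ∀ g ∈ N[gen e lE], ∀ n < 1024, ∀ m < 1024,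
  g * ε e n * g⁻¹ = ε e m → φ n = φ m

/-- the standing hypotheses of the fusion analysis. -/
structure Ft (e : ℕ → G) (π : C{e 0} →* C3S.S) : Prop extends En e π 1 where
  qf : ∀ y, DD e y → y ∈ gen e lQ → y = e 0
  ni : NotIso (e 0)

variable {e : ℕ → G} {π : C{e 0} →* C3S.S}

theorem InvF.congr {φ ψ : ℕ → ℕ} (a : InvF e φ) (b : ∀ n < 1024, φ n = ψ n) : InvF e ψ :=
  fun g hg n hn m hm c => by rw [← b n hn, ← b m hm, a g hg n hn m hm c]

theorem InvF.rep (h : En e π 1) {φ : ℕ → ℕ} (a : InvF e φ) {n : ℕ} (hn : n < 1024) :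
    φ n = φ (rep (lab n)) := by
  obtain ⟨g, -, b1, b2⟩ := h.EO hn
  exact a g b1 n hn _ (rep_lt _) b2

theorem InvF.cnv (h : Let e 1) {φ ψ : ℕ → ℕ} (a : InvF e φ) (b : InvF e ψ) : InvF e (cnv φ ψ) := by
  intro g hg r hr s hs c
  choose! ρ h1 h2 using fun n (_ : n < 1024) => h.mem_E.1 (conj_mem hg (ε_mem (e := e) n))
  rw [cnv_eq, cnv_eq]
  refine Finset.sum_nbij ρ (fun n hn => Finset.mem_range.2 (h1 n (Finset.mem_range.1 hn)))
    (fun n hn m hm d => ?_) (fun m hm => ?_) fun n hn => ?_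
  · have hn := Finset.mem_range.1 hn
    have hm := Finset.mem_range.1 hm
    exact h.ε_inj hn hm (by
      have := (h2 n hn).symm.trans (d ▸ h2 m hm)
      rwa [mul_left_inj, mul_right_inj] at this)
  · obtain ⟨n, hn, d⟩ := h.mem_E.1 (conj_mem' hg (ε_mem (e := e) m))
    exact ⟨n, Finset.mem_range.2 hn, h.ε_inj (h1 n hn) (Finset.mem_range.1 hm) (by
      rw [h2 n hn, d]; group)⟩
  · have hn := Finset.mem_range.1 hn
    rw [a g hg n hn _ (h1 n hn) (h2 n hn).symm, b g hg _ (xor_lt hr hn) _ (xor_lt hs (h1 n hn)) (by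
      rw [← h.ε_mul, ← h.ε_mul, ← conj_mul, c, h2 n hn])]

theorem nth_map10 (F : ℕ → ℕ) {l : ℕ} (hl : l < 10) :
    nth 0 ([0, 1, 2, 3, 4, 5, 6, 7, 8, 9].map F) l = F l := by interval_cases l <;> rfl

theorem X_gen (C : (ℕ → ℕ) → (ℕ → ℕ) → ℕ → ℕ) (D : ℕ → (ℕ → ℕ) → Bool) (lb : ℕ → ℕ → ℕ) (rep lab : ℕ → ℕ)
    (h : (allN 1024 fun x => lit x fun x => or2 (or2 (bitL x 0) (or2 (not1 (bitL x 1)) (bitL x 4)))
    (or2 (or2 (Nat.beq x 2) (Nat.beq x 70)) (not1 (and2 (D x (C (lb x) (lb x)))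
      (frc (mapL (fun l => lit (rep l) (C (lb x) (lb x))) [0, 1, 2, 3, 4, 5, 6, 7, 8, 9]) fun V =>
        D x (C (lb x) fun n => nth 0 V (lab n))))))) = true) {x : ℕ} (hx : x < 1024) : (x.testBit 0 = true ∨ ¬ x.testBit 1 = true ∨ x.testBit 4 = true) ∨
    (x = 2 ∨ x = 70) ∨ ¬ (D x (C (lb x) (lb x)) = true ∧ D x (C (lb x) fun n => nth 0
      ([0, 1, 2, 3, 4, 5, 6, 7, 8, 9].map fun l => C (lb x) (lb x) (rep l)) (lab n)) = true) := by
  simpa only [lit_eq, or2_true, not1_true, bitL_true, H29.beq_true, and2_true, frc_eq, mapL_eq]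
    using allN_true.1 h x hx

theorem X_cases {x : ℕ} (hx : x < 1024) : (x.testBit 0 = true ∨ ¬ x.testBit 1 = true ∨ x.testBit 4 = true) ∨
    (x = 2 ∨ x = 70) ∨ ¬ (cst x (cnv (lb x) (lb x)) = true ∧ cst x (cnv (lb x) fun n => nth 0
      ([0, 1, 2, 3, 4, 5, 6, 7, 8, 9].map fun l => cnv (lb x) (lb x) (rep l)) (lab n)) = true) :=
  X_gen cnv cst lb rep lab chk_X hx

theorem lb_eq (x n : ℕ) : lb x n = if x.testBit (lab n) then 1 else 0 := by
  rw [lb, land_eq, shr_eq, Nat.and_one_is_mod, Nat.testBit, Nat.one_and_eq_mod_two]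
  rcases Nat.mod_two_eq_zero_or_one (x >>> lab n) with a | a <;> simp [a]

namespace Ft

variable (h : Ft e π)
include h

theorem nb' : ¬ DD e (ev e b2) := h.nb h.qf

theorem toE {y : G} (hy : y ∈ C{e 0}) (a : DD e y) : ∃ g ∈ C{e 0}, ∃ z < 1024, g * y * g⁻¹ = ε e z := by
  obtain ⟨g, a1, a2⟩ := h.CL hy (a.sq h.toLet)
  exact ⟨g, a1, a2.resolve_left fun b => h.nb' (b ▸ a.cj g)⟩

theorem nqD {y : G} (hy : y ∈ C{e 0}) (a : DD e y) : NQ e y :=
  (h.nq_or hy (a.sq h.toLet)).resolve_right fun ⟨g, b⟩ => h.nb' (b ▸ a.cj g)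

theorem trans {n : ℕ} (a : DD e (ε e n)) : ∃ k ∈ N[gen e lE], k * ε e 1 * k⁻¹ = ε e n := by
  obtain ⟨g, hg⟩ := a
  rw [← ε_one (e := e)] at hg
  exact hg ▸ h.fus (ε_mem 1) (hg ▸ ε_mem n)

theorem XD {n : ℕ} (hn : n < 1024) : DD e (ε e n) ↔ (70 : ℕ).testBit (lab n) = true := by
  classical
  obtain ⟨x, x1, x2⟩ : ∃ x < 1024, ∀ l < 10, x.testBit l = true ↔ DD e (ε e (rep l)) :=
    ⟨Nat.ofBits fun l : Fin 10 => decide (DD e (ε e (rep l))), Nat.ofBits_lt_two_pow _, fun l hl => by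
      rw [Nat.testBit_ofBits_lt _ _ hl, decide_eq_true_iff]⟩
  have x3 : ∀ n < 1024, DD e (ε e n) ↔ x.testBit (lab n) = true := fun n hn => by
    obtain ⟨g, -, -, b⟩ := h.EO hn
    rw [x2 _ (lab_lt hn), ← b]
    exact ⟨fun a => a.cj g, DD.of_cj⟩
  have i1 : InvF e (lb x) := fun g _ n hn m hm c => by
    rw [lb_eq, lb_eq]
    simp only [← x3 n hn, ← x3 m hm, ← c]
    exact if_congr ⟨fun a => a.cj g, DD.of_cj⟩ rfl rfl
  have i2 := i1.cnv h.toLet i1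
  have cs : ∀ φ, InvF e φ → cst x φ = true := fun φ a => by
    simp only [cst, allN_true, lit_eq, or2_true, not1_true, bitL_true, H29.beq_true]
    refine fun l hl => or_iff_not_imp_left.2 fun b => ?_
    obtain ⟨k, c1, c2⟩ := h.trans ((x2 l hl).1 (not_not.1 b))
    exact (a k c1 1 (by norm_num) _ (rep_lt l) c2).symm
  rcases X_cases x1 with (a | a | a) | (a | a) | a
  · exact absurd rfl (((x2 0 (by norm_num)).1 a).ne h.toLet)
  · exact (a ((x2 1 (by norm_num)).2 (ε_one (e := e) ▸ DD.self))).elim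
  · have := h.qf _ ((x2 4 (by norm_num)).1 a) (ε_four (e := e) ▸ mem_gen (by decide))
    exact absurd (h.ε_inj (by decide) (by decide) (this.trans ε_one.symm)) (by decide)
  · obtain ⟨g, b1, b2⟩ := h.ni
    obtain ⟨c, c1, z, c2, c3⟩ := h.toE b1 ⟨g, rfl⟩
    have := (x3 z c2).1 (c3 ▸ DD.cj ⟨g, rfl⟩ c)
    rw [a] at this
    rw [(by decide +kernel : ∀ z < 1024, (2 : ℕ).testBit (lab z) = true → z = 1) z c2 this, ε_one] at c3
    have := c3.trans (mem_C1_iff_conj.1 c1).symm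
    exact (b2 (by rwa [mul_left_inj, mul_right_inj] at this)).elim
  · exact a ▸ x3 n hn
  · refine (a ⟨cs _ i2, cs _ (i1.cnv h.toLet (i2.congr fun n hn => ?_))⟩).elim
    rw [i2.rep h.toEn hn, nth_map10 _ (lab_lt hn)]

theorem D_iff {n : ℕ} (hn : n < 1024) : DD e (ε e n) ↔ f2 n = 0 := (h.XD hn).trans
  ((by decide +kernel : ∀ n < 1024, (70 : ℕ).testBit (lab n) = true ↔ f2 n = 0) n hn)

theorem invf2 : InvF e f2 := by
  have i1 : InvF e (lb 70) := fun g _ n hn m hm c => by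
    classical
    rw [lb_eq, lb_eq]
    simp only [← h.XD hn, ← h.XD hm, ← c]
    exact if_congr ⟨fun a => a.cj g, DD.of_cj⟩ rfl rfl
  refine (i1.cnv h.toLet i1).congr fun n hn => ?_
  rw [(i1.cnv h.toLet i1).rep h.toEn hn, chk_f2 _ (lab_lt hn), f2, f2, lab_rep _ (lab_lt hn)]

/-- conjugate elements of `E` have the same invariant. -/
theorem FE {g : G} {n m : ℕ} (hn : n < 1024) (hm : m < 1024) (a : g * ε e n * g⁻¹ = ε e m) :
    f2 n = f2 m := by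
  obtain ⟨k, b1, b2⟩ := h.fus (ε_mem n) (a ▸ ε_mem m)
  exact h.invf2 k b1 n hn m hm (b2.trans a)

theorem swap : ∃ g ∈ N[gen e lE], g * ε e 1 * g⁻¹ = ε e 2 ∧ g * ε e 2 * g⁻¹ = ε e 1 := by
  obtain ⟨k, a1, a2⟩ := h.trans ((h.D_iff (n := 2) (by norm_num)).2 (by decide +kernel))
  obtain ⟨m, b1, b2⟩ := h.mem_E.1 (conj_mem' a1 (ε_mem 1))
  have b3 : k * ε e m * k⁻¹ = ε e 1 := by rw [b2]; group
  have c1 := h.FE b1 (by norm_num) b3
  have c2 := h.FE (g := k) (xor_lt b1 (m := 1) (by norm_num)) (m := 1 ^^^ 2) (by decide) (by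
    rw [← h.ε_mul, ← h.ε_mul, ← conj_mul, b3, a2])
  obtain ⟨c, d1, d2, d3⟩ := h.EO b1
  rw [(by decide +kernel : ∀ m < 1024, f2 m = f2 1 → f2 (m ^^^ 1) = f2 (1 ^^^ 2) → rep (lab m) = 2)
    m b1 c1 c2] at d3
  refine ⟨k * c⁻¹, mul_mem a1 (inv_mem d2), ?_, by rw [← d3, ← b3]; group⟩
  rw [← a2, ε_one, ← mem_C1_iff_conj.1 d1]
  nth_rw 2 [mem_C1_iff_conj.1 d1]
  group

/-- the conjugates of `t` in its centraliser. -/
theorem DC {y : G} (hy : y ∈ C{e 0}) (a : DD e y) :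
    ∃ g ∈ C{e 0}, ∃ z ∈ [1, 2, 65], g * y * g⁻¹ = ε e z := by
  obtain ⟨g, a1, z, a2, a3⟩ := h.toE hy a
  obtain ⟨c, b1, -, b2⟩ := h.EO a2
  exact ⟨c * g, mul_mem b1 a1, _, (by decide +kernel : ∀ z < 1024, f2 z = 0 → rep (lab z) ∈ [1, 2, 65])
    z a2 ((h.D_iff a2).1 (a3 ▸ a.cj g)), by rw [← b2, ← a3]; group⟩

theorem clD {y : G} (hy : y ∈ C{e 0}) (a : DD e y) {s : C3S.S} {k : ℕ} (hk : k < 512)
    (b : s * ap π y * s⁻¹ = ev (eb e π) (mw lT k)) : cls k ≤ 2 := by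
  have := allN_true.1 chk_cj k hk
  simp only [lit_eq, frc_eq, or2_true, not1_true, and2_true, h.isoH.eqW, app_eq, ev_append, ← b,
    ble_true] at this
  obtain ⟨b1, b2⟩ := this.resolve_left fun c => c (by
    rw [conj_mul, ← ap_mul π hy hy, a.sq h.toLet]; simp)
  rw [← mul_inv_eq_iff_eq_mul] at b2
  obtain ⟨g, a3, a4⟩ := h.surj (ev (eb e π) (dec 5 (Nat.shiftRight (lk CJ 38 k 274877906943) 3)) * s)
  obtain ⟨n, c1, c2⟩ := h.lift (mul_mem (mul_mem a3 hy) (inv_mem a3)) (w := nth [] rp5 (cls k)) (by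
    rw [ap_conj π a3 hy, a4]; exact Eq.trans (by group) b2)
  obtain ⟨c, -, d | ⟨z, d1, d2, d3⟩⟩ := h.CLk (Nat.lt_succ_of_le b1) c1 c2 ((a.cj g).sq h.toLet)
  · exact (h.nb' (d ▸ (a.cj g).cj c)).elim
  · exact d3.resolve_right fun d => d ((h.D_iff d1).1 (d2 ▸ (a.cj g).cj c))

/-- the pair `t`, `d` is the only one with product `t d` in the centraliser. -/
theorem UP1 {y : G} (h1 : y ∈ C{e 0}) (h2 : y ∈ C{e 7}) (a : DD e y) (b : DD e (y * e 0 * e 7)) :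
    y = e 0 ∨ y = e 7 := by
  have c7 := h.e_C 7
  have t0 : ap π (e 0) = 1 := (h.ker _ (self_mem_C1 _)).2 h.tQ
  have T7 : gen (eb e π) lT ≤ C{eb e π 7} := by
    simpa using h.isoH.cent (cs := lT) (v := [7]) (by decide +kernel)
  obtain ⟨s, a1, a2⟩ := Sylow_Jsub Nat.prime_two (h.sylTb.of_le T7 le_top)
    (piElt_of_pow_eq_one (piNat_self Nat.prime_two) (show ap π y ^ 2 = 1 by
      rw [pow_two, ← ap_mul π h1 h1, a.sq h.toLet, ap_one])).isPi (zpowers_le.2 (mem_C1.2 (by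
      rw [eb, ← ap_mul π h1 c7, mem_C1.1 h2, ap_mul π c7 h1])))
  obtain ⟨k, a3, a4⟩ := h.pcT.cover (a2 (conj_mem_cj s (mem_zpowers _)))
  have y2 := mul_mem (mul_mem h1 (self_mem_C1 _)) c7
  have p2 : ap π (y * e 0 * e 7) = ap π y * eb e π 7 := by
    rw [ap_mul π (mul_mem h1 (self_mem_C1 _)) c7, ap_mul π h1 (self_mem_C1 _), t0, mul_one, eb]
  have b1 := h.clD h1 a a3 a4.symm
  have b2 := h.clD y2 b (s := s) (k := k ^^^ 256) (Nat.xor_lt_two_pow (n := 9) a3 (by norm_num)) (by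
    rw [p2, ← conj_mul, ← a4, mem_C1_iff_conj.1 a1]
    simpa using h.isoH.eqW.1 (allN_true.1 (by decide +kernel : (allN 512 fun k =>
      eqW runH (mw lT k ++ [7]) (mw lT (k ^^^ 256))) = true) k a3))
  have b3 : runH (mw lT k ++ mw lT k) = runH [] := (h.isoH _ _).2 (by
    rw [ev_append, a4, conj_mul, ← ap_mul π h1 h1, a.sq h.toLet]; simp)
  rcases (by decide +kernel : ∀ k < 512, cls k ≤ 2 → cls (k ^^^ 256) ≤ 2 →
    runH (mw lT k ++ mw lT k) = runH [] → k = 0 ∨ k = 256) k a3 b1 b2 b3 with rfl | rfl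
  · exact .inl (h.qf y a ((h.ker y h1).1 (conj_eq_one_iff'.1 a4.symm)))
  · have : ap π y = eb e π 7 := by
      rw [show mw lT 256 = [7] by decide +kernel, ev_cons, ev_nil, mul_one] at a4
      have := a4.symm.trans (mem_C1_iff_conj.1 a1).symm
      rwa [mul_left_inj, mul_right_inj] at this
    have := h.qf _ b ((h.ker _ y2).1 (by rw [p2, this, eb, ← ap_mul π c7 c7, h.sq, ap_one]))
    rw [mem_C1.1 h1, mul_assoc, mul_eq_left, mul_eq_one_iff_eq_inv] at this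
    exact .inr (this.trans (h.iv 7).symm)

/-- `E` normalises no subgroup of odd order. -/
theorem oddE {O : Subgroup G} (hO : Odd (Nat.card O)) (hn : gen e lE ≤ N[O]) : O = ⊥ := by
  have p2 := Nat.prime_two
  have hO' : IsPi {2}ᶜ O := (isPi_compl_iff p2).2 (by rwa [Nat.two_dvd_ne_zero, ← Nat.odd_iff])
  have k : ∀ n < 1024, f2 n = 0 → ∀ x ∈ O, ε e n * x * (ε e n)⁻¹ = x⁻¹ := fun n h1 h2 x hx => by
    obtain ⟨y, w, a1, a2, a3, rfl⟩ := H21.exists_cent_mul_inverted (h.ε_sq n) hO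
      (fun _ => conj_mem (hn (ε_mem n))) hx
    obtain ⟨g, b1, b2⟩ := h.trans ((h.D_iff h1).2 h2)
    have c1 : g⁻¹ * y * g⁻¹⁻¹ ∈ C{e 0} := by
      simpa [← b2, mul_assoc, ε_one] using cjC g⁻¹ (mem_C1.2 a2.symm)
    have c2 : g⁻¹ * y * g⁻¹⁻¹ ∈ TS e π := h.mem_T_of' c1 fun m hm => .inl (by
      have d1 : g⁻¹ * y * g⁻¹⁻¹ * θ e m * (g⁻¹ * y * g⁻¹⁻¹)⁻¹ * (θ e m)⁻¹ ∈ gen e lQ :=
        mul_mem (conj_mem (h.lx.norm c1) (h.θ_mem m)) (inv_mem (h.θ_mem m))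
      have d2 : g⁻¹ * y * g⁻¹⁻¹ * θ e m * (g⁻¹ * y * g⁻¹⁻¹)⁻¹ * (θ e m)⁻¹ ∈ cj g⁻¹ O := by
        rw [mem_cj, h.θ_E hm, show g⁻¹⁻¹ * (g⁻¹ * y * g⁻¹⁻¹ * ε e (4 * m) * (g⁻¹ * y * g⁻¹⁻¹)⁻¹ *
          (ε e (4 * m))⁻¹) * g⁻¹ = y * (g * ε e (4 * m) * g⁻¹ * y⁻¹ * (g * ε e (4 * m) * g⁻¹)⁻¹) by group]
        exact mul_mem a1 (conj_mem (hn (conj_mem b1 (ε_mem _))) (inv_mem a1))
      exact mul_inv_eq_one.1 (((h.sylT.pi.of_le h.Q_le_T).piElt d1).eq_one ((hO'.cj _).piElt d2)))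
    rw [conj_eq_one_iff'.1 ((h.sylT.pi.piElt c2).eq_one ((hO'.cj _).piElt (conj_mem_cj _ a1))), one_mul]
    exact a3.2
  refine eq_bot_iff.2 fun x hx => ?_
  have : x = x⁻¹ := by
    have a1 := k 1 (by norm_num) (by decide +kernel) x hx
    have a2 := k 6 (by norm_num) (by decide +kernel) _ (inv_mem hx)
    have a3 := k 10 (by norm_num) (by decide +kernel) x hx
    have a4 := k 18 (by norm_num) (by decide +kernel) _ (inv_mem hx)
    have a5 := k 31 (by norm_num) (by decide +kernel) x hx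
    have a6 : ε e 31 * (ε e 18 * (ε e 10 * (ε e 6 * ε e 1))) = 1 := by simp only [h.ε_mul]; rfl
    calc x = ε e 31 * (ε e 18 * (ε e 10 * (ε e 6 * ε e 1))) * x *
          (ε e 31 * (ε e 18 * (ε e 10 * (ε e 6 * ε e 1))))⁻¹ := by rw [a6]; simp
      _ = ε e 31 * (ε e 18 * (ε e 10 * (ε e 6 * (ε e 1 * x * (ε e 1)⁻¹) * (ε e 6)⁻¹) * (ε e 10)⁻¹) *
          (ε e 18)⁻¹) * (ε e 31)⁻¹ := by group
      _ = _ := by rw [a1, a2, inv_inv, a3, a4, inv_inv, a5]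
  exact (piElt_of_pow_eq_one (piNat_self p2) (show x ^ 2 = 1 by
    rw [pow_two]; nth_rw 1 [this]; simp)).eq_one (hO'.piElt hx)

end Ft

end H4.C2
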