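import Mathlib
import Cfsg.Agent.H4.C2X
import Cfsg.Agent.H4.C2AD
import Cfsg.Agent.H4.C2TH

/-! The amalgam: the checks. -/

set_option autoImplicit false
set_option maxRecDepth 100000
set_option exponentiation.threshold 20000
set_option Elab.async false

open H29 H15.KM

namespace H4.C2

/-- substitution of words for letters. -/
noncomputable def sbs (S : ℕ → List ℕ) (w : List ℕ) : List ℕ :=
  List.rec (motive := fun _ => List ℕ) [] (fun c _ ih => app (S c) ih) w

noncomputable def SK (c : ℕ) : List ℕ := nth [] SKL c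
noncomputable def S7 (c : ℕ) : List ℕ := nth [] S7L c
noncomputable def S2 (c : ℕ) : List ℕ := nth [] S2L c
noncomputable def S7r (r : List ℕ) (c : ℕ) : List ℕ := Bool.rec (S7 c) r (Nat.beq c 9)
/-- the action on `E` of the element interchanging `t` and `d`. -/
def L0 (n : ℕ) : ℕ := lk10 u11 n
def κw : List ℕ := [4, 24, 50]
def GK : List ℕ := [80, 67, 26, 49] ++ lE
def L7 : List ℕ := [0, 1, 2, 3, 4, 5, 7, 8, 10, 64, 78]
def L2 : List ℕ := [0, 1, 2, 3, 5, 6, 7, 8, 10, 64, 78]

noncomputable def chkS (a : ℕ × ℕ × ℕ × List ℕ × ℕ) : Bool := lit a.1 fun M => lit a.2.1 fun b =>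
  lit a.2.2.1 fun M' => lit a.2.2.2.2 fun T => and2 (and2 (Nat.ble b 1023) (allL a.2.2.2.1 fun v =>
    and2 (sub v M) (Nat.ble v 1023))) (allN 1024 fun z => lit z fun z => or2 (not1 (allL a.2.2.2.1 fun v =>
      Nat.beq (f2 (Nat.xor b v)) (f2 (Nat.xor z (L0 v))))) (frc (dec 6 (lk T 42 z 4398046511103)) fun w =>
        and2 (allL w fun c => memL c LN) (allN 1024 fun v => lit v fun v => or2 (not1 (sub v M'))
          (or2 (and2 (sub v M) (Nat.beq (aE w (L0 v)) (L0 v))) (lit (Nat.xor v b) fun u =>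
            and2 (sub u M) (Nat.beq (aE w (Nat.xor (L0 u) z)) (L0 v)))))))

noncomputable def chkSA (l : List (ℕ × ℕ × ℕ × List ℕ × ℕ)) : ℕ → Bool :=
  List.rec (motive := fun _ => ℕ → Bool) (fun M => Nat.beq M 1023)
    (fun a _ ih M => and2 (and2 (Nat.beq a.1 M) (chkS a)) (ih a.2.2.1)) l

theorem chk_SA : chkSA SA 3 = true := by decide +kernel

noncomputable def chkB (l : List ℕ) (a : ℕ × List ℕ × List (List ℕ × ℕ) × List ℕ × ℕ × ℕ) : Bool :=
  lit a.1 fun y => frc a.2.1 fun v => lit a.2.2.2.2.2 fun T =>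
  and2 (and2 (and2 (memL y LN) (allL v fun c => memL c LN)) (allN 1024 fun n => lit n fun n =>
    lit (L0 n) fun m => and2 (Nat.beq (L0 m) n) (Nat.beq (aE v n) (L0 (aE [y] m)))))
  (and2 (and2 (and2 (Nat.ble a.2.2.2.2.1 1023) (Nat.beq (f2 a.2.2.2.2.1) 0))
    (and2 (eqW runC (app a.2.2.2.1 [y]) (app (mw lE a.2.2.2.2.1) a.2.2.2.1))
      (allL a.2.2.1 fun p => and2 (allL p.1 fun c => memL c l) (eqW runC (pw p.2 (y :: p.1)) []))))
    (allN 1024 fun z => lit z fun z => frc (app v (mw lE z)) fun x => or2 (not1 (and2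
      (eqW runC (app x x) []) (and2 (nq8 x) (allL a.2.2.1 fun p =>
        eqW runC (pw p.2 (app x (sbs SK p.1))) []))))
      (lit (lk T 46 z 70368744177663) fun d => frc (mw lE (Nat.mod (Nat.div d 2) 1024)) fun u =>
        or2 (and2 (eqW runC (app u x) (app (SK y) u)) (allL l fun c => eqW runC (app u (SK c)) (app (SK c) u)))
          (frc (dec 5 (Nat.div d 2048)) fun w => and2 (not1 (Nat.beq (f2 (Nat.mod (Nat.div d 2) 1024)) 0))
            (eqW runC (app w x) (app u w))))))

noncomputable def chkSB (l : List (ℕ × List ℕ × List (List ℕ × ℕ) × List ℕ × ℕ × ℕ)) : List ℕ → Bool :=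
  List.rec (motive := fun _ => List ℕ → Bool) (fun k => eqL k GK)
    (fun a _ ih k => and2 (chkB k a) (ih (a.1 :: k))) l

theorem chk_SB : chkSB SB lE = true := by decide +kernel

noncomputable def chkSt (k : List ℕ) (S : ℕ → List ℕ) (U : List (List ℕ)) (cs : List ℕ) : Bool :=
  allL cs fun c => frc (nth [] U c) fun u => and2 (allL u fun d => memL d GK)
    (and2 (eqW runC (c :: k) (app k u)) (eqW runC (app κw (sbs SK u)) (app (S c) κw)))

theorem chk_S7 : chkSt [] S7 U7L L7 = true := by decide +kernel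
theorem chk_S2 : chkSt kw S2 U2L L2 = true := by decide +kernel

def RY : List (List ℕ) := [[9, 9], [9, 3, 9, 3], [9, 10, 9, 10], [9, 2, 9, 2], [9, 8, 9, 8],
  [9, 1, 9, 1, 9, 1], [9, 0, 78, 9, 0, 78], [9, 64, 78, 9, 64, 78, 9, 64, 78]]

theorem chk_coh : (allN 2835 fun i => lit i fun i => frc (wd i) fun v =>
    or2 (not1 (eqW runH (app v [76, 7]) (app [76, 7] v))) (allN 512 fun k => lit k fun k =>
      frc (app v (mw lT k)) fun w => or2 (not1 (allL RY fun R => eqW runH (sbs (S7r w) R) []))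
        (allN 512 fun n => lit n fun n => frc (app (qw n) w) fun r =>
          or2 (not1 (allL RY fun R => eqW runC (sbs (S7r r) R) []))
            (or2 (or2 (eqW runC r (S7 9)) (eqW runC (app r (S7 0)) (app (S7 0) (S7 9))))
              (or2 (eqW runC (app r (S7 8)) (mw lE 478)) (eqW runC (app r (S7 8)) (mw lE 510))))))) =
    true := by decide +kernel

theorem chk_rel : (allL ([9, 9] :: (C2TG.R0 ++ C2TH.R0)) fun r =>
    or2 (and2 (not1 (memL 9 r)) (eqW runC r []))
      (or2 (and2 (allL r fun c => memL c (9 :: L7)) (eqW runC (sbs S7 r) []))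
        (and2 (allL r fun c => memL c (9 :: L2)) (eqW runC (sbs S2 r) [])))) = true := by
  decide +kernel

end H4.C2
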