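import Mathlib
import Cfsg.Agent.H4.C2AC

/-! The amalgam. -/

set_option autoImplicit false
set_option linter.unusedSectionVars false
set_option maxRecDepth 100000
set_option exponentiation.threshold 20000

open Subgroup H24 H29 H9.MX H15.XP H15.KM H11

namespace H4.C2

variable {G : Type} [Group G] [Finite G] {e : ℕ → G} {π : C{e 0} →* C3S.S}

omit [Finite G] in
theorem ev_sbs (e : ℕ → G) (S : ℕ → List ℕ) : ∀ w, ev e (sbs S w) = ev (fun c => ev e (S c)) w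
  | [] => rfl
  | c :: w => by
    rw [show sbs S (c :: w) = app (S c) (sbs S w) from rfl, app_eq, ev_append, ev_sbs e S w, ev_cons]

theorem ev_star {e' : ℕ → G} {k : G} {S : ℕ → List ℕ} : ∀ {w : List ℕ},
    (∀ c ∈ w, e' c = k * ev e (S c) * k⁻¹) → ev e' w = k * ev e (sbs S w) * k⁻¹
  | [], _ => by simp [sbs]
  | c :: w, h => by
    rw [show sbs S (c :: w) = app (S c) (sbs S w) from rfl, app_eq, ev_append, ev_cons,
      h c List.mem_cons_self, ev_star fun d hd => h d (List.mem_cons_of_mem _ hd), conj_mul]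

/-- the letters with a new ninth letter. -/
def u9 (e : ℕ → G) (x : G) (c : ℕ) : G := if c = 9 then x else e c

theorem u9_9 (x : G) : u9 e x 9 = x := if_pos rfl
theorem u9_of (x : G) {c : ℕ} (h : c ≠ 9) : u9 e x c = e c := if_neg h

/-- partial rigidity on `E`. -/
def QA (e : ℕ → G) (g : G) (M : ℕ) : Prop :=
  g ∈ N[gen e lE] ∧ ∀ v < 1024, sub v M = true → g * ε e v * g⁻¹ = ε e (L0 v)
/-- partial rigidity on the centraliser of `t` and `d`. -/
def QB (e : ℕ → G) (g : G) (l : List ℕ) : Prop :=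
  ActE e g u11 ∧ ∀ c ∈ l, g * e c * g⁻¹ = ev e (SK c)

theorem QB.star {g : G} {l w : List ℕ} (a : QB e g l) (hw : ∀ c ∈ w, c ∈ l) :
    g * ev e w * g⁻¹ = ev e (sbs SK w) := by
  rw [ev_star (e := e) (k := g⁻¹) (S := SK) fun c hc => by rw [← a.2 c (hw c hc)]; group]; group

namespace Ft

variable (h : Ft e π)
include h

theorem stepA {g : G} {a : ℕ × ℕ × ℕ × List ℕ × ℕ} (hc : chkS a = true) (q : QA e g a.1) :
    ∃ g, QA e g a.2.2.1 := by
  simp only [chkS, lit_eq, frc_eq, and2_true, allN_true, allL_true, or2_true, not1_true, ble_true,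
    memL_true, H29.beq_true] at hc
  obtain ⟨⟨b1, b2⟩, b3⟩ := hc
  obtain ⟨z, c1, c2⟩ := h.mem_E.1 (conj_mem q.1 (ε_mem a.2.1))
  obtain ⟨d1, d2⟩ := (b3 z c1).resolve_left fun b => b fun v hv =>
    h.FE (g := g) (xor_lt (Nat.lt_succ_of_le b1) (Nat.lt_succ_of_le (b2 v hv).2))
      (xor_lt c1 (lk10_lt u11 v)) (by
        change g * ε e (a.2.1 ^^^ v) * g⁻¹ = ε e (z ^^^ L0 v)
        rw [← h.ε_mul, ← h.ε_mul, ← conj_mul, ← c2, q.2 v (Nat.lt_succ_of_le (b2 v hv).2) (b2 v hv).1])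
  generalize dec 6 _ = w at d1 d2
  refine ⟨ev e w * g, mul_mem (h.ev_N d1) q.1, fun v hv s => ?_⟩
  rw [show ev e w * g * ε e v * (ev e w * g)⁻¹ = ev e w * (g * ε e v * g⁻¹) * (ev e w)⁻¹ by group]
  rcases (d2 v hv).resolve_left fun b => b s with ⟨f1, f2⟩ | ⟨f1, f2⟩
  · rw [q.2 v hv f1, h.cjE d1 (n := L0 v) (lk10_lt _ _)]; exact congrArg _ f2
  · rw [← f2]
    change _ = ε e (aE w (L0 (v ^^^ a.2.1) ^^^ z))
    rw [← h.cjE d1 (n := L0 (v ^^^ a.2.1) ^^^ z) (xor_lt (lk10_lt _ _) c1), ← h.ε_mul, c2, ← q.2 _ (xor_lt hv (Nat.lt_succ_of_le b1)) f1, conj_mul, h.ε_mul, Nat.xor_assoc]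
    simp

theorem rigA : ∃ g, QB e g lE := by
  have k : ∀ l M g, chkSA l M = true → QA e g M → ∃ g, QA e g 1023 := fun l => by
    induction l with
    | nil => exact fun M g a q => ⟨g, H29.beq_true.1 a ▸ q⟩
    | cons a l ih =>
      intro M g b q
      obtain ⟨b1, b2⟩ := and2_true.1 b
      obtain ⟨b1, b3⟩ := and2_true.1 b1
      obtain ⟨g', q'⟩ := h.stepA b3 ((H29.beq_true.1 b1).symm ▸ q)
      exact ih _ g' b2 q'
  obtain ⟨g, a1, a2, a3⟩ := h.swap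
  obtain ⟨g, -, q⟩ := k SA 3 g chk_SA ⟨a1, fun v hv s => by
    rcases (by decide +kernel : ∀ v < 1024, sub v 3 = true → (v = 0 ∧ L0 v = 0) ∨ (v = 1 ∧ L0 v = 2) ∨
      (v = 2 ∧ L0 v = 1) ∨ (v = 1 ^^^ 2 ∧ L0 v = 2 ^^^ 1)) v hv s with ⟨a, b⟩ | ⟨a, b⟩ | ⟨a, b⟩ | ⟨a, b⟩ <;>
      rw [b, a]
    exacts [by simp [ε_zero], a2, a3, by rw [← h.ε_mul, ← h.ε_mul, ← conj_mul, a2, a3]]⟩
  have a : ActE e g u11 := fun n hn => q n hn ((by decide +kernel : ∀ n < 1024, sub n 1023 = true) n hn)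
  refine ⟨g, a, fun c hc => ?_⟩
  obtain ⟨j, b1, rfl, b2⟩ := (by decide +kernel : ∀ c ∈ lE, ∃ j < 10, c = nth 0 lE j ∧
    SK c = mw lE (lk10 u11 (2 ^ j))) c hc
  rw [b2, ← ε_pow (e := e) b1]
  exact a _ (Nat.pow_lt_pow_right (n := 10) (by norm_num) b1)

theorem stepB {g : G} {l : List ℕ} {a : ℕ × List ℕ × List (List ℕ × ℕ) × List ℕ × ℕ × ℕ}
    (hc : chkB l a = true) (q : QB e g l) : ∃ g, QB e g (a.1 :: l) := by
  simp only [chkB, lit_eq, frc_eq, and2_true, allN_true, allL_true, or2_true, not1_true, ble_true,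
    memL_true, H29.beq_true, h.iso.eqW, app_eq, ev_append, ev_pw, ev_cons, ev_nil, mul_one] at hc
  obtain ⟨⟨⟨b1, b2⟩, b3⟩, ⟨⟨b4, b5⟩, b6, b7⟩, b8⟩ := hc
  obtain ⟨z, c1, c2⟩ := h.mem_E.1 (h.CE ▸ mem_C'.2 fun x hx => by
    obtain ⟨n, hn, rfl⟩ := h.mem_E.1 hx
    have d1 := h.cjE (w := [a.1]) (by simpa using b1) (lk10_lt u11 n)
    have d2 := q.1 _ (aE_lt (lk10_lt u11 n) [a.1])
    have d3 := q.1 _ (lk10_lt u11 n)
    have d4 := h.cjE b2 hn
    rw [(b3 n hn).2] at d4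
    rw [show lk10 u11 (lk10 u11 n) = n from (b3 n hn).1] at d3
    rw [← d1, ev_cons, ev_nil, mul_one, show lk10 u11 (aE [a.1] (lk10 u11 n)) = L0 (aE [a.1] (L0 n)) from rfl,
      ← d4] at d2
    rw [← mul_inv_eq_iff_eq_mul]
    calc _ = (ev e a.2.1)⁻¹ * (g * e a.1 * g⁻¹ * ε e n * (g * e a.1 * g⁻¹)⁻¹) * ev e a.2.1 := by group
      _ = _ := by nth_rw 1 [← d3]; rw [show ∀ x : G, g * e a.1 * g⁻¹ * (g * x * g⁻¹) * (g * e a.1 * g⁻¹)⁻¹ =
          g * (e a.1 * x * (e a.1)⁻¹) * g⁻¹ from fun x => by group, d2]; group :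
    (ev e a.2.1)⁻¹ * (g * e a.1 * g⁻¹) ∈ gen e lE)
  have c3 : ev e a.2.1 * ev e (mw lE z) = g * e a.1 * g⁻¹ := by
    rw [show ev e (mw lE z) = _ from c2, mul_inv_cancel_left]
  have D : DD e (g * e a.1 * g⁻¹) := DD.cj (DD.of_cj (g := ev e a.2.2.2.1) (by
    rw [b6, mul_inv_cancel_right]; exact (h.D_iff (Nat.lt_succ_of_le b4)).2 b5)) g
  have b9 := b8 z c1
  rw [c3] at b9
  have u1 : (lk a.2.2.2.2.2 46 z 70368744177663).div 2 % 1024 < 1024 := Nat.mod_lt _ (by norm_num)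
  rcases b9.resolve_left fun b => b ⟨D.sq h.toLet, NQ.nq8' h.toLet (by
      rw [ev_append, c3]; exact h.nqD (by rw [← c3, ← ev_append]; exact h.ev_C _) D), fun p hp => by
      rw [← q.star (b7 p hp).1, conj_mul, conj_pow, (b7 p hp).2]; simp⟩ with ⟨d1, d2⟩ | ⟨d1, d2⟩
  · generalize Nat.mod _ 1024 = u at d1 d2
    refine ⟨ε e u * g, fun n hn => ?_, fun c hc => ?_⟩
    · rw [show ε e u * g * ε e n * (ε e u * g)⁻¹ = ε e u * (g * ε e n * g⁻¹) * (ε e u)⁻¹ by group,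
        q.1 n hn, h.ε_comm, mul_inv_cancel_right]
    · rw [show ε e u * g * e c * (ε e u * g)⁻¹ = ε e u * (g * e c * g⁻¹) * (ε e u)⁻¹ by group,
        mul_inv_eq_iff_eq_mul]
      rcases List.mem_cons.1 hc with rfl | hc
      · exact d1
      · rw [q.2 c hc]; exact d2 c hc
  · exact (d1 ((h.D_iff u1).1 ((mul_inv_eq_iff_eq_mul.2 d2 : _ = ε e _) ▸ D.cj _))).elim

theorem rigB : ∃ g, QB e g GK := by
  have k : ∀ l M g, chkSB l M = true → QB e g M → ∃ g, QB e g GK := fun l => by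
    induction l with
    | nil => exact fun M g a q => ⟨g, eqL_true a ▸ q⟩
    | cons a l ih =>
      intro M g b q
      obtain ⟨b1, b2⟩ := and2_true.1 b
      obtain ⟨g', q'⟩ := h.stepB b1 q
      exact ih _ g' b2 q'
  obtain ⟨g, q⟩ := h.rigA
  exact k SB lE g chk_SB q

theorem star {g : G} (q : QB e g GK) {k cs : List ℕ} {S : ℕ → List ℕ} {U : List (List ℕ)}
    (hc : chkSt k S U cs = true) : ∀ c ∈ cs, e c = ev e k * (ev e κw * g)⁻¹ * ev e (S c) *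
      (ev e k * (ev e κw * g)⁻¹)⁻¹ := fun c h1 => by
  have := allL_true.1 hc c h1
  simp only [frc_eq, and2_true, allL_true, memL_true, h.iso.eqW, app_eq, ev_append, ev_cons] at this
  rw [eq_mul_inv_of_mul_eq this.2.1, ← mul_inv_eq_iff_eq_mul.2 this.2.2, ← q.star this.1]; group

theorem coh {k1 k2 : G} (a1 : ∀ c ∈ L7, e c = k1 * ev e (S7 c) * k1⁻¹)
    (a2 : ∀ c ∈ L2, e c = k2 * ev e (S2 c) * k2⁻¹) :
    ∃ k, ∀ c ∈ 9 :: L2, u9 e (k1 * ev e (S7 9) * k1⁻¹) c = k * ev e (S2 c) * k⁻¹ := by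
  obtain ⟨y, hy⟩ : ∃ y, y = k2 * ev e (S2 9) * k2⁻¹ := ⟨_, rfl⟩
  have n9 : ∀ c ∈ L2, c ≠ 9 := by decide
  have b2 : ∀ c ∈ 9 :: L2, u9 e y c = k2 * ev e (S2 c) * k2⁻¹ := fun c hc => by
    rcases List.mem_cons.1 hc with rfl | hc
    exacts [hy, (u9_of y (n9 c hc)).trans (a2 c hc)]
  have r2 : ∀ u v, (and2 (allL (u ++ v) fun c => memL c (9 :: L2)) (eqW runC (sbs S2 u) (sbs S2 v))) = true →
      ev (u9 e y) u = ev (u9 e y) v := fun u v a => by
    simp only [and2_true, allL_true, memL_true, h.iso.eqW, List.mem_append] at a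
    rw [ev_star fun c hc => b2 c (a.1 c (.inl hc)), ev_star fun c hc => b2 c (a.1 c (.inr hc)), a.2]
  have yC : k1⁻¹ * y * k1⁻¹⁻¹ ∈ C{e 0} := by
    have := cjC k1⁻¹ (mem_C1.2 (show y * e 7 = e 7 * y by
      simpa [u9] using r2 [9, 7] [7, 9] (by decide +kernel)))
    rwa [a1 7 (by decide), show S7 7 = [0] by decide +kernel, show k1⁻¹ * (k1 * ev e [0] * k1⁻¹) * k1⁻¹⁻¹ =
      e 0 by simp [mul_assoc]] at this
  obtain ⟨i, c1, k, c2, n, c3, c4⟩ := h.cover yC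
  have hp := allN_true.1 chk_coh i c1
  simp only [lit_eq, frc_eq, allN_true, allL_true, or2_true, not1_true, h.iso.eqW, h.isoH.eqW,
    app_eq] at hp
  obtain ⟨w, hw⟩ : ∃ w, w = wd i ++ mw lT k := ⟨_, rfl⟩
  rw [← ev_qw, ← ev_append, ← hw] at c4
  have b1 : ∀ c ∈ 9 :: L7, u9 e y c = k1 * ev e (S7r (qw n ++ w) c) * k1⁻¹ := fun c hc => by
    rcases List.mem_cons.1 hc with rfl | hc
    · rw [show S7r (qw n ++ w) 9 = qw n ++ w from rfl, ← c4, u9_9]; group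
    · have : c ≠ 9 := (by decide : ∀ c ∈ L7, c ≠ 9) c hc
      rw [u9_of y this, S7r, Bool.eq_false_iff.2 (mt H29.beq_true.1 this)]; exact a1 c hc
  have r1 : ∀ u v, (∀ c ∈ u ++ v, c ∈ 9 :: L7) → ev (u9 e y) u = ev (u9 e y) v →
      ev e (sbs (S7r (qw n ++ w)) u) = ev e (sbs (S7r (qw n ++ w)) v) := fun u v a b => by
    rwa [ev_star fun c hc => b1 c (a c (List.mem_append_left _ hc)),
      ev_star fun c hc => b1 c (a c (List.mem_append_right _ hc)), mul_left_inj, mul_right_inj] at b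
  have r3 : ∀ u, ev (eb e π) (sbs (S7r w) u) = ap π (ev e (sbs (S7r (qw n ++ w)) u)) := fun u => by
    rw [← h.ev_b, ev_sbs, ev_sbs]
    refine ev_congr fun c _ => ?_
    unfold S7r
    cases Nat.beq c 9
    · rfl
    · change _ = ev _ (qw n ++ w)
      rw [ev_append, h.ev_b (qw n), ev_qw, h.ap_θ, one_mul]
  have r4 : ∀ R ∈ RY, ev e (sbs (S7r (qw n ++ w)) R) = ev e [] := fun R hR =>
    r1 R [] ((by decide : ∀ R ∈ RY, ∀ c ∈ R ++ [], c ∈ 9 :: L7) R hR) (r2 R [] (allL_true.1 (by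
      decide +kernel : (allL RY fun u => and2 (allL (u ++ []) fun c => memL c (9 :: L2))
        (eqW runC (sbs S2 u) (sbs S2 []))) = true) R hR))
  have hq := hp.resolve_left (fun a => a (by
    have d1 := congrArg (ap π) (r1 [9, 10, 8, 2] [10, 8, 2, 9] (by decide) (r2 _ _ (by decide +kernel)))
    have d2 : ev (eb e π) (S7 10) * (ev (eb e π) (S7 8) * ev (eb e π) (S7 2)) = ev (eb e π) [76, 7] := by
      rw [← ev_append, ← ev_append, ← h.isoH]; decide +kernel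
    have d3 := mem_C1.1 (h.isoH.cent (cs := lT) (v := [76, 7]) (by decide +kernel)
      (ev_mem_gen (mem_mw lT k)))
    rw [← r3, ← r3, ev_sbs, ev_sbs] at d1
    change ev _ w * (ev _ (S7 10) * (ev _ (S7 8) * (ev _ (S7 2) * 1))) =
      ev _ (S7 10) * (ev _ (S7 8) * (ev _ (S7 2) * (ev _ w * 1))) at d1
    rw [mul_one, mul_one, d2, ← mul_assoc _ _ (ev _ w), ← mul_assoc _ _ (ev _ w), d2, hw, ev_append,
      mul_assoc, d3, ← mul_assoc, ← mul_assoc, mul_left_inj] at d1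
    rw [ev_append, ev_append, d1])) k c2
  rw [← hw] at hq
  have hr := (hq.resolve_left (fun a => a fun R hR => by rw [r3, r4 R hR]; simp) n c3).resolve_left
    fun a => a r4
  have bad : ∀ m < 1024, ev e (qw n ++ w ++ S7 8) = ev e (mw lE m) → f2 m = f2 315 := fun m hm a => by
    refine h.FE (g := k2⁻¹ * k1) hm (by norm_num) ?_
    have d1 := b2 8 (by decide)
    have d2 : ev e (S2 9) * ev e (S2 8) = ε e 315 := by
      rw [← ev_append]; exact h.iso.eqW.1 (by decide +kernel)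
    rw [u9_of y (by norm_num), a1 8 (by decide)] at d1
    rw [ε, ← a, ev_append, ← c4, ← d2, hy, show ev e (S7 8) = k1⁻¹ * (k2 * ev e (S2 8) * k2⁻¹) * k1 by
      rw [← d1]; group]
    group
  rcases hr with (a | a) | a | a
  · exact ⟨k2, by rwa [← a, ← c4, show k1 * (k1⁻¹ * y * k1⁻¹⁻¹) * k1⁻¹ = y by group]⟩
  · refine ⟨(e 0)⁻¹ * k2, fun c hc => ?_⟩
    rw [show (e 0)⁻¹ * k2 * ev e (S2 c) * ((e 0)⁻¹ * k2)⁻¹ = (e 0)⁻¹ * (k2 * ev e (S2 c) * k2⁻¹) * e 0 by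
      group, ← b2 c hc]
    rcases List.mem_cons.1 hc with rfl | hc
    · rw [ev_append, ← c4, ev_append] at a
      rw [u9_9, u9_9, a1 0 (by decide), ← inv_mul_eq_iff_eq_mul.2 a]; group
    · rw [u9_of _ (n9 c hc), u9_of _ (n9 c hc), mul_assoc, mem_C1.1 (h.e_C c), inv_mul_cancel_left]
  · exact absurd (bad _ (by norm_num) a) (by decide +kernel)
  · exact absurd (bad _ (by norm_num) a) (by decide +kernel)

/-- the new letter and its relations. -/
theorem amalg : ∃ g x k, QB e g GK ∧ (∀ r ∈ [9, 9] :: (C2TG.R0 ++ C2TH.R0), ev (u9 e x) r = 1) ∧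
    ∀ c ∈ 9 :: L2, u9 e x c = k * ev e (S2 c) * k⁻¹ := by
  obtain ⟨g, q⟩ := h.rigB
  have a1 := h.star q chk_S7
  obtain ⟨k, a2⟩ := h.coh a1 (h.star q chk_S2)
  refine ⟨g, _, k, q, fun r hr => ?_, a2⟩
  have := allL_true.1 chk_rel r hr
  simp only [or2_true, and2_true, not1_true, memL_true, allL_true, h.iso.eqW, ev_nil] at this
  rcases this with ⟨b1, b2⟩ | ⟨b1, b2⟩ | ⟨b1, b2⟩
  · rw [← b2]; exact ev_congr fun c hc => u9_of _ fun a => b1 (a ▸ hc)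
  · refine (ev_star (e := e) (S := S7) (k := ev e [] * (ev e κw * g)⁻¹) fun c hc => ?_).trans (by
      rw [b2, mul_one, mul_inv_cancel])
    rcases List.mem_cons.1 (b1 c hc) with rfl | hc
    exacts [u9_9 _, (u9_of _ ((by decide : ∀ c ∈ L7, c ≠ 9) c hc)).trans (a1 c hc)]
  · rw [ev_star fun c hc => a2 c (b1 c hc), b2, mul_one, mul_inv_cancel]

end Ft

end H4.C2
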