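import Mathlib
import Cfsg.Agent.H29.Planes

set_option autoImplicit false
set_option maxRecDepth 100000
set_option linter.all false

namespace H4.C2

def EXL : List (List ℕ) := [[0], [1], [2], [3], [4], [5], [6], [7], [8], [], [10], [], [10], [1, 10, 1], [1, 3, 2, 4, 3, 1, 10, 1, 3, 4, 2, 3, 1], [2, 4, 1, 10, 1, 4, 2], [3, 4, 5, 6, 3, 2, 4, 3, 1, 10, 1, 3, 4, 2, 3, 6, 5, 4, 3], [3, 4, 5, 6, 3, 4, 1, 10, 1, 4, 3, 6, 5, 4, 3], [4, 3, 2, 4, 5, 6, 1, 3, 2, 4, 3, 1, 10, 1, 3, 4, 2, 3, 1, 6, 5, 4, 2, 3, 4], [3, 4, 1, 3, 2, 4, 5, 6, 1, 3, 2, 4, 3, 1, 10, 1, 3, 4, 2, 3, 1, 6, 5, 4, 2, 3, 1, 4, 3], [3, 1, 3], [4, 2, 4], [4, 3, 4], [5, 4, 5], [6, 5, 6], [7, 6, 7], [4, 3, 1, 3, 4], [3, 4, 2, 4, 3],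 [5, 4, 2, 4, 5], [5, 4, 3, 4, 5], [6, 5, 4, 5, 6], [7, 6, 5, 6, 7], [2, 4, 3, 1, 3, 4, 2], [5, 4, 3, 1, 3, 4, 5], [5, 3, 4, 2, 4, 3, 5], [6, 5, 4, 2, 4, 5, 6], [6, 5, 4, 3, 4, 5, 6], [7, 6, 5, 4, 5, 6, 7], [5, 2, 4, 3, 1, 3, 4, 2, 5], [6, 5, 4, 3, 1, 3, 4, 5, 6], [4, 5, 3, 4, 2, 4, 3, 5, 4], [6, 5, 3, 4, 2, 4, 3, 5, 6], [7, 6, 5, 4, 2, 4, 5, 6, 7], [7, 6, 5, 4, 3, 4, 5, 6, 7], [4, 5, 2, 4, 3, 1, 3, 4, 2, 5, 4], [6, 5, 2, 4, 3, 1, 3, 4, 2, 5, 6], [7, 6, 5, 4, 3, 1, 3, 4, 5, 6, 7], [6, 4, 5, 3, 4, 2, 4, 3, 5, 4, 6], [7, 6, 5, 3, 4, 2, 4, 3, 5, 6, 7], [3, 4, 5, 2, 4, 3, 1, 3, 4, 2, 5, 4, 3], [6, 4, 5, 2, 4, 3, 1, 3, 4, 2, 5, 4, 6], [7, 6, 5, 2, 4, 3, 1, 3, 4, 2, 5, 6, 7], [5, 6, 4, 5, 3, 4,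 2, 4, 3, 5, 4, 6, 5], [7, 6, 4, 5, 3, 4, 2, 4, 3, 5, 4, 6, 7], [6, 3, 4, 5, 2, 4, 3, 1, 3, 4, 2, 5, 4, 3, 6], [5, 6, 4, 5, 2, 4, 3, 1, 3, 4, 2, 5, 4, 6, 5], [7, 6, 4, 5, 2, 4, 3, 1, 3, 4, 2, 5, 4, 6, 7], [7, 5, 6, 4, 5, 3, 4, 2, 4, 3, 5, 4, 6, 5, 7], [5, 6, 3, 4, 5, 2, 4, 3, 1, 3, 4, 2, 5, 4, 3, 6, 5], [7, 6, 3, 4, 5, 2, 4, 3, 1, 3, 4, 2, 5, 4, 3, 6, 7], [7, 5, 6, 4, 5, 2, 4, 3, 1, 3, 4, 2, 5, 4, 6, 5, 7], [6, 7, 5, 6, 4, 5, 3, 4, 2, 4, 3, 5, 4, 6, 5, 7, 6], [4, 5, 6, 3, 4, 5, 2, 4, 3, 1, 3, 4, 2, 5, 4, 3, 6, 5, 4], [7, 5, 6, 3, 4, 5, 2, 4, 3, 1, 3, 4, 2, 5, 4, 3, 6, 5, 7], [6, 7, 5, 6, 4, 5, 2, 4, 3, 1, 3, 4, 2, 5, 4, 6, 5, 7, 6], [2, 4, 5, 6, 3, 4, 5, 2, 4, 3, 1, 3, 4, 2, 5, 4, 3, 6, 5,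 4, 2], [7, 4, 5, 6, 3, 4, 5, 2, 4, 3, 1, 3, 4, 2, 5, 4, 3, 6, 5, 4, 7], [6, 7, 5, 6, 3, 4, 5, 2, 4, 3, 1, 3, 4, 2, 5, 4, 3, 6, 5, 7, 6], [7, 2, 4, 5, 6, 3, 4, 5, 2, 4, 3, 1, 3, 4, 2, 5, 4, 3, 6, 5, 4, 2, 7], [6, 7, 4, 5, 6, 3, 4, 5, 2, 4, 3, 1, 3, 4, 2, 5, 4, 3, 6, 5, 4, 7, 6], [6, 7, 2, 4, 5, 6, 3, 4, 5, 2, 4, 3, 1, 3, 4, 2, 5, 4, 3, 6, 5, 4, 2, 7, 6], [5, 6, 7, 4, 5, 6, 3, 4, 5, 2, 4, 3, 1, 3, 4, 2, 5, 4, 3, 6, 5, 4, 7, 6, 5], [5, 6, 7, 2, 4, 5, 6, 3, 4, 5, 2, 4, 3, 1, 3, 4, 2, 5, 4, 3, 6, 5, 4, 2, 7, 6, 5], [4, 5, 6, 7, 2, 4, 5, 6, 3, 4, 5, 2, 4, 3, 1, 3, 4, 2, 5, 4, 3, 6, 5, 4, 2, 7, 6, 5, 4], [3, 4, 5, 6, 7, 2, 4, 5, 6, 3, 4, 5, 2, 4, 3, 1, 3, 4, 2, 5, 4, 3, 6, 5, 4, 2, 7, 6, 5, 4, 3],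 [1, 6, 7, 5, 6, 3, 4, 5, 2, 4, 3, 1, 3, 4, 2, 5, 4, 3, 6, 5, 7, 6, 5], [2, 5, 7], [3, 4, 5, 3, 4, 2, 4, 3, 5, 4, 7], [1, 3, 4, 5, 2, 4, 3, 1, 3, 4, 2, 5, 4, 3, 7], [4, 5, 4, 2, 4, 5, 7], [6, 7, 2, 4, 5, 6, 3, 4, 5, 2, 4, 3, 1, 3, 4, 2, 5, 4, 3, 6, 5, 4, 2, 7, 6, 4, 3, 1, 3, 4, 3, 7, 1, 3, 2, 4, 3, 1, 10, 1, 3, 4, 2, 3, 1, 3, 4, 5, 3, 4, 2, 4, 3, 5, 4, 7]]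
def HW : List ℕ := [4, 5, 6, 2, 4, 5, 10, 7, 6, 1, 9, 6, 4, 3, 1, 10, 8, 6, 2, 4, 3, 1, 9, 10, 1, 3, 2, 4, 3, 1, 10, 1, 3, 4, 2, 3, 1, 3, 4, 5, 6, 3, 4, 1, 10, 1, 4, 3, 6, 5, 1, 3, 2, 4, 5, 6, 1, 3, 2, 4, 3, 1, 10, 1, 3, 4, 2, 3, 1, 6, 5, 4, 2, 3, 1, 4, 3, 0, 7, 6, 4, 5, 3, 4, 2, 4, 3, 5, 4, 6, 7, 6, 5, 3, 4, 2, 4, 3, 5, 6, 4, 3, 1, 3, 4, 1, 6, 7, 5, 6, 3, 4, 5, 2, 4, 3, 1, 3, 4, 2, 5, 4, 3, 6, 5, 7, 6, 5, 2, 5, 7, 4, 5, 4, 2, 4, 5]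
def FW : List ℕ := [6, 7, 10, 7, 6, 1, 9, 6, 4, 3, 1, 10, 8, 6, 2, 4, 3, 1, 9]
def lH : List (List ℕ × List ℕ) := [([12, 12], []), ([13, 13], []), ([14, 14], []), ([15, 15], []), ([16, 16], []), ([17, 17], []), ([18, 18], []), ([19, 19], []), ([0, 0], []), ([13, 12], [12, 13]), ([14, 12], [12, 14]), ([14, 13], [13, 14]), ([15, 12], [12, 15]), ([15, 13], [13, 15]), ([15, 14], [14, 15]), ([16, 13], [13, 16]), ([16, 14], [14, 16]), ([16, 15], [15, 16]), ([17, 12], [12, 17]), ([17, 14], [14, 17]), ([17, 15], [15, 17]), ([17, 16], [16, 17]), ([18, 12], [12, 18]), ([18, 13], [13, 18]), ([18, 15], [15, 18]), ([18, 16], [16, 18]), ([18, 17], [17, 18]), ([19, 12], [12, 19]), ([19, 13], [13, 19]),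 ([19, 14], [14, 19]), ([19, 16], [16, 19]), ([19, 17], [17, 19]), ([19, 18], [18, 19]), ([0, 12], [12, 0]), ([0, 13], [13, 0]), ([0, 14], [14, 0]), ([0, 15], [15, 0]), ([0, 16], [16, 0]), ([0, 17], [17, 0]), ([0, 18], [18, 0]), ([0, 19], [19, 0]), ([16, 12], [12, 16, 0]), ([17, 13], [13, 17, 0]), ([18, 14], [14, 18, 0]), ([19, 15], [15, 19, 0])]

end H4.C2
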