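import Mathlib
import Cfsg.Agent.H4.C2AC
import Cfsg.Agent.H4.C2A
import Cfsg.Agent.H4.C2RD

/-! The centraliser of an involution in the model. -/

set_option autoImplicit false
set_option maxRecDepth 100000
set_option exponentiation.threshold 20000
set_option Elab.async false

open Subgroup H24 H29 H9 H9.MX H15.XP H15.KM H11

namespace H4.C2

open H7.Cay (pk)

noncomputable def EX (c : ℕ) : List ℕ := nth [] EXL c
/-- the letters of the centraliser in the model. -/
noncomputable def m1 (c : ℕ) : S0 := ev m0 (EX c)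

theorem iv_m0 : IvOK m0 (ivOf C2TG.ivl) := ivOK_sub _ C2TG.hiv

noncomputable def chkM0 (l : List (List ℕ × List ℕ)) : Bool :=
  allN 12 (chkRelP 2300 12 (nth Net.nil C2TG.nl) (ivOf C2TG.ivl)
    (l.map fun p => p.1 ++ invW (ivOf C2TG.ivl) p.2))

theorem relM {l : List (List ℕ × List ℕ)} (h : chkM0 l = true) : ∀ p ∈ l, ev m0 p.1 = ev m0 p.2 :=
  fun p hp => by
    have := rels_subE (mem_PG C2TG.nl) (rels_of_chk (k := 12) C2TG.hn (by decide) C2TG.hiv
      (allN_true.1 h)) _ (List.mem_map_of_mem hp)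
    change ev m0 _ = 1 at this
    rwa [ev_append, ev_invW iv_m0, mul_inv_eq_one] at this

theorem relM1 {l : List (List ℕ × List ℕ)}
    (h : chkM0 (l.map fun p => (sbs EX p.1, sbs EX p.2)) = true) : ∀ p ∈ l, ev m1 p.1 = ev m1 p.2 :=
  fun p hp => by
    have := relM h _ (List.mem_map_of_mem hp)
    rwa [ev_sbs, ev_sbs] at this

theorem ev_map' {G : Type*} [Group G] (e : ℕ → G) (σ : ℕ → ℕ) (w : List ℕ) :
    ev (fun c => e (σ c)) w = ev e (mapL σ w) := by simp [ev, Function.comp_def]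

theorem rH : ∀ p ∈ lH, ev m1 p.1 = ev m1 p.2 := relM1 (by decide +kernel)

theorem rA (i : ℕ) (hi : i < 7) : ∀ p ∈ (List.range 8).map fun j =>
    ([i + 1, 12 + j], qw (pk (TT i) 9 j) ++ [i + 1]), ev m1 p.1 = ev m1 p.2 := by
  interval_cases i <;> exact relM1 (by decide +kernel)

theorem rR : ∀ p ∈ ([8], nth [] defs 8) :: C3T0.R0.map fun w =>
    (mapL (fun c => if c < 14 then c / 2 + 1 else 9) w, []), ev m1 p.1 = ev m1 p.2 :=
  relM1 (by decide +kernel)

theorem rS : ∀ p ∈ C2TH.hcols.map fun c => (c :: HW, HW ++ sbs EX (S2 c)), ev m0 p.1 = ev m0 p.2 :=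
  relM (by decide +kernel)

theorem rT : ∀ p ∈ (FW ++ [0], 7 :: FW) :: ([9, 0, 9], sbs EX [0, 76, 77]) :: C2TH.R0.map fun r => (r, []),
    ev m0 p.1 = ev m0 p.2 := relM (by decide +kernel)

theorem m1_eq {c : ℕ} (hc : c ∈ [0, 1, 2, 3, 4, 5, 6, 7, 8, 10]) : m1 c = m0 c := by
  rw [m1, (by decide +kernel : ∀ c ∈ [0, 1, 2, 3, 4, 5, 6, 7, 8, 10], EX c = [c]) c hc]; simp

theorem let_m1 [Finite S0] : Let m1 1 := by
  have x : ∀ i < 9, xs m1 i = m1 (nth 0 lQ i) := fun i hi => by interval_cases i <;> rfl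
  refine
    { heis := ⟨fun i hi => ?_, fun i hi k hk a => ?_, fun i hi => ?_⟩
      ne := fun a => ?_
      acts := fun i hi => ⟨fun j hj => ?_, ?_⟩
      rel := fun w hw => ?_
      sig := .inl rfl
      e9 := rfl
      e11 := rfl
      e10 := rfl
      df := fun c hc => ?_ }
  · simpa [x i hi] using rH _ ((by decide +kernel : ∀ i < 9, ([nth 0 lQ i, nth 0 lQ i], []) ∈ lH) i hi)
  · simpa [x i hi, x k (by omega)] using rH _ ((by
      interval_cases i <;> interval_cases k <;> first | omega | decide +kernel :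
        ([nth 0 lQ i, nth 0 lQ k], [nth 0 lQ k, nth 0 lQ i]) ∈ lH))
  · rw [x i (by omega), x (i + 4) (by omega), show xs m1 8 = m1 0 from rfl]
    simpa using rH _ ((by decide +kernel : ∀ i < 4,
      ([nth 0 lQ (i + 4), nth 0 lQ i], [nth 0 lQ i, nth 0 lQ (i + 4), 0]) ∈ lH) i hi)
  · have := map_ev_sg (ρ := (PG C2TG.nl).subtype) (e := m0) (w := [0]) fun c _ => pe_rho _ c
    rw [show ev m0 [0] = m1 0 from rfl, a, map_one] at this
    simpa [← this] using pt_of_chk C2TG.hn (w := [0]) (p := 46) (q := 85) (by decide +kernel)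
  · have := rA i hi _ (List.mem_map_of_mem (List.mem_range.2 hj))
    rw [ev_append, ev_qw] at this
    simpa [xs, hj, θ] using this
  · have := rels_subE (mem_PG C2TG.nl) C2TG.hR0 _ ((by decide : ∀ i < 7,
      [0, i + 1, 0, i + 1] ∈ C2TG.R0) i hi)
    change ev m0 _ = 1 at this
    rw [show xs m1 8 = m0 0 from m1_eq (c := 0) (by decide),
      m1_eq ((by decide : ∀ i < 7, i + 1 ∈ [0, 1, 2, 3, 4, 5, 6, 7, 8, 10]) i hi)]
    simp only [ev_cons, ev_nil, mul_one] at this
    rw [← mul_assoc, mul_eq_one_iff_eq_inv, mul_inv_rev] at this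
    rw [this]
    exact congrArg₂ _ (iv_m0 (i + 1)) (iv_m0 0)
  · have := rR _ (List.mem_cons_of_mem _ (List.mem_map_of_mem hw))
    rw [← ev_map'] at this
    refine (ev_congr fun c _ => ?_).trans this
    unfold C3.eH
    split_ifs with a1 a2
    · rfl
    · change (m1 (c / 2 + 1))⁻¹ = _
      rw [m1_eq ((by decide : ∀ c < 14, c / 2 + 1 ∈ [0, 1, 2, 3, 4, 5, 6, 7, 8, 10]) c a1)]
      exact (iv_m0 (c / 2 + 1)).symm
    · rfl
    · rfl
  · rcases hc with rfl | hc
    · simpa using rR _ List.mem_cons_self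
    by_cases a : c < 81
    · rw [m1, (by decide +kernel : ∀ c < 81, 20 ≤ c → EX c = sbs EX (nth [] defs c)) c a hc, ev_sbs]; rfl
    · rw [m1, EX, nth_default _ (by exact not_lt.1 a), nth_default _ (by exact not_lt.1 a)]; rfl

end H4.C2
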