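import Mathlib
import Cfsg.Agent.H4.C2R

/-! The embedding of the model. -/

set_option autoImplicit false
set_option linter.unusedSectionVars false
set_option maxRecDepth 100000
set_option exponentiation.threshold 20000

open Subgroup H24 H29 H9.MX H15.XP H15.KM H11

namespace H4.C2

variable {G : Type} [Group G] [Finite G] {e : ℕ → G} {π : C{e 0} →* C3S.S}

theorem exists_hom {S : Type*} [Group S] {D : Subgroup (S × G)} (h1 : Gr D) (h2 : CoGr D)
    (h3 : ∀ a, ∃ g, (a, g) ∈ D) : ∃ f : S →* G, Function.Injective f ∧ ∀ d ∈ D, f d.1 = d.2 := by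
  choose f hf using h3
  have k : ∀ d ∈ D, f d.1 = d.2 := fun d hd => congrArg Prod.snd (h1.eq (hf d.1) hd rfl)
  exact ⟨MonoidHom.mk' f fun a b => k _ (mul_mem (hf a) (hf b)),
    (injective_iff_map_eq_one _).2 fun a ha => h2 _ (hf a) ha, k⟩

theorem Let.ev_EX (h : Let e 1) (x : G) (c : ℕ) : ev (u9 e x) (EX c) = e c := by
  by_cases a : c < 81
  · rw [ev_congr fun d hd => u9_of x ((by decide +kernel : ∀ c < 81, ∀ d ∈ EX c, d ≠ 9) c a d hd)]
    simpa using h.iso.eqW.1 (allN_true.1 (by decide +kernel :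
      (allN 81 fun c => eqW runC (EX c) [c]) = true) c a)
  · rw [h.df c (.inr (by omega)), EX, nth_default _ (by exact not_lt.1 a),
      nth_default _ (by exact not_lt.1 a)]; rfl

theorem EX_cols (c : ℕ) : ∀ d ∈ EX c, d ∈ C2TG.cols := by
  by_cases a : c < 81
  · exact (by decide +kernel : ∀ c < 81, ∀ d ∈ EX c, d ∈ C2TG.cols) c a
  · rw [EX, nth_default _ (by exact not_lt.1 a)]; simp

theorem Ft.exists_f (h : Ft e π) (top : gen m0 C2TG.cols = ⊤) (card : Nat.card S0 = 42305421312000)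
    [IsSimpleGroup S0] : ∃ g x, ∃ f : S0 →* G, QB e g GK ∧ Function.Injective f ∧
      ∀ c ∈ C2TG.cols, f (m0 c) = u9 e x c := by
  have : Finite S0 := Nat.finite_of_card_ne_zero (by rw [card]; norm_num)
  obtain ⟨g, x, k, q, a1, a2⟩ := h.amalg
  have L := let_m1
  have iv : IvOK (pr m0 (u9 e x)) (ivOf C2TG.ivl) := ivOK_pr iv_m0 fun c => by
    change u9 e x c = _
    unfold u9
    split_ifs
    · exact eq_inv_of_mul_eq_one_right (by simpa [u9] using a1 _ List.mem_cons_self)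
    · exact h.iv c
  have pe : ∀ c, pr m1 e c = ev (pr m0 (u9 e x)) (EX c) := fun c => by
    rw [ev_pr, h.ev_EX]; rfl
  have b1 : Nat.card (gen (pr m1 e) (List.range 81)) ≤ 743178240 := by
    rw [← h.cardC]
    refine Nat.card_le_card_of_injective (fun d => ⟨d.1.2, gen_le.2 (fun c _ => h.e_C c)
      (snd_mem d.2)⟩) fun a b ab => Subtype.ext ?_
    exact (L.iso.gr h.iso L.iv _).2.eq a.2 b.2 (congrArg Subtype.val ab)
  have b2 : Bd (gen (pr m0 (u9 e x)) C2TH.hcols) 743178240 :=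
    Bd.of_le (K := cj (ev m0 HW, k) (gen (pr m1 e) (List.range 81))) ⟨inferInstance, by
      rwa [card_cj]⟩ (gen_le.2 fun c hc => mem_cj'.2 ⟨ev (pr m1 e) (S2 c), ev_mem_gen
        ((by decide +kernel : ∀ c ∈ C2TH.hcols, ∀ d ∈ S2 c, d ∈ List.range 81) c hc), by
          have := rS _ (List.mem_map_of_mem hc)
          rw [ev_cons, ev_append, ev_sbs] at this
          rw [ev_pr]
          exact Prod.ext (eq_mul_inv_of_mul_eq this)
            (a2 c ((by decide : ∀ c ∈ C2TH.hcols, c ∈ 9 :: L2) c hc))⟩)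
  have b3 := (C2TG.bd iv (fun r hr => by
    rw [ev_pr, a1 r (List.mem_cons_of_mem _ (List.mem_append_left _ hr))]
    exact Prod.ext (rels_subE (mem_PG _) C2TG.hR0 r hr) rfl) (C2TH.bd iv (fun r hr => by
    rw [ev_pr, a1 r (List.mem_cons_of_mem _ (List.mem_append_right _ hr))]
    exact Prod.ext (rT _ (List.mem_cons_of_mem _ (List.mem_cons_of_mem _ (List.mem_map_of_mem hr)))) rfl)
    b2)).2
  obtain ⟨D, hD⟩ : ∃ D, D = gen (pr m0 (u9 e x)) C2TG.cols := ⟨_, rfl⟩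
  rw [← hD] at b3
  have c0 : ∀ w, ev (pr m1 e) w ∈ D := fun w => ev_mem fun c _ => by
    rw [pe, hD]; exact ev_mem_gen (EX_cols c)
  have c1 : ∀ a, ∃ g, (a, g) ∈ D := fun a => hD ▸ exists_snd (top ▸ mem_top a)
  have c2 : ∀ z ∈ C{e 0}, ∃ w, ev e w = z := fun z hz => exists_ev h.iv (h.C_eq ▸ hz)
  have cg : CoGr D := by
    let N : Subgroup S0 := D.comap (MonoidHom.inl S0 G)
    have : N.Normal := ⟨fun a ha b => by
      obtain ⟨y, hy⟩ := c1 b
      simpa [N] using mul_mem (mul_mem hy ha) (inv_mem hy)⟩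
    rcases IsSimpleGroup.eq_bot_or_eq_top_of_normal N this with a | a
    · exact fun d hd b => mem_bot.1 (a ▸ (show (d.1, 1) ∈ D from b ▸ hd))
    · have : Nat.card (S0 × C{e 0}) ≤ Nat.card D := Nat.card_le_card_of_injective
        (fun p => ⟨(p.1, p.2), by
          obtain ⟨w, hw⟩ := c2 _ p.2.2
          have d1 : (p.1 * (ev m1 w)⁻¹, 1) ∈ D := (a ▸ mem_top _ : _ ∈ N)
          simpa [ev_pr, hw] using mul_mem d1 (c0 w)⟩) fun a b ab => by
          have : (a.1, (a.2 : G)) = (b.1, (b.2 : G)) := congrArg Subtype.val ab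
          exact Prod.ext (Prod.mk.inj this).1 (Subtype.ext (Prod.mk.inj this).2)
      rw [Nat.card_prod, card, h.cardC] at this
      omega
  have gr : Gr D := by
    let Z : Subgroup G := D.comap (MonoidHom.inr S0 G)
    have n : C{e 0} ≤ N[Z] := fun z hz => mem_N_of_finite fun y hy => by
      obtain ⟨w, rfl⟩ := c2 z hz
      simpa [Z, ev_pr] using mul_mem (mul_mem (c0 w) hy) (inv_mem (c0 w))
    have a : Z ⊓ C{e 0} = ⊥ := eq_bot_iff.2 fun z hz => by
      obtain ⟨w, rfl⟩ := c2 z hz.2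
      have := cg _ (mul_mem (c0 w) (inv_mem hz.1)) (by simp [ev_pr])
      exact (h.iso w []).1 ((L.iso w []).2 (by simpa [ev_pr] using this))
    have b := card_modEq_cent Nat.prime_two (j := e 0) (by rw [pow_two, h.t2]) (n (self_mem_C1 _))
    rw [a, Subgroup.card_bot] at b
    have := h.oddE (O := Z) (Nat.odd_iff.2 b) (h.E_le_C.trans n)
    exact fun d hd b => mem_bot.1 (this ▸ (show (1, d.2) ∈ D from b ▸ hd))
  obtain ⟨f, d1, d2⟩ := exists_hom gr cg c1
  exact ⟨g, x, f, q, d1, fun c hc => d2 (pr m0 (u9 e x) c) (hD ▸ mem_gen hc)⟩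

theorem Ft.iso_S0 (h : Ft e π) (top : gen m0 C2TG.cols = ⊤) (card : Nat.card S0 = 42305421312000)
    [IsSimpleGroup S0] (hC : ∀ g ∈ C{e 0 * e 7}, g * e 0 * g⁻¹ ∈ C{e 0})
    (hB : ∀ g ∈ C{e 12}, g * e 0 * g⁻¹ ∈ C{e 0}) : Nonempty (S0 ≃* G) := by
  obtain ⟨g, x, f, q, a1, a2⟩ := h.exists_f top card
  have fw : ∀ w, (∀ c ∈ w, c ∈ C2TG.cols) → f (ev m0 w) = ev (u9 e x) w := fun w hw => by
    rw [map_ev]; exact ev_congr fun c hc => a2 c (hw c hc)
  have f1 : ∀ w, f (ev m0 (sbs EX w)) = ev e w := fun w => by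
    rw [ev_sbs, map_ev]; exact ev_congr fun c _ => by rw [fw _ (EX_cols c), h.ev_EX]
  have cG : C{e 0} ≤ f.range := fun z hz => by
    obtain ⟨w, rfl⟩ := exists_ev h.iv (h.C_eq ▸ hz)
    exact ⟨_, f1 w⟩
  have toC : ∀ y ∈ f.range, y * y = 1 → ∃ k ∈ f.range, k * y * k⁻¹ ∈ C{e 0} := fun y b1 b2 => by
    obtain ⟨k, c1, c2⟩ := Sylow_Jsub Nat.prime_two (h.sylG.of_le (h.T_le.trans cG) le_top)
      (piElt_of_pow_eq_one (piNat_self Nat.prime_two) (show y ^ 2 = 1 by rwa [pow_two])).isPi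
      (zpowers_le.2 b1)
    exact ⟨k, c1, h.T_le (c2 (conj_mem_cj k (mem_zpowers y)))⟩
  have b1 : ∀ z ∈ [1, 2, 65], ∃ k ∈ f.range, k * e 0 * k⁻¹ = ε e z := by
    simp only [List.mem_cons, List.not_mem_nil, or_false, forall_eq_or_imp, forall_eq]
    refine ⟨⟨1, one_mem _, by simp [ε_one]⟩, ⟨_, ⟨ev m0 FW, rfl⟩, ?_⟩, ⟨ev e [26, 70] * x, mul_mem
      (cG (h.ev_C _)) ⟨m0 9, a2 9 (by decide)⟩, ?_⟩⟩
    · have := congrArg f (rT _ List.mem_cons_self)
      rw [ev_append, ev_cons, ev_cons, ev_nil, mul_one, map_mul, map_mul, a2 0 (by decide),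
        a2 7 (by decide)] at this
      rw [ε_two, mul_inv_eq_iff_eq_mul]; exact this
    · have := congrArg f (rT _ (List.mem_cons_of_mem _ List.mem_cons_self))
      have x2 : f (m0 9)⁻¹ = x := (congrArg f (iv_m0 9).symm).trans (a2 9 (by decide))
      rw [f1, fw _ (by decide)] at this
      rw [map_inv, a2 9 (by decide)] at x2
      change x * (e 0 * (x * 1)) = _ at this
      change x⁻¹ = x at x2
      rw [show ev e [26, 70] * x * e 0 * (ev e [26, 70] * x)⁻¹ =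
        ev e [26, 70] * (x * (e 0 * (x⁻¹ * 1))) * (ev e [26, 70])⁻¹ by group, x2, this,
        mul_inv_eq_iff_eq_mul, ε, ← ev_append, ← ev_append]
      exact h.iso.eqW.1 (by decide +kernel)
  have U : ∀ k, k * e 0 * k⁻¹ ∈ f.range → k ∈ f.range := fun k hk => by
    obtain ⟨a, c1, c2⟩ := toC _ hk (DD.sq h.toLet ⟨k, rfl⟩)
    obtain ⟨b, c3, z, c4, c5⟩ := h.DC c2 (DD.cj ⟨k, rfl⟩ a)
    obtain ⟨c, c6, c7⟩ := b1 z c4
    have : c⁻¹ * b * a * k ∈ C{e 0} := mem_C1_iff_conj.2 (by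
      rw [show c⁻¹ * b * a * k * e 0 * (c⁻¹ * b * a * k)⁻¹ =
        c⁻¹ * (b * (a * (k * e 0 * k⁻¹) * a⁻¹) * b⁻¹) * c by group, c5, ← c7]; group)
    exact (mul_mem_cancel_left (mul_mem (mul_mem (inv_mem c6) (cG c3)) c1)).1 (cG this)
  have cj : ∀ k ∈ f.range, ∀ y, C{k * y * k⁻¹} ≤ f.range → C{y} ≤ f.range := fun k hk y a z hz =>
    (conj_mem_iff (norm_self _ hk)).1 (a (cjC k hz))
  have gG : g ∈ f.range := U g (by rw [← ε_one (e := e), q.1 1 (by norm_num)]; exact cG (h.E_le_C (ε_mem _)))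
  have l0 : ∀ n < 1024, ∀ m < 1024, lab n = lab m → C{ε e m} ≤ f.range → C{ε e n} ≤ f.range :=
    fun n hn m hm a b => by
      obtain ⟨c, c1, -, c2⟩ := h.EO hn
      obtain ⟨d, d1, -, d2⟩ := h.EO hm
      refine cj c (cG c1) _ (cj d⁻¹ (inv_mem (cG d1)) _ ?_)
      rwa [c2, a, ← d2, show d⁻¹ * (d * ε e m * d⁻¹) * d⁻¹⁻¹ = ε e m by group]
  have l1 : ∀ n < 1024, ∀ m < 1024, lab (L0 n) = lab m → C{ε e m} ≤ f.range → C{ε e n} ≤ f.range :=
    fun n hn m hm a b => cj g gG _ (by rw [q.1 n hn]; exact l0 _ (lk10_lt _ _) m hm a b)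
  have k3 : C{ε e 3} ≤ f.range := fun z hz => U z (cG (hC z (by
    rwa [← ε_one (e := e), ← ε_two (e := e), h.ε_mul])))
  have k4 : C{ε e 4} ≤ f.range := fun z hz => U z (cG (hB z (by rwa [← ε_four (e := e)])))
  have k67 := l1 67 (by norm_num) 3 (by norm_num) (by decide +kernel) k3
  have kE : ∀ n < 1024, n ≠ 0 → C{ε e n} ≤ f.range := fun n hn n0 => by
    rcases (by decide +kernel : ∀ n < 1024, n ≠ 0 → f2 n = 0 ∨ ∃ m ∈ [3, 4, 64, 66, 67, 81],
      lab n = lab m) n hn n0 with a | ⟨m, a, b⟩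
    · obtain ⟨k, c1, c2⟩ := h.trans ((h.D_iff hn).2 a)
      rw [ε_one] at c2
      refine cj k⁻¹ (inv_mem (U k (c2 ▸ cG (h.E_le_C (ε_mem _))))) _ ?_
      rwa [← c2, show k⁻¹ * (k * e 0 * k⁻¹) * k⁻¹⁻¹ = e 0 by group]
    · refine l0 n hn m ((by decide : ∀ m ∈ [3, 4, 64, 66, 67, 81], m < 1024) m a) b ?_
      simp only [List.mem_cons, List.not_mem_nil, or_false] at a
      rcases a with rfl | rfl | rfl | rfl | rfl | rfl
      exacts [k3, k4, l1 _ (by norm_num) 4 (by norm_num) (by decide +kernel) k4,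
        l1 _ (by norm_num) 4 (by norm_num) (by decide +kernel) k4, k67,
        l1 _ (by norm_num) 67 (by norm_num) (by decide +kernel) k67]
  have kb : C{ev e b2} ≤ f.range := by
    have c1 : ev e [19, 49, 31, 27, 6, 1] * ev e [80, 26, 7] * (ev e [19, 49, 31, 27, 6, 1])⁻¹ =
        ev e b2 := by
      rw [mul_inv_eq_iff_eq_mul, ← ev_append, ← ev_append]; exact h.iso.eqW.1 (by decide +kernel)
    have c2 : ev e [46, 24] * ev e (sbs SK [80, 26, 7]) * (ev e [46, 24])⁻¹ = ε e 787 := by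
      rw [mul_inv_eq_iff_eq_mul, ε, ← ev_append, ← ev_append]; exact h.iso.eqW.1 (by decide +kernel)
    refine cj _ (inv_mem (cG (h.ev_C [19, 49, 31, 27, 6, 1]))) _ (cj g gG _ (cj _ (cG (h.ev_C [46, 24])) _ ?_))
    rw [← c1, show ∀ a b : G, a⁻¹ * (a * b * a⁻¹) * a⁻¹⁻¹ = b from fun a b => by group,
      q.star (by decide), c2]
    exact kE _ (by norm_num) (by norm_num)
  have : IsSimpleGroup f.range := (MonoidHom.ofInjective a1).symm.isSimpleGroup
  have := h.lx.eq_top cG (h.sq 12) (fun k hk => h.iso.ne (u := [12]) (v := [0]) (by decide +kernel) (by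
    simpa using h.qf _ ⟨k, hk⟩ (mem_gen (by decide)))) fun w b2 b3 b4 => by
    obtain ⟨k, c1, c2⟩ := toC w (k4 (ε_four (e := e) ▸ b2)) b3
    obtain ⟨c, c3, c4 | ⟨z, c4, c5⟩⟩ := h.CL c2 (by rw [conj_mul, b3]; simp)
    · exact cj k c1 _ (cj c (cG c3) _ (c4 ▸ kb))
    · refine cj k c1 _ (cj c (cG c3) _ (c5 ▸ kE z c4 ?_))
      rintro rfl
      exact b4 (by simpa [ε_zero] using c5)
  exact ⟨MulEquiv.ofBijective f ⟨a1, MonoidHom.range_eq_top.1 this⟩⟩

end H4.C2
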