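import Mathlib
import Cfsg.Agent.H4.C2F
import Cfsg.Agent.H25.CQb

/-! Fusion of the central involution; the extension splits. -/

set_option autoImplicit false
set_option linter.unusedSectionVars false
set_option maxRecDepth 100000

open Subgroup H24 H29 H9 H9.MX H15.XP H15.KM H11 H4.C2
open H28.Th (mulQ invQ mulQ_lt invQ_lt)
open scoped commutatorElement

namespace H25.CQ

open H25.CN

variable {G : Type} [Group G] [Finite G] {e : ℕ → G} {π : C{e 0} →* C3S.S}
  (h : En e π (e 0))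
include h

theorem rsq {i : ℕ} (hi : i < 7) : e (i + 1) * e (i + 1) = e 0 := by
  have := h.rel [2 * i, 2 * i, 14] ((by decide : ∀ i < 7, [2 * i, 2 * i, 14] ∈ C3T0.R0) i hi)
  simp only [ev_cons, ev_nil, C3.eH, show 2 * i < 14 by omega, Nat.mul_mod_right,
    show 2 * i / 2 = i by omega, if_true, lt_irrefl, if_false, mul_one] at this
  rw [← mul_assoc] at this
  exact (eq_inv_of_mul_eq_one_left this).trans (inv_eq_of_mul_eq_one_right h.t2)

theorem rcm {i j : ℕ} (hi : i < 7) (hj : j < 7) (a : [2 * i, 2 * j, 2 * i + 1, 2 * j + 1, 14] ∈ C3T0.R0) :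
    e (i + 1) * e (j + 1) = e 0 * e (j + 1) * e (i + 1) := by
  have := h.rel _ a
  simp only [ev_cons, ev_nil, C3.eH, show 2 * i < 14 by omega, show 2 * j < 14 by omega,
    show 2 * i + 1 < 14 by omega, show 2 * j + 1 < 14 by omega, Nat.mul_mod_right,
    show (2 * i + 1) % 2 = 1 by omega, show (2 * j + 1) % 2 = 1 by omega, one_ne_zero,
    show 2 * i / 2 = i by omega, show 2 * j / 2 = j by omega, show (2 * i + 1) / 2 = i by omega,
    show (2 * j + 1) / 2 = j by omega, if_true, lt_irrefl, if_false, mul_one] at this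
  rw [← inv_eq_of_mul_eq_one_right h.t2, eq_inv_of_mul_eq_one_right (show _ * e 0 = 1 from
    (by rw [← this]; simp only [mul_assoc] :
      e (i + 1) * e (j + 1) * (e (i + 1))⁻¹ * (e (j + 1))⁻¹ * e 0 = 1))]
  group

theorem trip {a b c : G} (ha : a ∈ C{e 0}) (hb : b ∈ C{e 0}) (a2 : a * a = e 0)
    (b2 : b * b = e 0) (c2 : c * c = e 0) (ab : a * b = e 0 * b * a) (ac : a * c = e 0 * c * a)
    (bc : b * c = e 0 * c * b) : a * (b * c) * (a * (b * c)) = 1 := by
  have t2 := h.t2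
  have ta := mem_C1.1 ha
  have tb := mem_C1.1 hb
  clear ha hb
  generalize e 0 = t at a2 b2 c2 ab ac bc t2 ta tb
  have ca : c * a = t * (a * c) := by rw [ac, ← mul_assoc, ← mul_assoc, t2, one_mul]
  have ba : b * a = t * (a * b) := by rw [ab, ← mul_assoc, ← mul_assoc, t2, one_mul]
  have cb : c * b = t * (b * c) := by rw [bc, ← mul_assoc, ← mul_assoc, t2, one_mul]
  calc _ = a * b * (c * a) * (b * c) := by group
    _ = a * (b * t) * a * (c * b) * c := by rw [ca]; group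
    _ = a * t * (b * a) * t * b * (c * c) := by rw [tb, cb]; group
    _ = a * (t * t) * a * (b * t) * b * t := by rw [ba, c2]; group
    _ = (a * a) * t * (b * b) * t := by rw [t2, tb]; group
    _ = 1 := by rw [a2, b2, t2, one_mul, t2]

theorem e76 : e 76 = e 2 * (e 5 * e 7) := by
  rw [h.df 76 (by norm_num), show nth [] defs 76 = [2, 5, 7] by decide +kernel]; simp

theorem sq2 : ev e [76] * ev e [76] = 1 := by
  simp only [ev_cons, ev_nil, mul_one, e76 h]
  exact trip h (h.e_C _) (h.e_C _) (rsq h (i := 1) (by norm_num)) (rsq h (i := 4) (by norm_num))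
    (rsq h (i := 6) (by norm_num)) (rcm h (i := 1) (j := 4) (by norm_num) (by norm_num) (by decide))
    (rcm h (i := 1) (j := 6) (by norm_num) (by norm_num) (by decide))
    (rcm h (i := 4) (j := 6) (by norm_num) (by norm_num) (by decide))

theorem sq4 : ev e [3, 5, 7] * ev e [3, 5, 7] = 1 := by
  simp only [ev_cons, ev_nil, mul_one]
  exact trip h (h.e_C _) (h.e_C _) (rsq h (i := 2) (by norm_num)) (rsq h (i := 4) (by norm_num))
    (rsq h (i := 6) (by norm_num)) (rcm h (i := 2) (j := 4) (by norm_num) (by norm_num) (by decide))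
    (rcm h (i := 2) (j := 6) (by norm_num) (by norm_num) (by decide))
    (rcm h (i := 4) (j := 6) (by norm_num) (by norm_num) (by decide))

theorem sq1 : ev e [7] * ev e [7] = e 0 := by simpa using rsq h (i := 6) (by norm_num)

theorem sq3 : ev e [76, 7] * ev e [76, 7] = e 0 := by
  have a2 := rsq h (i := 1) (by norm_num)
  have b2 := rsq h (i := 4) (by norm_num)
  have c2 := rsq h (i := 6) (by norm_num)
  have ab := rcm h (i := 1) (j := 4) (by norm_num) (by norm_num) (by decide)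
  have ta := mem_C1.1 (h.e_C 2)
  have tb := mem_C1.1 (h.e_C 5)
  have t2 := h.t2
  simp only [ev_cons, ev_nil, mul_one, e76 h, mul_assoc, c2]
  generalize e 2 = a at *
  generalize e 5 = b at *
  clear c2
  generalize e 0 = t at a2 b2 ab ta tb t2 ⊢
  calc _ = a * (b * t) * (a * b) * t := by group
    _ = a * (t * b) * (t * b * a) * t := by rw [tb, ← ab]
    _ = a * t * (b * t) * b * a * t := by group
    _ = a * t * (t * b) * b * a * t := by rw [tb]
    _ = a * (t * t) * (b * b) * (a * t) := by group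
    _ = a * (t * t) * t * (t * a) := by rw [b2, ta]
    _ = a * (t * t) * (t * t) * a := by group
    _ = a * (t * t) * a := by rw [t2, mul_one, mul_one]
    _ = t := by rw [t2, mul_one, a2]

theorem cj76 : e 3 * ev e [76] * (e 3)⁻¹ = ev e [76] * e 0 := by
  have ab := rcm h (i := 1) (j := 2) (by norm_num) (by norm_num) (by decide)
  have bc := rcm h (i := 2) (j := 4) (by norm_num) (by norm_num) (by decide)
  have bd := rcm h (i := 2) (j := 6) (by norm_num) (by norm_num) (by decide)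
  have ta := mem_C1.1 (h.e_C 2)
  have tc := mem_C1.1 (h.e_C 5)
  have td := mem_C1.1 (h.e_C 7)
  have t2 := h.t2
  simp only [ev_cons, ev_nil, mul_one, e76 h]
  norm_num at ab bc bd
  generalize e 2 = a at *
  generalize e 3 = b at *
  generalize e 5 = c at *
  generalize e 7 = d at *
  generalize e 0 = t at ab bc bd ta tc td t2 ⊢
  have ba : b * a = t * (a * b) := by rw [ab, ← mul_assoc, ← mul_assoc, t2, one_mul]
  calc _ = (b * a) * c * d * b⁻¹ := by group
    _ = t * a * (b * c) * d * b⁻¹ := by rw [ba]; group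
    _ = t * (a * t) * c * (b * d) * b⁻¹ := by rw [bc]; group
    _ = (t * t) * a * c * (t * d) := by rw [bd, ta]; group
    _ = _ := by rw [t2, ← td]; group

omit h in
theorem sqf {σ : G} (h : En e π σ) (w : List ℕ) {n : ℕ} (hn : n < 512) :
    θ e n * ev e w * (θ e n * ev e w) = θ e (mulQ n (cjq w n)) * (ev e w * ev e w) := by
  rw [← h.θ_mul, ← h.conj w hn]; group

omit h in
theorem cjf {σ : G} (h : En e π σ) (w : List ℕ) (n : ℕ) {m : ℕ} (hm : m < 512) :
    θ e m * (θ e n * ev e w) * (θ e m)⁻¹ = θ e (mulQ (mulQ m n) (cjq w (invQ m))) * ev e w := by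
  rw [← h.θ_mul, ← h.θ_mul, ← h.conj w (invQ_lt hm), h.θ_inv hm]; group

theorem cls {y : G} (hy : y ∈ C{e 0}) (y2 : y * y = 1) (yQ : y ∉ gen e lQ) :
    ∃ g ∈ C{e 0}, ∃ n < 512, ∃ w, (w = [76] ∨ w = [3, 5, 7]) ∧ mulQ n (cjq w n) = 0 ∧
      g * y * g⁻¹ = θ e n * ev e w := by
  obtain ⟨g, hg, k, hk, n, hn, a⟩ := h.inv_C hy (y2 ▸ one_mem _)
  have b : θ e n * ev e (nth [] rp5 k) * (θ e n * ev e (nth [] rp5 k)) = 1 := by
    rw [← a, conj_mul, y2]; simp
  rw [sqf h _ hn] at b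
  have l := mulQ_lt hn (cjq_lt (nth [] rp5 k) hn)
  interval_cases k
  · refine absurd ?_ yQ
    rw [← conj_mem_iff (h.lx.norm hg), a]
    exact mul_mem (h.θ_mem n) (one_mem _)
  · change _ * (ev e [7] * ev e [7]) = 1 at b
    rw [sq1 h, ← θ_256 (e := e), h.θ_mul] at b
    exact absurd (h.θ_inj (mulQ_lt l (by norm_num)) (by norm_num) (b.trans θ_zero.symm)) (k_1 n hn)
  · change _ * (ev e [76] * ev e [76]) = 1 at b
    rw [sq2 h, mul_one] at b
    exact ⟨g, hg, n, hn, _, .inl rfl, h.θ_inj l (by norm_num) (b.trans θ_zero.symm), a⟩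
  · change _ * (ev e [76, 7] * ev e [76, 7]) = 1 at b
    rw [sq3 h, ← θ_256 (e := e), h.θ_mul] at b
    exact absurd (h.θ_inj (mulQ_lt l (by norm_num)) (by norm_num) (b.trans θ_zero.symm)) (k_3 n hn)
  · change _ * (ev e [3, 5, 7] * ev e [3, 5, 7]) = 1 at b
    rw [sq4 h, mul_one] at b
    exact ⟨g, hg, n, hn, _, .inr rfl, h.θ_inj l (by norm_num) (b.trans θ_zero.symm), a⟩

theorem cj_t {y : G} (hy : y ∈ C{e 0}) (y2 : y * y = 1) (yQ : y ∉ gen e lQ) : IsConj y (y * e 0) := by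
  have tr : ∀ g ∈ C{e 0}, ∀ x : G, IsConj (g * x * g⁻¹) (g * x * g⁻¹ * e 0) → IsConj x (x * e 0) :=
    fun g hg x a => ((isConj_iff.2 ⟨g, rfl⟩).trans a).trans (isConj_iff.2 ⟨g⁻¹, by
      rw [inv_inv, mul_assoc, mul_assoc (g * x * g⁻¹), ← mem_C1.1 hg]; group⟩)
  obtain ⟨g, hg, n, hn, w, hw, a, b⟩ := cls h hy y2 yQ
  refine tr g hg y ?_
  rw [b]
  have k : ∀ m < 512, mulQ (mulQ m n) (cjq w (invQ m)) = mulQ n 256 →
      IsConj (θ e n * ev e w) (θ e n * ev e w * e 0) := fun m hm c => isConj_iff.2 ⟨θ e m, by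
    rw [cjf h w n hm, c, ← h.θ_mul, θ_256, mul_assoc, mul_assoc, mem_C1.1 (h.ev_C w)]⟩
  rcases hw with rfl | rfl
  · rcases k_2 n hn a with ⟨m, hm, c⟩ | ⟨m, hm, d, hd, c⟩
    · exact k m ((by decide : ∀ m ∈ [4, 8, 64, 128], m < 512) m hm) c
    refine tr (θ e m) (h.lx.le (h.θ_mem m)) _ ?_
    rw [cjf h _ n ((by decide : ∀ m ∈ [0, 16, 32, 48], m < 512) m hm), c]
    have f : IsConj (ev e [76]) (ev e [76] * e 0) := isConj_iff.2 ⟨_, cj76 h⟩
    simp only [List.mem_cons, List.not_mem_nil, or_false] at hd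
    rcases hd with rfl | rfl
    · rwa [θ_zero, one_mul]
    · rw [θ_256, ← mem_C1.1 (h.ev_C _), mul_assoc, h.t2, mul_one]; exact f.symm
  · exact k 106 (by norm_num) (k_4 n hn a)

theorem prod_cj {a b : G} (ha : IsConj (e 0) a) (hb : IsConj (e 0) b) (ne : b ≠ a)
    (c : b * a = a * b) : IsConj (e 0) (b * a) := by
  obtain ⟨g, rfl⟩ := isConj_iff.1 ha
  obtain ⟨x, hx⟩ := isConj_iff.1 (hb.trans (isConj_iff.2 ⟨g⁻¹, rfl⟩))
  have c1 : x * e 0 * x⁻¹ ∈ C{e 0} := by
    rw [hx, mem_C1, inv_inv]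
    calc _ = g⁻¹ * (b * (g * e 0 * g⁻¹)) * g := by group
      _ = _ := by rw [c]; group
  have := cj_t h c1 (h.lx.cj x).sq fun q => ne (by rw [← q_free h q, hx]; group)
  refine ((isConj_iff.2 ⟨x, rfl⟩).trans this).trans (isConj_iff.2 ⟨g, ?_⟩)
  rw [hx]; group

theorem not_t (hz : NotIso (e 0)) : False := by
  obtain ⟨x, x1, x2⟩ := hz
  have y2 := (h.lx.cj x).sq
  obtain ⟨g, hg, n, hn, w, hw, -, b⟩ := cls h x1 y2 fun q => x2 (q_free h q)
  have c0 : IsConj (e 0) (θ e n * ev e w) := b ▸ (isConj_iff.2 ⟨x, rfl⟩).trans (isConj_iff.2 ⟨g, rfl⟩)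
  have s0 : θ e n * ev e w * (θ e n * ev e w) = 1 := by rw [← b, conj_mul, y2]; simp
  obtain ⟨m, hm, m1, m2⟩ : ∃ m < 512, mulQ m (act w (invQ m)) % 256 ≠ 0 ∧
      mulQ (mulQ m (act w (invQ m))) (mulQ m (act w (invQ m))) = 0 := by
    rcases hw with rfl | rfl
    · exact ⟨16, by norm_num, by decide +kernel⟩
    · exact ⟨2, by norm_num, by decide +kernel⟩
  obtain ⟨c, hc, d⟩ := cm' h n w (invQ_lt hm)
  generalize θ e n * ev e w = y at c0 s0 d
  have yi := inv_eq_of_mul_eq_one_right s0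
  have f : θ e m * y * (θ e m)⁻¹ * y = c * θ e (mulQ m (act w (invQ m))) := by
    rw [← h.θ_mul, ← mul_assoc, ← cen hc (h.lx.le (h.θ_mem m)), mul_assoc (θ e m) c, ← d,
      h.θ_inv hm, yi]
    group
  have l := mulQ_lt hm (act_lt (invQ_lt hm) w)
  generalize mulQ m (act w (invQ m)) = j at m1 m2 f l
  have j2 : c * θ e j * (c * θ e j) = 1 := by
    rw [mul_assoc, ← mul_assoc (θ e j), cen hc (h.lx.le (h.θ_mem j)), mul_assoc, h.θ_mul, m2, θ_zero,
      mul_one, zsq h.lx hc]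
  have jn : c * θ e j ∉ zpowers (e 0) := fun a => m1 (θ_zp h l ((mul_mem_cancel_left hc).1 a))
  have z2 : θ e m * y * (θ e m)⁻¹ * (θ e m * y * (θ e m)⁻¹) = 1 := by rw [conj_mul, s0]; simp
  have c1 := prod_cj h c0 (c0.trans (isConj_iff.2 ⟨θ e m, rfl⟩))
    (fun a => jn (by rw [← f, a, s0]; exact one_mem _)) (by
      rw [← f] at j2
      rw [← inv_eq_of_mul_eq_one_right j2, mul_inv_rev, yi, inv_eq_of_mul_eq_one_right z2])
  obtain ⟨z, hz⟩ := isConj_iff.1 c1
  rw [f] at hz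
  refine jn ?_
  rw [← hz, q_free h (hz ▸ mul_mem (h.lx.zle hc) (h.θ_mem j))]
  exact mem_zpowers _

end H25.CQ

namespace H4.C2

variable {G : Type} [Group G] [Finite G] {e : ℕ → G} {π : C{e 0} →* C3S.S} {σ : G}

theorem En.q_free (h : En e π σ) {g : G} (hg : g * e 0 * g⁻¹ ∈ gen e lQ) :
    g * e 0 * g⁻¹ = e 0 := H25.CQ.q_free h hg

theorem En.sigma_one (h : En e π σ) (hz : NotIso (e 0)) : σ = 1 :=
  h.sig.resolve_right fun a => H25.CQ.not_t (π := π) (a ▸ h) hz

end H4.C2
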