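import Mathlib
import Cfsg.Agent.H4.C2X
import Cfsg.Agent.H28.C2ZA
import Cfsg.Agent.H28.C2ZG
import Cfsg.Agent.H25.CQb
import Cfsg.Agent.H8.PC2

/-! The centraliser of a `2B` involution. -/

set_option autoImplicit false
set_option maxRecDepth 100000
set_option synthInstance.maxSize 4000

open Subgroup H24 H29 H9.MX H15.XP H15.KM H11

namespace H4.C2

variable {G : Type} [Group G] [Finite G] {e : ℕ → G} {π : C{e 0} →* C3S.S}

open H28.C2Z H26.Gold in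
theorem Ft.c2B (h : Ft e π) {g : G} (hg : g ∈ C{e 12}) : g * e 0 * g⁻¹ ∈ C{e 0} := by
  have p2 := Nat.prime_two
  have L := h.toLet
  have ZH : ZZ e ≤ C{e 12} := ζ1 (e := e) ▸ Z_le L 1
  have Zt : ZZ e ≤ C{e 0} := ζ2 (e := e) ▸ Z_le L 2
  have hS : Syl 2 C{e 12} (TS e π ⊓ C{e 12}) := by
    obtain ⟨P, hP, a1⟩ := Sylow_superset p2 (h.sylT.pi.inf_left C{e 12}) inf_le_right
    obtain ⟨k, -, a2⟩ := Sylow_Jsub p2 h.sylG hP.pi le_top
    by_cases a3 : cj k P = TS e π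
    · have : k * e 12 * k⁻¹ ∈ C[gen e lQ] := mem_C_iff_le_C1.2
        (h.Q_le_T.trans (a3.ge.trans (cj_C1 k (e 12) ▸ cj_mono k hP.le)))
      rcases h.lx.eq_or this with a | a
      · exact (h.iso.ne (u := [12]) (v := []) (by decide +kernel) (by simpa using conj_eq_one_iff'.1 a)).elim
      · exact (h.iso.ne (u := [12]) (v := [0]) (by decide +kernel) (by
          simpa using h.qf _ (DD.of_cj (g := k) (by rw [a]; exact DD.self)) (mem_gen (by decide)))).elim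
    refine hP.of_card_le inf_le_right (h.sylT.pi.inf_left _) ?_
    have b1 := Nat.le_of_dvd (card_pos _) (H25.CQ.card_Ts h.toEn)
    have b2 := card_mul_relIndex a2
    have b3 := relIndex_pos (cj k P) (TS e π)
    have b4 : (cj k P).relIndex (TS e π) ≠ 1 := fun a => a3 (le_antisymm a2 (relIndex_eq_one.1 a))
    rw [h.cardT, card_cj] at b2
    rw [θ1] at b1
    have := Nat.mul_le_mul_left (Nat.card P) (show 2 ≤ (cj k P).relIndex (TS e π) by omega)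
    omega
  have ZS : ZZ e ≤ TS e π ⊓ C{e 12} := le_inf (gen_le.2 fun j hj => ev_mem fun c hc => by
    rcases (by decide +kernel : ∀ j ∈ [0, 1, 2, 3, 4], ∀ c ∈ zb j, c ∈ lT ∨ c ∈ lQ) j hj c hc with a | a
    exacts [h.e_T a, h.Q_le_T (mem_gen a)]) ZH
  have hc : C{e 12} ≤ C[zpowers (e 12)] := by rw [C_zpowers]
  have sZ : zpowers (e 12) ≤ ZZ e := zpowers_le.2 (ζ1 (e := e) ▸ ζ_mem 1)
  obtain ⟨X, _, _, f, hf⟩ := H8.PC.exists_quo ⟨sZ.trans ZH, norm_of_cent hc⟩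
  have mA : ∀ n, ap f (ζ e n) ∈ img f (ZZ e) := fun n => ap_mem_img f (ζ_mem n) (ZH (ζ_mem n))
  have cA : ∀ a ∈ img f (ZZ e), ∃ n < 32, ap f (ζ e n) = a := fun a ha => by
    obtain ⟨q, hq, rfl⟩ := (mem_img_of_le ZH).1 ha
    obtain ⟨n, hn, rfl⟩ := mem_Z L hq
    exact ⟨n, hn, rfl⟩
  have mu : ∀ n m, ap f (ζ e (n ^^^ m)) = ap f (ζ e n) * ap f (ζ e m) := fun n m => by
    rw [← ζ_mul L, ap_mul f (ZH (ζ_mem n)) (ZH (ζ_mem m))]
  have f1 : ap f (ζ e 1) = 1 := hf.ap_ker (ζ1 (e := e) ▸ mem_zpowers _)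
  have cf : ∀ {u n m}, u ∈ C{e 12} → u * ζ e n * u⁻¹ = ζ e m →
      ap f u * ap f (ζ e n) * (ap f u)⁻¹ = ap f (ζ e m) := fun hu a => by
    rw [← ap_conj f hu (ZH (ζ_mem _)), a]
  have nf : ∀ {u}, u ∈ C{e 12} ⊓ N[ZZ e] → ap f u ∈ N[img f (ZZ e)] := fun hu => mem_N_of_finite fun a ha => by
    obtain ⟨n, -, rfl⟩ := cA a ha
    obtain ⟨m, -, b⟩ := mem_Z L (conj_mem hu.2 (ζ_mem n))
    rw [cf hu.1 b.symm]; exact mA m
  have ft : ∀ w, ev e w * ζ e 2 * (ev e w)⁻¹ = ζ e 2 := fun w => by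
    rw [ζ2]; exact mem_C1_iff_conj.1 (h.ev_C w)
  obtain ⟨u, hu, a1⟩ := exists_h h
  have key := gold (hf.img_top ▸ hS.img f le_rfl) (ea_of_sq fun a ha => by
      obtain ⟨n, -, rfl⟩ := cA a ha
      rw [← mu, Nat.xor_self, ζ0, ap_one]) (img_mono f ZS) (mA 2) (fun a => by
      rcases mem_zpowers_sq (h.sq 12) ((hf.eq_one (ZH (ζ_mem 2))).1 a) with a | a <;> rw [ζ2] at a
      exacts [h.ne a, h.iso.ne (u := [0]) (v := [12]) (by decide +kernel) (by simpa using a)])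
    (nf hu) (cf hu.1 (ζ2 (e := e) ▸ a1)) (fun b hb b1 b2 => ?_) (fun x hx y hy => ?_) fun x hx => ?_
  · have h2 := pre_mono f key
    rw [pre_top, pre_sup (le_top.trans hf.range.ge) (le_top.trans hf.range.ge), ← hf.img_top] at h2
    have hO : Od[C{e 12}] = ⊥ := h.oddE (oddG_iff.1 (Od_odd _)) (le_trans (fun x hx => by
      rw [← ε_four (e := e)]; exact mem_C1.2 (mem_C'.1 (h.E_ab hx) _ (ε_mem 4))) (pcore_nml _ _).norm)
    have h3 := h2.trans (sup_le ((hf.pre_Od_le (twoE_of_sq (h.sq 12)).isPi le_rfl (sZ.trans ZH) hc).trans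
      (sup_le (norm_of_le sZ) (hO.le.trans bot_le))) fun g hg =>
        norm_of_img (pre_le _ _) ZH (hf.ker.le.trans sZ) (img_pre_le _ _) hg)
    exact Zt (conj_mem (h3 hg) (ζ2 (e := e) ▸ ζ_mem 2))
  · obtain ⟨n, hn, rfl⟩ := cA b hb
    rcases (by decide +kernel : ∀ n < 32, ∃ r ∈ [0, 1], n = 0 ^^^ r ∨ n = 2 ^^^ r ∨
      ∃ p ∈ WL, n = p.1 ^^^ r) n hn with ⟨r, hr, a⟩
    have : ∀ m, ap f (ζ e (m ^^^ r)) = ap f (ζ e m) := fun m => by
      simp only [List.mem_cons, List.not_mem_nil, or_false] at hr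
      rcases hr with rfl | rfl
      exacts [by rw [Nat.xor_zero], by rw [mu, f1, mul_one]]
    rcases a with rfl | rfl | ⟨p, hp, rfl⟩ <;> rw [this] at b1 b2 ⊢
    · exact (b1 (ap_one f)).elim
    · exact (b2 rfl).elim
    · have := ok_spec L (k4 p hp).1
      exact ⟨_, nf this, cf this.1 (ft _), cf this.1 (cz_spec L (k4 p hp).2)⟩
  · obtain ⟨n, hn, rfl⟩ := cA x hx
    obtain ⟨m, hm, rfl⟩ := cA y hy
    obtain ⟨r, hr, a1, a2, a3, k, a4, a5⟩ := (by decide +kernel : ∀ n < 32, ∀ m < 32, ∃ r < 8,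
      tq r n = 0 ∧ tq r m = 0 ∧ (∀ k < 32, tq r k = 0 ∨ tq r k = 2 ^^^ 1) ∧
        ∃ k < 32, tq r k = 2 ^^^ 1) n hn m hm
    have b := LM_spec L (w := mw [17, 18, 15] r) fun c hc =>
      (by decide : ∀ c ∈ [17, 18, 15], c ∈ LM) c (mem_mw _ _ c hc)
    have c := fun k hk => cf b.1 (cz_spec L (k5 r hr k hk))
    refine ⟨_, nf b, by rw [c n hn, a1, Nat.xor_zero], by rw [c m hm, a2, Nat.xor_zero], cf b.1 (ft _),
      fun a ha => ?_, _, mA k, by rw [c k a4, a5, mu, mu, f1, mul_one]⟩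
    obtain ⟨j, hj, rfl⟩ := cA a ha
    exact (a3 j hj).imp (fun d => by rw [c j hj, d, Nat.xor_zero]) fun d => by
      rw [c j hj, d, mu, mu, f1, mul_one]
  · obtain ⟨k, hk, rfl⟩ := hf.exists_ap x
    have h1 := mul_mem (mul_mem hk (ZH (ζ_mem 2))) (inv_mem hk)
    rw [← ap_conj f hk (ZH (ζ_mem 2))] at hx ⊢
    have h2 := sup_le le_rfl (sZ.trans ZS) ((hf.mem_iff h1 hS.le).1 hx)
    rw [ζ2] at h1 h2 ⊢
    exact ap_mem_img f (D_le h hk (h.T_le h2.1)) h1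

end H4.C2
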