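import Mathlib
import Cfsg.Agent.H4.C2X
import Cfsg.Agent.H26.GBase
import Cfsg.Agent.H8.PC2

/-! The centraliser of a `2C` involution. -/

set_option autoImplicit false
set_option maxRecDepth 100000

open Subgroup H24 H29 H9.MX H15.XP H15.KM H11

namespace H4.C2

variable {G : Type} [Group G] [Finite G] {e : ℕ → G} {π : C{e 0} →* C3S.S}

open H26.Gold in
theorem Ft.c2C (h : Ft e π) {g : G} (hg : g ∈ C{e 0 * e 7}) : g * e 0 * g⁻¹ ∈ C{e 0} := by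
  have p2 := Nat.prime_two
  have e3 : e 0 * e 7 = ε e 3 := by rw [← ε_one (e := e), ← ε_two (e := e), h.ε_mul]; rfl
  have w2 : e 0 * e 7 * (e 0 * e 7) = 1 := e3 ▸ h.ε_sq 3
  have EH : gen e lE ≤ C{e 0 * e 7} := fun x hx => e3 ▸ mem_C1.2 (mem_C'.1 (h.E_ab hx) _ (ε_mem 3))
  have tE : e 0 ∈ gen e lE := mem_gen (by decide)
  have td : e 0 * (e 0 * e 7) = e 7 := by rw [← mul_assoc, h.t2, one_mul]
  have cm : ∀ k x y : G, k * (x * y) * k⁻¹ = k * x * k⁻¹ * (k * y * k⁻¹) := fun k x y => by group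
  have U : ∀ k ∈ C{e 0 * e 7}, k * e 0 * k⁻¹ ∈ C{e 0} → k * e 0 * k⁻¹ = e 0 ∨ k * e 0 * k⁻¹ = e 7 :=
    fun k hk a => h.UP1 a (td ▸ mem_C1_comm.1 (mul_mem (mem_C1_comm.1 a)
      (mem_C1_comm.1 (mul_mem (mul_mem hk (EH tE)) (inv_mem hk))))) ⟨k, rfl⟩ (by
        obtain ⟨σ, -, b, -⟩ := h.swap
        rw [mul_assoc, ← mem_C1_iff_conj.1 hk, ← cm, td]
        exact DD.cj ⟨σ, by rw [← ε_one (e := e), b, ε_two]⟩ k)
  obtain ⟨P, hP, EP⟩ := Sylow_superset p2 h.piE EH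
  have iso : ∀ k ∈ C{e 0 * e 7}, k * e 0 * k⁻¹ ∈ P → k * e 0 * k⁻¹ = e 0 ∨ k * e 0 * k⁻¹ = e 7 := by
    intro k hk hy
    refine U k hk ?_
    have U2 : ∀ z ∈ C{e 0 * e 7}, z * (k * e 0 * k⁻¹) * z⁻¹ ∈ C{k * e 0 * k⁻¹} →
        z * (k * e 0 * k⁻¹) * z⁻¹ = k * e 0 * k⁻¹ ∨
          z * (k * e 0 * k⁻¹) * z⁻¹ = k * e 0 * k⁻¹ * (e 0 * e 7) := fun z hz a => by
      rw [show z * (k * e 0 * k⁻¹) * z⁻¹ = k * (k⁻¹ * z * k * e 0 * (k⁻¹ * z * k)⁻¹) * k⁻¹ by group] at a ⊢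
      refine (U _ (mul_mem (mul_mem (inv_mem hk) hz) hk) (by simpa [mul_assoc] using cjC k⁻¹ a)).imp
        (fun b => by rw [b]) fun b => ?_
      rw [b, ← mem_C1_iff_conj.1 hk, ← cm, td]
    have y2 := DD.sq h.toLet (y := k * e 0 * k⁻¹) ⟨k, rfl⟩
    have yH := hP.le hy
    generalize k * e 0 * k⁻¹ = y at *
    have yN : y ∈ N[gen e lE] := mem_N_iff_cj.2 (by
      simpa using h.weak hP.pi (a := y) (b := 1) (cj_of_mem hy ▸ cj_mono y EP) (by simpa using EP))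
    have yi := inv_eq_of_mul_eq_one_right y2
    have fx : ∀ m ∈ [6, 10, 18, 31], y * ε e m * y⁻¹ = ε e m := fun m hm => by
      have c := mem_C'.1 (h.E_ab (conj_mem yN (ε_mem m))) _ (ε_mem m)
      rw [yi] at c ⊢
      have := U2 _ (EH (ε_mem m)) (by rw [mem_C1, h.ε_inv, mul_assoc, mul_assoc, ← mul_assoc y, ← c]; group)
      rw [h.ε_inv] at this
      rcases this with d | d
      · rw [← mul_right_inj (ε e m), ← mul_assoc, ← mul_assoc, d, y2, h.ε_sq]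
      · obtain ⟨k1, k2, k3⟩ := (by decide +kernel : ∀ m ∈ [6, 10, 18, 31], m < 1024 ∧ m ^^^ 3 < 1024 ∧
          f2 m ≠ f2 (m ^^^ 3)) m hm
        refine absurd (h.FE (g := y) k1 k2 ?_) k3
        rw [← h.ε_mul, ← e3, yi, ← mul_right_inj (ε e m), ← mul_assoc, ← mul_assoc, d, ← mul_assoc (ε e m),
          h.ε_sq, one_mul, mem_C1.1 yH, mul_assoc, y2, mul_one]
    rw [mem_C1, ← mul_inv_eq_iff_eq_mul, ← ε_one (e := e),
      show ε e 1 = ε e 6 * ε e 10 * ε e 18 * ε e 31 by simp only [h.ε_mul]; rfl,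
      cm, cm, cm, fx 6 (by simp), fx 10 (by simp), fx 18 (by simp), fx 31 (by simp)]
  have hc : C{e 0 * e 7} ≤ C[zpowers (e 0 * e 7)] := by rw [C_zpowers]
  have wE : zpowers (e 0 * e 7) ≤ gen e lE := zpowers_le.2 (e3 ▸ ε_mem 3)
  obtain ⟨X, _, _, f, hf⟩ := H8.PC.exists_quo ⟨wE.trans EH, norm_of_cent hc⟩
  have tH := EH tE
  have key := zstar_sub (hf.img_top ▸ hP.img f le_rfl) (ap_mem_img f (EP tE) tH) (fun a => by
      rcases (mem_zp2 w2).1 ((hf.eq_one tH).1 a) with a | a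
      · exact h.ne a
      · rw [e3, ← ε_one (e := e)] at a
        exact absurd (h.ε_inj (by norm_num) (by norm_num) a) (by norm_num))
    (by rw [← ap_mul f tH tH, h.t2, ap_one]) fun x _ hx => by
      obtain ⟨k, hk, rfl⟩ := hf.exists_ap x
      have h1 := mul_mem (mul_mem hk tH) (inv_mem hk)
      rw [← ap_conj f hk tH] at hx ⊢
      rcases iso k hk (sup_le le_rfl (wE.trans EP) ((hf.mem_iff h1 hP.le).1 hx)) with a | a <;> rw [a]
      exact (congrArg (ap f) td.symm).trans (by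
        rw [ap_mul f tH (self_mem_C1 _), hf.ap_ker (mem_zpowers _), mul_one])
  have h3 := hf.pre_Od_le (twoE_of_sq w2).isPi le_rfl (wE.trans EH) hc
  rw [h.oddE (oddG_iff.1 (Od_odd _)) (EH.trans (pcore_nml _ _).norm), sup_bot_eq, hf.img_top,
    ← hf.eq_bot (pre_le _ _), hf.img_pre] at h3
  rw [h3, le_bot_iff, comm_eq_bot'] at key
  have h1 := mul_mem (mul_mem hg tH) (inv_mem hg)
  have h4 := (hf.eq_iff tH h1).1 (by
    rw [ap_conj f hg tH, conj_eq_of_mem_C (key (mem_top _)) (mem_zpowers _)])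
  rw [← mul_mem_cancel_left (inv_mem (self_mem_C1 (e 0)))]
  exact h.E_le_C (wE h4)

end H4.C2
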