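import Mathlib
import Cfsg.Agent.H4.C2G
import Cfsg.Agent.H4.C2Ex
import Cfsg.Agent.H4.C2Q
import Cfsg.Agent.H4.C2ZB
import Cfsg.Agent.H4.C2ZC
import Cfsg.Agent.H28.GrpLem
import Cfsg.Agent.H2.Frattini

/-! The assembly, modulo the properties of the model. -/

set_option autoImplicit false

open Subgroup H24 H29 H9.MX H15.XP H15.KM H11

namespace H4.C2

theorem xs_congr {A B : Type*} [Group A] [Group B] {p : ℕ} (f : A ≃* B)
    (h : Cfsg.IsExtraspecial p A) : Cfsg.IsExtraspecial p B := by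
  have z : (center A).map (f : A →* B) = center B := by
    ext y
    obtain ⟨y, rfl⟩ := f.surjective y
    refine (mem_map_equiv (f := f)).trans ?_
    simp only [MulEquiv.symm_apply_apply, mem_center_iff, f.surjective.forall, ← map_mul,
      f.injective.eq_iff]
  refine ⟨⟨h.1.1.of_equiv f, ?_, ?_⟩, ?_⟩
  · rw [← H2.map_frattini_equiv f, h.1.2.1, z]
  · rw [← z, ← h.1.2.2, commutator_def, commutator_def, map_commutator,
      map_top_of_surjective _ f.surjective]
  · rw [← z, card_map_of_injective f.injective, h.2]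

theorem fin0 (top : gen m0 C2TG.cols = ⊤) (card : Nat.card S0 = 42305421312000)
    [IsSimpleGroup S0] {G : Type} [Group G] [Finite G] (hO : Cfsg.oddCore G = ⊥)
    (hZ : center G = ⊥) (t : G) (ht : orderOf t = 2)
    (hcon : Cfsg.IsPConstrained 2 (centralizer ({t} : Set G)))
    (hQ : Cfsg.IsExtraspecial 2 (Cfsg.pCore 2 (centralizer ({t} : Set G))))
    (hcard : Nat.card (Cfsg.pCore 2 (centralizer ({t} : Set G))) = 2 ^ 9)
    (ε : (centralizer ({t} : Set G)) ⧸ Cfsg.pCore 2 (centralizer ({t} : Set G)) ≃*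
      Matrix.symplecticGroup (Fin 3) (ZMod 2)) : Nonempty (S0 ≃* G) := by
  obtain ⟨n, Q, π, x, r, σ, h⟩ := exists_eng hO hZ t ht hcon hQ hcard ε
  obtain ⟨e, rfl, π', k⟩ := h.exists_en
  obtain rfl := k.sigma_one n
  have f : Ft e π' := ⟨k, fun y ⟨g, a⟩ b => a ▸ k.q_free (a ▸ b), n⟩
  exact f.iso_S0 top card (fun g => f.c2C) fun g => f.c2B

theorem fin1 (top : gen m0 C2TG.cols = ⊤) (card : Nat.card S0 = 42305421312000)
    [IsSimpleGroup S0] {G : Type*} [Group G] [Finite G] (hO : Cfsg.oddCore G = ⊥)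
    (hZ : center G = ⊥) (t : G) (ht : orderOf t = 2)
    (hcon : Cfsg.IsPConstrained 2 (centralizer ({t} : Set G)))
    (hQ : Cfsg.IsExtraspecial 2 (Cfsg.pCore 2 (centralizer ({t} : Set G))))
    (hcard : Nat.card (Cfsg.pCore 2 (centralizer ({t} : Set G))) = 2 ^ 9)
    (ε : (centralizer ({t} : Set G)) ⧸ Cfsg.pCore 2 (centralizer ({t} : Set G)) ≃*
      Matrix.symplecticGroup (Fin 3) (ZMod 2)) : Nonempty (S0 ≃* G) := by
  let f : G ≃* Shrink.{0} G := (Shrink.mulEquiv).symm
  have : Finite (Shrink.{0} G) := Finite.of_equiv _ f.toEquiv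
  obtain ⟨c⟩ := H28.centralizer_equiv f t
  have m := H2.map_pCore_equiv 2 c
  let q := (c.subgroupMap (Cfsg.pCore 2 _)).trans (MulEquiv.subgroupCongr m)
  obtain ⟨j⟩ := fin0 top card (G := Shrink.{0} G) (t := f t)
    (by rw [Cfsg.oddCore, ← H2.map_pPrimeCore_equiv 2 f, show Cfsg.pPrimeCore 2 G = ⊥ from hO,
      Subgroup.map_bot])
    (eq_bot_iff.2 fun y hy => by
      obtain ⟨y, rfl⟩ := f.surjective y
      have : y ∈ center G := mem_center_iff.2 fun g => f.injective (by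
        rw [map_mul, map_mul]; exact mem_center_iff.1 hy _)
      rw [hZ, mem_bot] at this
      rw [this, map_one]; exact one_mem _)
    ((f.orderOf_eq t).trans ht) (H13.isPConstrained_of_mulEquiv hcon c) (xs_congr q hQ)
    ((Nat.card_congr q.toEquiv).symm.trans hcard)
    ((QuotientGroup.congr _ _ c m).symm.trans ε)
  exact ⟨j.trans f.symm⟩

theorem rank3_congr {A B : Type*} [Group A] [Group B] (f : A ≃* B) {a b c : ℕ}
    (h : ∃ H : Subgroup A, IsCoatom H ∧ H.index = a ∧ ∃ q₁ q₂ : A ⧸ H,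
      (MulAction.orbit H q₁).ncard = b ∧ (MulAction.orbit H q₂).ncard = c) :
    ∃ H : Subgroup B, IsCoatom H ∧ H.index = a ∧ ∃ q₁ q₂ : B ⧸ H,
      (MulAction.orbit H q₁).ncard = b ∧ (MulAction.orbit H q₂).ncard = c := by
  obtain ⟨H, h1, h2, q1, q2, h3, h4⟩ := h
  let K := H.map (f : A →* B)
  let φ : A ⧸ H → B ⧸ K := Quotient.map' f fun x y k => by
    rw [QuotientGroup.leftRel_apply] at k ⊢
    exact ⟨_, k, by simp⟩
  have inj : Function.Injective φ := fun x y k => by
    obtain ⟨x, rfl⟩ := QuotientGroup.mk_surjective x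
    obtain ⟨y, rfl⟩ := QuotientGroup.mk_surjective y
    have := QuotientGroup.eq.1 (show ((f x : B) : B ⧸ K) = f y from k)
    rw [← map_inv, ← map_mul] at this
    exact QuotientGroup.eq.2 ((mem_map_iff_mem f.injective).1 this)
  have ob : ∀ q, (MulAction.orbit K (φ q)).ncard = (MulAction.orbit H q).ncard := fun q => by
    obtain ⟨x, rfl⟩ := QuotientGroup.mk_surjective q
    rw [← Set.ncard_image_of_injective _ inj]
    congr 1
    ext y
    constructor
    · rintro ⟨⟨_, g, hg, rfl⟩, rfl⟩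
      exact ⟨_, ⟨⟨g, hg⟩, rfl⟩, congrArg (fun z : B => (z : B ⧸ K)) (map_mul f g x)⟩
    · rintro ⟨_, ⟨g, rfl⟩, rfl⟩
      exact ⟨⟨f g, g, g.2, rfl⟩, (congrArg (fun z : B => (z : B ⧸ K)) (map_mul f g.1 x)).symm⟩
  exact ⟨K, (OrderIso.isCoatom_iff f.mapSubgroup H).2 h1,
    (index_map_of_bijective f.bijective H).trans h2, φ q1, φ q2, (ob _).trans h3, (ob _).trans h4⟩

end H4.C2
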