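import Mathlib
import Cfsg.Agent.H4.C2Def
import Cfsg.Agent.H1.QTMat
import Cfsg.Agent.H13.PConstrained
import Cfsg.Agent.H29.Quo2
import Cfsg.Agent.H25.CMa

/-! The permutation model of degree 2300 is the second Conway group. -/

set_option autoImplicit false
set_option maxRecDepth 100000

open Subgroup H24 H29 H9 H9.MX H15.XP H11 H15.KM H4 H4.C2

namespace H25.CM

open H10

theorem gat_eq (i : ℕ) : ∀ P : List ℕ, gat P i = val P i
  | [] => rfl
  | a :: P => by
    change (a >>> i &&& 1) + 2 * gat P i = _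
    rw [gat_eq i P, val, Nat.toNat_testBit, Nat.and_one_is_mod, Nat.shiftRight_eq_div_pow]

theorem opp_spec {a b : ℕ} (h : opp a b = true) : vc a = (vU : V) - vc b := by
  funext p
  have := H29.beq_true.1 ((H9.allLt_iff _ _).1 h _ (H9.ix_lt p))
  change dg a _ + dg b _ = dg cU _ + 16 at this
  rw [vU_eq, Pi.sub_apply, vc, vc, vc]
  omega

/-- the vector of a point -/
noncomputable def pv (i : ℕ) : L := lv (cd i)

theorem pv_spec {i : ℕ} (hi : i < 2300) :
    (pv i : V) = vc (cd i) ∧ Cfsg.sqNorm (pv i : V) ≤ 255 ∧ cd i < 65536 ^ 24 := by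
  have := allN_true.1 hv i hi
  simp only [lit_eq, fh_eq, and2_true, decide_eq_true_eq, ble_true, B384_eq] at this
  exact ⟨lv_coe this.1.1, by rw [pv, lv_coe this.1.1, norm_vc, this.1.2]; norm_num, this.2⟩

/-- the vector belongs to the pair of the point -/
def Rl (x : L) (i : ℕ) : Prop := x = pv i ∨ x = vU - pv i

theorem hc : ∀ M ∈ gl, isCo M = true := fun M hM => (and2_true.1 (allL_true.1 hl M hM)).1

theorem hm : ∀ c, coE gl c ∈ H10.C2 := coE_mem fun M hM =>
  ⟨hc M hM, coM_fixU (hc M hM) (H29.beq_true.1 (and2_true.1 (allL_true.1 hl M hM)).2)⟩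

theorem lt_sg (w : List ℕ) {i : ℕ} (hi : i < 2300) : ev (sg (nth Net.nil C2TG.nl)) w i < 2300 :=
  lt_of_fix (fun _ h => ev_sg_fix C2TG.hn w h) hi

theorem step {c : ℕ} (h1 : c < 11) {i : ℕ} (hi : i < 2300) :
    Rl (coE gl c • pv i) (sg (nth Net.nil C2TG.nl) c i) := by
  have k : chkC (nth Net.nil C2TG.nl c) (nth [] gl c) = true := by
    interval_cases c
    exacts [k0, k1, k2, k3, k4, k5, k6, k7, k8, k9, k10]
  have hj : sg (nth Net.nil C2TG.nl) c i < 2300 := by simpa using lt_sg [c] hi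
  rw [chkC, frc_eq] at k
  have := allN_true.1 k i hi
  simp only [lit_eq, fh_eq, or2_true, H29.beq_true, gat_eq, val_mapPull (C2TG.hn c)] at this
  rw [show val (idPl 2300 12) ((nth Net.nil C2TG.nl c).perm i) = _ from val_idPl (by norm_num) hj]
    at this
  have e := coM_smul (hc _ ((by decide +kernel : ∀ c < 11, nth [] gl c ∈ gl) c h1)) (pv_spec hi).1
    (pv_spec hi).2.1
  refine this.imp (fun a => Subtype.ext ?_) fun a => Subtype.ext ?_
  · rw [(pv_spec hj).1]; exact e.trans (congrArg vc a)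
  · rw [AddSubgroup.coe_sub, (pv_spec hj).1]; exact e.trans (opp_spec a)

theorem Rl.smul {g : G0} (hg : g ∈ H10.C2) {x : L} {i j : ℕ} (h : Rl x i) (k : Rl (g • pv i) j) :
    Rl (g • x) j := by
  rcases h with rfl | rfl
  · exact k
  · rw [co_sub, MulAction.mem_stabilizer_iff.1 hg]
    rcases k with k | k <;> rw [k]
    · exact .inr rfl
    · exact .inl (sub_sub_cancel _ _)

theorem steps {i : ℕ} (hi : i < 2300) : ∀ w : List ℕ, (∀ c ∈ w, c ∈ C2TG.cols) →
    Rl (ev (coE gl) w • pv i) (ev (sg (nth Net.nil C2TG.nl)) w i)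
  | [], _ => .inl (one_smul _ _)
  | c :: w, h => by
    rw [ev_cons, ev_cons, mul_smul, Equiv.Perm.mul_apply]
    exact (steps hi w fun y hy => h y (List.mem_cons_of_mem _ hy)).smul (hm c)
      (step ((by decide : ∀ c ∈ C2TG.cols, c < 11) c (h c List.mem_cons_self)) (lt_sg w hi))

theorem inj0 {i : ℕ} (hi : i < 2300) (h : Rl (pv i) 0) : i = 0 := by
  by_contra h1
  obtain ⟨j, rfl⟩ : ∃ j, i = j + 1 := ⟨i - 1, by omega⟩
  have := allN_true.1 hd j (by omega)
  simp only [lit_eq, fh_eq, and2_true, not1_true, H29.beq_true, Nat.succ_eq_add_one] at this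
  have a := and2_true.1 h0
  have p0 := pv_spec (i := 0) (by norm_num)
  rcases h with h | h
  · exact this.1 (vc_inj (pv_spec hi).2.2 p0.2.2 (by rw [← (pv_spec hi).1, h, p0.1]))
  · exact this.2 (vc_inj (pv_spec hi).2.2 (B384_eq ▸ ble_true.1 a.2) (by
      rw [← (pv_spec hi).1, h, AddSubgroup.coe_sub, p0.1, opp_spec a.1, sub_sub_cancel]))

theorem reach : Reach (nth Net.nil C2TG.nl) C2TG.cols (bit 0) (ones 2300) :=
  reach_of_chk (r := 5) C2TG.hn (by decide +kernel)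

theorem Rl.join {x : L} {i j : ℕ} (d : Rl x i) (b : Rl x j) : Rl (pv i) j := by
  rcases d with d | d
  · rw [← d]; exact b
  · rcases b with b | b
    · exact .inr (by rw [← b, d, sub_sub_cancel])
    · exact .inl (sub_right_injective (d.symm.trans b))

theorem inj {i j : ℕ} (hi : i < 2300) (hj : j < 2300) (h : Rl (pv i) j) : i = j := by
  obtain ⟨w, hw, a⟩ := reach j (by simp [testBit_ones, hj])
  rw [testBit_bit, decide_eq_true_eq] at a
  have b := h.smul (ev_mem fun c _ => hm c) (steps hj w hw)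
  rw [← a] at b
  exact (ev (sg (nth Net.nil C2TG.nl)) w).injective
    ((inj0 (lt_sg w hi) ((steps hi w hw).join b)).trans a)

theorem hiv0 : IvOK m0 (ivOf C2TG.ivl) := ivOK_sub _ C2TG.hiv

theorem tr : Tr (subE _ hm) m0 C2TG.cols := fun w hw h => PG_faithful C2TG.hn _ fun i hi => by
  have a := steps hi w hw
  rw [← coe_ev_sub hm, h, OneMemClass.coe_one, one_smul] at a
  rw [map_ev_sg fun c _ => pe_rho _ c]
  exact (inj hi (lt_sg w hi) a).symm

/-- strong generators -/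
def ws : List (List ℕ) := [[1, 8, 1, 9, 1, 3, 4, 5, 6, 5, 4, 3, 1, 9, 1, 8, 1], [4, 7, 8, 5, 3, 4, 0],
  [2, 3, 1, 6, 9, 1, 8, 3, 1, 0, 9, 6, 1, 3], [2, 5, 7, 9, 1, 3, 4, 6, 9, 5, 6, 1, 0, 9, 7, 2, 4, 5],
  [1, 6, 9, 0, 6, 7, 5, 6, 1, 9, 6, 1], [6, 4, 1], [0], [1], [2], [3], [4], [5], [6], [7], [8], [9],
  [10], [10, 1, 4, 6, 10]]

/-- the stabiliser chain -/
def ch : List (ℕ × ℕ × ℕ × List ℕ) :=
  [(0, 3, 2300, [0, 1, 2, 3, 4, 5, 6, 7, 8, 9, 10, 11, 12, 13, 14, 15]),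
   (276, 2, 1408, [0, 1, 2, 3, 4, 5]), (288, 4, 840, [0, 1, 2, 3, 4]), (304, 5, 486, [0, 1, 2, 3]),
   (1255, 2, 16, [0]), (2179, 1, 2, [])]

theorem chain : chkChain 2300 12 (wNets (nth Net.nil C2TG.nl) ws) ch
    [0, 1, 2, 3, 4, 5, 6, 7, 8, 9, 10, 11, 12, 13, 14, 15, 16] = true := by decide +kernel

theorem prim : Prim (wNets (nth Net.nil C2TG.nl) ws) 2300 [6, 7, 8, 9, 10, 11, 12, 13, 14, 15]
    [16, 17] := prim_of_chk (r1 := 4) (r2 := 4) (C2TG.hn.wNets ws) (by decide +kernel)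

theorem orb1 : chkOrbit 12 (nth Net.nil C2TG.nl) C2TG.hcols 46 3 891 = true := by decide +kernel
theorem orb2 : chkOrbit 12 (nth Net.nil C2TG.nl) C2TG.hcols 276 4 1408 = true := by decide +kernel

instance finS0 : Finite S0 := PG_finite C2TG.hn

theorem top : gen m0 C2TG.cols = ⊤ := pe_top (by decide +kernel)

theorem lower (F : Subgroup S0) (hF : ∀ a ∈ ch, F ≤ stab (PG C2TG.nl).subtype a.1) :
    42305421312000 * Nat.card F ≤ Nat.card S0 :=
  (card_mul_le_chain (m := wE m0 ws) (C2TG.hn.wNets ws) F ch _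
    (fun c _ => map_wE (pe_rho _) ws c) hF chain).trans (Subgroup.card_le_card_group _)

theorem main : Nat.card S0 = 42305421312000 ∧ Nonempty (S0 ≃* H10.C2) := by
  obtain ⟨f, hf, -⟩ := tr.exists_surj (ivOK_sub hm (ivOK_coE hc (by decide) hi)) hiv0 (by decide)
  have a1 := Nat.card_le_card_of_surjective f hf
  have a2 := Subgroup.card_le_card_group (gen (subE _ hm) C2TG.cols)
  have a3 := lower ⊥ fun _ _ => bot_le
  have a4 : Nat.card (gen m0 C2TG.cols) = Nat.card S0 := by rw [top, Subgroup.card_top]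
  rw [card_C2] at a2
  rw [Subgroup.card_bot] at a3
  have b : Function.Bijective f := (Nat.bijective_iff_surjective_and_card f).2 ⟨hf, by omega⟩
  have t : gen (subE _ hm) C2TG.cols = ⊤ := eq_top_of_card_eq _ (by rw [card_C2]; omega)
  exact ⟨by omega, ⟨(topEquiv.symm.trans (MulEquiv.subgroupCongr top.symm)).trans
    ((MulEquiv.ofBijective f b).symm.trans ((MulEquiv.subgroupCongr t).trans topEquiv))⟩⟩

end H25.CM

namespace H4.C2

theorem top_S0 : gen m0 C2TG.cols = ⊤ := H25.CM.top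
theorem card_S0 : Nat.card S0 = 42305421312000 := H25.CM.main.1
theorem iso_S0 : Cfsg.Spor.IsoCo2 S0 := by
  obtain ⟨f⟩ := H25.CM.main.2
  obtain ⟨g⟩ := H1.QT.equiv_C2
  exact ⟨f.trans g.symm⟩
theorem simple_S0 : IsSimpleGroup S0 := by
  obtain ⟨f⟩ := H25.CM.main.2
  have := H10.simple_C2
  exact f.isSimpleGroup
theorem base_S0 (g : S0) (h : ∀ i ∈ [0, 276, 288, 304, 1255, 2179], (g : Equiv.Perm ℕ) i = i) :
    g = 1 := by
  have := H25.CM.lower (zpowers g) fun a ha => zpowers_le.2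
    (h a.1 ((by decide : ∀ a ∈ H25.CM.ch, a.1 ∈ [0, 276, 288, 304, 1255, 2179]) a ha))
  rw [card_S0, Nat.card_zpowers] at this
  have := orderOf_pos g
  exact orderOf_eq_one_iff.1 (by omega)
theorem rank3_S0 : ∃ H : Subgroup S0, IsCoatom H ∧ H.index = 2300 ∧ ∃ q₁ q₂ : S0 ⧸ H,
    (MulAction.orbit H q₁).ncard = 891 ∧ (MulAction.orbit H q₂).ncard = 1408 := by
  have cm := C2TG.cm H25.CM.hiv0 (rels_subE _ C2TG.hR0) top_S0 (pe_rho _)
  have e : gen m0 C2TG.hcols = stab (PG C2TG.nl).subtype 0 := by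
    ext g; exact (cm.mem g).symm
  obtain ⟨q₁, -, a⟩ := cm.exists_suborbit C2TG.hn (by norm_num) (fun c _ => pe_rho _ c) H25.CM.orb1
  obtain ⟨q₂, -, b⟩ := cm.exists_suborbit C2TG.hn (by norm_num) (fun c _ => pe_rho _ c) H25.CM.orb2
  exact ⟨_, e ▸ H25.CM.prim.isCoatom (C2TG.hn.wNets _) cm.toTrans (map_wE (pe_rho _) _)
    (by norm_num), cm.index_eq, q₁, q₂, a, b⟩

end H4.C2
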