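import Mathlib
import Cfsg.Agent.H4.K3SD
import Cfsg.Agent.H27.K3A0

/-!
# The local hypotheses of the thin case
-/

set_option autoImplicit false
set_option linter.unusedSectionVars false
set_option linter.unusedVariables false

open Cfsg H24 H26 H26.Gold H23.TC H3.B71 Subgroup

namespace H4.K3

universe u

variable {G : Type u} [Group G] [Finite G] {p a b : ℕ}

theorem mx_of_thin (thin : ∀ t : G, orderOf t = 2 → ∀ B : Subgroup G, IsElementaryAbelian 3 B →
    B ≤ C{t} → ♯B < 9) : H19.K3.Mx 3 G := fun t B ht hB hc => by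
  have h := thin t ht B hB hc
  obtain ⟨n, hn⟩ := (H19.K3.ea_pi Nat.prime_three hB).card_eq_pow Nat.prime_three
  rw [hn] at h ⊢
  have : n < 2 := (Nat.pow_lt_pow_iff_right (a := 3) (by norm_num)).1 h
  exact Nat.pow_le_pow_right (n := 3) (j := 1) (by norm_num) (by omega)

theorem th_of_mx (h : H18.K3.KT G p a b) (h3 : H19.K3.Mx 3 G) : H27.K3A.Th G := by
  refine ⟨h.simple, h.na, fun t t1 t2 => ?_, fun t t1 t2 R hR hc => thin_ix2 h h3 ⟨t1, t2⟩ hc hR,
    fun t t1 t2 N hN => ?_, fun x hx u hu v hv u1 u2 v1 v2 hc => ?_⟩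
  · exact cent_sub_pcore p2 (h.sol (ndvd h ⟨t1, t2⟩)) (h.core2 ⟨1, by rw [ord2 t1 t2]; rfl⟩ t1)
  · by_cases e : 3 ∣ ♯N
    · exact .inr (exists_orderOf_eq Nat.prime_three e)
    · refine .inl (((pi23 h (ndvd h ⟨t1, t2⟩)).of_le hN).mono_in ?_)
      rintro q - hd (rfl | rfl)
      exacts [rfl, absurd hd e]
  · have hB : IsElementaryAbelian 3 (zpowers x) := by
      rw [zpowers_eq_closure]
      exact H19.K3.ea_closure (by simp) (by simpa using H19.K3.cube hx)
    have k : ∀ w ∈ C{x}, w ∈ C[zpowers x] := fun w hw =>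
      mem_C_iff_le_C1.2 (zpowers_le.2 (mem_C1_comm.1 hw))
    rcases H19.K3.no4 h h3 hB (zpowers_ne_bot.2 (H19.K3.ne_one3 hx))
      (by rw [card_zpowers', hx]; norm_num) u2 v2 hc u1 (k u hu) (k v hv) with e | e
    exacts [absurd e v1, e.symm]

theorem th_of (h : H18.K3.KT G p a b) (thin : ∀ t : G, orderOf t = 2 → ∀ B : Subgroup G,
    IsElementaryAbelian 3 B → B ≤ C{t} → ♯B < 9) : H27.K3A.Th G :=
  th_of_mx h (mx_of_thin thin)

end H4.K3
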