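import Mathlib
import Cfsg.Agent.H4.K3TH
import Cfsg.Agent.H8.K3G
import Cfsg.Agent.H1.K3Hy
import Cfsg.Agent.H21.K3H
import Cfsg.Agent.H9.K3F
import Cfsg.Agent.H27.K3A1
import Cfsg.Agent.H17.K3C
import Cfsg.Agent.H29.K3G4
import Cfsg.Agent.H12.K3U1
import Cfsg.Agent.H16.K3T0

/-!
# The thin case with socle `A₅`
-/

set_option autoImplicit false
set_option linter.unusedSectionVars false
set_option linter.unusedVariables false

open Cfsg H24 H26 H26.Gold H23.TC H3.B71 Subgroup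

namespace H4.K3

universe u

variable {G : Type u} [Group G] [Finite G] {a b : ℕ}

theorem two_pow_mod5 {n : ℕ} (h : 5 ∣ 2 ^ n - 1) (h0 : n ≠ 0) : 2 ^ n = 16 ∨ 64 < 2 ^ n := by
  by_cases h7 : 7 ≤ n
  · exact .inr (lt_of_lt_of_le (by norm_num) (Nat.pow_le_pow_right two_pos h7))
  · have : n < 7 := by omega
    interval_cases n <;> simp_all

theorem case5 (h : H18.K3.KT G 5 a b) (th : H16.K3T.Thin G) {Q L : Subgroup G}
    {φ : L →* alternatingGroup (Fin 5)} (F : H16.K3T.Fm Q L φ) : H8.K3.Concl G := by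
  have hs := h.simple
  have hT := th_of h th
  have hk : H8.K3.K3N (Nat.card G) := ⟨5, a, b, h.prime, h.card⟩
  have h5 : 5 ∣ ♯N[Q] := by
    refine Dvd.dvd.trans ?_ (card_dvd F.nml.le)
    rw [F.card, nat_card_alternatingGroup]
    exact Dvd.dvd.mul_left (by simp [Nat.factorial]) _
  have fpf : ∀ y ∈ N[Q], orderOf y = 3 → Q ⊓ C{y} = ⊥ := fun y hy ho =>
    H12.K3.fpf h hT.rk F.two h5 (.inl rfl) hy ho
  have ea : EA Q := (H21.K3H.higman5 F.nmlQ F.two φ F.sur F.ker fun y hy => fpf y (F.nml.le hy)).1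
  obtain ⟨x, hx, ho⟩ := exists_orderOf_eq h.prime h5
  have hd := H12.K3.p_dvd h F.two ho hx
  obtain ⟨n, hn⟩ := F.two.card_eq_pow p2
  have n0 : n ≠ 0 := fun e => F.ne (card_eq_one.1 (by rw [hn, e, pow_zero]))
  rw [hn] at hd
  rcases two_pow_mod5 hd n0 with e | e
  · obtain ⟨T, Z, y, hc⟩ := H9.K3A.frame ea (hn.trans e) F.QL F.nml φ F.sur F.ker F.cen fpf
    rcases H27.K3A.main hT hc with e | ⟨z, hz⟩
    · exact H8.K3.of_cit h.na hk e
    · exact H17.K3.concl_sy hT hk hz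
  · have hy := H1.K3.hy h ea F.core.le fpf (H29.K3.rk5 h F) (by rw [hn]; exact e)
    haveI : Fact (Nat.Prime 2) := ⟨p2⟩
    obtain ⟨S, hS⟩ := (F.two.isPGroup p2).exists_le_sylow
    exact H8.K3.of_sca h.na hk S F.ne ea.abl (thin_sc h (mx_of_thin th) hy S hS)

end H4.K3
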