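import Mathlib
import Cfsg.Agent.H20.SoA
import Cfsg.Agent.H20.SoB

/-!
# `2`-components of type `McL` or `Ly`: the properties of the type, in the language of `H20.So`
-/

set_option autoImplicit false
set_option linter.unusedSectionVars false

open Subgroup Equiv Equiv.Perm Cfsg H24 H23 H25.LB H5.Ly H20.So
open scoped commutatorElement

namespace H4.NMM

/-- what is used about `McL` (`n = 8`) and `Ly` (`n = 11`) -/
structure Md (n : ℕ) (M : Type) [Group M] : Prop where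
  hn : n = 8 ∨ n = 11
  simple : IsSimpleGroup M
  card : Nat.card M = if n = 8 then 898128000 else 51765179004000000
  cen : ∀ a : M, orderOf a = 2 →
    ∃ θ : C{a} →* PP n, Function.Injective θ ∧ θ.range = Mn n n
  conj : ∀ a b : M, orderOf a = 2 → orderOf b = 2 → IsConj a b
  rigid : ∀ a : M, orderOf a = 2 → ∀ α : MulAut M, (∀ x ∈ C{a}, α x = x) →
    α = 1 ∨ α = MulAut.conj a
  even : n = 11 → ∀ a : M, orderOf a = 2 → ∀ α : MulAut M, α a = a →
    ∃ k ∈ C{a}, ∀ x ∈ C{a}, α x = k * x * k⁻¹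

/-- `A / O(A)` is the group of type `n` -/
def TMG (n : ℕ) (A : Type*) [Group A] : Prop :=
  ∃ (M : Type) (_ : Group M) (_ : Finite M), Md n M ∧
    ∃ π : A →* M, Function.Surjective π ∧ Odd (Nat.card π.ker)

/-- `K / O(K)` is the group of type `n` -/
abbrev TM {G : Type*} [Group G] (n : ℕ) (K : Subgroup G) : Prop := TMG n K

/-- the `2`-component of type `2A_n` in `C_K(a)` -/
abbrev Jc {G : Type*} [Group G] (K : Subgroup G) (a : G) : Subgroup G := Kx K C{a}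

variable {G G' A B : Type*} [Group G] [Finite G] [Group G'] [Finite G'] [Group A] [Finite A]
  [Group B] [Finite B] {n m : ℕ} {H K L J : Subgroup G} {a b x : G}

theorem Md.h8 {M : Type} [Group M] (h : Md n M) : 8 ≤ n := by rcases h.hn with e | e <;> omega

theorem Md.even_card {M : Type} [Group M] (h : Md n M) : ¬ Odd (Nat.card M) := by
  rw [h.card]; split_ifs <;> decide

theorem Md.le_ker {M : Type} [Group M] [Finite M] (h : Md n M) {π : A →* M}
    (hπ : Function.Surjective π) {N : Subgroup A} [hN : N.Normal] (ho : Odd (Nat.card N)) :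
    N ≤ π.ker := by
  have := h.simple
  rcases (hN.map π hπ).eq_bot_or_eq_top with e | e
  · exact (Subgroup.map_eq_bot_iff _).1 e
  · exact absurd (by rw [← card_top, ← e]; exact ho.of_dvd_nat (card_map_dvd _ _)) h.even_card

theorem Md.ker_eq {M : Type} [Group M] [Finite M] (h : Md n M) {π : A →* M}
    (hπ : Function.Surjective π) (ho : Odd (Nat.card π.ker)) : π.ker = pPrimeCore 2 A :=
  le_antisymm (H2.le_pPrimeCore inferInstance (cop_two_iff_odd.2 ho))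
    (h.le_ker hπ (cop_two_iff_odd.1 (H2.pPrimeCore_coprime 2 A)))

theorem Md.not_comm {M : Type} [Group M] [Finite M] (h : Md n M) : ¬ IsMulCommutative M := fun e => by
  have h1 := Group.is_simple_iff_prime_card.1 h.simple
  rw [h.card] at h1
  split_ifs at h1 <;> exact absurd h1 (by norm_num)

theorem TMG.hn (h : TMG n A) : n = 8 ∨ n = 11 := let ⟨_, _, _, h, _⟩ := h; h.hn
theorem TMG.h8 (h : TMG n A) : 8 ≤ n := let ⟨_, _, _, h, _⟩ := h; h.h8
theorem TMG.h11 (h : TMG n A) : n ≤ 11 := by rcases h.hn with e | e <;> omega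

theorem TMG.of_surj (h : TMG n A) (f : A →* B) (hf : Function.Surjective f)
    (hk : Odd (Nat.card f.ker)) : TMG n B := by
  obtain ⟨M, _, _, h, π, hπ, ho⟩ := h
  let β := f.liftOfSurjective hf ⟨_, h.le_ker hπ hk⟩
  have h2 : ∀ a, β (f a) = π a := fun a => MonoidHom.liftOfRightInverse_comp_apply ..
  refine ⟨M, _, inferInstance, h, β, fun y => ?_,
    ho.of_dvd_nat ((card_dvd_of_le fun b hb => ?_).trans (card_map_dvd _ f))⟩
  · obtain ⟨a, rfl⟩ := hπ y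
    exact ⟨f a, h2 a⟩
  · obtain ⟨a, rfl⟩ := hf b
    exact ⟨a, (h2 a).symm.trans hb, rfl⟩

theorem TMG.comap (h : TMG n B) (f : A →* B) (hf : Function.Surjective f)
    (hk : Odd (Nat.card f.ker)) : TMG n A := by
  obtain ⟨M, _, _, h, π, hπ, ho⟩ := h
  exact ⟨M, _, inferInstance, h, π.comp f, hπ.comp hf, sb_odd.2 fun x hx h2 =>
    sb_odd.1 hk x (sb_odd.1 ho (f x) hx (by rw [← map_mul, h2, map_one])) h2⟩

theorem TMG.equiv (h : TMG n B) (e : A ≃* B) : TMG n A :=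
  h.comap e.toMonoidHom e.surjective (sb_odd.2 fun _ hx _ => (map_eq_one_iff _ e.injective).1 hx)

theorem TM.map (h : TM n K) (f : G →* G') (hk : Odd (Nat.card ↥(K ⊓ f.ker))) : TM n (K.map f) :=
  TMG.of_surj h _ (f.subgroupMap_surjective K) (sb_map f hk)

theorem TM.of_map (f : G →* G') (h : TM n (K.map f)) (hk : Odd (Nat.card ↥(K ⊓ f.ker))) : TM n K :=
  TMG.comap h _ (f.subgroupMap_surjective K) (sb_map f hk)

theorem TM.map_inj (h : TM n K) {f : G →* G'} (hf : Function.Injective f) : TM n (K.map f) :=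
  TMG.equiv h (K.equivMapOfInjective f hf).symm

theorem TM.of_map_inj {f : G →* G'} (hf : Function.Injective f) (h : TM n (K.map f)) : TM n K :=
  TMG.equiv h (K.equivMapOfInjective f hf)

theorem TM.cj (h : TM n K) (g : G) : TM n (cj g K) := TMG.equiv h (cjEquiv g K).symm

theorem TM.of_le (h : TM n K) (hle : L ≤ K) (hc : K ≤ L ⊔ opp 2 K) : TM n L := by
  obtain ⟨M, _, _, h, π, hπ, ho⟩ := h
  refine ⟨M, _, inferInstance, h, π.comp (inclusion hle), fun y => ?_,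
    sb_odd.2 fun x hx h2 => inclusion_injective hle
      ((sb_odd.1 ho _ hx (by rw [← map_mul, h2, map_one])).trans (map_one _).symm)⟩
  obtain ⟨a, rfl⟩ := hπ y
  obtain ⟨l, o, h1, rfl⟩ := sb_dec hc hle a
  exact ⟨l, by rw [map_mul, show π o = 1 from (h.ker_eq hπ ho ▸ h1 : o ∈ π.ker), mul_one]; rfl⟩

theorem TM.of_ge (h : TM n K) (hle : K ≤ J) (hc : J ≤ K ⊔ opp 2 J) : TM n J := by
  refine (TMG.of_surj h ((QuotientGroup.mk' (pPrimeCore 2 J)).comp (inclusion hle)) (fun x => ?_)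
    (sb_odd.2 fun x hx h2 => inclusion_injective hle ((sb_odd.1 sb_mk _ hx (by
      rw [← map_mul, h2, map_one])).trans (map_one _).symm))).comap _
    (QuotientGroup.mk'_surjective _) sb_mk
  obtain ⟨a, rfl⟩ := QuotientGroup.mk'_surjective _ x
  obtain ⟨l, o, h1, rfl⟩ := sb_dec hc hle a
  exact ⟨l, by
    rw [map_mul, show QuotientGroup.mk' _ o = 1 from (QuotientGroup.eq_one_iff o).2 h1, mul_one]; rfl⟩

theorem TMG.quot (h : TMG n A) : ∃ (M : Type) (_ : Group M) (_ : Finite M), Md n M ∧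
    Nonempty (A ⧸ pPrimeCore 2 A ≃* M) := by
  obtain ⟨M, _, _, h, π, hπ, ho⟩ := h
  exact ⟨M, _, inferInstance, h, ⟨(QuotientGroup.quotientMulEquivOfEq (h.ker_eq hπ ho).symm).trans
    (QuotientGroup.quotientKerEquivOfSurjective π hπ)⟩⟩

theorem TMG.simple (h : TMG n A) : IsSimpleGroup (A ⧸ pPrimeCore 2 A) := by
  obtain ⟨M, _, _, h, ⟨e⟩⟩ := h.quot
  have := h.simple
  exact e.isSimpleGroup

theorem TMG.card (h : TMG n A) :
    Nat.card (A ⧸ pPrimeCore 2 A) = if n = 8 then 898128000 else 51765179004000000 := by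
  obtain ⟨M, _, _, h, ⟨e⟩⟩ := h.quot
  rw [Nat.card_congr e.toEquiv, h.card]

theorem TMG.quasi (h : TMG n A) : IsQuasisimple (A ⧸ pPrimeCore 2 A) := by
  obtain ⟨M, _, _, h, ⟨e⟩⟩ := h.quot
  exact H23.IsQuasisimple.of_equiv (isQuasisimple_of_simple h.simple h.not_comm) e.symm

/-- the quotient of a group of type `2A_m` -/
theorem ty_dc (hm : 8 ≤ m) (h : TyG m A) :
    IsNonsplitDoubleCover (A ⧸ pPrimeCore 2 A) (alternatingGroup (Fin m)) :=
  dc_of_tyG hm (h.of_surj hm _ (QuotientGroup.mk'_surjective _) sb_mk)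
    (H2.pPrimeCore_quotient_pPrimeCore 2 A)

theorem TMG.not_ty (h : TMG n A) (hm : 8 ≤ m) : ¬ TyG m A := fun e => by
  have h1 := (ty_dc hm e).1
  have := h.simple
  rcases (inferInstance : (center (A ⧸ pPrimeCore 2 A)).Normal).eq_bot_or_eq_top with e | e
  · simp [e] at h1
  · rw [e, card_top, h.card] at h1
    split_ifs at h1 <;> omega

theorem ty_quasi (hm : 8 ≤ m) (h : TyG m A) : IsQuasisimple (A ⧸ pPrimeCore 2 A) := by
  obtain ⟨-, ⟨e⟩, -⟩ := ty_dc hm h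
  have hs := alternatingGroup.isSimpleGroup (α := Fin m) (by simp; omega)
  refine ⟨⟨?_⟩, e.isSimpleGroup⟩
  obtain ⟨π, h1, h2⟩ := h.of_surj hm _ (QuotientGroup.mk'_surjective (pPrimeCore 2 A)) sb_mk
  have inj : Function.Injective π := π.ker_eq_bot_iff.1
    ((sb_ker hm h1 h2).trans (H2.pPrimeCore_quotient_pPrimeCore 2 A))
  obtain ⟨u, v, huv⟩ := sb_zz hm h1
  have hA : commutator (alternatingGroup (Fin m)) = ⊤ :=
    ((inferInstance : (commutator (alternatingGroup (Fin m))).Normal).eq_bot_or_eq_top).resolve_left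
      fun e => by
        have := alternatingGroup.isMulCommutative_iff_card_le_three.1 ((commutator_eq_bot_iff _).1 e)
        simp at this; omega
  refine perfect_of_ker hA (sb_psi h1) (sb_surj h1) fun x hx => ?_
  rcases pr_eq_one (x := π x) (congrArg Subtype.val hx) with e | e
  · rw [inj (e.trans (map_one π).symm)]; exact one_mem _
  · rw [inj (e.trans huv.symm)]; exact commutator_mem_commutator (mem_top _) (mem_top _)

/-- the `2`-generated part of a subgroup that is quasisimple modulo its core -/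
theorem pgen_self (h : IsQuasisimple (L ⧸ pPrimeCore 2 L)) :
    IsPCompOf 2 (pGen 2 L) L ∧ L ≤ pGen 2 L ⊔ opp 2 L := by
  obtain ⟨K, h1, h2⟩ := exists_isPComponent (p := 2) (isComponent_top_iff.2 h)
  have h3 : K ⊔ pPrimeCore 2 L = ⊤ := by rw [← comap_map_piO, h2, comap_top]
  have h4 : K.map L.subtype = pGen 2 L := by
    rw [IsPComponent.eq_pGen_sup h1, h3, map_pGen_of_injective 2 _ L.subtype_injective,
      H24.map_subtype_top]
  refine ⟨⟨pGen_le 2 L, by rw [← h4, subgroupOf, comap_map_eq_self_of_injective L.subtype_injective]; exact h1⟩, ?_⟩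
  rw [← h4, opp, ← Subgroup.map_sup, h3, H24.map_subtype_top]

/-- coordinates for `K / O(K) ≅ M` -/
structure Co (M : Type) [Group M] (K : Subgroup G) where
  p : G → M
  mul : ∀ {a b : G}, a ∈ K → b ∈ K → p (a * b) = p a * p b
  surj : ∀ y, ∃ a ∈ K, p a = y
  one : ∀ {a : G}, a ∈ K → (p a = 1 ↔ a ∈ opp 2 K)

theorem TM.co (h : TM n K) : ∃ (M : Type) (_ : Group M) (_ : Finite M), Md n M ∧ Nonempty (Co M K) := by
  classical
  obtain ⟨M, _, _, h, π, hπ, ho⟩ := h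
  refine ⟨M, _, inferInstance, h, ⟨⟨fun g => if hg : g ∈ K then π ⟨g, hg⟩ else 1, fun {a b} ha hb => ?_,
    fun y => ?_, fun {a} ha => ?_⟩⟩⟩
  · simp only [dif_pos ha, dif_pos hb, dif_pos (mul_mem ha hb), ← map_mul]; rfl
  · obtain ⟨a, rfl⟩ := hπ y
    exact ⟨a, a.2, dif_pos a.2⟩
  · simp only [dif_pos ha]
    rw [← MonoidHom.mem_ker, h.ker_eq hπ ho, opp, ← mem_map_iff_mem K.subtype_injective]
    rfl

namespace Co
variable {M : Type} [Group M] [Finite M] (c : Co M K)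

/-- the coordinate as a homomorphism -/
def hom {D : Subgroup G} (h : D ≤ K) : D →* M :=
  MonoidHom.mk' (fun d => c.p d) fun a b => c.mul (h a.2) (h b.2)

theorem p1 : c.p 1 = 1 := map_one (c.hom le_rfl)
theorem inv (h : a ∈ K) : c.p a⁻¹ = (c.p a)⁻¹ := map_inv (c.hom le_rfl) ⟨a, h⟩
theorem cj (ha : a ∈ K) (hb : b ∈ K) : c.p (a * b * a⁻¹) = c.p a * c.p b * (c.p a)⁻¹ := by
  rw [c.mul (mul_mem ha hb) (inv_mem ha), c.mul ha hb, c.inv ha]
theorem eq (ha : a ∈ K) (hb : b ∈ K) : c.p a = c.p b ↔ a * b⁻¹ ∈ opp 2 K := by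
  rw [← c.one (mul_mem ha (inv_mem hb)), c.mul ha (inv_mem hb), c.inv hb, mul_inv_eq_one]

theorem iv (ha : a ∈ K) (h2 : orderOf a = 2) : orderOf (c.p a) = 2 :=
  iv_of (by rw [← c.mul ha ha, iv_mul h2, c.p1]) fun e =>
    iv_ne h2 (sb_odd.1 (odd_opp K) a ((c.one ha).1 e) (iv_mul h2))

theorem lift (ha : a ∈ K) (h2 : orderOf a = 2) {y : M} (hy : y ∈ C{c.p a}) :
    ∃ k ∈ K ⊓ C{a}, c.p k = y := by
  obtain ⟨k, hk, rfl⟩ := c.surj y
  obtain ⟨o, ho, e⟩ := lift_cent1 (odd_opp K) (a_sq (iv_mul h2)) (le_normalizer_opp 2 (norm_self K) ha)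
    (g := k) (by
      rw [commutatorElement_def, ← c.eq (mul_mem (mul_mem ha hk) (inv_mem ha)) hk, c.cj ha hk,
        ← H24.mem_C1.1 hy, mul_inv_cancel_right])
  exact ⟨o * k, ⟨mul_mem (opp_le 2 K ho) hk, e⟩, by
    rw [c.mul (opp_le 2 K ho) hk, (c.one (opp_le 2 K ho)).2 ho, one_mul]⟩

theorem mem_C (ha : a ∈ K) {k : G} (hk : k ∈ K ⊓ C{a}) : c.p k ∈ C{c.p a} :=
  H24.mem_C1.2 (by rw [← c.mul hk.1 ha, H24.mem_C1.1 hk.2, c.mul ha hk.1])

theorem aut (hx : x ∈ N[K]) : ∃ α : MulAut M, ∀ k ∈ K, α (c.p k) = c.p (x * k * x⁻¹) := by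
  have hs : Function.Surjective (c.hom le_rfl) := fun y =>
    let ⟨a, ha, e⟩ := c.surj y; ⟨⟨a, ha⟩, e⟩
  let e : K →* K := ((MulAut.conj x).toMonoidHom.comp K.subtype).codRestrict K
    fun k => conj_mem hx k.2
  let β := (c.hom le_rfl).liftOfSurjective hs ⟨(c.hom le_rfl).comp e, fun k hk =>
    (c.one (conj_mem hx k.2)).2 (conj_mem (normalizer_le_normalizer_opp 2 K hx) ((c.one k.2).1 hk))⟩
  have h2 : ∀ k : K, β (c.p k) = c.p (x * k * x⁻¹) := fun k =>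
    MonoidHom.liftOfRightInverse_comp_apply (c.hom le_rfl) _ _ _ k
  have h3 : Function.Surjective β := fun y => by
    obtain ⟨k, hk, rfl⟩ := c.surj y
    exact ⟨_, (h2 ⟨_, conj_mem (inv_mem hx) hk⟩).trans (congrArg c.p (by group))⟩
  exact ⟨MulEquiv.ofBijective β (Finite.injective_iff_surjective.2 h3 |> fun h => ⟨h, h3⟩),
    fun k hk => h2 ⟨k, hk⟩⟩

theorem mem_cz_iff (hx : x ∈ N[K]) : x ∈ cz K ↔ ∀ k ∈ K, c.p (x * k * x⁻¹) = c.p k := by
  rw [mem_cz, and_iff_right hx]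
  refine forall₂_congr fun k hk => ?_
  rw [eq_comm, c.eq hk (conj_mem hx hk), commutatorElement_def]
  exact iff_of_eq (congrArg (· ∈ opp 2 K) (by group))

include c in
theorem ty (h : Md n M) (ha : a ∈ K) (h2 : orderOf a = 2) :
    Ty n (K ⊓ C{a}) ∧ opp 2 (K ⊓ C{a}) ≤ opp 2 K := by
  obtain ⟨θ, h3, h4⟩ := h.cen _ (c.iv ha h2)
  let f : ↥(K ⊓ C{a}) →* C{c.p a} := (c.hom inf_le_left).codRestrict _ fun k => c.mem_C ha k.2
  have f1 : Function.Surjective f := fun y =>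
    let ⟨k, hk, e⟩ := c.lift ha h2 y.2; ⟨⟨k, hk⟩, Subtype.ext e⟩
  have f2 : ∀ k, θ (f k) = 1 → k.1 ∈ opp 2 K := fun k hk =>
    (c.one k.2.1).1 (congrArg Subtype.val ((map_eq_one_iff θ h3).1 hk))
  have f3 : (θ.comp f).range = Mn n n := by
    rw [MonoidHom.range_comp, MonoidHom.range_eq_top.2 f1, ← MonoidHom.range_eq_map, h4]
  refine ⟨⟨θ.comp f, f3, sb_odd.2 fun k hk e => Subtype.ext
    (sb_odd.1 (odd_opp K) _ (f2 k hk) (congrArg Subtype.val e))⟩, ?_⟩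
  rintro _ ⟨k, hk, rfl⟩
  exact f2 k (sb_le_ker h.h8 f3 (cop_two_iff_odd.1 (H2.pPrimeCore_coprime 2 _)) hk)

end Co

theorem TM.ty (h : TM n K) (ha : a ∈ K) (h2 : orderOf a = 2) :
    Ty n (K ⊓ C{a}) ∧ opp 2 (K ⊓ C{a}) ≤ opp 2 K := by
  obtain ⟨M, _, _, h, ⟨c⟩⟩ := h.co
  exact c.ty h ha h2

theorem jc_le (K : Subgroup G) (a : G) : Jc K a ≤ K := (pGen_le 2 _).trans inf_le_left
theorem jc_le_C (K : Subgroup G) (a : G) : Jc K a ≤ C{a} := (pGen_le 2 _).trans inf_le_right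
theorem jc_norm (hx : x ∈ N[K]) (hxa : x ∈ C{a}) : x ∈ N[Jc K a] :=
  normalizer_le_normalizer_pGen 2 _ (norm_inf (zpowers_le.2 hx)
    ((zpowers_le.2 hxa).trans (norm_self _)) (mem_zpowers x))

theorem TM.cover' (h : TM n K) (ha : a ∈ K) (h2 : orderOf a = 2) :
    K ⊓ C{a} ≤ Jc K a ⊔ opp 2 (K ⊓ C{a}) := (pgen_self (ty_quasi h.h8 (h.ty ha h2).1)).2

theorem TM.cover (h : TM n K) (ha : a ∈ K) (h2 : orderOf a = 2) :
    K ⊓ C{a} ≤ Jc K a ⊔ opp 2 K := (h.cover' ha h2).trans (sup_le_sup_left (h.ty ha h2).2 _)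

theorem TM.opp_jc (h : TM n K) (ha : a ∈ K) (h2 : orderOf a = 2) : opp 2 (Jc K a) ≤ opp 2 K :=
  (opp_le_of_cover (pGen_le 2 _) (h.cover' ha h2)).trans (h.ty ha h2).2

theorem TM.pc (h : TM n K) (hK : IsPCompOf 2 K H) (ha : a ∈ K) (h2 : orderOf a = 2) :
    Pc n (H ⊓ C{a}) a (Jc K a) := by
  refine ⟨h2, mem_pGen ⟨ha, H24.mem_C1.2 rfl⟩ (a_sq (iv_mul h2)),
    (pgen_self (ty_quasi h.h8 (h.ty ha h2).1)).1.trans (inf_le_inf_right _ hK.1) ?_, inf_le_right,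
    ty_of_le h.h8 (h.ty ha h2).1 (pGen_le 2 _) (h.cover' ha h2)⟩
  have := isSubnormal_subgroupOf_of_le (pcomp_subnormal hK) (inf_le_left : H ⊓ C{a} ≤ H)
  convert this using 1
  ext x
  exact ⟨fun h => h.1, fun h => ⟨h, x.2.2⟩⟩

theorem TM.conj (h : TM n K) (ha : a ∈ K) (h2 : orderOf a = 2) (hb : b ∈ K) (h3 : orderOf b = 2) :
    ∃ k ∈ K, k * a * k⁻¹ = b := by
  obtain ⟨M, _, _, h, ⟨c⟩⟩ := h.co
  obtain ⟨y, e⟩ := isConj_iff.1 (h.conj _ _ (c.iv ha h2) (c.iv hb h3))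
  obtain ⟨k, hk, rfl⟩ := c.surj y
  rw [← c.cj hk ha, c.eq (mul_mem (mul_mem hk ha) (inv_mem hk)) hb, iv_inv (iv_mul h3)] at e
  obtain ⟨o, ho, e⟩ := dh0 (odd_opp K) (iv_mul (iv_conj h2 k)) (iv_mul h3) e
  exact ⟨o * k, mul_mem (opp_le 2 K ho) hk, by rw [← e]; group⟩

theorem Co.fix {M : Type} [Group M] [Finite M] (c : Co M K) (h : TM n K) (ha : a ∈ K)
    (h2 : orderOf a = 2) (hx : x ∈ N[K]) (hc : x ∈ cz (Jc K a)) {k : G} (hk : k ∈ K ⊓ C{a}) :
    c.p (x * k * x⁻¹) = c.p k := by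
  have hO : K ≤ N[opp 2 K] := le_normalizer_opp 2 (norm_self K)
  have : ⁅zpowers x, Jc K a ⊔ opp 2 K⁆ ≤ opp 2 K := comm_sup_le
    (by
      rw [commC]
      exact ((commutator_mono le_rfl (zpowers_le.2 hc)).trans (t2_comm_le _)).trans (h.opp_jc ha h2))
    (comm_le_right (le_normalizer_opp 2 (zpowers_le.2 hx))) ((jc_le K a).trans hO) (norm_self _)
  exact (c.eq (conj_mem hx hk.1) hk.1).2
    (this (commutator_mem_commutator (mem_zpowers x) (h.cover ha h2 hk)))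

theorem TM.rigid (h : TM n K) (ha : a ∈ K) (h2 : orderOf a = 2) (hx : x ∈ N[K])
    (hc : x ∈ cz (Jc K a)) : x ∈ cz K ∨ x * a ∈ cz K := by
  obtain ⟨M, _, _, h', ⟨c⟩⟩ := h.co
  obtain ⟨α, hα⟩ := c.aut hx
  rcases h'.rigid _ (c.iv ha h2) α (fun y hy => by
    obtain ⟨k, hk, rfl⟩ := c.lift ha h2 hy
    rw [hα k hk.1, c.fix h ha h2 hx hc hk]) with rfl | rfl
  · exact .inl ((c.mem_cz_iff hx).2 fun k hk => (hα k hk).symm)
  · refine .inr ((c.mem_cz_iff (mul_mem hx (norm_self K ha))).2 fun k hk => ?_)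
    have e := hα _ (conj_mem (norm_self K ha) hk)
    rw [c.cj ha hk, MulAut.conj_apply, show ∀ u v : M, u * (u * v * u⁻¹) * u⁻¹ = (u * u) * v * (u * u)⁻¹
      from fun u v => by group, iv_mul (c.iv ha h2)] at e
    rw [show x * a * k * (x * a)⁻¹ = x * (a * k * a⁻¹) * x⁻¹ by group, ← e]
    group

theorem TM.even11 (h : TM n K) (hn : n = 11) (ha : a ∈ K) (h2 : orderOf a = 2) (hx : x ∈ N[K])
    (hxa : x ∈ C{a}) : ∃ k ∈ Jc K a, x * k⁻¹ ∈ cz (Jc K a) := by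
  obtain ⟨M, _, _, h', ⟨c⟩⟩ := h.co
  obtain ⟨α, hα⟩ := c.aut hx
  obtain ⟨y, hy, e⟩ := h'.even hn _ (c.iv ha h2) α (by
    rw [hα a ha, H24.mem_C1.1 hxa, mul_inv_cancel_right])
  obtain ⟨k, hk, rfl⟩ := c.lift ha h2 hy
  have hO : Jc K a ≤ N[opp 2 K] := (jc_le K a).trans (le_normalizer_opp 2 (norm_self K))
  obtain ⟨j, hj, o, ho, rfl⟩ := (mem_sup_of_norm' hO).1 (h.cover ha h2 hk)
  have hjK := jc_le K a hj
  have hN : x * j⁻¹ ∈ N[Jc K a] := mul_mem (jc_norm hx hxa) (inv_mem (norm_self _ hj))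
  refine ⟨j, hj, mem_cz.2 ⟨hN, fun l hl => ?_⟩⟩
  have m : ⁅l, x * j⁻¹⁆ ∈ Jc K a := t2_comm hN hl
  have hK : IsPCompOf 2 (Jc K a) (K ⊓ C{a}) := (pgen_self (ty_quasi h.h8 (h.ty ha h2).1)).1
  have m2 : ⁅l, x * j⁻¹⁆ ∈ opp 2 K := by
    have l1 : j⁻¹ * l * j⁻¹⁻¹ ∈ Jc K a := mul_mem (mul_mem (inv_mem hj) hl) (inv_mem (inv_mem hj))
    have l2 := jc_le K a l1
    have e1 := e _ (c.mem_C ha (pGen_le 2 _ l1))
    rw [hα _ l2, c.mul hjK (opp_le 2 K ho), (c.one (opp_le 2 K ho)).2 ho, mul_one, ← c.cj hjK l2,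
      eq_comm, c.eq (conj_mem (norm_self K hjK) l2) (conj_mem hx l2)] at e1
    convert e1 using 1
    rw [commutatorElement_def]; group
  rw [pcomp_opp_eq hK]
  exact ⟨opp_inf_le' K _ ⟨m2, jc_le_C K a m⟩, m⟩

end H4.NMM
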