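import Mathlib
import Cfsg.Agent.H5.LySE
import Cfsg.Agent.H5.LyI

/-!
# Groups with an involution centraliser `2A₈` or `2A₁₁`: one class, rigid centraliser, and the
passage from `2A₁₁` to `2A₈`
-/

set_option autoImplicit false
set_option maxRecDepth 100000

open Subgroup Equiv H29 H9.MX H5 H5.Ly

namespace H4.NMM

section general

variable {X : Type*} [Group X] {n : ℕ} (c : Cf X n)

theorem fuse_inv {σ : X} (hσ : c.Np σ) {w : X} (a1 : w * w = 1) (a2 : w ≠ 1)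
    (a3 : w * c.g 8 = c.g 8 * w) : ∃ h : X, h * c.g 8 * h⁻¹ = w := by
  obtain ⟨u, hu, rfl⟩ := c.cen1 a3
  rcases inv_cases c.h8 c.h11 hu (by rw [← sq]; exact c.pow_lf hu (by rw [sq]; exact a1))
    (by rintro rfl; exact a2 c.lf_one) with rfl | ⟨x, hx, e⟩
  · exact ⟨1, by rw [c.g_eight, one_mul, inv_one, mul_one, c.lf_eq (zz_mem n)]; rfl⟩
  · refine ⟨(c.lf x)⁻¹ * σ, ?_⟩
    calc _ = (c.lf x)⁻¹ * (σ * c.g 8 * σ⁻¹) * c.lf x := by group
      _ = _ := by
        rw [hσ.1, Cf.g, ← e, c.lf_mul (mul_mem hx hu) (inv_mem hx), c.lf_mul hx hu, c.lf_inv hx]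
        group

/-- one class of involutions -/
theorem one_cls [Finite X] {σ : X} (hσ : c.Np σ) {u : X} (hu : orderOf u = 2) : IsConj c.z u := by
  obtain ⟨h, -, e⟩ := one_class (H := ⊤) (z := c.g 8) (mem_top _) (c.g_mul_self 8)
    (fun w _ a1 a2 a3 => let ⟨h, e⟩ := fuse_inv c hσ a1 a2 a3; ⟨h, mem_top _, e⟩) (mem_top u)
    (by rw [← sq, ← hu, pow_orderOf_eq_one]) (by rintro rfl; simp at hu)
  rw [← c.g_eight]
  exact isConj_iff.2 ⟨h, e⟩

/-- the centre of the centraliser of the four-group -/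
theorem cen_CV {u : X} (h : ∀ x, c.CV x → u * x = x * u) : ∃ w ∈ WV, u = ev c.g w := by
  have cv : ∀ k ∈ [0, 1, 2, 3, 8, 9], c.CV (c.g k) := by
    have key : ∀ k ∈ [0, 1, 2, 3, 8, 9], evC lc [k, 8] c1 = evC lc [8, k] c1 ∧
        evC lc [k, 9] c1 = evC lc [9, k] c1 := by decide +kernel
    intro k hk
    exact ⟨by simpa using c.eqw _ _ (key k hk).1, by simpa using c.eqw _ _ (key k hk).2⟩
  obtain ⟨w, hw, e, he, rfl⟩ := Cf.cenR (c := c) (x := u) fun k hk => by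
    rw [h _ (cv k hk), mul_inv_cancel_right]
  refine ⟨w, hw, ?_⟩
  suffices c.Y ^ e = 1 by rw [this, one_mul]
  by_cases h10 : n ≤ 10
  · by_cases hy : yy ∈ Mn 11 n
    · have h2 := congrArg Fin.val (hy.2 10 h10)
      rw [yy, app_ec val_cy] at h2
      exact absurd h2 (by decide +kernel)
    · rw [Cf.Y, c.lf_not hy, one_pow]
  have h10' : 10 ≤ n := by omega
  have i8 := Cf.I_g (c := c) h10' (k := 8) (by decide)
  have i9 := Cf.I_g (c := c) h10' (k := 9) (by decide)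
  have iY := Cf.I_Y (c := c) h10'
  simp only [show nth [] fI 8 = [8] by decide, show nth [] fI 9 = [9] by decide, ev_cons, ev_nil,
    mul_one] at i8 i9
  generalize c.lf (ec ci) = I at i8 i9 iY
  have hI : c.CV I := ⟨mul_inv_eq_iff_eq_mul.1 i8, mul_inv_eq_iff_eq_mul.1 i9⟩
  have hw' : I * ev c.g w = ev c.g w * I := by
    simp only [WV, List.mem_cons, List.not_mem_nil, or_false] at hw
    rcases hw with rfl | rfl | rfl | rfl <;> simp only [ev_cons, ev_nil, mul_one, one_mul]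
    · exact hI.1
    · exact hI.2
    · rw [← mul_assoc, hI.1, mul_assoc, hI.2, mul_assoc]
  have h1 := h I hI
  rw [mul_assoc, ← hw', ← mul_assoc, ← mul_assoc, mul_left_inj] at h1
  have h2 : I * c.Y ^ e * I⁻¹ = (c.Y ^ e)⁻¹ := by rw [← conj_pow, iY, inv_pow]
  rw [← h1, mul_inv_cancel_right, eq_inv_iff_mul_eq_one] at h2
  have h3 : (c.Y ^ e) ^ 3 = 1 := by rw [← pow_mul, mul_comm, pow_mul, c.Y_cube, one_pow]
  rwa [pow_succ, sq, h2, one_mul] at h3

theorem fix_top [Finite X] {σ : X} (hσ : c.Np σ) {α : MulAut X} (h : ∀ x, α (c.ψ x) = c.ψ x)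
    (h1 : α σ = σ) : α = 1 := by
  have := c.top_of (H := α.toMonoidHom.eqLocus (MonoidHom.id X)) (fun x hx => by
    rw [c.lf_eq hx]; exact h _) (σ := σ) h1 hσ.1
  ext x
  exact (this ▸ mem_top x : x ∈ α.toMonoidHom.eqLocus (MonoidHom.id X))

/-- an automorphism centralising the centraliser of `z` is `1` or `z` -/
theorem aut_rigid [Finite X] {σ : X} (hσ : c.Np σ) (α : MulAut X) (h : ∀ x, α (c.ψ x) = c.ψ x) :
    α = 1 ∨ α = MulAut.conj c.z := by
  have f : ∀ {x}, x * c.g 8 = c.g 8 * x → α x = x := fun hx => by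
    obtain ⟨u, hu, rfl⟩ := c.cen1 hx
    rw [c.lf_eq hu]; exact h _
  have zt := c.z_t
  have s8 := c.g_mul_self 8
  have s9 := c.g_mul_self 9
  have f8 : α (c.g 8) = c.g 8 := f rfl
  have f9 : α (c.g 9) = c.g 9 := f zt.symm
  have p1 : σ⁻¹ * c.g 9 * σ = c.g 8 := by rw [← hσ.1]; group
  have p3 : σ * (c.g 8 * c.g 9) * σ⁻¹ = c.g 8 := by
    calc _ = (σ * c.g 8 * σ⁻¹) * (σ * c.g 9 * σ⁻¹) := by group
      _ = _ := by rw [hσ.1, hσ.2, zt, ← mul_assoc, s9, one_mul]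
  have p2 : σ⁻¹ * c.g 8 * σ = c.g 8 * c.g 9 := by nth_rewrite 1 [← p3]; group
  obtain ⟨u, hu⟩ : ∃ u, α σ = σ * u := ⟨σ⁻¹ * α σ, by group⟩
  have cu : ∀ x, c.CV x → u * x = x * u := fun x hx => by
    have a : σ * x * σ⁻¹ * c.g 8 = c.g 8 * (σ * x * σ⁻¹) := by
      rw [← p3]
      calc _ = σ * (x * c.g 8 * c.g 9) * σ⁻¹ := by group
        _ = _ := by rw [hx.1, mul_assoc (c.g 8), hx.2]; group
    have b := f a
    rw [map_mul, map_mul, map_inv, hu, f hx.1] at b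
    calc _ = σ⁻¹ * (σ * u * x * (σ * u)⁻¹) * σ * u := by group
      _ = _ := by rw [b]; group
  obtain ⟨w, hw, rfl⟩ := cen_CV c cu
  have q8 : c.g 4 * c.g 8 * (c.g 4)⁻¹ = c.g 8 := by
    simpa using c.conj_eqw [4] [8] [8] (by decide +kernel)
  have q9 : c.g 4 * c.g 9 * (c.g 4)⁻¹ = c.g 8 * c.g 9 := by
    simpa using c.conj_eqw [4] [9] [8, 9] (by decide +kernel)
  have f4 : α (c.g 4) = c.g 4 := f (mul_inv_eq_iff_eq_mul.1 q8)
  -- `τ = g 4 * σ` fixes `g 9` and moves `g 8`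
  have t8 : c.g 4 * σ * c.g 8 * (c.g 4 * σ)⁻¹ = c.g 8 * c.g 9 := by
    rw [← q9, ← hσ.1]; group
  have t9 : c.g 4 * σ * c.g 9 * (c.g 4 * σ)⁻¹ = c.g 9 := by
    calc _ = c.g 4 * (σ * c.g 9 * σ⁻¹) * (c.g 4)⁻¹ := by group
      _ = (c.g 4 * c.g 8 * (c.g 4)⁻¹) * (c.g 4 * c.g 9 * (c.g 4)⁻¹) := by rw [hσ.2]; group
      _ = _ := by rw [q8, q9, ← mul_assoc, s8, one_mul]
  have aτ : α (c.g 4 * σ) = c.g 4 * σ * ev c.g w := by rw [map_mul, f4, hu, mul_assoc]
  generalize c.g 4 * σ = τ at t8 t9 aτ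
  have b := f (x := τ * τ) (by
    rw [← mul_inv_eq_iff_eq_mul]
    calc _ = τ * (τ * c.g 8 * τ⁻¹) * τ⁻¹ := by group
      _ = τ * (c.g 8 * c.g 9) * τ⁻¹ := by rw [t8]
      _ = (τ * c.g 8 * τ⁻¹) * (τ * c.g 9 * τ⁻¹) := by group
      _ = _ := by rw [t8, t9, mul_assoc, s9, mul_one])
  rw [map_mul, aτ] at b
  have b' : τ * (ev c.g w)⁻¹ * τ⁻¹ = ev c.g w := by
    calc _ = τ⁻¹ * (τ * τ) * (ev c.g w)⁻¹ * τ⁻¹ := by group
      _ = _ := by rw [← b]; group
  have n9 : c.g 9 ≠ 1 := fun e => by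
    have := hσ.1
    rw [e, conj_eq_one_iff, c.g_eight] at this
    exact c.z_ne this
  simp only [WV, List.mem_cons, List.not_mem_nil, or_false] at hw
  rcases hw with rfl | rfl | rfl | rfl <;> simp only [ev_cons, ev_nil, mul_one] at hu b'
  · exact .inl (fix_top c hσ h hu)
  · rw [c.g_inv, t8] at b'
    exact absurd (mul_eq_left.1 b') n9
  · right
    have := fix_top c hσ (α := (MulAut.conj c.z)⁻¹ * α) (fun x => by
      simp only [MulAut.mul_apply, h, MulAut.conj_inv_apply]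
      rw [mul_assoc, c.comm_z, inv_mul_cancel_left]) (by
      simp only [MulAut.mul_apply, hu, MulAut.conj_inv_apply]
      rw [← c.g_eight, c.g_inv]
      calc _ = σ * (σ⁻¹ * c.g 8 * σ) * c.g 9 * c.g 8 := by group
        _ = _ := by rw [p2, mul_assoc σ, mul_assoc (c.g 8), s9, mul_one, mul_assoc, s8, mul_one])
    exact (inv_mul_eq_one.1 this).symm
  · rw [mul_inv_rev, c.g_inv, c.g_inv, ← zt,
      show τ * (c.g 8 * c.g 9) * τ⁻¹ = (τ * c.g 8 * τ⁻¹) * (τ * c.g 9 * τ⁻¹) by group, t8, t9] at b'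
    exact absurd (mul_eq_left.1 b') n9

end general

theorem zp3 {G : Type*} [Group G] {y x : G} (h : y ^ 3 = 1) (hx : x ∈ zpowers y) :
    x = 1 ∨ x = y ∨ x = y⁻¹ := by
  obtain ⟨k, rfl⟩ := hx
  have e : y ^ k = y ^ (k % 3) := by
    conv_lhs => rw [← Int.mul_ediv_add_emod k 3, zpow_add, zpow_mul]
    rw [show y ^ (3 : ℤ) = 1 from by exact_mod_cast h, one_zpow, one_mul]
  have : k % 3 = 0 ∨ k % 3 = 1 ∨ k % 3 = 2 := by omega
  change y ^ k = 1 ∨ y ^ k = y ∨ y ^ k = y⁻¹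
  rw [e]
  rcases this with h1 | h1 | h1 <;> rw [h1]
  · simp
  · simp
  · exact .inr (.inr (eq_inv_of_mul_eq_one_left (by rw [← h]; group)))

theorem yy_not : yy ∉ Mn 11 8 := fun hy => by
  have h2 := congrArg Fin.val (hy.2 10 (by decide))
  rw [yy, app_ec val_cy] at h2
  exact absurd h2 (by decide +kernel)

/-- the McLaughlin group inside a group with involution centraliser `2A₁₁` -/
theorem mcl_cf {X : Type} [Group X] [Finite X] (c : Cf X 11) {σ : X} (hσ : c.Np σ) :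
    Nonempty (Cf McP.S 8) := by
  obtain ⟨e, -, b, h⟩ := Cf.step4 hσ
  obtain ⟨b, h, hb⟩ := Cf.step5 h
  have ym : yy ∈ Mn 11 11 := inM_mem (by decide +kernel)
  set W := gen (c.EE e b) McP.cols with hW
  have hWY : ∀ g ∈ W, g * c.Y = c.Y * g := by
    have : W ≤ centralizer {c.Y} := gen_le.2 fun k hk => by
      rw [mem_centralizer_singleton_iff]
      have key : ∀ k ∈ McP.cols, k < 10 ∨ k = 10 ∨ k = 11 ∨ k = 12 := by decide
      rcases key k hk with h1 | rfl | rfl | rfl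
      · rw [c.EE_lt e b h1, c.Y_comm]
      · rw [c.EE_10]; exact mul_inv_eq_iff_eq_mul.1 h.aY
      · rw [c.EE_11]; exact (Commute.pow_self _ _).eq
      · rw [c.EE_12]; exact (Commute.pow_self _ _).inv_left.eq
    exact fun g hg => mem_centralizer_singleton_iff.1 (this hg)
  have hc : ∀ g ∈ W, ∀ x ∈ zpowers c.Y, g * x = x * g := by
    rintro g hg _ ⟨k, rfl⟩
    exact (Commute.zpow_right (hWY g hg) k).eq
  have hE : ∀ k, c.EE e b k ∈ W := fun k => by
    by_cases hk : k < 13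
    · exact mem_gen (by revert k; decide)
    · rw [Cf.EE, if_neg (by omega), if_neg (by omega), if_neg (by omega), if_neg (by omega)]
      exact one_mem _
  let e' : ℕ → W := fun k => ⟨_, hE k⟩
  let Z : Subgroup W := (zpowers c.Y).subgroupOf W
  have hn : Z.Normal := ⟨fun x hx g => by
    have : g * x = x * g := Subtype.ext (hc g g.2 x hx)
    rwa [this, mul_inv_cancel_right]⟩
  have odd : ∀ {x : X}, x ∈ zpowers c.Y → x * x = 1 → x = 1 := fun {x} hx h2 => by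
    have h3 : x ^ 3 = 1 := by
      obtain ⟨k, rfl⟩ := hx
      change (c.Y ^ k) ^ 3 = 1
      rw [← zpow_natCast, ← zpow_mul, mul_comm, zpow_mul, zpow_natCast, c.Y_cube, one_zpow]
    rwa [pow_succ, sq, h2, one_mul] at h3
  have ok : McP.Ok fun k => QuotientGroup.mk' Z (e' k) :=
    ⟨ivOK_map _ fun k => Subtype.ext (c.EE_iv e hb k), rels_map _ fun r hr => by
        rw [show ev e' r = 1 from Subtype.ext (by
          rw [← coe_subtype, map_ev, map_one]; exact h.rels hb r hr)]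
        exact one_mem _,
      (QuotientGroup.eq_one_iff _).2 (by
        change c.EE e b 11 ∈ zpowers c.Y
        rw [c.EE_11]; exact pow_mem (mem_zpowers _) _), fun h1 => by
        have h2 : c.EE e b 8 ∈ zpowers c.Y := (QuotientGroup.eq_one_iff (N := Z) (e' 8)).1 h1
        rw [c.EE_lt e b (by decide)] at h2
        exact c.g_ne_one (odd h2 (c.g_mul_self 8))⟩
  obtain ⟨f, f1, f2, -⟩ := ok.emb
  have f3 : Function.Surjective f := by
    rw [← MonoidHom.range_eq_top, f2, ← map_gen, show gen e' McP.cols = ⊤ from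
      map_injective W.subtype_injective (by rw [map_gen, ← MonoidHom.range_eq_map, range_subtype]; rfl)]
    exact map_top_of_surjective _ (QuotientGroup.mk'_surjective _)
  have m8 : Mn 11 8 ≤ Mn 11 11 := Mn_mono (by decide)
  let ι : Mn 11 8 →* W := (c.ψ.comp (inclusion m8)).codRestrict W fun x => by
    have := Cf.lf_mem_gen (c := c) (e := e) (b := b) x.2
    rwa [c.lf_eq (m8 x.2)] at this
  have ιv : ∀ x : Mn 11 8, (ι x : X) = c.lf x := fun x => (c.lf_eq (m8 x.2)).symm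
  have ιz : (ι ⟨zz, zz_mem 8⟩ : X) = c.g 8 := by rw [c.g_eight]; rfl
  let c0 : Cfg (W ⧸ Z) 11 8 := ⟨(QuotientGroup.mk' Z).comp ι, by
    rw [injective_iff_map_eq_one]
    intro x hx
    have h1 : (ι x : X) ∈ zpowers c.Y := (QuotientGroup.eq_one_iff (N := Z) (ι x)).1 hx
    rw [ιv] at h1
    rcases zp3 c.Y_cube h1 with h2 | h2 | h2
    · exact Subtype.ext (c.lf_inj (m8 x.2) (one_mem _) (h2.trans c.lf_one.symm))
    · exact absurd (c.lf_inj (m8 x.2) ym h2 ▸ x.2) yy_not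
    · rw [Cf.Y, ← c.lf_inv ym] at h2
      exact absurd (inv_mem_iff.1 (c.lf_inj (m8 x.2) (inv_mem ym) h2 ▸ x.2)) yy_not, by
    intro g hg
    obtain ⟨g, rfl⟩ := QuotientGroup.mk'_surjective Z g
    have h1 : ((g * ι ⟨zz, zz_mem 8⟩)⁻¹ * (ι ⟨zz, zz_mem 8⟩ * g) : W) ∈ Z := by
      rw [← QuotientGroup.eq]
      simpa using hg
    have h2 : ((g : X) * c.g 8)⁻¹ * (c.g 8 * g) ∈ zpowers c.Y := by rw [← ιz]; exact h1
    have z8 : c.g 8 ∈ W := ιz ▸ (ι _).2
    have h3 := odd h2 (by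
      have a := hc _ z8 _ h2
      have s := c.g_mul_self 8
      have i := c.g_inv 8
      generalize c.g 8 = z at a s i
      rw [mul_inv_rev, i] at a ⊢
      calc _ = z * ((g : X)⁻¹ * z * g) * (z * ((g : X)⁻¹ * z * g)) := by group
        _ = (z * (g : X)⁻¹ * (z * g) * z) * ((g : X)⁻¹ * z * g) := by group
        _ = (z * z) * (g : X)⁻¹ * (z * g) * ((g : X)⁻¹ * z * g) := by rw [← a]; group
        _ = (g : X)⁻¹ * (z * z) * g := by nth_rewrite 1 [s]; group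
        _ = 1 := by rw [s]; group)
    obtain ⟨u, hu, e1⟩ := c.cen1 (inv_mul_eq_one.1 h3)
    obtain ⟨k, -, hk⟩ := cen_yy hu (c.comm_lf hu ym (e1 ▸ hWY g g.2))
    refine ⟨⟨_, hk⟩, QuotientGroup.eq.2 ?_⟩
    change ((ι ⟨_, hk⟩ : X))⁻¹ * g ∈ zpowers c.Y
    rw [ιv, c.lf_mul hu (inv_mem (pow_mem ym k)), c.lf_inv (pow_mem ym k), c.lf_pow ym, e1]
    simp [Cf.Y]⟩
  exact ⟨⟨c0.map (MulEquiv.ofBijective f ⟨f1, f3⟩).symm, le_rfl, by decide⟩⟩

end H4.NMM
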