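import Mathlib
import Cfsg.Agent.H4.NMM1
import Cfsg.Agent.H19.Ly.Cent

/-!
# The involution centralisers of `McL` and `Ly`
-/

set_option autoImplicit false

open Subgroup H29 H5 H5.Ly

namespace H4.NMM

/-- transport of the configuration -/
noncomputable def cfMap {X Y : Type*} [Group X] [Group Y] {n : ℕ} (c : Cf X n) (φ : X ≃* Y) :
    Cf Y n := ⟨c.toCfg.map φ, c.h8, c.h11⟩

theorem lf_map {X Y : Type*} [Group X] [Group Y] {n : ℕ} (c : Cf X n) (φ : X ≃* Y) (x : PP 11) :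
    (cfMap c φ).lf x = φ (c.lf x) := by
  by_cases h : x ∈ Mn 11 n
  · rw [Cf.lf_eq _ h, c.lf_eq h]; rfl
  · rw [Cf.lf_not _ h, c.lf_not h, map_one]

theorem np_map {X Y : Type*} [Group X] [Group Y] {n : ℕ} (c : Cf X n) (φ : X ≃* Y) {σ : X}
    (h : c.Np σ) : (cfMap c φ).Np (φ σ) := by
  simp only [Cf.Np, Cf.g, lf_map, ← map_inv, ← map_mul, φ.apply_eq_iff_eq]
  exact h

theorem ly_cf : ∃ (X : Type) (_ : Group X) (_ : Finite X) (_ : H19.Ly.P.G ≃* X) (c : Cf X 11),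
    ∃ σ, c.Np σ := by
  have : Finite H19.Ly.P.G := Nat.finite_of_card_ne_zero (by rw [H19.Ly.card]; norm_num)
  have := H19.Ly.simple
  obtain ⟨g, h1, h2⟩ := not_isolated H19.Ly.cent_t.1 H19.Ly.cent_t.2.2
  obtain ⟨X, _, _, φ, c, -, h⟩ := exists_cf (by decide) H19.Ly.cent_t.1 H19.Ly.cent_t.2.2 h1 h2
  exact ⟨X, _, inferInstance, φ, c, h⟩

theorem np_of_simple {M : Type*} [Group M] [Finite M] [IsSimpleGroup M] {n : ℕ} (c : Cf M n) :
    ∃ σ, c.Np σ := by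
  have hz : orderOf c.z = 2 := orderOf_eq_prime (by rw [sq, c.z_mul_z]) c.z_ne
  by_contra hn
  have iso : ∀ g : M, g * c.z * g⁻¹ * c.z = c.z * (g * c.z * g⁻¹) → g * c.z * g⁻¹ = c.z :=
    fun g h1 => by_contra fun h2 => hn (c.exists_np h1 h2)
  have hO : Cfsg.pPrimeCore 2 M = ⊥ := by
    refine (IsSimpleGroup.eq_bot_or_eq_top_of_normal _ inferInstance).resolve_right fun h1 => ?_
    have h2 := H17.odd_card_pPrimeCore (G := M)
    rw [h1, card_top] at h2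
    exact (Nat.not_even_iff_odd.2 h2) (even_iff_two_dvd.2 (hz ▸ orderOf_dvd_natCard c.z))
  have hc : c.z ∈ center M := mem_center_iff.2 fun g =>
    (H17.zstar_central hO ⟨hz, fun g hg => iso g hg.symm⟩ g).symm
  have h1 : center M = ⊤ := (IsSimpleGroup.eq_bot_or_eq_top_of_normal _ inferInstance).resolve_left
    fun h1 => c.z_ne (by rwa [h1, mem_bot] at hc)
  have h2 := c.ac_sq
  rw [sq, mul_assoc, mem_center_iff.1 (h1 ▸ mem_top (c.g 0 * c.g 2)) (c.g 2), mul_assoc,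
    c.g_mul_self, mul_one, c.g_mul_self] at h2
  exact c.g_ne_one h2.symm

theorem model {M : Type*} [Group M] [Finite M] (h : Cfsg.Spor.IsoMcL M ∨ Cfsg.Spor.IsoLy M) :
    IsSimpleGroup M ∧ ∃ n, (n = 8 ∧ Cfsg.Spor.IsoMcL M ∨ n = 11 ∧ Cfsg.Spor.IsoLy M) ∧
      ∃ c : Cf M n, (∃ σ, c.Np σ) ∧ (∀ u : M, orderOf u = 2 → IsConj c.z u) ∧
        ∀ α : MulAut M, (∀ x, α (c.ψ x) = c.ψ x) → α = 1 ∨ α = MulAut.conj c.z := by
  obtain ⟨X, _, _, φ, c, σ, hσ⟩ := ly_cf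
  rcases h with h | h
  · obtain ⟨c'⟩ := mcl_cf c hσ
    obtain ⟨e⟩ := id h
    obtain ⟨f⟩ := McP.iso_mcl
    have := McP.simple
    have hs : IsSimpleGroup M := (f.trans e.symm).symm.isSimpleGroup
    obtain ⟨τ, hτ⟩ := np_of_simple (cfMap c' (f.trans e.symm))
    exact ⟨hs, 8, .inl ⟨rfl, h⟩, _, ⟨τ, hτ⟩, fun u hu => one_cls _ hτ hu, aut_rigid _ hτ⟩
  · obtain ⟨e⟩ := id h
    have := H19.Ly.simple
    have hτ := np_map c (φ.symm.trans (show H19.Ly.P.G ≃* M from e.symm)) hσ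
    exact ⟨(show M ≃* H19.Ly.P.G from e).isSimpleGroup, 11, .inr ⟨rfl, h⟩, _, ⟨_, hτ⟩,
      fun u hu => one_cls _ hτ hu, aut_rigid _ hτ⟩

end H4.NMM
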