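import Mathlib
import Cfsg.Agent.H4.NMM
import Cfsg.Agent.H4.NMB
import Cfsg.Agent.H5.LyG

/-!
# `McL` and `Ly` are of type `8` and `11`
-/

set_option autoImplicit false
set_option maxRecDepth 100000

open Subgroup Equiv Equiv.Perm Cfsg H29 H5 H5.Ly H20.So

namespace H4.NMM

theorem mn_equiv {n : ℕ} (hn : n = 8 ∨ n = 11) : Nonempty (Mn n n ≃* Mn 11 n) := by
  rcases hn with rfl | rfl
  · obtain ⟨π, h1, h2⟩ := exists_proj (N := 11) (n := 8) (by decide)
    have hk : π.ker = zpowers (⟨zz, zz_mem 8⟩ : Mn 11 8) := by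
      refine le_antisymm (fun x hx => ?_) (zpowers_le.2 ?_)
      · have := h2 x
        rw [show π x = 1 from hx, OneMemClass.coe_one, extendDomain_one] at this
        rcases pr_eq_one this.symm with e | e
        · rw [show x = 1 from Subtype.ext e]; exact one_mem _
        · rw [show x = ⟨zz, zz_mem 8⟩ from Subtype.ext e]; exact mem_zpowers _
      · exact Subtype.ext (extendDomainHom_injective (fstEquiv (N := 11) (n := 8) (by decide))
          ((h2 _).trans (map_one _).symm))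
    have hc : (⟨zz, zz_mem 8⟩ : Mn 11 8) ∈ center _ :=
      mem_center_iff.2 fun y => Subtype.ext (zz_comm _).symm
    have h1' : (⟨zz, zz_mem 8⟩ : Mn 11 8) ≠ 1 := fun e => zz_ne (congrArg Subtype.val e)
    have : (zpowers (⟨zz, zz_mem 8⟩ : Mn 11 8)).Normal := hk ▸ inferInstance
    obtain ⟨θ, -⟩ := exists_theta (N := 8) le_rfl le_rfl (H6.exists_two_involutions_of_cover hc
      (iv_of (Subtype.ext zz_mul_zz) h1') (zz_mem_comm (by decide) (by decide))
      ((QuotientGroup.quotientMulEquivOfEq hk.symm).trans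
        (QuotientGroup.quotientKerEquivOfSurjective π h1))).1 h1' hc
    exact ⟨θ⟩
  · exact ⟨.refl _⟩

theorem cen_cf {X : Type*} [Group X] {n : ℕ} (hn : n = 8 ∨ n = 11) (c : Cf X n) :
    ∃ θ : centralizer {c.z} →* PP n, Function.Injective θ ∧ θ.range = Mn n n := by
  obtain ⟨e⟩ := mn_equiv hn
  let f : Mn 11 n ≃* centralizer {c.z} := MulEquiv.ofBijective
    (c.ψ.codRestrict _ fun x => mem_centralizer_singleton_iff.2 (c.comm_z x))
    ⟨fun a b h => c.inj (congrArg Subtype.val h), fun g =>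
      let ⟨x, hx⟩ := c.rng g.1 (mem_centralizer_singleton_iff.1 g.2); ⟨x, Subtype.ext hx⟩⟩
  refine ⟨(Mn n n).subtype.comp (e.trans f).symm.toMonoidHom,
    Subtype.val_injective.comp (e.trans f).symm.injective, ?_⟩
  rw [MonoidHom.range_comp, MonoidHom.range_eq_top.2 (e.trans f).symm.surjective,
    ← MonoidHom.range_eq_map, range_subtype]

theorem not_odd {X : Type} [Group X] [Finite X] (c : Cf X 11) {σ : X} (hσ : c.Np σ) (β : MulAut X)
    (h : ∀ x ∈ Mn 11 11, β (c.lf x) = c.lf (vv (show (9 : Fin 11) ≠ 10 by decide) * x *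
      (vv (show (9 : Fin 11) ≠ 10 by decide))⁻¹)) : False := by
  obtain ⟨e, he, b, hA⟩ := Cf.step4 hσ
  obtain ⟨b, hA, hb⟩ := Cf.step5 hA
  have e0 : e ≠ 0 := by rintro rfl; exact H5.LyM.e_ne_zero hA hb
  generalize hv : vv (show (9 : Fin 11) ≠ 10 by decide) = v at h
  have pv : pr v = swap 9 10 := by rw [← hv, pr_vv]
  have fg : ∀ k, β (c.g k) = c.g k := fun k => by
    rw [Cf.g, h _ (c.mem0 k), ← comm_of_disjoint (l0_mem k).1 (y := v) fun i hi =>
      (l0_mem k).2 i (by rw [pv] at hi; revert i; decide),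
      mul_inv_cancel_right]
  have fw : ∀ w, β (ev c.g w) = ev c.g w := fun w => (map_ev β.toMonoidHom c.g w).trans (ev_congr fun k _ => fg k)
  have k : ∀ {u w : X}, b * u * b⁻¹ = w → β u = u → β w = w → b⁻¹ * β b * u * (b⁻¹ * β b)⁻¹ = u :=
    fun {u w} h1 h2 h3 => by
      have := congrArg β h1
      rw [map_mul, map_mul, map_inv, h2, h3, ← h1] at this
      calc _ = b⁻¹ * (β b * u * (β b)⁻¹) * b := by group
        _ = _ := by rw [this]; group
  obtain ⟨w, hw, f, -, h1⟩ := Cf.cenR (c := c) (x := b⁻¹ * β b) (by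
    simp only [List.forall_mem_cons, List.not_mem_nil, false_imp_iff, implies_true, and_true]
    exact ⟨k hA.a0 (fg _) (fg _), k hA.a1 (fg _) (by rw [map_mul, fg, fg]),
      k hA.a2 (fg _) (by rw [map_mul, fg, fg]), k hA.a3 (fg _) (fg _),
      k hA.a8 (fg _) (by rw [map_mul, fg, fg]), k hA.a9 (fg _) (fg _)⟩)
  have h2 : Commute (b⁻¹ * β b) (ev c.g [4, 5]) := by
    rw [h1]
    refine ((c.Y_comm_ev _).pow_left f).mul_left ?_
    have key : ∀ w ∈ WV, evC lc (w ++ [4, 5]) c1 = evC lc ([4, 5] ++ w) c1 := by decide +kernel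
    have := c.eqw _ _ (key w hw)
    rwa [ev_append, ev_append] at this
  have h3 := congrArg β hA.aρ
  rw [map_mul, map_mul, map_inv, fw, map_mul, fw,
    show β b * ev c.g [4, 5] * (β b)⁻¹ = b * (b⁻¹ * β b * ev c.g [4, 5]) * (β b)⁻¹ by group, h2.eq,
    show b * (ev c.g [4, 5] * (b⁻¹ * β b)) * (β b)⁻¹ = b * ev c.g [4, 5] * b⁻¹ by group, hA.aρ,
    mul_left_inj] at h3
  have ym := H5.LyM.yy_mem
  have m : v * yy ^ e * v⁻¹ ∈ Mn 11 11 := sb_mem.2 (by simp [ym.1])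
  rw [Cf.Y, ← c.lf_pow ym, h _ (pow_mem ym e)] at h3
  have h4 : Commute v (yy ^ e) := mul_inv_eq_iff_eq_mul.1 (c.lf_inj (pow_mem ym e) m h3).symm
  have h5 : Commute v yy := by
    interval_cases e
    · exact absurd rfl e0
    · rwa [pow_one] at h4
    · have := h4.pow_right 2
      rwa [← pow_mul, show 2 * 2 = 3 + 1 from rfl, pow_succ, Cf.yy_cube, one_mul] at this
  have h6 := congrArg (fun x => (pr x 8).1) h5.eq
  have h7 : pr yy 8 = 9 ∨ pr yy 8 = 10 := by
    rw [Fin.ext_iff, Fin.ext_iff, yy, app_ec val_cy]; decide +kernel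
  simp only [map_mul, pv, Perm.mul_apply, show swap (9 : Fin 11) 10 8 = 8 by decide] at h6
  rcases h7 with h7 | h7 <;> rw [h7] at h6 <;> exact absurd h6 (by decide)

theorem even_cf {X : Type} [Group X] [Finite X] (c : Cf X 11) {σ : X} (hσ : c.Np σ) (α : MulAut X)
    (hz : α c.z = c.z) : ∃ k ∈ centralizer {c.z}, ∀ x ∈ centralizer {c.z}, α x = k * x * k⁻¹ := by
  have ex : ∀ x : PP 11, ∃ y ∈ Mn 11 11, α (c.lf x) = c.lf y := fun x => by
    by_cases hx : x ∈ Mn 11 11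
    · refine c.cen1 ?_
      rw [c.g_eight, ← hz, ← map_mul, ← map_mul, c.lf_eq hx, c.comm_z]
    · exact ⟨1, one_mem _, by rw [c.lf_not hx, map_one, c.lf_one]⟩
  choose f f1 f2 using ex
  have lz : c.lf zz = c.z := c.lf_eq (zz_mem _)
  obtain ⟨s, -, hs⟩ := aut_conj (.inr rfl) f (fun x _ => f1 x)
    (fun x hx y hy => c.lf_inj (f1 _) (mul_mem (f1 _) (f1 _)) (by
      rw [← f2, c.lf_mul hx hy, map_mul, f2, f2, c.lf_mul (f1 _) (f1 _)]))
    (fun x hx e => c.lf_inj hx (one_mem _) (α.injective (by rw [f2, e, c.lf_one, map_one])))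
    (c.lf_inj (f1 _) (zz_mem _) (by rw [← f2, lz, hz]))
  rcases Int.units_eq_one_or (sign (pr s)) with e | e
  · have m := sb_mem.2 e
    refine ⟨c.lf s, mem_centralizer_singleton_iff.2 (by rw [c.lf_eq m, c.comm_z]), fun x hx => ?_⟩
    obtain ⟨u, hu, rfl⟩ := c.cen1 (c.g_eight ▸ mem_centralizer_singleton_iff.1 hx)
    rw [f2, hs u hu, c.lf_mul (mul_mem m hu) (inv_mem m), c.lf_mul m hu, c.lf_inv m]
  · have m : vv (show (9 : Fin 11) ≠ 10 by decide) * s⁻¹ ∈ Mn 11 11 := sb_mem.2 (by simp [e])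
    refine (not_odd c hσ (MulAut.conj (c.lf (vv (show (9 : Fin 11) ≠ 10 by decide) * s⁻¹)) * α) fun x hx => ?_).elim
    rw [MulAut.mul_apply, f2, MulAut.conj_apply, ← c.lf_inv m, ← c.lf_mul m (f1 x),
      ← c.lf_mul (mul_mem m (f1 x)) (inv_mem m), hs x hx]
    congr 1
    group

theorem md_of_cf {X : Type} [Group X] [Finite X] [IsSimpleGroup X] {n : ℕ} (hn : n = 8 ∨ n = 11)
    (c : Cf X n) {σ : X} (hσ : c.Np σ)
    (hc : Nat.card X = if n = 8 then 898128000 else 51765179004000000) : Md n X := by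
  have key : ∀ a : X, orderOf a = 2 → ∃ (c' : Cf X n) (τ : X), c'.Np τ ∧ c'.z = a := fun a ha => by
    obtain ⟨g, e⟩ := isConj_iff.1 (one_cls c hσ ha)
    exact ⟨_, _, np_map c (MulAut.conj g) hσ, e⟩
  refine ⟨hn, inferInstance, hc, fun a ha => ?_,
    fun a b ha hb => (one_cls c hσ ha).symm.trans (one_cls c hσ hb), fun a ha α h => ?_,
    fun e a ha α h => ?_⟩
  · obtain ⟨c', -, -, rfl⟩ := key a ha
    exact cen_cf hn c'
  · obtain ⟨c', τ, hτ, rfl⟩ := key a ha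
    exact aut_rigid c' hτ α fun x => h _ (mem_centralizer_singleton_iff.2 (c'.comm_z x))
  · subst e
    obtain ⟨c', τ, hτ, rfl⟩ := key a ha
    exact even_cf c' hτ α h

theorem tmg_of_iso {A : Type*} [Group A] [Finite A] (h : Spor.IsoMcL A ∨ Spor.IsoLy A) :
    ∃ n, (n = 8 ∧ Spor.IsoMcL A ∨ n = 11 ∧ Spor.IsoLy A) ∧ TMG n A := by
  let φ : A ≃* Shrink.{0} A := Shrink.mulEquiv.symm
  have : Finite (Shrink.{0} A) := Finite.of_equiv _ φ.toEquiv
  obtain ⟨hs, n, hn, c, ⟨σ, hσ⟩, -⟩ := model h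
  have := φ.symm.isSimpleGroup
  refine ⟨n, hn, TMG.equiv ⟨_, _, inferInstance, md_of_cf (hn.imp And.left And.left) _
    (np_map c φ hσ) ?_, MonoidHom.id _, Function.surjective_id, by simp⟩ φ⟩
  rw [← Nat.card_congr φ.toEquiv]
  rcases hn with ⟨rfl, ⟨e⟩⟩ | ⟨rfl, ⟨e⟩⟩
  · obtain ⟨f⟩ := McP.iso_mcl
    rw [Nat.card_congr (e.trans f.symm).toEquiv, McP.card.1, if_pos rfl]
  · rw [Nat.card_congr (show A ≃* H19.Ly.P.G from e).toEquiv, H19.Ly.card, if_neg (by decide)]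

/-- `A / O(A) ≅ McL` or `Ly` -/
theorem tm_of_iso {A : Type*} [Group A] [Finite A]
    (h : Spor.IsoMcL (A ⧸ oddCore A) ∨ Spor.IsoLy (A ⧸ oddCore A)) :
    ∃ n, (n = 8 ∨ n = 11) ∧ TMG n A := by
  obtain ⟨n, hn, h⟩ := tmg_of_iso h
  exact ⟨n, hn.imp And.left And.left, h.comap _ (QuotientGroup.mk'_surjective _) sb_mk⟩

end H4.NMM
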