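import Mathlib
import Cfsg.Agent.H6.XU5
import Cfsg.Agent.H6.XI
import Cfsg.Agent.H2.Frobenius

/-! Recognition of `U₆(2)` from a weakly closed large extraspecial subgroup. -/

set_option autoImplicit false
set_option linter.unusedSectionVars false

open Subgroup H24 H15 H15.XP H6.XS

namespace H4.FE

variable {G : Type*} [Group G] [Finite G] {D : Set G} {Q : G → Subgroup G} {w : ℕ} {z b : G}
  {P : Subgroup G}

theorem sit_lx (l : LX z P) (hw : 2 ≤ w) (hc : Nat.card P = 2 ^ (2 * w + 1))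
    (o : ∀ N : Subgroup G, N ≤ C{z} → C{z} ≤ N[N] → IsPGroup 2 N → N ≤ P) :
    ∃ Q : G → Subgroup G, Q z = P ∧ Sit (conjugatesOf z) Q w := by
  have p2 := Nat.prime_two
  have e0 : O[{2}, C{z}] = P := le_antisymm (o _ (pcore_le _ _) (pcore_nml _ _).norm
    ((isPi_iff_isPGroup p2).1 (pcore_pi _ _)))
    (pcore_max ((isPi_iff_isPGroup p2).2 l.xs.isPGroup) ⟨l.le, l.norm⟩)
  have e : ∀ d g : G, O[{2}, C{g * d * g⁻¹}] = cj g O[{2}, C{d}] := fun d g => by
    rw [← cj_C1, pcore_cj]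
  have ex : ∀ d ∈ conjugatesOf z, ∃ g : G, g * z * g⁻¹ = d := fun d hd => isConj_iff.1 hd
  refine ⟨fun d => O[{2}, C{d}], e0, fun d hd g => IsConj.trans hd (isConj_iff.2 ⟨g, rfl⟩),
    fun d hd e he => isConj_iff.1 (IsConj.trans (IsConj.symm hd) he), fun d hd => ?_,
    fun d _ g => e d g, fun d hd => ?_, fun d _ N h1 h2 h3 =>
      pcore_max ((isPi_iff_isPGroup p2).2 h3) ⟨h1, h2⟩, hw⟩ <;> obtain ⟨g, rfl⟩ := ex d hd <;>
    simp only [e, e0]
  · exact l.cj g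
  · rw [card_cj, hc]

theorem noOdd_col (h : Sit D Q w) (k : Col D z b) : NoOdd G := fun N hN ho => by
  have n : ∀ {X : Subgroup G}, X ≤ N[N] := fun {X} => le_normalizer_of_normal
  have co : ∀ {X : Subgroup G}, X ≤ N → (Nat.card X).Coprime 2 := fun hX =>
    ho.coprime_two_right.coprime_dvd_left (card_dvd hX)
  have f : ∀ d ∈ D, N ⊓ C{d} = ⊥ := fun d hd => by
    have := H23.le_centralizer_of_comm_bot (H23.comm_bot_symm (H23.comm_bot_of_isPGroup_of_cop
      (h.two hd) (co (inf_le_left : N ⊓ C{d} ≤ N))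
      (norm_inf n ((h.le hd).trans le_normalizer)) (inf_le_right.trans (h.norm hd))))
    exact le_bot_iff.1 ((le_inf (this.trans ((h.lx d hd).cent.trans (h.lx d hd).zle)) le_rfl).trans
      (H23.inf_eq_bot_of_isPGroup_of_cop (h.two hd) (co inf_le_left)).le)
  have i := fun d hd => (H2.inverts_of_fpf_involution (n (mem_top d)) (h.sq hd) (f d hd)).1
  have zb : z * b ∈ C[N] := mem_C'.2 fun x hx => by
    rw [← mul_inv_eq_iff_eq_mul, show z * b * x * (z * b)⁻¹ = z * (b * x * b⁻¹) * z⁻¹ by group,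
      i b k.r x hx, i z k.l _ (inv_mem hx), inv_inv]
  have bz : b ∈ C{z} := mem_C1.2 k.comm.symm
  have := h.mem_of_normal k.l (N := C[N]) (S := zpowers b ⊔ Q z) (H23.isPGroup_sup
    ((h.two k.r).to_le (zpowers_le.2 (h.mem k.r))) (h.two k.l) (zpowers_le.2 (h.norm k.l bz)))
    le_sup_right le_normalizer_of_normal (ne_bot_of_mem (mem_inf.2 ⟨zb, mul_mem
      (mem_sup_right (h.mem k.l)) (mem_sup_left (mem_zpowers b))⟩) fun e =>
        k.ne (by rw [← mul_one z, ← h.sq k.r, ← mul_assoc, e, one_mul]))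
  rw [← f z k.l, eq_comm, inf_eq_left]
  exact fun x hx => mem_C1.2 (mem_C.1 this x hx)

theorem psu_six {n a b : ℕ} (hn : 4 ≤ n) (ha : Odd a) (hb : Odd b)
    (h : Nat.card (Cfsg.PSU n H0.F4 2) = a * (2 ^ 15 * b)) : n = 6 := by
  have h1 := H7.card_psu H0.F4.card n (by omega)
  have o1 : Odd (∏ i ∈ Finset.range n, (if Even i then 2 ^ (i + 1) + 1 else 2 ^ (i + 1) - 1)) :=
    Finset.prod_induction _ Odd (fun _ _ => Odd.mul) odd_one fun i _ => by
      have : Even (2 ^ (i + 1)) := by rw [pow_succ]; exact even_two.mul_left _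
      split_ifs
      · exact this.add_one
      · exact Nat.Even.sub_odd Nat.one_le_two_pow this odd_one
  have o2 : Odd (Nat.gcd n (2 + 1) * (2 + 1) * a * b) :=
    ((Odd.mul (Odd.of_dvd_nat (by decide) (Nat.gcd_dvd_right _ _)) (by decide)).mul ha).mul hb
  rw [h, show ∀ x, x * ((2 + 1) * (a * (2 ^ 15 * b))) = 2 ^ 15 * (x * (2 + 1) * a * b) from
    fun x => by ring] at h1
  have k : ∀ {i j x y : ℕ}, Odd y → 2 ^ i * x = 2 ^ j * y → i ≤ j := fun {i j x y} hy e =>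
    (Nat.pow_dvd_pow_iff_le_right one_lt_two).1 ((Nat.Coprime.pow_left i
      hy.coprime_two_left).dvd_of_dvd_mul_right ⟨x, e.symm⟩)
  have e := le_antisymm (k o1 h1) (k o2 h1.symm)
  have : n ≤ 6 := by
    by_contra c
    have : 7 * 6 ≤ n * (n - 1) := Nat.mul_le_mul (by omega) (by omega)
    omega
  interval_cases n <;> simp at e ⊢

theorem u6 (l : LX z P) (hc : Nat.card P = 2 ^ 9)
    (o : ∀ N : Subgroup G, N ≤ C{z} → C{z} ≤ N[N] → IsPGroup 2 N → N ≤ P)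
    (wc : ∀ g, g * z * g⁻¹ ∈ P → g * z * g⁻¹ = z)
    (hb : ∃ g, g * z * g⁻¹ ≠ z ∧ g * z * g⁻¹ ∈ C{z})
    (rk : ∀ B ≤ C{z}, EA B → B ⊓ P = ⊥ → Nat.card B ≠ 32)
    (nc : ∀ N : Subgroup G, N.Normal → P ≤ N → ∀ b ∈ N, b ∈ C{z} → b ∉ P → b * b = 1 → C{z} ≤ N)
    (cC : Nat.card C{z} = 2 ^ 15 * 405) :
    Nonempty (G ≃* Cfsg.PSU 6 H0.F4 2) ∧ commutator G = ⊤ := by
  obtain ⟨Q, rfl, h⟩ := sit_lx (w := 4) l (by omega) hc o
  have hz : z ∈ conjugatesOf z := IsConj.refl z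
  have wc' : WC (conjugatesOf z) Q := fun d hd e he m => by
    obtain ⟨g, rfl⟩ := h.trans z hz d hd
    obtain ⟨k, rfl⟩ := h.trans z hz e he
    rw [h.eqv z hz, mem_cj] at m
    have := wc (g⁻¹ * k) (by simpa [mul_assoc] using m)
    calc k * z * k⁻¹ = g * (g⁻¹ * k * z * (g⁻¹ * k)⁻¹) * g⁻¹ := by group
      _ = _ := by rw [this]
  obtain ⟨g, g1, g2⟩ := hb
  have k : Col (conjugatesOf z) z (g * z * g⁻¹) := ⟨hz, h.conj z hz g, g1.symm, (mem_C1.1 g2).symm⟩
  have hO := noOdd_col h k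
  rcases h.cases wc' hz with u | ⟨-, b, -, t⟩ | ⟨e, -⟩
  · have hi : 4 = 2 ∨ Irr z (Q z) := .inr (u.irr (by omega) k)
    have cz := nc _ u.normal0 (u.Q_le0 k hi) _ (subset_closure k.r) g2 (fun m => g1 (wc g m)) (h.sq k.r)
    have top : closure (conjugatesOf z) = ⊤ := eq_top_iff.2 fun x _ => by
      obtain ⟨y, hy, e⟩ := u.trans0 hO k hz (h.conj z hz x)
      have := cz (mem_C1_iff_conj.2 (show y⁻¹ * x * z * (y⁻¹ * x)⁻¹ = z by
        rw [show y⁻¹ * x * z * (y⁻¹ * x)⁻¹ = y⁻¹ * (x * z * x⁻¹) * y by group, ← e]; group))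
      simpa using mul_mem hy this
    obtain ⟨-, n, n4, -, ⟨e⟩⟩ := u.ident hO k hi
    let e' := (topEquiv.symm.trans (MulEquiv.subgroupCongr top.symm)).trans e
    obtain rfl := psu_six n4 (h.odd_index hz) (by decide : Odd 405) (by
      rw [← Nat.card_congr e'.toEquiv, ← cC, index_mul_card])
    refine ⟨⟨e'⟩, top ▸ u.simple0 hO k hi (top ▸ nml_top_iff.2 inferInstance) fun e => ?_⟩
    obtain ⟨x, -, y, -, n⟩ := h.not_abl hz
    exact n (commutatorElement_eq_one_iff_mul_comm.1 (mem_bot.1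
      (e ▸ commutator_mem_commutator (mem_top x) (mem_top y))))
  · exact absurd t.cardb (rk _ inf_le_right t.eb (le_bot_iff.1 (t.bot ▸ le_inf inf_le_right
      (inf_le_left.trans inf_le_left))))
  · omega

end H4.FE
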