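import Mathlib
import Cfsg.Agent.H4.FL4D

/-! The involution `x` in monomial coordinates. -/

set_option autoImplicit false
set_option maxRecDepth 100000
set_option linter.all false

open H29 H9.GF2 Matrix Subgroup H9.L
open H9.R hiding cls CL qb Bb ew Std TL pcs wsT cls_va0 cls_vecMul cls_eq_zero cls_zero cls_lt ncard_cls cls_ind R0 c_pcs c_TL c_key nodup_TL ncard_mat mat_inj_TL

namespace H4.FL

/-- scalar matrices -/
def Sc (M : Mx) : Prop := M = 1 ∨ M = mat TH ∨ M = mat TH * mat TH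

theorem mat_T2 : mat T2 = mat TH * mat TH := by
  rw [← mat_mu]; exact eqM_iff.1 (by decide +kernel)

theorem sc_iff (C : ℕ) : sc C = true ↔ Sc (mat C) := by
  have k1 : key one = one := by decide +kernel
  have k2 : key TH = TH := by decide +kernel
  have k3 : key T2 = T2 := by decide +kernel
  rw [sc, lit_eq, or2_true, or2_true, H29.beq_true, H29.beq_true, H29.beq_true, Sc, ← mat_T2, ← mat_one,
    ← key_iff, ← key_iff, ← key_iff, k1, k2, k3]

theorem mat_cu (C : ℕ) : mat (cu C) = mat C ^ 3 := by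
  simp only [cu, lit_eq, mat_mu, pow_succ, pow_zero, one_mul]

theorem mat_fi (C : ℕ) : mat (fi C) = mat C ^ 5 := by
  simp only [fi, lit_eq, mat_mu, pow_succ, pow_zero, one_mul, mul_assoc]

theorem step {X : Mx} {M a b : ℕ} (h : X * mat M = mat M * X) (e : vec a ᵥ* X = vec b) :
    vec (va a M) ᵥ* X = vec (va b M) := by
  rw [vec_va, vec_va, vecMul_vecMul, ← h, ← vecMul_vecMul, e]

theorem fixd {X : Mx} {M a : ℕ} (h : X * mat M = mat M * X) (ha : a < 4096) (e : va a M = a) :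
    va (cd (vec a ᵥ* X)) M = cd (vec a ᵥ* X) := by
  rw [va_eq_iff (cd_lt _), vec_cd, vecMul_vecMul, h, ← vecMul_vecMul, (va_eq_iff ha).1 e]

theorem chk_all : ∀ z ∈ F5, ∀ y ∈ F1,
    ok (Nat.xor (pk (r1 y)) (pk ([0, 0, 0, 0, 0, 0, 0, 0] ++ r5 z))) = true := fun z hz y hy => by
  have k : ∀ l, chk l = true → z ∈ l → ok (Nat.xor (pk (r1 y)) (pk ([0, 0, 0, 0, 0, 0, 0, 0] ++ r5 z))) = true :=
    fun l h hl => by
      have := allL_true.1 h z hl
      rw [lit_eq] at this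
      have := allL_true.1 this y hy
      rwa [lit_eq] at this
  have e : ∀ z ∈ F5, z ∈ (F5.drop 0).take 16 ∨ z ∈ (F5.drop 16).take 16 ∨ z ∈ (F5.drop 32).take 16 ∨
      z ∈ (F5.drop 48).take 16 := by decide +kernel
  rcases e z hz with h | h | h | h
  exacts [k _ c0 h, k _ c1 h, k _ c2 h, k _ c3 h]

theorem six_of {X : Mx} (h1 : X * mat TH = mat TH * X) (h2 : X * mat D1 = mat D1 * X)
    (h3 : X * mat D2 = mat D2 * X) (h4 : X * X = 1) (o3 : ∃ d ∈ D81, Sc ((X * mat d) ^ 3))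
    (o5 : ∃ d ∈ D81, Sc ((X * mat d) ^ 5))
    (o9 : ∃ d ∈ D81, ¬ Sc ((X * mat d) ^ 3) ∧ Sc (((X * mat d) ^ 3) ^ 3)) :
    ∃ J ∈ [one, J1, J2], ∃ e ∈ [one, mu D1 D1], mat J * (X * (mat e * (mat J * mat J))) = mat XX := by
  have c : ∀ {A B : ℕ}, X * mat A = mat A * X → X * mat B = mat B * X → X * mat (mu A B) = mat (mu A B) * X :=
    fun {A B} a b => by rw [mat_mu, ← mul_assoc, a, mul_assoc, b, mul_assoc]
  obtain ⟨y, hy⟩ : ∃ y, y = cd (vec 1 ᵥ* X) := ⟨_, rfl⟩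
  obtain ⟨z, hz⟩ : ∃ z, z = cd (vec 256 ᵥ* X) := ⟨_, rfl⟩
  have y1 : y ∈ F1 := by
    have := all12 c_F1 (vec 1 ᵥ* X)
    rw [imp_true, H29.beq_true, H29.memL_true] at this
    exact hy ▸ this (fixd (c h2 (c h2 h3)) (by decide) (by decide +kernel))
  have z1 : z ∈ F5 := by
    have := all12 c_F5 (vec 256 ᵥ* X)
    rw [imp_true, imp_true, H29.beq_true, H29.beq_true, H29.memL_true] at this
    exact hz ▸ this (fixd (c h2 h3) (by decide) (by decide +kernel)) (fixd (c h2 h2) (by decide) (by decide +kernel))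
  have ey : vec 1 ᵥ* X = vec y := by rw [hy, vec_cd]
  have ez : vec 256 ᵥ* X = vec z := by rw [hz, vec_cd]
  have m : Maps X (r1 1 ++ r5 256) (r1 y ++ r5 z) :=
    .cons ey <| .cons (step h1 ey) <| .cons (step h2 ey) <| .cons (step h1 (step h2 ey)) <|
    .cons (step h2 (step h2 ey)) <| .cons (step h1 (step h2 (step h2 ey))) <|
    .cons (step h2 (step h2 (step h2 ey))) <| .cons (step h1 (step h2 (step h2 (step h2 ey)))) <|
    .cons ez <| .cons (step h1 ez) <| .cons (step h2 ez) <| .cons (step h1 (step h2 ez)) .nil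
  have m1 := m.pk
  rw [eqM_iff.1 (by decide +kernel : eqM (pk (r1 1 ++ r5 256)) one = true), mat_one, one_mul] at m1
  obtain ⟨Y, hY⟩ : ∃ Y, Y = Nat.xor (pk (r1 y)) (pk ([0, 0, 0, 0, 0, 0, 0, 0] ++ r5 z)) := ⟨_, rfl⟩
  have m2 : X = mat Y := by
    rw [m1, hY, mat_xor]
    funext i
    show _ = mat _ i + mat _ i
    rw [mat_pk, mat_pk, mat_pk]
    fin_cases i <;> first
      | exact (add_zero _).symm.trans (congrArg _ vec_zero.symm)
      | exact (zero_add _).symm.trans (congrArg (· + _) vec_zero.symm)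
  have k := chk_all z z1 y y1
  rw [← hY] at k
  subst m2
  simp only [ok, imp_true, eqM_iff, H9.anyL_iff, lit_eq, and2_true, no_true, sc_iff, mat_cu, mat_fi, mat_mu,
    mat_one, six] at k
  exact k h4 o3 o5 o9

variable {H U : Type*} [Group H] [Group U]

theorem fin (r : Rep H U) : Finite H := Finite.of_injective _ r.inj

theorem th3 (r : Rep H U) : r.θ ^ 3 = 1 := r.ord ▸ pow_orderOf_eq_one _

theorem fθ (r : Rep H U) : r.f r.θ = 1 := (r.ker _).2 (mem_zpowers _)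

theorem ker3 (r : Rep H U) {g : H} : r.f g = 1 ↔ g = 1 ∨ g = r.θ ∨ g = r.θ * r.θ := by
  refine ⟨fun h => ?_, ?_⟩
  · have := fin r
    obtain ⟨n, rfl⟩ := (mem_powers_iff_mem_zpowers.2 ((r.ker g).1 h))
    dsimp only
    rw [← pow_mod_orderOf, r.ord]
    have : n % 3 < 3 := Nat.mod_lt _ (by norm_num)
    generalize n % 3 = m at this
    interval_cases m <;> simp [pow_two]
  · rintro (rfl | rfl | rfl) <;> simp [fθ]

theorem cube_ker (r : Rep H U) {g : H} (h : r.f g = 1) : g ^ 3 = 1 := by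
  rcases (ker3 r).1 h with rfl | rfl | rfl
  · exact one_pow 3
  · exact th3 r
  · rw [← pow_two, ← pow_mul, mul_comm, pow_mul, th3, one_pow]

theorem cen_ker (r : Rep H U) {g : H} (h : r.f g = 1) (a : H) : a * g = g * a := by
  rcases (ker3 r).1 h with rfl | rfl | rfl
  · simp
  · exact r.cen a
  · rw [← mul_assoc, r.cen a, mul_assoc, r.cen a, mul_assoc]

theorem sc_ker {r : Rep H U} (h : r.ρ r.θ = mat TH) {g : H} : r.f g = 1 ↔ Sc (r.ρ g) := by
  rw [ker3, Sc, ← h, ← map_mul, ← map_one r.ρ, r.inj.eq_iff, r.inj.eq_iff, r.inj.eq_iff]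

theorem lift8 (r : Rep H U) {a : U} (h : a ^ 8 = 1) : ∃ b, r.f b = a ∧ b ^ 8 = 1 := by
  obtain ⟨b, rfl⟩ := r.surj a
  refine ⟨b ^ 9, by rw [map_pow, pow_succ, h, one_mul], ?_⟩
  rw [← pow_mul, show 9 * 8 = 8 * 3 * 3 from rfl, pow_mul, pow_mul,
    cube_ker r (g := b ^ 8) (by rw [map_pow, h]), one_pow]

theorem lift2 (r : Rep H U) {a : U} (h : a * a = 1) : ∃ b, r.f b = a ∧ b * b = 1 := by
  obtain ⟨b, rfl⟩ := r.surj a
  refine ⟨b ^ 3, by rw [map_pow, pow_succ, pow_two, h, one_mul], ?_⟩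
  rw [← pow_add, show 3 + 3 = 2 * 3 from rfl, pow_mul, cube_ker r (by rw [map_pow, pow_two, h])]

theorem comm_lift (r : Rep H U) {a b : H} (hb : b ^ 8 = 1) (h : r.f a * r.f b = r.f b * r.f a) :
    a * b = b * a := by
  have h1 : r.f (a * b * a⁻¹ * b⁻¹) = 1 := by simp [h]
  obtain ⟨c, hc⟩ : ∃ c, c = a * b * a⁻¹ * b⁻¹ := ⟨_, rfl⟩
  rw [← hc] at h1
  have h2 : (c * b) ^ 8 = 1 := by
    rw [show c * b = a * b * a⁻¹ by rw [hc]; group, conj_pow, hb]; simp
  rw [Commute.mul_pow (cen_ker r h1 b).symm, hb, mul_one] at h2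
  have h3 : c = 1 := by
    have : c ^ 9 = 1 := by rw [show 9 = 3 * 3 from rfl, pow_mul, cube_ker r h1, one_pow]
    rwa [pow_succ, h2, one_mul] at this
  rw [h3] at hc
  rw [← one_mul (b * a), hc]; group

theorem mat_ew_append (v w : List ℕ) : mat (ew (v ++ w)) = mat (ew v) * mat (ew w) := by
  induction v with
  | nil => rw [mat_ew_nil, one_mul, List.nil_append]
  | cons i v ih => rw [List.cons_append, mat_ew_cons, mat_ew_cons, ih, mul_assoc]

variable {r : Rep H U} {E P D : Subgroup U} {x : U}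

theorem word (l : Mon r E P) : ∀ {w : List ℕ}, (∀ i ∈ w, i ∈ [0, 1, 2, 4]) →
    ∃ g, r.f g ∈ P ∧ r.ρ g = mat (ew w)
  | [], _ => ⟨1, by simp, by rw [map_one, mat_ew_nil]⟩
  | i :: w, h => by
    obtain ⟨a, a1, a2⟩ := l.sup i (h i (by simp))
    obtain ⟨b, b1, b2⟩ := word l (w := w) fun k hk => h k (by simp [hk])
    exact ⟨a * b, by rw [map_mul]; exact mul_mem a1 b1, by rw [map_mul, a2, b2, mat_ew_cons]⟩

theorem orb : ∀ {w : List ℕ}, (∀ i ∈ w, i ∈ [0, 1, 2, 4]) → ∀ v : V, OO.testBit (cd v) = true →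
    OO.testBit (cd (v ᵥ* mat (ew w))) = true
  | [], _, v, hv => by rwa [mat_ew_nil, vecMul_one]
  | i :: w, h, v, hv => by
    rw [mat_ew_cons, ← vecMul_vecMul]
    refine orb (fun k hk => h k (by simp [hk])) _ ?_
    rw [cd_vecMul]
    exact imp_true.1 (all12 (allL_true.1 c_O i (h i (by simp))) v) hv

theorem liftE (l : Mon r E P) (h : E ≤ P) {a : U} (ha : a ∈ E) : ∃ g, r.f g = a ∧ ∃ d ∈ D81, r.ρ g = mat d := by
  obtain ⟨g, rfl, h1⟩ : ∃ g, r.f g = a ∧ vec 1 ᵥ* r.ρ g = vec 1 := by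
    obtain ⟨g, rfl⟩ := r.surj a
    obtain ⟨c, hc, e⟩ := l.dg g ha 0 (by decide)
    simp only [List.mem_cons, List.not_mem_nil, or_false] at hc
    rcases hc with rfl | rfl | rfl
    · exact ⟨g, rfl, e⟩
    · refine ⟨g * (r.θ * r.θ), by simp [fθ], ?_⟩
      rw [map_mul, map_mul, l.th, ← mat_mu, ← vecMul_vecMul]
      exact (congrArg (· ᵥ* _) e).trans ((va_eq_iff (by decide)).1 (by decide +kernel))
    · refine ⟨g * r.θ, by simp [fθ], ?_⟩
      rw [map_mul, l.th, ← vecMul_vecMul]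
      exact (congrArg (· ᵥ* _) e).trans ((va_eq_iff (by decide)).1 (by decide +kernel))
  refine ⟨g, rfl, ?_⟩
  have c : r.ρ g * mat TH = mat TH * r.ρ g := by rw [← l.th, ← map_mul, r.cen, map_mul]
  obtain ⟨c1, m1, e1⟩ := l.dg g ha 1 (by decide)
  obtain ⟨c2, m2, e2⟩ := l.dg g ha 2 (by decide)
  obtain ⟨c3, m3, e3⟩ := l.dg g ha 3 (by decide)
  obtain ⟨c4, m4, e4⟩ := l.dg g ha 4 (by decide)
  obtain ⟨c5, m5, e5⟩ := l.dg g ha 5 (by decide)
  have e0 : vec 2 ᵥ* r.ρ g = vec 2 := by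
    have := step c h1
    rwa [show va 1 TH = 2 by decide +kernel] at this
  have m : Maps (r.ρ g) (dgm 1 1 1 1 1) (dgm c1 c2 c3 c4 c5) :=
    .cons h1 <| .cons e0 <| .cons e1 <| .cons (step c e1) <| .cons e2 <| .cons (step c e2) <|
    .cons e3 <| .cons (step c e3) <| .cons e4 <| .cons (step c e4) <| .cons e5 <| .cons (step c e5) .nil
  have m0 := m.pk
  rw [eqM_iff.1 (by decide +kernel : eqM (pk (dgm 1 1 1 1 1)) one = true), mat_one, one_mul] at m0
  obtain ⟨w, w1, w2⟩ := l.sub g (h ha)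
  have k := orb w1 (vec 1365) (by rw [cd_vec (by decide)]; decide +kernel)
  rw [← w2, m0, cd_vecMul, cd_vec (by decide)] at k
  exact ⟨_, c_dg _ m1 _ m2 _ m3 _ m4 _ m5 k, by rw [mat_key, m0]⟩

theorem exists_y (l : Mon r E P) (h : UD E P D x) : ∃ p y d1 d2 : H, r.f p ∈ P ∧ r.f y = r.f p * x * (r.f p)⁻¹ ∧
    y * y = 1 ∧ r.f d1 ∈ P ∧ r.ρ d1 = mat D1 ∧ r.ρ d2 = mat D2 ∧ y * d1 = d1 * y ∧ y * d2 = d2 * y := by
  have := fin r
  obtain ⟨t, rfl, ht⟩ := lift2 r h.x2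
  obtain ⟨d1, p1, e1⟩ := word l (w := [0, 1, 1, 0, 1, 0, 0, 1, 1]) (by decide)
  obtain ⟨d2, p2, e2⟩ := word l (w := [1, 0, 0, 1, 0, 1, 1, 1, 0]) (by decide)
  rw [eqM_iff.1 (by decide +kernel : eqM (ew [0, 1, 1, 0, 1, 0, 0, 1, 1]) D1 = true)] at e1
  rw [eqM_iff.1 (by decide +kernel : eqM (ew [1, 0, 0, 1, 0, 1, 1, 1, 0]) D2 = true)] at e2
  let K : Subgroup H := P.comap r.f ⊓ centralizer {t}
  have k1 : D ≤ K.map r.f := fun a ha => by
    have : a ^ 8 = 1 := by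
      have := pow_card_eq_one' (x := (⟨a, ha⟩ : D))
      rw [h.cardD] at this
      exact congrArg Subtype.val this
    obtain ⟨b, rfl, hb⟩ := lift8 r this
    exact ⟨b, ⟨h.Dle ha, mem_centralizer_singleton_iff.2 (comm_lift r hb (h.xD _ ha)).symm⟩, rfl⟩
  have k2 : 2 ^ 3 ∣ Nat.card K := by
    have := (card_dvd_of_le k1).trans (card_map_dvd K r.f)
    rwa [h.cardD] at this
  obtain ⟨T, hT⟩ := Sylow.exists_subgroup_card_pow_prime 2 k2
  let i : K →* P.comap r.f := inclusion inf_le_left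
  have k3 : Nat.card (T.map i) = 2 ^ 3 := by rw [card_map_of_injective (inclusion_injective _), hT]
  let A : Subgroup (P.comap r.f) := closure {⟨d1, p1⟩, ⟨d2, p2⟩}
  have k4 : IsPGroup 2 A := pg_of_pow' (k := 2) fun a ha => by
    have : ∃ d ∈ D8, r.ρ a = mat d := clo_ind (p := fun a : P.comap r.f => ∃ d ∈ D8, r.ρ a = mat d)
      ⟨one, by decide +kernel, by simp⟩ (by
        rintro a b hb ⟨d, hd, e⟩
        have k : ∀ d ∈ D8, key (mu d D1) ∈ D8 ∧ key (mu d D2) ∈ D8 := by decide +kernel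
        rcases hb with rfl | rfl
        · exact ⟨_, (k d hd).1, by rw [mat_key, mat_mu, ← e, ← e1, ← map_mul]; rfl⟩
        · exact ⟨_, (k d hd).2, by rw [mat_key, mat_mu, ← e, ← e2, ← map_mul]; rfl⟩) ha
    obtain ⟨d, hd, e⟩ := this
    have k : ∀ d ∈ D8, eqM (mu (mu (mu d d) d) d) one = true := by decide +kernel
    have k5 := eqM_iff.1 (k d hd)
    simp only [mat_mu, mat_one, ← e, ← map_mul] at k5
    refine Subtype.ext (r.inj ?_)
    rw [OneMemClass.coe_one, map_one, ← k5]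
    simp [pow_succ]
  obtain ⟨p, hp⟩ := exists_conj_sylow (IsPGroup.of_card k3) (by rw [k3, l.card]; norm_num) k4
  have k6 : ∀ a ∈ A, (p : H) * t * (p : H)⁻¹ * a = a * (p * t * (p : H)⁻¹) := fun a ha => by
    obtain ⟨b, -, hb⟩ := hp a ha
    have h1 := mem_centralizer_singleton_iff.1 b.2.2
    have h2 : (b : H) = (p : H)⁻¹ * a * p := congrArg Subtype.val hb
    rw [h2] at h1
    calc (p : H) * t * (p : H)⁻¹ * a = p * (t * ((p : H)⁻¹ * a * p)) * (p : H)⁻¹ := by group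
      _ = _ := by rw [← h1]; group
  exact ⟨p, p * t * (p : H)⁻¹, d1, d2, p.2, by simp, by
    rw [show (p : H) * t * (p : H)⁻¹ * (p * t * (p : H)⁻¹) = p * (t * t) * (p : H)⁻¹ by group, ht]; simp,
    p1, e1, e2, k6 ⟨d1, p1⟩ (subset_closure (by simp)), k6 ⟨d2, p2⟩ (subset_closure (by simp))⟩

theorem exists_J (l : Mon r E P) (h : UD E P D x) : ∃ p q y : H, r.f p ∈ P ∧ r.f q ∈ P ∧
    r.f y = r.f p * x * r.f q ∧ ∃ J ∈ [one, J1, J2], mat J * r.ρ y * (mat J * mat J) = mat XX := by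
  obtain ⟨p, y, d1, d2, hp, hy, y2, p1, e1, e2, c1, c2⟩ := exists_y l h
  have k : ∀ a ∈ E, ∃ d ∈ D81, ∀ n, Sc ((r.ρ y * mat d) ^ n) ↔ (x * a) ^ n = 1 := fun a ha => by
    obtain ⟨g, g1, d, hd, g2⟩ := liftE l h.le (h.norm _ hp a ha)
    refine ⟨d, hd, fun n => ?_⟩
    rw [← g2, ← map_mul, ← map_pow, ← sc_ker l.th, map_pow, map_mul, hy, g1,
      show r.f p * x * (r.f p)⁻¹ * (r.f p * a * (r.f p)⁻¹) = r.f p * (x * a) * (r.f p)⁻¹ by group, conj_pow,
      mul_inv_eq_one, mul_eq_left]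
  obtain ⟨J, hJ, e, he, hX⟩ := six_of (X := r.ρ y) (by rw [← l.th, ← map_mul, r.cen, map_mul])
    (by rw [← e1, ← map_mul, c1, map_mul]) (by rw [← e2, ← map_mul, c2, map_mul])
    (by rw [← map_mul, y2, map_one])
    (by obtain ⟨a, ha, h1⟩ := h.o3; obtain ⟨d, hd, h2⟩ := k a ha; exact ⟨d, hd, (h2 3).2 h1⟩)
    (by obtain ⟨a, ha, h1⟩ := h.o5; obtain ⟨d, hd, h2⟩ := k a ha; exact ⟨d, hd, (h2 5).2 h1⟩)
    (by
      obtain ⟨a, ha, h1, h3⟩ := h.o9; obtain ⟨d, hd, h2⟩ := k a ha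
      exact ⟨d, hd, fun h4 => h3 ((h2 3).1 h4), by rw [← pow_mul]; exact (h2 9).2 h1⟩)
  simp only [List.mem_cons, List.not_mem_nil, or_false] at he
  rcases he with rfl | rfl
  · refine ⟨p, p⁻¹, y, hp, by rw [map_inv]; exact inv_mem hp, by rw [hy, map_inv], J, hJ, ?_⟩
    rw [← hX, mat_one, one_mul, mul_assoc]
  · refine ⟨p, p⁻¹ * (d1 * d1), y * (d1 * d1), hp, ?_, by simp [hy, mul_assoc], J, hJ, ?_⟩
    · simp only [map_mul, map_inv]; exact mul_mem (inv_mem hp) (mul_mem p1 p1)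
    · rw [← hX, mat_mu, map_mul, map_mul, e1]; simp only [mul_assoc]

theorem c_J : ∀ J ∈ [one, J1, J2], eqM (mu J (mu J J)) one = true ∧ eqM (mu (mu J TH) (mu J J)) TH = true ∧
    ∀ i ∈ [0, 1, 2, 4],
      (∃ w ∈ [[0], [1], [2], [4], [1, 1, 1, 2, 1, 1, 1, 2, 2], [1, 1, 1, 2, 2, 1, 1, 1, 2]],
        (∀ k ∈ w, k ∈ [0, 1, 2, 4]) ∧ eqM (mu (mu J (nth one L6 i)) (mu J J)) (ew w) = true) ∧
      ∃ w ∈ [[0], [1], [2], [4], [1, 1, 1, 2, 1, 1, 1, 2, 2], [1, 1, 1, 2, 2, 1, 1, 1, 2]],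
        (∀ k ∈ w, k ∈ [0, 1, 2, 4]) ∧ eqM (mu (mu J (ew w)) (mu J J)) (nth one L6 i) = true := by
  decide +kernel

theorem std (l : Mon r E P) (h : UD E P D x) :
    ∃ A B : Mx, A * B = 1 ∧ A * r.ρ r.θ * B = mat TH ∧
      (∀ i < 5, ∃ g, A * r.ρ g * B = mat (nth one L6 i)) ∧
      ∀ g, ∃ w, (∀ i ∈ w, i < 5) ∧ A * r.ρ g * B = mat (ew w) := by
  have := fin r
  obtain ⟨p, q, y, hp, hq, hy, J, hJ, hX⟩ := exists_J l h
  obtain ⟨j1, j2, j3⟩ := c_J J hJ
  simp only [eqM_iff, mat_mu, mat_one] at j1 j2 j3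
  have mul : ∀ a b : Mx, mat J * (a * b) * (mat J * mat J) =
      mat J * a * (mat J * mat J) * (mat J * b * (mat J * mat J)) := fun a b => by
    simp only [mul_assoc]
    rw [← mul_assoc (mat J) (mat J) (mat J * (b * _)), ← mul_assoc (mat J * mat J), mul_assoc (mat J) (mat J), j1,
      one_mul]
  refine ⟨mat J, mat J * mat J, j1, by rw [l.th, j2], fun i hi => ?_, fun g => ?_⟩
  · by_cases h3 : i = 3
    · exact ⟨y, h3 ▸ hX⟩
    · obtain ⟨-, w, -, w1, w2⟩ := j3 i (by simp; omega)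
      obtain ⟨g, -, hg⟩ := word l w1
      exact ⟨g, by rw [hg, w2]⟩
  · let S : H → Prop := fun g => ∃ w, (∀ i ∈ w, i < 5) ∧ mat J * r.ρ g * (mat J * mat J) = mat (ew w)
    have sm : ∀ a b, S a → S b → S (a * b) := fun a b ⟨v, v1, v2⟩ ⟨w, w1, w2⟩ =>
      ⟨v ++ w, fun i hi => (List.mem_append.1 hi).elim (v1 i) (w1 i), by rw [map_mul, mul, v2, w2, mat_ew_append]⟩
    have sp : ∀ a, r.f a ∈ P → S a := fun a ha => by
      obtain ⟨w, w1, w2⟩ := l.sub a ha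
      simp only [S, w2]
      clear w2
      induction w with
      | nil => exact ⟨[], by simp, by rw [mat_ew_nil, mul_one, j1]⟩
      | cons i w ih =>
        obtain ⟨v, v1, v2⟩ := ih fun k hk => w1 k (by simp [hk])
        obtain ⟨⟨u, -, u1, u2⟩, -⟩ := j3 i (w1 i (by simp))
        refine ⟨u ++ v, fun k hk => (List.mem_append.1 hk).elim (fun hk => ?_) (v1 k), by
          rw [mat_ew_cons, mul, u2, v2, mat_ew_append]⟩
        have := u1 k hk
        simp at this; omega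
    have sy : S y := ⟨[3], by simp, by rw [hX, mat_ew_cons, mat_ew_nil, mul_one]; rfl⟩
    let L : Subgroup H := closure {a | r.f a ∈ P ∨ a = y}
    have l1 : ∀ a, r.f a ∈ P → a ∈ L := fun a ha => subset_closure (Or.inl ha)
    have l2 : L.map r.f = ⊤ := by
      rw [eq_top_iff, ← h.top, sup_le_iff, zpowers_le]
      refine ⟨fun a ha => ?_, p⁻¹ * y * q⁻¹, mul_mem (mul_mem (inv_mem (l1 p hp)) (subset_closure (Or.inr rfl)))
        (inv_mem (l1 q hq)), by simp [hy, mul_assoc]⟩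
      obtain ⟨b, rfl⟩ := r.surj a
      exact ⟨b, l1 b ha, rfl⟩
    obtain ⟨b, hb, e⟩ : r.f g ∈ L.map r.f := l2 ▸ mem_top _
    have hg : g ∈ L := by
      rw [show g = g * b⁻¹ * b by group]
      exact mul_mem (l1 _ (by simp [e])) hb
    exact clo_ind (p := S) (sp 1 (by simp)) (fun a c hc ha => sm a c ha (hc.elim (sp c) fun h => h ▸ sy)) hg

end H4.FL
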