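import Cfsg.Agent.H4.GD9

/-!
`H4.GD`, linear case: the six root subgroups normalised by `T`.
-/

set_option autoImplicit false

open Cfsg H4

namespace H4

open Subgroup

theorem sylow_cong {G : Type*} [Group G] [Finite G] {p a : ℕ} (hp : p.Prime) {P : Subgroup G}
    (hP : Nat.card P = p ^ a) : P.relIndex (normalizer (P : Set G)) ≡ P.index [MOD p] :=
  haveI := Fact.mk hp
  Sylow.card_quotient_normalizer_modEq_card_quotient hP

theorem relIndex_mul_card' {G : Type*} [Group G] {K L : Subgroup G} (h : K ≤ L) :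
    K.relIndex L * Nat.card K = Nat.card L := by
  rw [← (K.subgroupOf L).index_mul_card, Nat.card_congr (subgroupOfEquivOfLe h).toEquiv]; rfl

theorem exists_fixed_pgroup {G : Type*} [Group G] [Finite G] {p : ℕ} (hp : p.Prime) {Q P : Subgroup G}
    (hQ : IsPGroup p Q) (hn : ∀ y ∈ Q, ∀ x ∈ P, y * x * y⁻¹ ∈ P) (hP : p ∣ Nat.card P) :
    ∃ x ∈ P, x ≠ 1 ∧ ∀ y ∈ Q, y * x = x * y := by
  haveI := Fact.mk hp
  letI : MulAction Q P :=
    { smul := fun y x => ⟨y * x * (y : G)⁻¹, hn y y.2 x x.2⟩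
      one_smul := fun x => Subtype.ext (by change (1 : G) * x * 1⁻¹ = x; simp)
      mul_smul := fun a b x => Subtype.ext (by
        change (a * b : G) * x * (a * b : G)⁻¹ = a * (b * x * (b : G)⁻¹) * (a : G)⁻¹; group) }
  obtain ⟨x, hx, h1⟩ := hQ.exists_fixed_point_of_prime_dvd_card_of_fixed_point P hP (a := 1)
    fun y => Subtype.ext (by change (y : G) * 1 * (y : G)⁻¹ = 1; simp)
  exact ⟨x, x.2, fun e => h1 (Subtype.ext e.symm),
    fun y hy => mul_inv_eq_iff_eq_mul.1 (congrArg Subtype.val (hx ⟨y, hy⟩))⟩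

/-- Two subgroups commute elementwise. -/
def Cm {G : Type*} [Group G] (Y Y' : Subgroup G) : Prop := ∀ x ∈ Y, ∀ y ∈ Y', x * y = y * x

theorem Cm.symm {G : Type*} [Group G] {Y Y' : Subgroup G} (h : Cm Y Y') : Cm Y' Y :=
  fun x hx y hy => (h y hy x hx).symm

theorem Cm.le {G : Type*} [Group G] [Finite G] {Y Y' : Subgroup G} (h : Cm Y Y') :
    Y' ≤ normalizer (Y : Set G) := fun y hy =>
  mem_normalizer_of fun x hx => by rwa [← h x hx y hy, mul_inv_cancel_right]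

namespace GD

variable {G : Type*} [Group G] [Finite G] {N : NP} {D : GD G N}

theorem exists_X (D : GD G N) : ∃ x ∈ D.X, x ≠ 1 := by
  have : Nontrivial D.X := Finite.one_lt_card_iff_nontrivial.1 (by
    rw [D.cX]; have := N.three_le_q; omega)
  obtain ⟨⟨x, hx⟩, hx1⟩ := exists_ne (1 : D.X)
  exact ⟨x, hx, fun h => hx1 (Subtype.ext h)⟩

theorem X_odd (D : GD G N) : Odd (Nat.card D.X) := D.cX ▸ N.q_odd

theorem X_pgroup (D : GD G N) : IsPGroup N.p D.X := fun x => ⟨1, Subtype.ext (by simpa using D.X_pow x x.2)⟩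

theorem X_sq (D : GD G N) {x : G} (hx : x ∈ D.X) (h : x * x = 1) : x = 1 := eq_one_of_odd D.X_odd hx h

theorem mem_X_of_B {b : G} (hb : b ∈ D.B) {k : ℕ} (hp : b ^ N.p ^ k = 1) : b ∈ D.X := by
  have key : ∀ {K : Subgroup G} {y : G}, ¬ N.p ∣ Nat.card K → y ∈ K → y ^ N.p ^ k = 1 → y = 1 :=
    fun {K y} hK hy e => orderOf_eq_one_iff.1 (Nat.eq_one_of_dvd_coprimes
      ((N.hp.coprime_iff_not_dvd.2 hK).pow_left k) (orderOf_dvd_of_pow_eq_one e) (K.orderOf_dvd_natCard hy))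
  by_cases hA : b ∈ D.A
  · obtain ⟨z, hz, x, hx, rfl⟩ := D.mem_A.1 hA
    rw [Commute.mul_pow (D.Z_comm z hz x (D.X_le hx)), mul_eq_one_iff_eq_inv] at hp
    rwa [key D.p_not_dvd_Z hz (D.eq_one_of_mem_X_Z (hp ▸ inv_mem (pow_mem hx _)) (pow_mem hz _)), one_mul]
  obtain ⟨y, -, e⟩ := D.B_conj hb hA
  have := key D.p_not_dvd_S e (by rw [conj_pow, hp]; simp)
  exact absurd (by simpa [mul_inv_eq_one] using this) fun e : b = 1 => hA (e ▸ one_mem _)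

theorem w_not_B (hε : N.ε = 1) : D.w ∉ D.B := fun h => by
  obtain ⟨x, hx, s, hs, e⟩ := D.mem_B.1 h
  have h1 := mul_mem hx (D.T_norm_X hε D.u_mem (inv_mem hx))
  have h2 := D.w_u
  nth_rw 2 [← D.w_inv'] at h2
  rw [e, show x * s * D.u * (x * s)⁻¹ = x * (s * D.u * s⁻¹) * x⁻¹ by group,
    D.T_comm s (D.S_eq_T hε ▸ hs) _ D.u_mem, mul_inv_cancel_right] at h2
  rw [← mul_assoc, ← mul_assoc, h2, mul_inv_cancel_right] at h1
  exact D.t_ne (D.eq_one_of_mem_X_Z h1 D.t_mem)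

/-- The root subgroup attached to `(a, b)`. -/
def U (D : GD G N) (a b : G) : Subgroup G where
  carrier := {x | ∀ g, D.Act g a b → g⁻¹ * x * g ∈ D.X}
  one_mem' := fun g _ => by simp
  mul_mem' := fun {x y} hx hy g hg => by simpa [mul_assoc] using mul_mem (hx g hg) (hy g hg)
  inv_mem' := fun {x} hx g hg => by simpa [mul_assoc] using inv_mem (hx g hg)

omit [Finite G] in
theorem U_conj {a b x : G} (k : G) (hx : x ∈ D.U a b) :
    k * x * k⁻¹ ∈ D.U (k * a * k⁻¹) (k * b * k⁻¹) := fun g hg => by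
  simpa [mul_assoc] using hx (k⁻¹ * g) (by simpa [mul_assoc] using hg.mul (k := k⁻¹))

omit [Finite G] in
theorem U_conj' {a b x a' b' k : G} (ha : k * a * k⁻¹ = a') (hb : k * b * k⁻¹ = b') (hx : x ∈ D.U a b) :
    k * x * k⁻¹ ∈ D.U a' b' := ha ▸ hb ▸ U_conj k hx

omit [Finite G] in
theorem Cm_conj {a b c d : G} (k : G) (h : Cm (D.U a b) (D.U c d)) {a' b' c' d' : G}
    (ha : k * a * k⁻¹ = a') (hb : k * b * k⁻¹ = b') (hc : k * c * k⁻¹ = c') (hd : k * d * k⁻¹ = d') :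
    Cm (D.U a' b') (D.U c' d') := fun x hx y hy => by
  have := h _ (U_conj' (k := k⁻¹) (by rw [← ha]; group) (by rw [← hb]; group) hx) _
    (U_conj' (k := k⁻¹) (by rw [← hc]; group) (by rw [← hd]; group) hy)
  calc x * y = k * (k⁻¹ * x * k⁻¹⁻¹ * (k⁻¹ * y * k⁻¹⁻¹)) * k⁻¹ := by group
    _ = _ := by rw [this]; group

theorem conj_U (k a b : G) : (D.conj k).U a b = D.U a b := by
  ext x
  refine ⟨fun hx g hg => ?_, fun hx g hg => ?_⟩
  · simpa [mem_conj_X, mul_assoc] using hx (g * k⁻¹) (by simpa [Act, mul_assoc] using hg)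
  · simpa [mem_conj_X, mul_assoc] using hx (g * k) (by simpa [Act, mul_assoc] using hg)

theorem Full.U_eq (h : D.Full) (hε : N.ε = 1) {g a b : G} (hg : D.Act g a b) : D.U a b = (D.conj g).X := by
  ext x
  rw [mem_conj_X]
  exact ⟨fun hx => hx g hg, fun hx g' hg' => by
    simpa [mul_assoc] using D.T_norm_X hε (hg'.inv_mul h hg) hx⟩

theorem Full.U_tu (h : D.Full) (hε : N.ε = 1) : D.U D.t D.u = D.X :=
  (h.U_eq hε (g := 1) ⟨by simp, by simp⟩).trans (D.conj_X_eq (one_mem _))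

/-- The data attached to a pair `(a, b)` of involutions of `T`. -/
structure Sib (D E : GD G N) (a b : G) : Prop where
  cfg : E.Cfg
  t : E.t = a
  u : E.u = b
  T : E.T = D.T
  U : E.U = D.U
  cZ : Nat.card E.Z = Nat.card D.Z

theorem Cfg.exists_Sib (h : D.Cfg) {a b : G} (ha : a ∈ D.T) (hb : b ∈ D.T) (ha2 : a * a = 1)
    (hb2 : b * b = 1) (ha1 : a ≠ 1) (hb1 : b ≠ 1) (hab : b ≠ a) :
    ∃ g, D.Act g a b ∧ Sib D (D.conj g) a b := by
  obtain ⟨g, h1, h2, h3⟩ := h.exists_sib ha hb ha2 hb2 ha1 hb1 hab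
  exact ⟨g, ⟨h1, h2⟩, h.conj g, h1, h2, h3, funext₂ (conj_U g), D.card_conj_Z⟩

theorem Cfg.S_ut (h : D.Cfg) : ∃ g, D.Act g D.u D.t ∧ Sib D (D.conj g) D.u D.t :=
  h.exists_Sib D.u_mem D.t_T D.u_sq D.t_sq D.u_ne_one D.t_ne D.u_ne_t.symm
theorem Cfg.S_utu (h : D.Cfg) : ∃ g, D.Act g D.u (D.t * D.u) ∧ Sib D (D.conj g) D.u (D.t * D.u) :=
  h.exists_Sib D.u_mem D.tu_mem D.u_sq D.tu_sq D.u_ne_one D.tu_ne_one D.tu_ne_u
theorem Cfg.S_tut (h : D.Cfg) : ∃ g, D.Act g (D.t * D.u) D.t ∧ Sib D (D.conj g) (D.t * D.u) D.t :=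
  h.exists_Sib D.tu_mem D.t_T D.tu_sq D.t_sq D.tu_ne_one D.t_ne D.tu_ne_t.symm
theorem Cfg.S_tuu (h : D.Cfg) : ∃ g, D.Act g (D.t * D.u) D.u ∧ Sib D (D.conj g) (D.t * D.u) D.u :=
  h.exists_Sib D.tu_mem D.u_mem D.tu_sq D.u_sq D.tu_ne_one D.u_ne_one D.tu_ne_u.symm

theorem inv_u (hε : N.ε = 1) {x : G} (hx : x ∈ D.X) : D.u * x * D.u = x⁻¹ :=
  D.inv_X (D.B_T hε D.u_mem) D.u_sq D.u_not hx
theorem inv_tu (hε : N.ε = 1) {x : G} (hx : x ∈ D.X) : D.t * D.u * x * (D.t * D.u) = x⁻¹ :=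
  D.inv_X (D.B_T hε D.tu_mem) D.tu_sq D.tu_not hx

namespace Sib

variable {E : GD G N} {a b : G} (s : Sib D E a b) (hε : N.ε = 1)
include s hε

theorem X : E.X = D.U a b := by rw [← s.cfg.full.U_tu hε, s.U, s.t, s.u]

theorem Xw : (E.conj E.w).X = D.U a (a * b) := by
  rw [← s.cfg.full.U_eq hε E.act_w, s.U, s.t, s.u]

theorem card : Nat.card (D.U a b) = N.q := s.X hε ▸ E.cX

theorem cent {x : G} (hx : x ∈ D.U a b) : a * x = x * a := s.t ▸ E.t_comm (E.X_le (s.X hε ▸ hx))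
theorem inv {x : G} (hx : x ∈ D.U a b) : b * x * b = x⁻¹ := s.u ▸ E.inv_u hε (s.X hε ▸ hx)
theorem inv' {x : G} (hx : x ∈ D.U a b) : a * b * x * (a * b) = x⁻¹ := by
  have := E.inv_tu hε (s.X hε ▸ hx : x ∈ E.X); rwa [s.t, s.u] at this
theorem norm {τ x : G} (hτ : τ ∈ D.T) (hx : x ∈ D.U a b) : τ * x * τ⁻¹ ∈ D.U a b :=
  s.X hε ▸ E.T_norm_X hε (s.T ▸ hτ) (s.X hε ▸ hx)
theorem pgroup : IsPGroup N.p (D.U a b) := s.X hε ▸ E.X_pgroup
theorem odd : Odd (Nat.card (D.U a b)) := s.card hε ▸ N.q_odd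

theorem le {K : Subgroup G} (hn : ∀ r ∈ D.T, ∀ x ∈ K, r * x * r⁻¹ ∈ K) {x : G} (hx : x ∈ K)
    (hU : x ∈ D.U a b) (hx1 : x ≠ 1) : D.U a b ≤ K :=
  s.X hε ▸ E.X_le_of_mem hε (s.T ▸ hn) hx (s.X hε ▸ hU) hx1

theorem odd_cases {K : Subgroup G} (hK : Odd (Nat.card K)) (hn : ∀ r ∈ D.T, ∀ x ∈ K, r * x * r⁻¹ ∈ K) :
    (∀ x ∈ K, x * a = a * x → x ∈ D.T) ∨ D.U a b ≤ K ∨ D.U a (a * b) ≤ K := by
  rcases E.odd_T hε (U := K ⊓ E.H) inf_le_right (hK.of_dvd_nat (card_dvd_of_le inf_le_left))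
    (fun r hr x hx => ⟨hn r (s.T ▸ hr) x hx.1,
      E.H.mul_mem (E.H.mul_mem (E.T_le hr) hx.2) (E.H.inv_mem (E.T_le hr))⟩) with h | h | h
  · exact Or.inl fun x hx e => s.T ▸ h ⟨hx, s.cfg.full x (s.t ▸ e)⟩
  · exact Or.inr (Or.inl (s.X hε ▸ h.2.trans inf_le_left))
  · exact Or.inr (Or.inr (s.Xw hε ▸ h.2.trans inf_le_left))

end Sib

theorem mem_B_of_norm {g : G} (hg : g ∈ normalizer (D.X : Set G)) (hH : g ∈ D.H) : g ∈ D.B := by
  obtain ⟨x, hx, hx1⟩ := D.exists_X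
  exact D.mem_B_of_conj hH hx hx1 (conj_mem_of_normalizer hg hx)

theorem B_le_norm (D : GD G N) : D.B ≤ normalizer (D.X : Set G) := fun _ hb =>
  mem_normalizer_of fun _ => D.B_norm hb

theorem comm_X_of_conj {g : G} (hg : g ∈ normalizer (D.X : Set G)) {x : G} (hx : x ∈ D.X) :
    g * D.t * g⁻¹ * x = x * (g * D.t * g⁻¹) := by
  have := D.t_comm (D.X_le (conj_mem_of_normalizer (inv_mem hg) hx))
  calc g * D.t * g⁻¹ * x = g * (D.t * (g⁻¹ * x * g⁻¹⁻¹)) * g⁻¹ := by group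
    _ = _ := by rw [this]; group

theorem Full.isoX (h : D.Full) : ∀ g ∈ normalizer (D.X : Set G),
    D.t * (g * D.t * g⁻¹) = g * D.t * g⁻¹ * D.t → g * D.t * g⁻¹ = D.t := fun g hg e => by
  obtain ⟨x, hx, hx1⟩ := D.exists_X
  exact (D.A_inv (D.mem_A.2 (D.cent_X x hx hx1 _ (h _ e.symm) (comm_X_of_conj hg hx)))
    (by simp [mul_assoc, mul_mul_self D.t_sq])).resolve_left (by simpa [mul_inv_eq_one] using D.t_ne)

/-- A subgroup of odd order inverted by `t` and normalising `X` centralises `X`. -/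
theorem cm_of_norm {Y : Subgroup G} (hY : Odd (Nat.card Y)) (hi : ∀ y ∈ Y, D.t * y * D.t = y⁻¹)
    (hn : Y ≤ normalizer (D.X : Set G)) : Cm D.X Y := fun x hx y hy => by
  obtain ⟨k, hk⟩ := exists_sq_eq (odd_orderOf hY hy)
  have hk' := pow_mem hy k
  generalize y ^ k = j at *
  have e : y = j * D.t * j⁻¹ * D.t := by rw [← hi j hk', ← hk]; simp [mul_assoc, mul_mul_self D.t_sq, D.t_sq]
  rw [e, mul_assoc _ D.t x, D.t_comm (D.X_le hx), ← mul_assoc _ x, comm_X_of_conj (hn hk') hx, mul_assoc x]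

theorem Cfg.norm_cases (h : D.Cfg) (hε : N.ε = 1) : normalizer (D.X : Set G) = D.B ∨
    Cm D.X (D.U D.u D.t) ∨ Cm D.X (D.U D.u (D.t * D.u)) ∨ Cm D.X (D.U (D.t * D.u) D.t) ∨
      Cm D.X (D.U (D.t * D.u) D.u) := by
  obtain ⟨g1, -, s1⟩ := h.S_ut
  obtain ⟨g2, -, s2⟩ := h.S_utu
  obtain ⟨g3, -, s3⟩ := h.S_tut
  obtain ⟨g4, -, s4⟩ := h.S_tuu
  have hn : ∀ r ∈ D.T, ∀ x ∈ OC (normalizer (D.X : Set G)), r * x * r⁻¹ ∈ OC (normalizer (D.X : Set G)) :=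
    fun r hr x => OC_conj' (D.B_le_norm (D.B_T hε hr))
  rcases s1.odd_cases hε (OC_odd _) hn with e1 | e1 | e1
  rotate_left
  · exact Or.inr (Or.inl (cm_of_norm (s1.odd hε) (fun y => s1.inv hε) (e1.trans (OC_le _))))
  · rw [D.ut] at e1
    exact Or.inr (Or.inr (Or.inl (cm_of_norm (s2.odd hε) (fun y hy => by
      simpa only [D.utu] using s2.inv' hε hy) (e1.trans (OC_le _)))))
  rcases s3.odd_cases hε (OC_odd _) hn with e3 | e3 | e3
  rotate_left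
  · exact Or.inr (Or.inr (Or.inr (Or.inl
      (cm_of_norm (s3.odd hε) (fun y => s3.inv hε) (e3.trans (OC_le _))))))
  · rw [D.tut] at e3
    exact Or.inr (Or.inr (Or.inr (Or.inr
      (cm_of_norm (s4.odd hε) (fun y hy => by simpa only [D.tuu] using s4.inv' hε hy) (e3.trans (OC_le _))))))
  refine Or.inl (le_antisymm (fun g hg => ?_) D.B_le_norm)
  obtain ⟨c, hc, j, hj, e, rfl⟩ := zstar_mul (D.B_le_norm (D.B_T hε D.t_T)) D.t_sq D.t_ne h.full.isoX hg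
  refine mul_mem (mem_B_of_norm hc (h.full c e)) (le_of_four (OC_odd _) D.t_sq D.u_sq D.ut D.t_ne
    D.u_ne_one D.u_ne_t (fun x hx => ?_) (fun x hx => ?_)
    (fun x hx e => mem_B_of_norm (OC_le _ hx) (h.full x e)) (fun x hx e => D.B_T hε (e1 x hx e))
    (fun x hx e => D.B_T hε (e3 x hx e)) hj)
  · simpa [D.t_inv] using hn _ D.t_T x hx
  · simpa [D.u_inv] using hn _ D.u_mem x hx

/-- Subgroups of `H` containing `N_H(T)`. -/
theorem sub_T (hε : N.ε = 1) {E : Subgroup G} (hT : D.T ≤ E) (hw : D.w ∈ E) (hH : E ≤ D.H) :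
    D.X ≤ E ∨ D.T.relIndex E = 2 ∨ (D.T.relIndex E = N.q + 1 ∧ N.m ∣ 4) := by
  by_cases hX : ∃ x ∈ E, x ∈ D.X ∧ x ≠ 1
  · obtain ⟨x, h1, h2, h3⟩ := hX
    exact Or.inl (D.X_le_of_mem hε (fun r hr x hx => mul_mem (mul_mem (hT hr) hx) (inv_mem (hT hr))) h1 h2 h3)
  right
  have hm : N.m + 1 = N.q ∧ N.n = N.q + 1 := by have := N.cases; omega
  have h1 : D.T.relIndex E ≤ N.q + 1 := by
    have e : D.T = D.B ⊓ E := le_antisymm (le_inf (D.B_T hε) hT) fun b hb => by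
      obtain ⟨x, hx, s, hs, rfl⟩ := D.mem_B.1 hb.1
      rw [D.S_eq_T hε] at hs
      by_cases h : x = 1
      · simpa [h] using hs
      · exact absurd ⟨x, (mul_mem_cancel_right (hT hs)).1 hb.2, hx, h⟩ hX
    have e2 := relIndex_mul_card' D.B_le
    rw [D.cB, D.cH, show N.q - 1 = N.m by omega, hm.2] at e2
    rw [e, inf_relIndex_right]
    refine (relIndex_le_of_le_right hH index_ne_zero_of_finite).trans (le_of_eq ?_)
    have := N.two_le_m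
    exact Nat.eq_of_mul_eq_mul_right (Nat.mul_pos (by omega) (Nat.mul_pos D.Z_pos (by omega)))
      (e2.trans (by ring))
  set Cl := {x | ∃ g ∈ E, g * D.u * g⁻¹ = x} with hCl
  have h2 : Cl.ncard = D.T.relIndex E := by
    have := ncard_conj_class E D.u
    rw [show E ⊓ centralizer {D.u} = D.T from le_antisymm
      (fun g hg => D.cent_T _ D.u_mem D.u_not g (hH hg.1) (mem_cent.1 hg.2))
      (le_inf hT fun y hy => mem_cent.2 (D.T_comm y hy _ D.u_mem)), ← relIndex_mul_card' hT] at this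
    exact Nat.eq_of_mul_eq_mul_right Nat.card_pos this
  have hu : D.u ∈ Cl := ⟨1, one_mem _, by simp⟩
  have ht : ∀ a ∈ Cl, D.t * a ∈ Cl := by
    rintro _ ⟨g, hg, rfl⟩
    refine ⟨g * D.w, mul_mem hg hw, ?_⟩
    rw [← D.conj_Z D.t_mem (hH hg), conj_mul, ← D.act_w.2]; group
  have hc : ∀ g ∈ E, ∀ a ∈ Cl, g * a * g⁻¹ ∈ Cl := by
    rintro g hg _ ⟨k, hk, rfl⟩; exact ⟨g * k, mul_mem hg hk, by group⟩
  have hsq : ∀ a ∈ Cl, a * a = 1 ∧ a ∈ D.H ∧ a ∉ D.Z := by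
    rintro _ ⟨k, hk, rfl⟩
    exact ⟨by simp [mul_assoc, mul_mul_self D.u_sq],
      mul_mem (mul_mem (hH hk) D.u_H) (inv_mem (hH hk)), D.conj_not_Z D.u_not (hH hk)⟩
  have h3 : (Cl \ {D.u, D.t * D.u}).ncard + 2 = Cl.ncard := by
    rw [← Set.ncard_pair D.tu_ne_u.symm, Set.ncard_sdiff_add_ncard_of_subset]
    rintro x (rfl | rfl); exacts [hu, ht _ hu]
  have hT' : ∀ a ∈ Cl, a ∈ D.T ↔ a = D.u ∨ a = D.t * D.u := fun a ha => ⟨fun h =>
    ((D.T_inv h (hsq a ha).1).resolve_left fun e => (hsq a ha).2.2 (e ▸ one_mem _)).resolve_left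
      fun e => (hsq a ha).2.2 (e ▸ D.t_mem), by rintro (rfl | rfl); exacts [D.u_mem, D.tu_mem]⟩
  rcases (Cl \ {D.u, D.t * D.u}).eq_empty_or_nonempty with e | ⟨a, ha, ha'⟩
  · left; rw [← h2, ← h3, e]; simp
  right
  have hZ : ∀ {a y : G}, a ∈ Cl → a ∉ D.T → y ∈ D.T → y * a = a * y → y ∈ D.Z := fun ha haT hy e => by
    by_contra h; exact haT (D.cent_T _ hy h _ (hsq _ ha).2.1 e.symm)
  have key : ∀ a ∈ Cl, a ∉ D.T → {x | ∃ g ∈ D.T, g * a * g⁻¹ = x} = Cl \ {D.u, D.t * D.u} ∧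
      D.T.relIndex E = N.q + 1 := fun a ha haT => by
    have h4 := ncard_conj_class D.T a
    rw [show D.T ⊓ centralizer {a} = D.Z from le_antisymm (fun y hy => hZ ha haT hy.1 (mem_cent.1 hy.2))
      (le_inf D.Z_le_T fun z hz => mem_cent.2 (D.Z_comm z hz a (hsq a ha).2.1)), D.cT, mul_comm] at h4
    have h5 := Nat.eq_of_mul_eq_mul_left D.Z_pos h4
    have h6 : {x | ∃ g ∈ D.T, g * a * g⁻¹ = x} ⊆ Cl \ {D.u, D.t * D.u} := by
      rintro _ ⟨g, hg, rfl⟩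
      exact ⟨hc g (hT hg) a ha, fun e => haT (by
        simpa [mul_assoc] using mul_mem (mul_mem (inv_mem hg) ((hT' _ (hc g (hT hg) a ha)).2 e)) hg)⟩
    have := Set.ncard_le_ncard h6
    exact ⟨Set.eq_of_subset_of_ncard_le h6 (by omega), by omega⟩
  have haT : a ∉ D.T := fun e => ha' ((hT' a ha).1 e)
  refine ⟨(key a ha haT).2, ?_⟩
  have star : ∀ a ∈ Cl, a ∉ D.T → D.u * a * D.u = D.t * a := fun a ha haT => by
    obtain ⟨y, hy, e⟩ : D.t * a ∈ {x | ∃ g ∈ D.T, g * a * g⁻¹ = x} := by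
      rw [(key a ha haT).1]
      exact ⟨ht a ha, fun e => haT ((mul_mem_cancel_left D.t_T).1 ((hT' _ (ht a ha)).2 e))⟩
    have h7 : y * y ∈ D.Z := hZ ha haT (mul_mem hy hy) (by
      rw [← mul_inv_eq_iff_eq_mul, show y * y * a * (y * y)⁻¹ = y * (y * a * y⁻¹) * y⁻¹ by group, e,
        ← mul_assoc, ← D.t_comm (D.T_le hy), mul_assoc, mul_assoc, ← mul_assoc y, e, mul_mul_self D.t_sq])
    have h8 := D.T_mod_Z hy D.u_mem (fun hz => D.t_ne (by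
      rw [D.conj_Z' hz (hsq a ha).2.1] at e; simpa using e.symm)) D.u_not h7 (D.u_sq ▸ one_mem _)
    rw [← e, ← D.conj_Z' h8 (mul_mem (mul_mem D.u_H (hsq a ha).2.1) D.u_H)]
    simp [mul_assoc, mul_mul_self D.u_sq, D.u_inv]
  obtain ⟨τ, hτ, -, hτ'⟩ := D.exists_genT
  have ha2 := (hsq a ha).1
  have h9 : τ * (a * τ * a) ∈ D.Z := by
    have := (D.norm_T a (hsq a ha).2.1 _ D.u_mem D.u_not (by
      rw [inv_eq_self ha2, show a * D.u * a = a * (D.u * a * D.u) * D.u by simp [mul_assoc, D.u_sq],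
        star a ha haT, D.t_comm (hsq a ha).2.1, mul_mul_self ha2]
      exact D.tu_mem)).resolve_left haT
    have e : a * τ * a = D.w * τ * D.w := by
      calc a * τ * a = a * D.w * (D.w * τ * D.w) * (a * D.w)⁻¹ := by
            simp [mul_assoc, mul_mul_self D.w_sq, D.w_inv', inv_eq_self ha2]
        _ = _ := by rw [D.T_comm _ this _ (D.w_conj_mem hτ), mul_inv_cancel_right]
    exact e ▸ D.w_inv τ hτ
  set z := τ * (a * τ * a) with hz
  have e1 : a * (τ * a * τ⁻¹) = z * (τ ^ 2)⁻¹ := by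
    rw [pow_two, mul_inv_rev, ← mul_assoc z, D.Z_comm z h9 _ (inv_mem (D.T_le hτ)), hz]; group
  by_cases h10 : τ ^ 2 ∈ D.Z
  · exact ((hτ' 2).1 h10).trans (by decide)
  obtain ⟨g, hg, rfl⟩ := ha
  have hb := hc _ (inv_mem hg) _ (hc τ (hT hτ) _ ⟨g, hg, rfl⟩)
  have e2 := star _ hb fun e => h10 (by
    have : z * (τ ^ 2)⁻¹ ∈ D.Z := by
      rw [← e1, show τ * (g * D.u * g⁻¹) * τ⁻¹ = g * (g⁻¹ * (τ * (g * D.u * g⁻¹) * τ⁻¹) * g⁻¹⁻¹) * g⁻¹ by
        group, conj_mul]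
      rcases (hT' _ hb).1 e with e | e <;> rw [e]
      · simp [D.u_sq]
      · rw [D.utu, D.conj_Z D.t_mem (hH hg)]; exact D.t_mem
    simpa using (mul_mem_cancel_left h9).1 this)
  have hb2 := (hsq _ hb).1
  have e3 : z * (τ ^ 2)⁻¹ * (z * (τ ^ 2)⁻¹) = D.t := by
    rw [← e1, show τ * (g * D.u * g⁻¹) * τ⁻¹ = g * (g⁻¹ * (τ * (g * D.u * g⁻¹) * τ⁻¹) * g⁻¹⁻¹) * g⁻¹ by
      group, conj_mul, conj_mul, ← mul_assoc _ D.u, e2, mul_assoc D.t, hb2, mul_one,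
      D.conj_Z D.t_mem (hH hg)]
  rw [← hτ', ← Subgroup.inv_mem_iff, ← mul_mem_cancel_left (mul_mem h9 h9)]
  rw [mul_assoc, ← mul_assoc _ z, ← D.Z_comm z h9 _ (inv_mem (pow_mem (D.T_le hτ) 2))] at e3
  convert D.t_mem using 1
  rw [← e3]; group

end GD

end H4
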