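import Cfsg.Agent.H4.GD10

/-!
`H4.GD`, linear case: the commuting graph of the root subgroups is a hexagon unless `|G| = 7920`.
-/

set_option autoImplicit false

open Cfsg H4

namespace H4

open Subgroup

theorem norm_sup {G : Type*} [Group G] [Finite G] {X Y P : Subgroup G} (h : Y ≤ normalizer (X : Set G))
    {g : G} (h1 : ∀ x ∈ X, g * x * g⁻¹ ∈ P) (h2 : ∀ x ∈ Y, g * x * g⁻¹ ∈ P) {x : G} (hx : x ∈ X ⊔ Y) :
    g * x * g⁻¹ ∈ P := by
  obtain ⟨a, ha, b, hb, rfl⟩ := (H1.mem_sup_of_le_normalizer h).1 hx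
  rw [← conj_mul]; exact mul_mem (h1 a ha) (h2 b hb)

theorem inv_sup {G : Type*} [Group G] [Finite G] {X Y : Subgroup G} (h : Cm X Y) {s : G} (hs : s * s = 1)
    (h1 : ∀ x ∈ X, s * x * s = x⁻¹) (h2 : ∀ x ∈ Y, s * x * s = x⁻¹) {x : G} (hx : x ∈ X ⊔ Y) :
    s * x * s = x⁻¹ := by
  obtain ⟨a, ha, b, hb, rfl⟩ := (H1.mem_sup_of_le_normalizer h.le).1 hx
  rw [h a ha b hb, mul_inv_rev, ← h1 a ha, ← h2 b hb, ← h a ha b hb]
  simp [mul_assoc, mul_mul_self hs]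

theorem eq_one_of_inv {G : Type*} [Group G] [Finite G] {K : Subgroup G} (hK : Odd (Nat.card K)) {s x : G}
    (hs : s * s = 1) (hx : x ∈ K) (h1 : s * x * s = x⁻¹) (h2 : s * x = x * s) : x = 1 :=
  GD.eq_one_of_odd hK hx (by rw [h2, mul_assoc, hs, mul_one] at h1; nth_rw 1 [h1]; simp)

theorem Cm.sup {G : Type*} [Group G] {A B C : Subgroup G} (h : Cm A B) (h' : Cm A C) : Cm A (B ⊔ C) :=
  fun x hx _ hy => mem_centralizer_iff.1 ((sup_le (fun y hy => mem_centralizer_iff.2 fun x hx => h x hx y hy)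
    fun y hy => mem_centralizer_iff.2 fun x hx => h' x hx y hy : B ⊔ C ≤ centralizer A) hy) x hx

namespace GD

variable {G : Type*} [Group G] [Finite G] {N : NP} {D : GD G N}

theorem card_two {E : GD G N} {b : G} (s : Sib D E D.u b) (hε : N.ε = 1) (h : Cm D.X (D.U D.u b)) :
    Nat.card (D.X ⊔ D.U D.u b : Subgroup G) = N.q ^ 2 := by
  rw [card_sup_of_inf h.le (eq_bot_iff.2 fun x hx =>
    eq_one_of_inv D.X_odd D.u_sq hx.1 (inv_u hε hx.1) (s.cent hε hx.2)), D.cX, s.card hε, pow_two]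

theorem card_three {E E' : GD G N} {b b' : G} (s : Sib D E D.u b) (s' : Sib D E' (D.t * D.u) b')
    (hε : N.ε = 1) (h : Cm D.X (D.U D.u b))
    (hi : ∀ y ∈ D.U D.u b, D.t * D.u * y * (D.t * D.u) = y⁻¹)
    (hn : D.U (D.t * D.u) b' ≤ normalizer ((D.X ⊔ D.U D.u b : Subgroup G) : Set G)) :
    Nat.card (D.X ⊔ D.U D.u b ⊔ D.U (D.t * D.u) b' : Subgroup G) = N.q ^ 3 := by
  rw [card_sup_of_inf hn (eq_bot_iff.2 fun x hx => eq_one_of_inv (s'.odd hε) D.tu_sq hx.2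
    (inv_sup h D.tu_sq (fun _ => inv_tu hε) hi hx.1) (s'.cent hε hx.2)), card_two s hε h, s'.card hε,
    pow_succ _ 2]

theorem Cfg.ZZ (h : D.Cfg) (hε : N.ε = 1) {E : GD G N} {b : G} (s : Sib D E D.u b) {τ x y : G}
    (hτ : τ ∈ D.T) (hx : x ∈ D.X) (hx1 : x ≠ 1) (hy : y ∈ E.X) (hy1 : y ≠ 1) (e : τ * x = x * τ)
    (e' : τ * y = y * τ) : τ = 1 :=
  h.noY τ (D.S_fpf (D.S_eq_T hε ▸ hτ) hx hx1 e) fun g hg => s.cfg.full.mem_Z.1
    (E.S_fpf (E.S_eq_T hε ▸ s.T ▸ hτ) hy hy1 e') g (s.t ▸ hg)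

theorem p_not_dvd_n_T (D : GD G N) : ¬ N.p ∣ N.n * Nat.card D.T := fun h =>
  (N.hp.dvd_mul.1 h).elim N.p_not_dvd_n D.p_not_dvd_T

theorem card_eq' (D : GD G N) : Nat.card G = D.H.index * (N.q * N.n) * Nat.card D.T := by
  rw [← D.index_T, index_mul_card]

theorem Cfg.one (h : D.Cfg) (hε : N.ε = 1) (h1 : Cm D.X (D.U D.u D.t))
    (h2 : ¬ Cm D.X (D.U (D.t * D.u) D.u)) (h3 : ¬ Cm D.X (D.U (D.t * D.u) D.t)) :
    ∃ (P : Subgroup G) (κ : ℕ), Nat.card P = N.q ^ 2 ∧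
      P.relIndex (normalizer (P : Set G)) = κ * Nat.card D.T ∧ (κ = 2 ∨ (κ = N.q + 1 ∧ N.m ∣ 4)) := by
  obtain ⟨g1, -, s1⟩ := h.S_ut
  obtain ⟨g3, -, s3⟩ := h.S_tut
  generalize D.conj g1 = E1 at s1
  generalize D.conj g3 = E3 at s3
  have hP := card_two s1 hε h1
  have hPo : Odd (Nat.card (D.X ⊔ D.U D.u D.t : Subgroup G)) := hP ▸ N.q_odd.pow
  have hi : ∀ x ∈ D.X ⊔ D.U D.u D.t, D.t * D.u * x * (D.t * D.u) = x⁻¹ := fun x =>
    inv_sup h1 D.tu_sq (fun _ => inv_tu hε) fun y hy => by simpa only [D.ut] using s1.inv' hε hy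
  have hT : ∀ τ ∈ D.T, ∀ x ∈ D.X ⊔ D.U D.u D.t, τ * x * τ⁻¹ ∈ D.X ⊔ D.U D.u D.t := fun τ hτ x =>
    norm_sup h1.le (fun x hx => mem_sup_left (D.T_norm_X hε hτ hx))
      fun x hx => mem_sup_right (s1.norm hε hτ hx)
  have mP := fun g => H1.mem_sup_of_le_normalizer h1.le (g := g)
  have hXP : D.X ≤ D.X ⊔ D.U D.u D.t := le_sup_left
  have hYP : D.U D.u D.t ≤ D.X ⊔ D.U D.u D.t := le_sup_right
  generalize D.X ⊔ D.U D.u D.t = P at *
  obtain ⟨x, hx, hx1⟩ := D.exists_X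
  obtain ⟨y, hy, hy1⟩ := E1.exists_X
  have hy' : y ∈ D.U D.u D.t := s1.X hε ▸ hy
  have four : ∀ {K M : Subgroup G}, Odd (Nat.card K) → (∀ r ∈ D.T, ∀ x ∈ K, r * x * r⁻¹ ∈ K) →
      (∀ x ∈ K, x * D.t = D.t * x → x ∈ M) → (∀ x ∈ K, x * D.u = D.u * x → x ∈ M) →
      (∀ x ∈ K, x * (D.t * D.u) = D.t * D.u * x → x ∈ M) → K ≤ M := fun hK hn =>
    le_of_four hK D.t_sq D.u_sq D.ut D.t_ne D.u_ne_one D.u_ne_t
      (fun x hx => by simpa [D.t_inv] using hn _ D.t_T x hx)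
      fun x hx => by simpa [D.u_inv] using hn _ D.u_mem x hx
  have cn : ∀ {K : Subgroup G}, (∀ r ∈ D.T, ∀ x ∈ K, r * x * r⁻¹ ∈ K) →
      ∀ r ∈ D.T, ∀ c ∈ centralizer (K : Set G), r * c * r⁻¹ ∈ centralizer (K : Set G) :=
    fun hK r hr c hc => mem_centralizer_iff.2 fun a ha => by
      have := mem_centralizer_iff.1 hc _ (hK _ (inv_mem hr) a ha)
      calc a * (r * c * r⁻¹) = r * (r⁻¹ * a * r⁻¹⁻¹ * c) * r⁻¹ := by group
        _ = _ := by rw [this]; group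
  have hCo : Odd (Nat.card (centralizer (P : Set G))) := by
    by_contra e
    obtain ⟨⟨s, hs⟩, ho⟩ := exists_prime_orderOf_dvd_card' (G := centralizer (P : Set G)) 2
      (even_iff_two_dvd.1 (Nat.not_odd_iff_even.1 e))
    rw [← orderOf_injective _ (subtype_injective _)] at ho
    obtain ⟨g, rfl⟩ := h.inv_conj (sq_of_orderOf_two ho) (ne_one_of_orderOf ho (by decide))
    have := card_dvd_of_le (show P ≤ (D.conj g).H from fun a ha =>
      h.full.conj g a (mem_centralizer_iff.1 hs a ha))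
    rw [hP, (D.conj g).cH, D.card_conj_Z, pow_two, show Nat.card D.Z * (N.q * N.m * N.n) =
      N.q * (N.n * Nat.card D.T) by rw [D.cT]; ring] at this
    exact D.p_not_dvd_n_T (N.p_dvd_q.trans
      (Nat.dvd_of_mul_dvd_mul_left (by have := N.three_le_q; omega) this))
  have hC : centralizer (P : Set G) ≤ P := by
    refine four hCo (cn hT) (fun c hc e => ?_) (fun c hc e => ?_) fun c hc e => ?_
    · obtain ⟨z, hz, a, ha, rfl⟩ := D.cent_X x hx hx1 c (h.full c e) (mem_centralizer_iff.1 hc x (hXP hx)).symm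
      rw [h.ZZ hε s1 (D.Z_le_T hz) hx hx1 hy hy1 (D.Z_comm z hz x (D.X_le hx)) (mul_right_cancel (b := a) (by
        rw [mul_assoc, ← h1 a ha y hy', ← mul_assoc, ← mem_centralizer_iff.1 hc y (hYP hy'), mul_assoc])),
        one_mul]
      exact hXP ha
    · obtain ⟨z, hz, a, ha, rfl⟩ := E1.cent_X y hy hy1 c (s1.cfg.full c (s1.t ▸ e))
        (mem_centralizer_iff.1 hc y (hYP hy')).symm
      rw [s1.X hε] at ha
      rw [h.ZZ hε s1 (s1.T ▸ E1.Z_le_T hz) hx hx1 hy hy1 (mul_right_cancel (b := a) (by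
        rw [mul_assoc, h1 x hx a ha, ← mul_assoc, ← mem_centralizer_iff.1 hc x (hXP hx), mul_assoc]))
        (E1.Z_comm z hz y (E1.X_le hy)), one_mul]
      exact hYP ha
    · rcases s3.odd_cases hε hCo (cn hT) with e1 | e1 | e1
      · rw [h.ZZ hε s1 (e1 c hc e) hx hx1 hy hy1 (mem_centralizer_iff.1 hc x (hXP hx)).symm
          (mem_centralizer_iff.1 hc y (hYP hy')).symm]
        exact one_mem _
      · exact (h3 fun a ha b hb => mem_centralizer_iff.1 (e1 hb) a (hXP ha)).elim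
      · exact (h2 fun a ha b hb => mem_centralizer_iff.1 (e1 (D.tut.symm ▸ hb)) a (hXP ha)).elim
  have w1 : E3.w * (D.t * D.u) * E3.w⁻¹ = D.t * D.u := s3.t ▸ E3.act_w.1
  have w2 : E3.w * D.t * E3.w⁻¹ = D.u := by have := E3.act_w.2; rwa [s3.t, s3.u, D.tut] at this
  have w3 : E3.w * D.u * E3.w⁻¹ = D.t := by
    rw [← w2, E3.w_inv']; simp [mul_assoc, mul_mul_self E3.w_sq, E3.w_sq]
  have hEN : normalizer (P : Set G) ⊓ E3.H ≤ normalizer (P : Set G) := inf_le_left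
  have hTE : E3.T ≤ normalizer (P : Set G) ⊓ E3.H :=
    le_inf (fun τ hτ => mem_normalizer_of (hT τ (s3.T ▸ hτ))) E3.T_le
  have hN : normalizer (P : Set G) = P ⊔ normalizer (P : Set G) ⊓ E3.H := by
    refine le_antisymm (fun g hg => ?_) (sup_le le_normalizer hEN)
    have h4 : g⁻¹ * (D.t * D.u * g * (D.t * D.u)) ∈ P := hC (mem_centralizer_iff.2 fun a ha => by
      have e1 := hi _ (conj_mem_of_normalizer hg (inv_mem ha))
      have e2 := hi a ha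
      have e3 := D.tu_sq
      generalize D.t * D.u = s at *
      calc a * (g⁻¹ * (s * g * s)) = g⁻¹ * (g * a⁻¹ * g⁻¹)⁻¹ * s * g * s := by group
        _ = g⁻¹ * s * g * a⁻¹ * (g⁻¹ * (s * s) * g) * s := by rw [← e1]; group
        _ = g⁻¹ * s * g * s * a * (s * s) := by rw [e3, ← e2, mul_one, mul_one]; simp [mul_assoc, e3]
        _ = _ := by rw [e3]; group)
    obtain ⟨j, hj, -, e⟩ := exists_cent_inv' D.tu_sq (odd_orderOf hPo h4)
    have hj' : j ∈ P := zpowers_le.2 h4 hj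
    rw [show g = g * j * j⁻¹ by group]
    exact mul_mem (mem_sup_right ⟨mul_mem hg (le_normalizer hj'), s3.cfg.full _ (s3.t ▸ e)⟩)
      (mem_sup_left (inv_mem hj'))
  have hc := relIndex_mul_card' (le_normalizer (H := P))
  nth_rw 2 [hN] at hc
  rw [card_sup_of_inf hEN (eq_bot_iff.2 fun a ha => eq_one_of_inv hPo D.tu_sq ha.1 (hi a ha.1)
    (s3.t ▸ E3.t_comm ha.2.2)), mul_comm, ← relIndex_mul_card' hTE, s3.T] at hc
  refine ⟨P, _, hP, Nat.eq_of_mul_eq_mul_left Nat.card_pos hc, ?_⟩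
  rw [← s3.T]
  refine (E3.sub_T hε hTE ⟨mem_normalizer_of fun a ha => ?_, E3.w_mem⟩ inf_le_right).resolve_left fun e => ?_
  · obtain ⟨a, ha', b, hb, rfl⟩ := (mP a).1 ha
    rw [← conj_mul]
    exact mul_mem (hYP (U_conj' w2 w3 (h.full.U_tu hε ▸ ha'))) (hXP (h.full.U_tu hε ▸ U_conj' w3 w2 hb))
  rw [s3.X hε] at e
  obtain ⟨a, ha, ha1, hc'⟩ := exists_fixed_pgroup N.hp (s3.pgroup hε)
    (fun y hy x hx => conj_mem_of_normalizer (e hy).1 hx) (hP ▸ N.p_dvd_q.trans (dvd_pow_self _ two_ne_zero))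
  have hK : ∀ r ∈ D.T, ∀ x ∈ P ⊓ centralizer (D.U (D.t * D.u) D.t : Set G),
      r * x * r⁻¹ ∈ P ⊓ centralizer (D.U (D.t * D.u) D.t : Set G) := fun r hr x hx =>
    ⟨hT r hr x hx.1, cn (fun r hr x => s3.norm hε hr) r hr x hx.2⟩
  refine ha1 (mem_bot.1 (four (M := ⊥) (hPo.of_dvd_nat (card_dvd_of_le inf_le_left)) hK
    (fun c hc e => ?_) (fun c hc e => ?_) (fun c hc e => eq_one_of_inv hPo D.tu_sq hc.1 (hi c hc.1) e.symm)
    ⟨ha, mem_centralizer_iff.2 hc'⟩))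
  · obtain ⟨a, ha, b, hb, rfl⟩ := (mP c).1 hc.1
    obtain rfl : b = 1 := eq_one_of_inv (s1.odd hε) D.t_sq hb (s1.inv hε hb) (mul_left_cancel (a := a) (by
      rw [← mul_assoc, ← D.t_comm (D.X_le ha), mul_assoc, ← e, mul_assoc]))
    by_contra h5
    exact h3 fun x hx y hy => (mem_centralizer_iff.1
      (D.X_le_of_mem hε hK hc (by simpa using ha) h5 hx).2 y hy).symm
  · obtain ⟨a, ha, b, hb, rfl⟩ := (mP c).1 hc.1
    obtain rfl : a = 1 := eq_one_of_inv D.X_odd D.u_sq ha (inv_u hε ha) (mul_right_cancel (b := b) (by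
      rw [mul_assoc, ← e, mul_assoc, mul_assoc, s1.cent hε hb]))
    by_contra h5
    exact h2 (h.full.U_tu hε ▸ Cm_conj E3.w (fun x hx y hy => (mem_centralizer_iff.1
      (s1.le hε hK hc (by simpa using hb) h5 hx).2 y hy).symm) w3 w2 w1 w2)

theorem Cfg.tri (h : D.Cfg) (hε : N.ε = 1) (h1 : Cm D.X (D.U D.u (D.t * D.u))) :
    ∃ (P : Subgroup G) (κ : ℕ), Nat.card P = N.q ^ 3 ∧
      P.relIndex (normalizer (P : Set G)) = κ * Nat.card D.T ∧ (κ = 3 ∨ (κ = 15 ∧ ¬ 8 ∣ Nat.card D.T)) := by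
  obtain ⟨ρ, hρ, s2⟩ := h.S_utu
  obtain ⟨g3, -, s3⟩ := h.S_tut
  generalize D.conj ρ = E2 at s2
  generalize D.conj g3 = E3 at s3
  have s1 : Sib D D D.t D.u := ⟨h, rfl, rfl, rfl, rfl, rfl⟩
  have r3 : ρ * (D.t * D.u) * ρ⁻¹ = D.t := by rw [hρ.tu, D.utu]
  have eX := h.full.U_tu hε
  have h2 := Cm_conj ρ (eX ▸ h1) hρ.1 hρ.2 hρ.2 r3
  have h3 := Cm_conj ρ h2 hρ.2 r3 r3 hρ.1
  have hn := (h3.sup h2.symm).symm.le
  rw [eX] at hn
  have hP := card_three s2 s3 hε h1 (fun y => s2.inv hε) hn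
  have l1 : D.U D.t D.u ≤ D.X ⊔ D.U D.u (D.t * D.u) ⊔ D.U (D.t * D.u) D.t := eX ▸ le_sup_of_le_left le_sup_left
  have l2 : D.U D.u (D.t * D.u) ≤ D.X ⊔ D.U D.u (D.t * D.u) ⊔ D.U (D.t * D.u) D.t :=
    le_sup_of_le_left le_sup_right
  have l3 : D.U (D.t * D.u) D.t ≤ D.X ⊔ D.U D.u (D.t * D.u) ⊔ D.U (D.t * D.u) D.t := le_sup_right
  have c1 : Cm D.X (D.X ⊔ D.U D.u (D.t * D.u) ⊔ D.U (D.t * D.u) D.t) :=
    (Cm.sup D.X_comm h1).sup (eX ▸ h3.symm)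
  have c2 : Cm E2.X (D.X ⊔ D.U D.u (D.t * D.u) ⊔ D.U (D.t * D.u) D.t) :=
    (Cm.sup (s2.X hε ▸ h1.symm) (s2.X hε ▸ E2.X_comm)).sup (s2.X hε ▸ h2)
  have c3 : Cm E3.X (D.X ⊔ D.U D.u (D.t * D.u) ⊔ D.U (D.t * D.u) D.t) :=
    (Cm.sup (s3.X hε ▸ eX ▸ h3) (s3.X hε ▸ h2.symm)).sup (s3.X hε ▸ E3.X_comm)
  have nP : ∀ g, (∀ x ∈ D.U D.t D.u, g * x * g⁻¹ ∈ D.X ⊔ D.U D.u (D.t * D.u) ⊔ D.U (D.t * D.u) D.t) →
      (∀ x ∈ D.U D.u (D.t * D.u), g * x * g⁻¹ ∈ D.X ⊔ D.U D.u (D.t * D.u) ⊔ D.U (D.t * D.u) D.t) →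
      (∀ x ∈ D.U (D.t * D.u) D.t, g * x * g⁻¹ ∈ D.X ⊔ D.U D.u (D.t * D.u) ⊔ D.U (D.t * D.u) D.t) →
      g ∈ normalizer ((D.X ⊔ D.U D.u (D.t * D.u) ⊔ D.U (D.t * D.u) D.t : Subgroup G) : Set G) :=
    fun g e1 e2 e3 => mem_normalizer_of fun x => norm_sup hn (fun x => norm_sup h1.le (eX ▸ e1) e2) e3
  generalize D.X ⊔ D.U D.u (D.t * D.u) ⊔ D.U (D.t * D.u) D.t = P at *
  have hT : D.T ≤ normalizer (P : Set G) := fun τ hτ => nP τ (fun x hx => l1 (s1.norm hε hτ hx))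
    (fun x hx => l2 (s2.norm hε hτ hx)) fun x hx => l3 (s3.norm hε hτ hx)
  have hρN := nP ρ (fun x hx => l2 (U_conj' hρ.1 hρ.2 hx)) (fun x hx => l3 (U_conj' hρ.2 r3 hx))
    fun x hx => l1 (U_conj' r3 hρ.1 hx)
  have hPo : Odd (Nat.card P) := hP ▸ N.q_odd.pow
  have hpow : ∀ x ∈ P, x ^ N.p ^ (N.f * 3) = 1 := fun x hx => orderOf_dvd_iff_pow_eq_one.1 (by
    rw [pow_mul, ← N.hq, ← hP]; exact P.orderOf_dvd_natCard hx)
  have hTP : ∀ x ∈ D.T, x ∈ P → x = 1 := fun x hx hx' => orderOf_eq_one_iff.1 (Nat.eq_one_of_dvd_coprimes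
    ((N.hp.coprime_iff_not_dvd.2 D.p_not_dvd_T).pow_left _) (orderOf_dvd_of_pow_eq_one (hpow x hx'))
    (D.T.orderOf_dvd_natCard hx))
  let f := QuotientGroup.mk' (P.subgroupOf (normalizer (P : Set G)))
  have hf : ∀ a b, f a = f b ↔ (a : G)⁻¹ * b ∈ P := fun a b => QuotientGroup.eq
  let Tb := (D.T.subgroupOf (normalizer (P : Set G))).map f
  have key : ∀ {E : GD G N} {a b : G}, Sib D E a b → D.U a b ≤ P → Cm E.X P → ∀ ha : a ∈ D.T,
      ∀ g ∈ (⊤ : Subgroup (normalizer (P : Set G) ⧸ P.subgroupOf (normalizer (P : Set G)))),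
      g * f ⟨a, hT ha⟩ = f ⟨a, hT ha⟩ * g → g ∈ Tb := by
    rintro E a b s l c ha ⟨g, hg⟩ - e
    have ha2 : a * a = 1 := s.t ▸ E.t_sq
    have h4 := conj_mem_of_normalizer (hT ha) ((hf (⟨g, hg⟩ * ⟨a, hT ha⟩) (⟨a, hT ha⟩ * ⟨g, hg⟩)).1
      (by rw [map_mul, map_mul]; exact e))
    have h5 : g⁻¹ * (a * g * a) ∈ P := by simpa [mul_assoc, inv_eq_self ha2, mul_mul_self ha2] using h4
    obtain ⟨j, hj, -, e⟩ := exists_cent_inv' ha2 (odd_orderOf hPo h5)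
    have hj' : j ∈ P := zpowers_le.2 h5 hj
    have hH : g * j ∈ E.H := s.cfg.full _ (s.t ▸ e)
    obtain ⟨x, hx, hx1⟩ := E.exists_X
    have h6 := conj_mem_of_normalizer (mul_mem hg (le_normalizer hj')) (l (s.X hε ▸ hx))
    obtain ⟨y, hy, τ, hτ, e⟩ := E.mem_B.1 (E.mem_B_of_conj hH hx hx1 (mem_X_of_B (E.A_le_B (E.mem_A.2
      (E.cent_X x hx hx1 _ (mul_mem (mul_mem hH (E.X_le hx)) (inv_mem hH)) (c x hx _ h6).symm))) (hpow _ h6)))
    rw [E.S_eq_T hε, s.T] at hτ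
    refine ⟨⟨τ, hT hτ⟩, hτ, (hf _ ⟨g, hg⟩).2 ?_⟩
    have := mul_mem (conj_mem_of_normalizer (inv_mem (hT hτ)) (l (s.X hε ▸ hy))) (inv_mem hj')
    rwa [inv_inv, mul_assoc τ⁻¹, ← e, mul_assoc, mul_inv_cancel_right] at this
  have inj : ∀ {a b : G} (ha : a ∈ D.T) (hb : b ∈ D.T), f ⟨a, hT ha⟩ = f ⟨b, hT hb⟩ → a = b :=
    fun ha hb e => inv_mul_eq_one.1 (hTP _ (mul_mem (inv_mem ha) hb) ((hf _ _).1 e))
  have cT : Nat.card Tb = Nat.card D.T := by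
    have := card_map_mul f (K := ⊥) (A := D.T.subgroupOf (normalizer (P : Set G))) bot_le
      (fun a ha e => Subtype.ext (inj ha (one_mem _) e)) (by simp)
    rwa [card_bot, mul_one, Nat.card_congr (subgroupOfEquivOfLe hT).toEquiv] at this
  refine ⟨P, Tb.index, hP, by rw [← cT, index_mul_card]; rfl, ?_⟩
  rcases abc ⊤ Tb (f ⟨D.t, hT D.t_T⟩) (f ⟨D.u, hT D.u_mem⟩) le_top
    (by rintro _ ⟨a, ha, rfl⟩ _ ⟨b, hb, rfl⟩; rw [← map_mul, ← map_mul]; congr 1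
        exact Subtype.ext (D.T_comm _ ha _ hb))
    ⟨_, D.t_T, rfl⟩ ⟨_, D.u_mem, rfl⟩ (fun e => D.t_ne (inj D.t_T (one_mem _) e))
    (fun e => D.u_ne_one (inj D.u_mem (one_mem _) e)) (fun e => D.u_ne_t (inj D.t_T D.u_mem e).symm)
    (by rw [← map_mul, ← f.map_one]; congr 1; exact Subtype.ext D.t_sq)
    (by rw [← map_mul, ← f.map_one]; congr 1; exact Subtype.ext D.u_sq)
    (by rintro _ ⟨⟨a, ha'⟩, ha, rfl⟩ e
        rcases D.T_inv ha (inj (mul_mem ha ha) (one_mem _) e) with rfl | rfl | rfl | rfl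
        exacts [Or.inl rfl, Or.inr (Or.inl rfl), Or.inr (Or.inr (Or.inl rfl)), Or.inr (Or.inr (Or.inr rfl))])
    (key s1 l1 c1 D.t_T) (key s2 l2 c2 D.u_mem) (key s3 l3 c3 D.tu_mem) with e | ⟨-, e | e⟩
  · obtain ⟨⟨τ, hτ'⟩, hτ, e⟩ : f ⟨ρ, hρN⟩ ∈ Tb := e ▸ mem_top _
    refine absurd (inj D.u_mem D.t_T ?_) D.u_ne_t
    calc f ⟨D.u, _⟩ = f ⟨ρ, hρN⟩ * f ⟨D.t, hT D.t_T⟩ * (f ⟨ρ, hρN⟩)⁻¹ := by
          rw [← map_mul, ← map_inv, ← map_mul]; congr 1; exact Subtype.ext hρ.1.symm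
      _ = _ := by
          rw [← e, ← map_mul, ← map_inv, ← map_mul]; congr 1
          exact Subtype.ext (mul_inv_eq_iff_eq_mul.2 (D.T_comm _ hτ _ D.t_T))
  · exact Or.inl (relIndex_top_right Tb ▸ e.1)
  · exact Or.inr ⟨relIndex_top_right Tb ▸ e.1, cT ▸ e.2.1⟩

theorem Cfg.hex (h : D.Cfg) (hε : N.ε = 1) (h1 : Cm D.X (D.U D.u D.t)) (h2 : Cm D.X (D.U (D.t * D.u) D.u))
    {a b : G} (ha : a ∈ D.U (D.t * D.u) D.u) (hb : b ∈ D.U D.u D.t) : a * b * a⁻¹ * b⁻¹ ∈ D.X := by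
  haveI := Fact.mk N.hp
  obtain ⟨g1, -, s1⟩ := h.S_ut
  obtain ⟨g4, -, s4⟩ := h.S_tuu
  have i4 : ∀ y ∈ D.U (D.t * D.u) D.u, D.t * y * D.t = y⁻¹ := fun y hy => by
    simpa only [D.tuu] using s4.inv' hε hy
  have ht := D.B_le_norm (D.B_T hε D.t_T)
  have hV : H16.kleinOf D.t D.u D.t_sq D.u_sq D.ut ≤ D.T := by
    rintro _ (rfl | rfl | rfl | rfl); exacts [one_mem _, D.t_T, D.u_mem, D.tu_mem]
  have hAK : H16.kleinOf D.t D.u D.t_sq D.u_sq D.ut ≤ normalizer (OC (normalizer (D.X : Set G)) : Set G) :=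
    fun v hv => mem_normalizer_of fun x => OC_conj' (D.B_le_norm (D.B_T hε (hV hv)))
  have hco : (Nat.card (H16.kleinOf D.t D.u D.t_sq D.u_sq D.ut)).Coprime
      (Nat.card (OC (normalizer (D.X : Set G)))) := by
    rw [H16.card_kleinOf _ _ _ D.t_ne D.u_ne_one D.u_ne_t]
    exact (Nat.coprime_two_left.2 (OC_odd _)).pow_left 2
  have hs := Or.inl (b := Group.IsSolvable (OC (normalizer (D.X : Set G))))
    (Group.isSolvable_of_comm fun a b : H16.kleinOf D.t D.u D.t_sq D.u_sq D.ut =>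
      Subtype.ext (D.T_comm _ (hV a.2) _ (hV b.2)))
  obtain ⟨P1, l1, n1⟩ := H1.exists_invariant_sylow_le _ _ hAK hco hs N.p (D.U D.u D.t)
    (fun y hy => mem_OC_of_inv ht D.t_sq D.t_ne h.full.isoX (h1.le hy) (odd_orderOf (s1.odd hε) hy)
      (s1.inv hε hy)) (s1.pgroup hε) fun v hv => mem_normalizer_of fun x => s1.norm hε (hV hv)
  obtain ⟨P2, l2, n2⟩ := H1.exists_invariant_sylow_le _ _ hAK hco hs N.p (D.U (D.t * D.u) D.u)
    (fun y hy => mem_OC_of_inv ht D.t_sq D.t_ne h.full.isoX (h2.le hy) (odd_orderOf (s4.odd hε) hy)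
      (i4 y hy)) (s4.pgroup hε) fun v hv => mem_normalizer_of fun x => s4.norm hε (hV hv)
  obtain ⟨c, hc, e⟩ := H1.invariant_sylow_conj _ _ hAK hco hs N.p P2 P1 n2 n1
  have hcT : (c : G) ∈ D.T := h.full.mem_T.2 ⟨(mem_centralizer_iff.1 hc _ (Or.inr (Or.inl rfl))).symm,
    (mem_centralizer_iff.1 hc _ (Or.inr (Or.inr (Or.inl rfl)))).symm⟩
  have l3 : D.U (D.t * D.u) D.u ≤ (P1 : Subgroup _).map (OC (normalizer (D.X : Set G))).subtype :=
    fun y hy => by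
      obtain ⟨z, hz, e'⟩ := l2 (s4.norm hε (inv_mem hcT) hy)
      exact ⟨c * z * c⁻¹, e ▸ ⟨z, hz, rfl⟩, by simp [show (z : G) = _ from e', mul_assoc]⟩
  have hp := P1.2.map (OC (normalizer (D.X : Set G))).subtype
  have hle := map_subtype_le (H := OC (normalizer (D.X : Set G))) P1
  have nt := n1 (Or.inr (Or.inl rfl))
  generalize (P1 : Subgroup _).map (OC (normalizer (D.X : Set G))).subtype = P at *
  obtain ⟨c, hc, j, -, e1, e2, e3⟩ := exists_cent_inv ((OC_odd _).of_dvd_nat (card_dvd_of_le hle)) D.t_sq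
    (fun x hx => by simpa [D.t_inv] using conj_mem_of_normalizer nt hx) (mul_mem (l3 (inv_mem ha)) (l1 (inv_mem hb)))
  obtain ⟨k, hk⟩ := hp ⟨c, hc⟩
  have hX := mem_X_of_B (mem_B_of_norm (OC_le _ (hle hc)) (h.full c e1)) (congrArg Subtype.val hk)
  have e4 : a * b = c * j⁻¹ := by
    calc a * b = D.t * a⁻¹ * D.t * (D.t * b⁻¹ * D.t) := by
          rw [i4 _ (inv_mem ha), s1.inv hε (inv_mem hb), inv_inv, inv_inv]
      _ = D.t * (a⁻¹ * b⁻¹) * D.t := by simp [mul_assoc, mul_mul_self D.t_sq]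
      _ = _ := by rw [e3, ← e2, ← mul_assoc, ← e1]; group
  have e5 : j = c⁻¹ * (a⁻¹ * b⁻¹) := by rw [e3]; group
  rw [e4, e5, mul_inv_rev, mul_inv_rev, inv_inv, inv_inv, inv_inv, mul_assoc b, ← h2 c hX a ha, ← mul_assoc b,
    ← h1 c hX b hb]
  simpa [mul_assoc] using mul_mem hX hX

theorem Cfg.hex_dvd (h : D.Cfg) (hε : N.ε = 1) (h1 : Cm D.X (D.U D.u D.t))
    (h2 : Cm D.X (D.U (D.t * D.u) D.u)) : N.q ^ 3 ∣ Nat.card G := by
  obtain ⟨g1, -, s1⟩ := h.S_ut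
  obtain ⟨g4, -, s4⟩ := h.S_tuu
  rw [← card_three s1 s4 hε h1 (fun y hy => by simpa only [D.ut] using s1.inv' hε hy) fun a ha =>
    mem_normalizer_of fun x => norm_sup h1.le
      (fun x hx => mem_sup_left (conj_mem_of_normalizer (h2.le ha) hx)) fun b hb => by
        simpa using mul_mem (mem_sup_left (h.hex hε h1 h2 ha hb)) (mem_sup_right hb)]
  exact card_subgroup_dvd_card _

/-- The data with `u` replaced by `t u`. -/
def swap (D : GD G N) : GD G N :=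
  { D with u := D.t * D.u, u_mem := D.tu_mem, u_not := D.tu_not, u_sq := D.tu_sq }

theorem Cfg.swap (h : D.Cfg) : D.swap.Cfg := by
  obtain ⟨g, e1, e2⟩ := h.pair_conj D.tu_sq D.tu_ne_one D.u_sq D.u_ne_one D.tu_ne_u.symm
    (by rw [D.utu, D.tuu])
  refine ⟨h.full, ⟨g, e1, by have := Act.tu ⟨e1, e2⟩; rwa [D.tuu] at this⟩, fun z hz hc => h.noY z hz ?_⟩
  intro x hx
  have := hc (D.w * x * D.w) (by
    change _ * (D.t * D.u) = D.t * D.u * _
    rw [← D.w_u]; simp [mul_assoc, mul_mul_self D.w_sq, ← mul_assoc x, hx])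
  have e := D.Z_comm z hz _ D.w_mem
  refine mul_left_cancel (a := D.w) (mul_right_cancel (b := D.w) ?_)
  calc D.w * (z * x) * D.w = z * (D.w * x * D.w) := by rw [← mul_assoc, ← e]; group
    _ = _ := by rw [this, mul_assoc, ← e]; group

omit [Finite G] in
theorem swap_U {a b : G} (ha : a * a = 1) : D.swap.U a (a * b) = D.U a b := by
  ext x
  refine forall_congr' fun g => imp_congr_left ⟨fun h => ⟨h.1, ?_⟩, fun h => ⟨h.1, h.tu⟩⟩
  have := h.tu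
  change g * (D.t * (D.t * D.u)) * g⁻¹ = _ at this
  rwa [D.ttu, mul_mul_self ha] at this

/-- Either `|G| = 7920` or the root subgroups form a hexagon. -/
theorem Cfg.hex_or (h : D.Cfg) (hε : N.ε = 1)
    (hg : (D.H.index : ℤ) = N.q ^ 2 * (N.q ^ 2 + N.q + 1) ∨
      (D.H.index : ℤ) = N.q * (N.q ^ 2 + N.q - 1) * (N.q + 2)) :
    Nat.card G = 7920 ∨ (Cm D.X (D.U D.u D.t) ∧ Cm D.X (D.U (D.t * D.u) D.u) ∧
      D.H.index = N.q ^ 2 * (N.q ^ 2 + N.q + 1)) := by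
  have hc := D.card_eq'
  have hq := N.three_le_q
  have hp := N.three_le_p
  have hN : N.m + 1 = N.q ∧ N.n = N.q + 1 := by have := N.cases; omega
  have hpz : Prime (N.p : ℤ) := Nat.prime_iff_prime_int.1 N.hp
  obtain ⟨r, hr⟩ := N.p_dvd_q
  have hr' : (N.q : ℤ) = N.p * r := by exact_mod_cast hr
  have hT : ¬ (N.p : ℤ) ∣ Nat.card D.T := fun e => D.p_not_dvd_T (Int.natCast_dvd_natCast.1 e)
  have small : ∀ c : ℕ, c ∣ 4 → ¬ (N.p : ℤ) ∣ c := fun c hc e => N.p_ne ((Nat.prime_dvd_prime_iff_eq N.hp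
    Nat.prime_two).1 (N.hp.dvd_of_dvd_pow (n := 2) ((Int.natCast_dvd_natCast.1 e).trans hc)))
  have cong : ∀ {P : Subgroup G} {a κ : ℕ} {c : ℤ}, Nat.card P = N.q ^ a →
      P.relIndex (normalizer (P : Set G)) = κ * Nat.card D.T → (D.H.index : ℤ) * N.q = N.q ^ a * c →
      (N.p : ℤ) ∣ c - κ ∧ (κ : ℤ) ∣ c * N.n := fun {P a κ c} h1 h2 h3 => by
    have e1 := sylow_cong N.hp (h1.trans (by rw [N.hq, ← pow_mul]))
    have e2 : (P.index : ℤ) = c * N.n * Nat.card D.T := mul_right_cancel₀ (b := (N.q : ℤ) ^ a) (by positivity) (by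
      have : (P.index : ℤ) * N.q ^ a = D.H.index * (N.q * N.n) * Nat.card D.T := by
        exact_mod_cast h1 ▸ P.index_mul_card.trans hc
      linear_combination this + N.n * Nat.card D.T * h3)
    have e3 := e1.dvd
    have e4 : ((κ * Nat.card D.T : ℕ) : ℤ) ∣ P.index :=
      Int.natCast_dvd_natCast.2 (h2 ▸ Dvd.intro _ (relIndex_mul_index le_normalizer))
    rw [h2, e2] at e3
    rw [e2] at e4
    push_cast at e3 e4
    refine ⟨?_, (mul_dvd_mul_iff_right (by exact_mod_cast (Nat.card_pos (α := D.T)).ne')).1 e4⟩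
    rw [← sub_mul, hN.2] at e3
    obtain ⟨y, hy⟩ := (hpz.dvd_or_dvd e3).resolve_right hT
    push_cast at hy
    rw [hr'] at hy
    exact ⟨y - r * c, by linear_combination hy⟩
  have G1 : (D.H.index : ℤ) = N.q * (N.q ^ 2 + N.q - 1) * (N.q + 2) → ¬ N.q ^ 3 ∣ Nat.card G := by
    rintro e ⟨c, h1⟩
    have h2 : (N.q : ℤ) * c = (N.q ^ 2 + N.q - 1) * (N.q + 2) * (N.q + 1) * Nat.card D.T :=
      mul_left_cancel₀ (a := (N.q : ℤ) ^ 2) (by positivity) (by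
        have : (N.q : ℤ) ^ 3 * c = D.H.index * (N.q * (N.q + 1)) * Nat.card D.T := by
          exact_mod_cast h1.symm.trans (hN.2 ▸ hc)
        linear_combination this + N.q * (N.q + 1) * Nat.card D.T * e)
    have h3 : (N.p : ℤ) ∣ _ := h2 ▸ hr' ▸ (Dvd.intro _ rfl).mul_right (c : ℤ)
    obtain ⟨y, hy⟩ := (hpz.dvd_or_dvd h3).resolve_right hT
    rw [hr'] at hy
    exact small 2 (by decide) ⟨r * ((N.p * r) ^ 3 + 4 * (N.p * r) ^ 2 + 4 * (N.p * r) - 1) - y,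
      by push_cast; linear_combination -hy⟩
  have one : ∀ {P : Subgroup G} {κ : ℕ}, Nat.card P = N.q ^ 2 →
      P.relIndex (normalizer (P : Set G)) = κ * Nat.card D.T → (κ = 2 ∨ (κ = N.q + 1 ∧ N.m ∣ 4)) →
      Nat.card G = 7920 := fun {P κ} h1 h2 h3 => by
    rcases hg with e | e
    · obtain ⟨y, hy⟩ := (cong (c := N.q * (N.q ^ 2 + N.q + 1)) h1 h2 (by rw [e]; ring)).1
      rcases h3 with rfl | ⟨rfl, -⟩ <;> push_cast at hy <;> rw [hr'] at hy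
      · exact (small 2 (by decide) ⟨r * ((N.p * r) ^ 2 + N.p * r + 1) - y,
          by push_cast; linear_combination -hy⟩).elim
      · exact (small 1 (by decide) ⟨r * ((N.p * r) ^ 2 + N.p * r) - y,
          by push_cast; linear_combination -hy⟩).elim
    have := (cong (c := (N.q ^ 2 + N.q - 1) * (N.q + 2)) h1 h2 (by rw [e]; ring)).1
    rcases h3 with rfl | ⟨rfl, h3⟩
    · rw [hr'] at this
      obtain ⟨y, hy⟩ := this
      exact (small 4 dvd_rfl ⟨r * ((N.p * r) ^ 2 + 3 * (N.p * r) + 1) - y,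
        by push_cast at hy ⊢; linear_combination -hy⟩).elim
    have h4 := Nat.le_of_dvd (by decide) h3
    have h5 := Nat.even_iff.1 N.m_even
    have h6 : N.q = 3 ∨ N.q = 5 := by omega
    rcases h6 with h6 | h6
    · have hZ := Nat.dvd_antisymm ((show N.m = 2 by omega) ▸ D.Z_dvd_m) D.two_dvd_Z
      rw [h6] at e
      rw [hc, D.cT, hZ, hN.2, h6, show N.m = 2 by omega, show D.H.index = 165 by omega]
    · rw [(N.eq_p_of_dvd Nat.prime_five (h6 ▸ dvd_rfl)).symm, h6] at this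
      norm_num at this
  have tri : ¬ Cm D.X (D.U D.u (D.t * D.u)) := fun h1 => by
    obtain ⟨P, κ, h2, h3, h4⟩ := h.tri hε h1
    have e := hg.resolve_right fun e => G1 e (h2 ▸ card_subgroup_dvd_card P)
    obtain ⟨h5, h6⟩ := cong (c := N.q ^ 2 + N.q + 1) h2 h3 (by rw [e]; ring)
    rw [hr'] at h5
    replace h5 : (N.p : ℤ) ∣ 1 - κ := by
      obtain ⟨y, hy⟩ := h5; exact ⟨y - r * (N.p * r + 1), by linear_combination hy⟩
    rcases h4 with rfl | ⟨rfl, h4⟩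
    · exact small 2 (by decide) (by simpa using h5)
    have h7 : N.p = 7 := (Nat.prime_dvd_prime_iff_eq N.hp Nat.prime_seven).1
      ((N.hp.dvd_mul.1 (show N.p ∣ 2 * 7 from Int.natCast_dvd_natCast.1 (by simpa using h5))).resolve_left
        fun e => small 2 (by decide) (Int.natCast_dvd_natCast.2 e))
    have h8 : ∀ f : ℕ, 7 ^ f % 20 = 1 ∨ 7 ^ f % 20 = 7 ∨ 7 ^ f % 20 = 9 ∨ 7 ^ f % 20 = 3 := fun f => by
      induction f with
      | zero => simp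
      | succ f ih => rw [pow_succ]; omega
    have h9 := h8 N.f
    rw [← h7, ← N.hq] at h9
    have h10 : ¬ 4 ∣ N.m := fun e => h4 (D.cT ▸ Nat.mul_dvd_mul D.two_dvd_Z e)
    have h11 : 5 ∣ (N.q ^ 2 + N.q + 1) * (N.q + 1) :=
      Int.natCast_dvd_natCast.1 (by rw [hN.2] at h6; exact_mod_cast Dvd.dvd.trans (by decide : (5 : ℤ) ∣ (15 : ℕ)) h6)
    have h12 : N.q % 5 = 2 ∨ N.q % 5 = 3 := by omega
    rw [Nat.dvd_iff_mod_eq_zero] at h11
    rcases h12 with e | e <;> simp [Nat.mul_mod, Nat.add_mod, Nat.pow_mod, e] at h11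
  have tri' : ¬ Cm D.X (D.U (D.t * D.u) D.t) := fun h1 => by
    obtain ⟨ρ, hρ, -⟩ := h.S_utu
    exact tri (h.full.U_tu hε ▸ (Cm_conj ρ (h.full.U_tu hε ▸ h1) hρ.1 hρ.2 (by rw [hρ.tu, D.utu]) hρ.1).symm)
  by_cases h1 : Cm D.X (D.U D.u D.t) <;> by_cases h2 : Cm D.X (D.U (D.t * D.u) D.u)
  · exact Or.inr ⟨h1, h2, by exact_mod_cast hg.resolve_right fun e => G1 e (h.hex_dvd hε h1 h2)⟩
  · obtain ⟨P, κ, e1, e2, e3⟩ := h.one hε h1 h2 tri'
    exact Or.inl (one e1 e2 e3)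
  · obtain ⟨P, κ, e1, e2, e3⟩ := h.swap.one hε
      (by have := swap_U (D := D) (b := D.u) D.tu_sq; rw [D.tuu] at this; exact this ▸ h2)
      (by have := swap_U (D := D) (b := D.t) D.u_sq
          rw [D.ut] at this
          change ¬ Cm D.X (D.swap.U (D.t * (D.t * D.u)) (D.t * D.u))
          rwa [D.ttu, this])
      (by have := swap_U (D := D) (b := D.t * D.u) D.u_sq
          rw [D.utu] at this
          change ¬ Cm D.X (D.swap.U (D.t * (D.t * D.u)) D.t)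
          rwa [D.ttu, this])
    exact Or.inl (one e1 e2 e3)
  exfalso
  have e := (((h.norm_cases hε).resolve_right (by tauto)))
  have h3 := relIndex_mul_card' D.X_le_B
  rw [D.cB, ← D.cS, D.S_eq_T hε, D.cX, mul_comm, ← e, ← one_mul (Nat.card D.T)] at h3
  have h4 := (cong (c := D.H.index) (D.cX.trans (pow_one _).symm)
    (Nat.eq_of_mul_eq_mul_left (by omega) h3) (by ring)).1
  refine small 1 (by decide) (dvd_neg.1 ((dvd_add_right ?_).1 (sub_eq_add_neg (D.H.index : ℤ) _ ▸ h4)))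
  rcases hg with e | e <;> rw [e, hr']
  exacts [(dvd_pow (Dvd.intro _ rfl) two_ne_zero).mul_right _, ((Dvd.intro _ rfl).mul_right _).mul_right _]

end GD

end H4
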