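import Mathlib
import Cfsg.Agent.H20.St
import Cfsg.Agent.H7.SL
import Cfsg.Agent.H6.BrauerFowler

/-! Steinberg's presentation of `SL₃(F)`. -/

set_option autoImplicit false

open scoped MatrixGroups
namespace H4
/-- Steinberg's relations for `A₂`. -/
structure St3 {G : Type*} [Group G] {F : Type*} [Field F] (x : Fin 3 → Fin 3 → F → G) : Prop where
  add : ∀ i j, i ≠ j → ∀ a b, x i j (a + b) = x i j a * x i j b
  comm : ∀ i j k, i ≠ j → j ≠ k → i ≠ k → ∀ a b,
    x i j a * x j k b * (x i j a)⁻¹ * (x j k b)⁻¹ = x i k (a * b)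
  row : ∀ i j k, i ≠ j → j ≠ k → i ≠ k → ∀ a b, x i j a * x i k b = x i k b * x i j a
  col : ∀ i j k, i ≠ j → j ≠ k → i ≠ k → ∀ a b, x i k a * x j k b = x j k b * x i k a
  hmul : ∀ i j, i ≠ j → ∀ r s, r ≠ 0 → s ≠ 0 →
    (x i j r * x j i (-r⁻¹) * x i j r * (x i j (-1) * x j i 1 * x i j (-1))) *
      (x i j s * x j i (-s⁻¹) * x i j s * (x i j (-1) * x j i 1 * x i j (-1))) =
    x i j (r * s) * x j i (-(r * s)⁻¹) * x i j (r * s) * (x i j (-1) * x j i 1 * x i j (-1))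

end H4

namespace H22.S3

open H20 H4 Matrix

/-- the root system `A₂` -/
def A2 : RS (Fin 6) (Fin 2) where
  rt := ![![-1, -1], ![0, -1], ![-1, 0], ![1, 0], ![0, 1], ![1, 1]]
  co := ![![-1, -1], ![0, -1], ![-1, 0], ![1, 0], ![0, 1], ![1, 1]]
  ca := ![![-1, 1, -2, 2, -1, 1], ![-1, -2, 1, -1, 2, 1]]
  sim := ![3, 4]
  neg := ![5, 4, 3, 2, 1, 0]
  sr := ![![1, 0, 3, 2, 5, 4], ![2, 4, 0, 5, 1, 3]]
  κ := ![1, 2]
  d := fun _ => 1
  nrm := fun _ => 1
  κ_pos := by decide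
  key_mono := by unfold StrictMono; decide
  d_pos := by decide
  nrm_pos := by decide
  co_nrm := by decide
  symm := by decide
  rt_sim := by decide
  rt_neg := by decide
  ca_lin := by decide
  rt_sr := by decide
  pos_or_neg := by simp only [Pi.le_def]; decide
  A_self' := by decide

/-- row index of a root -/
def I : Fin 6 → Fin 3 := ![2, 2, 1, 0, 1, 0]
/-- column index of a root -/
def J : Fin 6 → Fin 3 := ![0, 1, 0, 1, 2, 2]
/-- the root at a position -/
def root : Fin 3 → Fin 3 → Fin 6 := ![![0, 3, 5], ![2, 0, 4], ![0, 1, 0]]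

theorem IJ : ∀ r, I r ≠ J r := by decide
theorem I_neg : ∀ r, I (A2.neg r) = J r := by decide
theorem J_neg : ∀ r, J (A2.neg r) = I r := by decide
theorem I_root : ∀ i j, i ≠ j → I (root i j) = i ∧ J (root i j) = j := by decide

theorem pair_cases : ∀ r s, s ≠ A2.neg r → r = s ∨ (I r = I s ∧ J r ≠ J s) ∨
    (J r = J s ∧ I r ≠ I s) ∨ ∃ k, A2.rt k = A2.rt r + A2.rt s ∧
      ((J r = I s ∧ I r ≠ J s ∧ I k = I r ∧ J k = J s) ∨
        (J s = I r ∧ I s ≠ J r ∧ I k = I s ∧ J k = J r)) := by decide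

theorem wit_cases : ∀ s, ∃ r r', r' ≠ A2.neg r ∧ A2.rt s = A2.rt r + A2.rt r' ∧ r ≠ s ∧ r' ≠ s ∧
    I r = I s ∧ J r = I r' ∧ J r' = J s ∧ I s ≠ J r ∧ J r ≠ J s := by decide

theorem rf_eq (r s : Fin 6) :
    A2.rf r s = root (Equiv.swap (I r) (J r) (I s)) (Equiv.swap (I r) (J r) (J s)) :=
  A2.rt_injective (by rw [RS.rt_rf]; revert r s; decide)

section W

variable {G : Type*} [Group G] {F : Type*} [Field F] {x : Fin 3 → Fin 3 → F → G}

/-- the weak root group structure -/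
def wrg (h : St3 x) : WRG A2 F G where
  x r := x (I r) (J r)
  x_add r := h.add _ _ (IJ r)
  comm r s hs t u := by
    have key : ∀ a b : G, a * b = b * a → a * b * a⁻¹ * b⁻¹ = 1 := fun a b e => by
      rw [e, mul_inv_cancel_right, mul_inv_cancel]
    rcases pair_cases r s hs with rfl | ⟨h1, h2⟩ | ⟨h1, h2⟩ | ⟨k, hk, h1⟩
    · rw [key _ _ (by rw [← h.add _ _ (IJ r), add_comm, h.add _ _ (IJ r)])]
      exact one_mem _
    · rw [key _ _ (by rw [← h1]; exact h.row _ _ _ (IJ r) h2 (h1 ▸ IJ s) t u)]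
      exact one_mem _
    · rw [key _ _ (by rw [← h1]; exact h.col _ _ _ h2 (h1 ▸ IJ s) (IJ r) t u)]
      exact one_mem _
    · have hc : A2.Cone r s k := ⟨1, 1, one_pos, one_pos, by simpa using hk⟩
      rcases h1 with ⟨h1, h2, h3, h4⟩ | ⟨h1, h2, h3, h4⟩
      · rw [← h1, h.comm _ _ _ (IJ r) (h1 ▸ IJ s) h2]
        exact Subgroup.subset_closure ⟨k, hc, _, by rw [h3, h4]⟩
      · have := h.comm _ _ _ (IJ s) (h1 ▸ IJ r) h2 u t
        rw [← inv_mem_iff, ← h1]
        simp only [_root_.mul_inv_rev, inv_inv, ← mul_assoc]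
        rw [this]
        exact Subgroup.subset_closure ⟨k, hc, _, by rw [h3, h4]⟩

theorem wrg_n (h : St3 x) (r : Fin 6) (t : F) :
    (wrg h).n r t = x (I r) (J r) t * x (J r) (I r) (-t⁻¹) * x (I r) (J r) t := by
  simp only [WRG.n, wrg, I_neg, J_neg]

theorem wrg_h_mul (h : St3 x) (r : Fin 6) (t u : F) (ht : t ≠ 0) (hu : u ≠ 0) :
    (wrg h).h r t * (wrg h).h r u = (wrg h).h r (t * u) := by
  simpa only [WRG.h, wrg_n, inv_neg, inv_one, neg_neg] using h.hmul _ _ (IJ r) t u ht hu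

theorem wrg_wit (h : St3 x) : (wrg h).Wit := fun s => by
  obtain ⟨r, r', h1, h2, h3, h4, h5, h6, h7, h8, h9⟩ := wit_cases s
  obtain ⟨w, hw, p1, p2⟩ := A2.exists_common_pos h1
  have hc : A2.Cone r r' s := ⟨1, 1, one_pos, one_pos, by simpa using h2⟩
  refine ⟨w, hw, (hc.map hw).pos p1 p2, fun u => ?_⟩
  have e1 := (wrg h).x_mem_XS (S := {k | A2.Pos (w k) ∧ k ≠ s}) (r := r) ⟨p1, h3⟩ u
  have e2 := (wrg h).x_mem_XS (S := {k | A2.Pos (w k) ∧ k ≠ s}) (r := r') ⟨p2, h4⟩ 1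
  have := mul_mem (mul_mem (mul_mem e1 e2) (inv_mem e1)) (inv_mem e2)
  simp only [wrg] at this
  rwa [h5, ← h6, h7, h.comm _ _ _ h8 h9 (IJ s), mul_one] at this

theorem st3_prod {G' : Type*} [Group G'] {y : Fin 3 → Fin 3 → F → G'} (h : St3 x) (h' : St3 y) :
    St3 fun i j a => (x i j a, y i j a) :=
  ⟨fun i j e a b => Prod.ext (h.add i j e a b) (h'.add i j e a b),
    fun i j k e1 e2 e3 a b => Prod.ext (h.comm i j k e1 e2 e3 a b) (h'.comm i j k e1 e2 e3 a b),
    fun i j k e1 e2 e3 a b => Prod.ext (h.row i j k e1 e2 e3 a b) (h'.row i j k e1 e2 e3 a b),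
    fun i j k e1 e2 e3 a b => Prod.ext (h.col i j k e1 e2 e3 a b) (h'.col i j k e1 e2 e3 a b),
    fun i j e r s hr hs => Prod.ext (h.hmul i j e r s hr hs) (h'.hmul i j e r s hr hs)⟩

end W

variable {F : Type*} [Field F]

/-- elementary matrices -/
def xs (i j : Fin 3) (a : F) : SL(3, F) :=
  if h : i ≠ j then SpecialLinearGroup.transvection h a else 1

theorem xs_val {i j : Fin 3} (h : i ≠ j) (a : F) : (xs i j a).1 = 1 + single i j a := by
  rw [xs, dif_pos h]; rfl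

theorem mul_val (g h : SL(3, F)) : (g * h).1 = g.1 * h.1 := rfl

/-- monomial matrices -/
def mono (π : Equiv.Perm (Fin 3)) (d : Fin 3 → F) : Matrix (Fin 3) (Fin 3) F :=
  of fun a b => if a = π b then d b else 0

theorem mono_mul (π ρ : Equiv.Perm (Fin 3)) (d e : Fin 3 → F) :
    mono π d * mono ρ e = mono (π * ρ) fun b => d (ρ b) * e b := by
  ext a b
  simp only [mono, mul_apply, of_apply, mul_ite, mul_zero, Finset.sum_ite_eq', Finset.mem_univ,
    if_true, ite_mul, zero_mul]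
  rfl

theorem mono_mul_single (π : Equiv.Perm (Fin 3)) (d : Fin 3 → F) (a b : Fin 3) (c u : F)
    (h : c * d b = d a * u) : mono π d * single a b u = single (π a) (π b) c * mono π d := by
  ext i j
  by_cases h1 : b = j <;> by_cases h2 : i = π a <;>
    simp [mono, mul_apply, single, h1, h2, ← h, ite_and, eq_comm]

/-- exponents of the monomial matrix `n_{ij}(t)` -/
def ex (i j b : Fin 3) : ℤ := if b = i then -1 else if b = j then 1 else 0
/-- signs of the monomial matrix `n_{ij}(t)` -/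
def sg (i b : Fin 3) : ℤ := if b = i then -1 else 1

theorem n_val {i j : Fin 3} (h : i ≠ j) {t : F} (ht : t ≠ 0) :
    (xs i j t * xs j i (-t⁻¹) * xs i j t).1 =
      mono (Equiv.swap i j) fun b => sg i b * t ^ ex i j b := by
  rw [mul_val, mul_val, xs_val h, xs_val h.symm]
  simp only [mul_add, add_mul, one_mul, mul_one, single_mul_single_same,
    single_mul_single_of_ne _ _ _ _ h.symm, single_mul_single_of_ne _ _ _ _ h]
  ext a b
  fin_cases i <;> fin_cases j <;> (try exact absurd rfl h) <;> fin_cases a <;> fin_cases b <;>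
    simp [mono, sg, ex, ht, Equiv.swap_apply_def]

theorem h_val {i j : Fin 3} (h : i ≠ j) {t : F} (ht : t ≠ 0) :
    (xs i j t * xs j i (-t⁻¹) * xs i j t * (xs i j (-1) * xs j i 1 * xs i j (-1))).1 =
      mono 1 fun b => t ^ (-ex i j b) := by
  have := n_val h (t := (-1 : F)) (by simp)
  rw [inv_neg, inv_one, neg_neg] at this
  rw [mul_val, n_val h ht, this, mono_mul, Equiv.swap_mul_self]
  congr 1
  ext b
  by_cases h1 : b = i
  · simp [h1, sg, ex, h.symm]
  by_cases h2 : b = j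
  · simp [h2, sg, ex, h.symm]
  · simp [sg, ex, h1, h2, Equiv.swap_apply_of_ne_of_ne]

theorem st3_xs : St3 (xs (F := F)) := by
  refine ⟨fun i j h a b => Subtype.ext ?_, fun i j k h1 h2 h3 a b => ?_,
    fun i j k h1 h2 h3 a b => Subtype.ext ?_, fun i j k h1 h2 h3 a b => Subtype.ext ?_,
    fun i j h r s hr hs => Subtype.ext ?_⟩
  · simp [mul_val, xs_val h, mul_add, add_mul, single_mul_single_of_ne _ _ _ _ h.symm, single_add,
      add_assoc]
  · simp only [xs, dif_pos h1, dif_pos h2, dif_pos h3]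
    exact H7.commutator_transvection h1 h2 h3 a b
  · simp [mul_val, xs_val h1, xs_val h3, mul_add, add_mul, single_mul_single_of_ne _ _ _ _ h1.symm,
      single_mul_single_of_ne _ _ _ _ h3.symm]
    abel
  · simp [mul_val, xs_val h2, xs_val h3, mul_add, add_mul, single_mul_single_of_ne _ _ _ _ h2.symm,
      single_mul_single_of_ne _ _ _ _ h3.symm]
    abel
  · rw [mul_val, h_val h hr, h_val h hs, h_val h (mul_ne_zero hr hs), mono_mul]
    simp [mul_zpow, mul_comm]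

theorem wrg_h_val (r : Fin 6) {t : F} (ht : t ≠ 0) :
    ((wrg st3_xs).h r t).1 = mono 1 fun b => t ^ (-ex (I r) (J r) b) := by
  simpa only [WRG.h, wrg_n, inv_neg, inv_one, neg_neg] using h_val (IJ r) ht

/-- matrices whose column `b` is a multiple of the basis vector; the multiple lies in `M` -/
def colS (b : Fin 3) (M : Subgroup Fˣ) : Subgroup SL(3, F) where
  carrier := {g | ∃ c ∈ M, g.1 *ᵥ Pi.single b 1 = (c : F) • Pi.single b 1}
  one_mem' := ⟨1, one_mem _, by simp [-mulVec_single]⟩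
  mul_mem' := by
    rintro g h ⟨c, hc, e⟩ ⟨d, hd, e'⟩
    exact ⟨d * c, mul_mem hd hc, by rw [mul_val, ← mulVec_mulVec, e', mulVec_smul, e, smul_smul,
      Units.val_mul]⟩
  inv_mem' := by
    rintro g ⟨c, hc, e⟩
    refine ⟨c⁻¹, inv_mem hc, ?_⟩
    rw [Units.val_inv_eq_inv_val, eq_inv_smul_iff₀ c.ne_zero, ← mulVec_smul, ← e, mulVec_mulVec,
      ← mul_val, inv_mul_cancel]
    simp [-mulVec_single]

/-- matrices whose row `a` is a multiple of the basis vector; the multiple lies in `M` -/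
def rowS (a : Fin 3) (M : Subgroup Fˣ) : Subgroup SL(3, F) where
  carrier := {g | ∃ c ∈ M, Pi.single a 1 ᵥ* g.1 = (c : F) • Pi.single a 1}
  one_mem' := ⟨1, one_mem _, by simp⟩
  mul_mem' := by
    rintro g h ⟨c, hc, e⟩ ⟨d, hd, e'⟩
    exact ⟨c * d, mul_mem hc hd, by rw [mul_val, ← vecMul_vecMul, e, smul_vecMul, e', smul_smul,
      Units.val_mul]⟩
  inv_mem' := by
    rintro g ⟨c, hc, e⟩
    refine ⟨c⁻¹, inv_mem hc, ?_⟩
    rw [Units.val_inv_eq_inv_val, eq_inv_smul_iff₀ c.ne_zero, ← smul_vecMul, ← e, vecMul_vecMul,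
      ← mul_val, mul_inv_cancel]
    simp

theorem xs_mem_colS {i j b : Fin 3} (h : i ≠ j) (hb : j ≠ b) (M : Subgroup Fˣ) (a : F) :
    xs i j a ∈ colS b M :=
  ⟨1, one_mem _, by
    ext k
    simp [xs_val h, single, hb, one_apply, Pi.single_apply]⟩

theorem xs_mem_rowS {i j b : Fin 3} (h : i ≠ j) (hb : i ≠ b) (M : Subgroup Fˣ) (a : F) :
    xs i j a ∈ rowS b M :=
  ⟨1, one_mem _, by
    ext k
    simp [xs_val h, single, hb, one_apply, Pi.single_apply, eq_comm]⟩

theorem colS_apply {b : Fin 3} {M : Subgroup Fˣ} {g : SL(3, F)} (h : g ∈ colS b M) :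
    (∃ c ∈ M, g.1 b b = c) ∧ ∀ a, a ≠ b → g.1 a b = 0 := by
  obtain ⟨c, hc, e⟩ := h
  exact ⟨⟨c, hc, by simpa using congrFun e b⟩, fun a ha => by simpa [ha] using congrFun e a⟩

theorem rowS_apply {b : Fin 3} {M : Subgroup Fˣ} {g : SL(3, F)} (h : g ∈ rowS b M) :
    (∃ c ∈ M, g.1 b b = c) ∧ ∀ a, a ≠ b → g.1 b a = 0 := by
  obtain ⟨c, hc, e⟩ := h
  exact ⟨⟨c, hc, by simpa using congrFun e b⟩, fun a ha => by simpa [ha] using congrFun e a⟩

theorem A_eq : ∀ r s, ex (I r) (J r) (I s) = -A2.A r s + ex (I r) (J r) (J s) := by decide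

theorem sg_sq : ∀ i b, sg i b * sg i b = 1 := by decide

theorem sg_rf : ∀ r s, sg (I r) (Equiv.swap (I r) (J r) (I s)) *
    sg (I r) (Equiv.swap (I r) (J r) (J s)) * (sg (I r) (I s) * sg (I r) (J s)) =
      if Even (A2.A r s) then 1 else -1 := by decide

/-- the root group structure of `SL₃(F)` -/
def rg : RG A2 F SL(3, F) where
  toWRG := wrg st3_xs
  η r s := (sg (I r) (I s) * sg (I r) (J s) : ℤ)
  η_sq r s := by rw [← Int.cast_mul, mul_mul_mul_comm, sg_sq, sg_sq]; simp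
  η_neg r s := by rw [I_neg, J_neg, mul_comm]
  η_rf r s := by
    obtain ⟨h1, h2⟩ := I_root _ _ ((Equiv.swap (I r) (J r)).injective.ne (IJ s))
    rw [rf_eq, h1, h2, ← Int.cast_mul, sg_rf, neg_one_zpow_eq_ite]
    split_ifs <;> simp
  conj_n r s t u ht := by
    have h0 := (Equiv.swap (I r) (J r)).injective.ne (IJ s)
    obtain ⟨h1, h2⟩ := I_root _ _ h0
    rw [mul_inv_eq_iff_eq_mul, wrg_n, rf_eq]
    apply Subtype.ext
    simp only [wrg]
    rw [h1, h2, mul_val, mul_val (xs _ _ (_ * _)), n_val (IJ r) ht, xs_val (IJ s), xs_val h0,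
      mul_add, add_mul, mul_one, one_mul, mono_mul_single]
    have := congrArg (Int.cast : ℤ → F) (sg_sq (I r) (J s))
    rw [A_eq, zpow_add₀ ht]
    push_cast at this ⊢
    linear_combination (sg (I r) (I s) * t ^ (-A2.A r s) * u * t ^ ex (I r) (J r) (J s)) * this
  h_mul := wrg_h_mul st3_xs
  nd1 r a hr h := by
    have key : (∀ s, r < s → J s ≠ J r) ∨ ∀ s, r < s → I s ≠ I r := by
      clear h; revert r; decide
    have e : (xs (I r) (J r) a).1 (I r) (J r) = a := by simp [xs_val (IJ r), IJ r]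
    rcases key with h1 | h1
    · exact e.symm.trans ((colS_apply ((WRG.XS_le_iff _).2
        (fun s hs t => xs_mem_colS (IJ s) (h1 s hs) ⊤ t) h)).2 _ (IJ r))
    · exact e.symm.trans ((rowS_apply ((WRG.XS_le_iff _).2
        (fun s hs t => xs_mem_rowS (IJ s) (h1 s hs) ⊤ t) h)).2 _ (IJ r).symm)
  nd2 := by
    have k1 : ∀ s, A2.Pos s → J s ≠ 0 ∧ I s ≠ 2 := by decide
    have k2 : ∀ s, ¬ A2.Pos s → J s ≠ 2 ∧ I s ≠ 0 := by decide
    have h1 : (wrg (st3_xs (F := F))).B ≤ colS 0 ⊤ ⊓ rowS 2 ⊤ := sup_le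
      ((WRG.XS_le_iff _).2 fun s hs t =>
        ⟨xs_mem_colS (IJ s) (k1 s hs).1 ⊤ t, xs_mem_rowS (IJ s) (k1 s hs).2 ⊤ t⟩)
      ((WRG.H_le_iff _).2 fun r t ht =>
        ⟨⟨Units.mk0 _ (zpow_ne_zero (-ex (I r) (J r) 0) ht), trivial, by
          ext k
          simp [wrg_h_val r ht, mono, Pi.single_apply]⟩,
        ⟨Units.mk0 _ (zpow_ne_zero (-ex (I r) (J r) 2) ht), trivial, by
          ext k
          by_cases hk : k = 2 <;> simp [wrg_h_val r ht, mono, hk, eq_comm]⟩⟩)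
    have h2 : (wrg (st3_xs (F := F))).V ≤ colS 2 ⊥ ⊓ rowS 0 ⊥ := (WRG.XS_le_iff _).2 fun s hs t =>
      ⟨xs_mem_colS (IJ s) (k2 s hs).1 ⊥ t, xs_mem_rowS (IJ s) (k2 s hs).2 ⊥ t⟩
    refine eq_bot_iff.2 fun g hg => Subtype.ext ?_
    have e1 := (colS_apply (h1 hg.1).1).2
    have e2 := (rowS_apply (h1 hg.1).2).2
    obtain ⟨⟨_, rfl, e3⟩, e4⟩ := colS_apply (h2 hg.2).1
    obtain ⟨⟨_, rfl, e5⟩, e6⟩ := rowS_apply (h2 hg.2).2
    have e7 := g.2
    rw [det_fin_three, e1 1 (by decide), e1 2 (by decide), e2 1 (by decide), e3, e5] at e7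
    ext a b
    fin_cases a <;> fin_cases b <;> simp_all

theorem rg_hmap {c : Fin 2 → Fˣ} (h : (rg (F := F)).hmap c = 1) : c = 1 := by
  have e : c = Pi.mulSingle 0 (c 0) * Pi.mulSingle 1 (c 1) := by
    ext i; fin_cases i <;> simp
  rw [e, map_mul, SRG.hmap_single, SRG.hmap_single] at h
  have h1 := congrArg Subtype.val h
  rw [mul_val] at h1
  change ((wrg st3_xs).h 3 _).1 * ((wrg st3_xs).h 4 _).1 = 1 at h1
  rw [wrg_h_val _ (c 0).ne_zero, wrg_h_val _ (c 1).ne_zero, mono_mul] at h1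
  have h2 := congrFun (congrFun h1 0) 0
  have h3 := congrFun (congrFun h1 2) 2
  simp [mono, ex, I, J] at h2 h3
  ext i
  fin_cases i <;> simp [h2, h3]

end H22.S3

namespace H4

open H22.S3 H20

theorem St3.exists_hom {G : Type*} [Group G] {F : Type*} [Field F] {x : Fin 3 → Fin 3 → F → G}
    (h : St3 x) : ∃ φ : SL(3, F) →* G, ∀ i j, i ≠ j → ∀ (a : F) (g : SL(3, F)),
      (g : Matrix (Fin 3) (Fin 3) F) = Matrix.transvection i j a → φ g = x i j a := by
  have h' := st3_prod h (st3_xs (F := F))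
  let Y := (wrg h').lift rg (MonoidHom.snd _ _) (fun _ _ => rfl) (wrg_wit h') (wrg_h_mul h')
  have h1 : ∀ g k k', (k, g) ∈ Y.grp → (k', g) ∈ Y.grp → k = k' := fun g k k' e e' => by
    have h2 : (MonoidHom.snd G SL(3, F)) ((k, g) * (k', g)⁻¹) = 1 := mul_inv_cancel g
    obtain ⟨c, hc⟩ := Y.mem_H_iff.1 (RG.mem_H_of_map_eq_one (Y := Y) (X := rg) (fun _ _ => rfl)
      (mul_mem e (inv_mem e')) h2)
    rw [← hc, RG.map_hmap (Y := Y) (X := rg) (fun _ _ => rfl)] at h2
    rw [rg_hmap h2, map_one] at hc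
    exact mul_inv_eq_one.1 (congrArg Prod.fst hc).symm
  have h2 : ∀ i j (e : i ≠ j) a,
      (x i j a, Matrix.SpecialLinearGroup.transvection e a) ∈ Y.grp := fun i j e a => by
    have := Y.x_mem_grp (root i j) a
    change (x _ _ a, xs _ _ a) ∈ _ at this
    rwa [(I_root i j e).1, (I_root i j e).2, xs, dif_pos e] at this
  have h3 : ∀ g, ∃ k, (k, g) ∈ Y.grp := H7.sl_transvection_induction _ ⟨1, one_mem _⟩
    (fun i j e a => ⟨_, h2 i j e a⟩) fun _ _ ⟨k, hk⟩ ⟨k', hk'⟩ => ⟨k * k', mul_mem hk hk'⟩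
  choose φ hφ using h3
  refine ⟨MonoidHom.mk' φ fun a b => h1 _ _ _ (hφ _) (mul_mem (hφ a) (hφ b)),
    fun i j e a g hg => h1 g _ _ (hφ g) ?_⟩
  rw [show g = Matrix.SpecialLinearGroup.transvection e a from Subtype.ext hg]
  exact h2 i j e a

theorem St3.psl3 {G : Type*} [Group G] [Finite G] [IsSimpleGroup G] {F : Type*} [Field F] [Fintype F]
    {x : Fin 3 → Fin 3 → F → G} (h : St3 x) (hne : x 0 1 1 ≠ 1)
    (hcard : Nat.card G ≤ Nat.card SL(3, F)) :
    Nonempty (G ≃* Matrix.ProjectiveSpecialLinearGroup (Fin 3) F) := by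
  obtain ⟨φ, hφ⟩ := h.exists_hom
  have hp := H7.sl_commutator_eq_top (ι := Fin 3) (F := F) (by simp)
  have hs := H7.psl_simple (ι := Fin 3) (F := F) (by simp)
  have h0 : φ.ker ≠ ⊤ := fun e => hne ((hφ 0 1 (by decide) 1
    (Matrix.SpecialLinearGroup.transvection (by decide) 1) rfl).symm.trans (e.ge trivial))
  have key : (∀ a b, φ a * φ b = φ b * φ a) → False := fun H =>
    h0 (top_le_iff.1 (hp.ge.trans (Subgroup.commutator_le.2 fun a _ b _ => by
      rw [MonoidHom.mem_ker, map_commutatorElement, commutatorElement_eq_one_iff_mul_comm, H])))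
  have h1 : φ.ker ≤ Subgroup.center SL(3, F) := by
    rcases (φ.normal_ker.map _ (QuotientGroup.mk'_surjective
      (Subgroup.center SL(3, F)))).eq_bot_or_eq_top with e | e
    · exact fun g hg => (QuotientGroup.eq_one_iff g).1 (e.le (Subgroup.mem_map_of_mem _ hg))
    · refine (key fun a b => ?_).elim
      obtain ⟨k, hk, e'⟩ := e.ge (Subgroup.mem_top (a : SL(3, F) ⧸ Subgroup.center SL(3, F)))
      have e1 := Subgroup.mem_center_iff.1
        (QuotientGroup.eq.1 (show (k : SL(3, F) ⧸ Subgroup.center SL(3, F)) = a from e')) b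
      have e2 : φ a = φ (k⁻¹ * a) := by rw [map_mul, map_inv, show φ k = 1 from hk, inv_one, one_mul]
      rw [e2, ← map_mul, ← e1, map_mul]
  have h2 : φ.range = ⊤ := by
    by_contra hc
    have e1 := Nat.le_of_dvd (Nat.factorial_pos _) (H6.card_dvd_factorial_index hc)
    have e2 := (Subgroup.card_le_of_le h1).trans
      ((H7.card_center_sl rfl 3 (by norm_num)).le.trans (Nat.gcd_le_left _ (by norm_num)))
    have e3 := φ.ker.card_mul_index
    rw [Subgroup.index_ker] at e3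
    have e4 := φ.range.card_mul_index
    have e5 : 0 < Nat.card φ.range := Nat.card_pos
    have e6 : φ.range.index ≤ 3 := by
      by_contra! e6
      nlinarith
    have e7 := Nat.factorial_le e6
    have e8 := H7.card_sl (F := F) rfl 3 (by norm_num)
    have e9 : 1 < Fintype.card F := Fintype.one_lt_card
    have e10 : Nat.card φ.range ≤ Nat.card G := φ.range.card_le_card_group
    have e11 : Nat.card SL(3, F) ≤ 18 := by
      norm_num [Nat.factorial] at e7
      nlinarith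
    generalize Fintype.card F = q at *
    obtain ⟨q, rfl⟩ : ∃ q', q = q' + 2 := ⟨q - 2, by omega⟩
    simp only [Fin.prod_univ_three, Fin.val_zero, Fin.val_one, Fin.val_two] at e8
    rw [show (q + 2) ^ 3 - (q + 2) ^ 0 = (q + 2 - 1) * (q ^ 2 + 5 * q + 7) from
      Nat.sub_eq_of_eq_add (by rw [show q + 2 - 1 = q + 1 from rfl]; ring), mul_assoc,
      mul_assoc, Nat.mul_right_inj (by omega),
      show (q + 2) ^ 3 - (q + 2) ^ 1 = q ^ 3 + 6 * q ^ 2 + 11 * q + 6 from
        Nat.sub_eq_of_eq_add (by ring),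
      show (q + 2) ^ 3 - (q + 2) ^ 2 = q ^ 3 + 5 * q ^ 2 + 8 * q + 4 from
        Nat.sub_eq_of_eq_add (by ring)] at e8
    have := Nat.mul_le_mul (show 7 ≤ q ^ 2 + 5 * q + 7 by omega) (Nat.mul_le_mul
      (show 6 ≤ q ^ 3 + 6 * q ^ 2 + 11 * q + 6 by omega)
      (show 4 ≤ q ^ 3 + 5 * q ^ 2 + 8 * q + 4 by omega))
    omega
  have h3 := MonoidHom.range_eq_top.1 h2
  have h4 : φ.ker = Subgroup.center SL(3, F) := le_antisymm h1 fun z hz => by
    rcases (inferInstance : (Subgroup.center G).Normal).eq_bot_or_eq_top with e | e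
    · refine e.le (Subgroup.mem_center_iff.2 fun g => ?_)
      obtain ⟨g, rfl⟩ := h3 g
      rw [← map_mul, Subgroup.mem_center_iff.1 hz, map_mul]
    · exact (key fun a b => Subgroup.mem_center_iff.1 (e.ge trivial) _).elim
  exact ⟨(QuotientGroup.quotientKerEquivOfSurjective φ h3).symm.trans
    (QuotientGroup.quotientMulEquivOfEq h4)⟩

end H4
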