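import Cfsg.Agent.H4.GD11
import Cfsg.Agent.H4.SL3Rec
import Cfsg.Agent.H7.SL

/-!
`H4.GD`, linear case: the hexagon gives Steinberg's relations for `SL₃`.
-/

set_option autoImplicit false

open Cfsg H4

namespace H4

open Subgroup

section

variable {G : Type*} [Group G] {F : Type*} [Field F]

theorem quad {A B : Subgroup G} (hAB : Cm A B) (hi : ∀ e ∈ A, e ∈ B → e = 1) {x y : G}
    (hxA : ∀ e ∈ A, x * e = e * x) (hxB : ∀ e ∈ B, x * e * x⁻¹ * e⁻¹ ∈ A)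
    (hyB : ∀ e ∈ B, y * e = e * y) (hyA : ∀ e ∈ A, y * e * y⁻¹ * e⁻¹ ∈ B) {e : G} (he : e ∈ B)
    (hn : x * y * x * e * (x * y * x)⁻¹ ∈ A) : x * e * x⁻¹ * e⁻¹ = x * y * x * e * (x * y * x)⁻¹ := by
  have h1 := hxB e he
  have h0 : x * e * x⁻¹ = x * e * x⁻¹ * e⁻¹ * e := by group
  generalize x * e * x⁻¹ * e⁻¹ = φ at *
  have h2 := hyA _ h1
  have h0' : y * φ * y⁻¹ = y * φ * y⁻¹ * φ⁻¹ * φ := by group
  generalize y * φ * y⁻¹ * φ⁻¹ = ψ at *
  have h3 : x * y * x * e * (x * y * x)⁻¹ = φ * (x * (ψ * e) * x⁻¹) := by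
    calc _ = x * (y * (x * e * x⁻¹) * y⁻¹) * x⁻¹ := by group
      _ = x * (y * φ * y⁻¹ * (y * e * y⁻¹)) * x⁻¹ := by rw [h0]; group
      _ = x * φ * (ψ * e) * x⁻¹ := by rw [h0', hyB e he, ← hAB φ h1 ψ h2]; group
      _ = _ := by rw [hxA φ h1]; group
  have h5 := mul_mem h2 he
  generalize ψ * e = f at *
  have h4 : f ∈ A := by
    rw [h3] at hn
    simpa [mul_assoc] using mul_mem (inv_mem (hxB f h5)) ((mul_mem_cancel_left h1).1 hn)
  rw [h3, hi f h4 h5]; simp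

/-- `h(r) h(s) = h(r s)`. -/
def HM (x y : F → G) : Prop := ∀ r s, r ≠ 0 → s ≠ 0 →
  (x r * y (-r⁻¹) * x r * (x (-1) * y 1 * x (-1))) * (x s * y (-s⁻¹) * x s * (x (-1) * y 1 * x (-1))) =
    x (r * s) * y (-(r * s)⁻¹) * x (r * s) * (x (-1) * y 1 * x (-1))

theorem HM.conj {x y : F → G} (h : HM x y) (k : G) :
    HM (fun r => k * x r * k⁻¹) fun r => k * y r * k⁻¹ := fun r s hr hs => by
  simp only [conj_mul, h r s hr hs]

theorem HM.twist {x y : F → G} (h : HM x y) (σ : F →+* F) :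
    HM (fun r => x (σ r)) fun r => y (σ r) := fun r s hr hs => by
  simpa using h (σ r) (σ s) (by simpa using hr) (by simpa using hs)

theorem comm_conj {p q z : G} (h : p * q * p⁻¹ * q⁻¹ = z) (k : G) {p' q' z' : G} (hp : k * p * k⁻¹ = p')
    (hq : k * q * k⁻¹ = q') (hz : k * z * k⁻¹ = z') : p' * q' * p'⁻¹ * q'⁻¹ = z' := by
  rw [← hp, ← hq, ← hz, ← h]; group

theorem ci {k x y : G} (h : k * x * k⁻¹ = y) : k⁻¹ * y * k⁻¹⁻¹ = x := by rw [← h]; group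

end

namespace GL2P

variable {G : Type*} [Group G] [Finite G] {N : NP} {D : GD G N} {F : Type*} [Field F] (P : GL2P D F)

/-- The opposite root elements. -/
def y (a : F) : G := D.w * P.x a * D.w
/-- `n(1)`. -/
def a : G := P.x 1 * P.y (-1) * P.x 1

omit [Finite G] in
theorem x_zero : P.x 0 = 1 := by have := P.x_add 0 0; rw [add_zero] at this; simpa using this
omit [Finite G] in
theorem x_neg (r : F) : P.x (-r) = (P.x r)⁻¹ :=
  eq_inv_of_mul_eq_one_left (by rw [← P.x_add, neg_add_cancel, P.x_zero])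
omit [Finite G] in
theorem x_mem (r : F) : P.x r ∈ D.X := (P.mem_X _).2 ⟨r, rfl⟩
omit [Finite G] in
theorem x_inj' {r s : F} (h : P.x r = P.x s) : r = s :=
  sub_eq_zero.1 (P.x_inj _ (by rw [sub_eq_add_neg, P.x_add, h, P.x_neg, mul_inv_cancel]))
omit [Finite G] in
theorem y_eq (r : F) : P.y r = D.w * P.x r * D.w⁻¹ := by rw [D.w_inv']; rfl
omit [Finite G] in
theorem y_add (r s : F) : P.y (r + s) = P.y r * P.y s := by simp only [y_eq, P.x_add, conj_mul]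
omit [Finite G] in
theorem y_neg (r : F) : P.y (-r) = (P.y r)⁻¹ := by simp only [y_eq, P.x_neg, conj_inv]
omit [Finite G] in
theorem a_inv : P.x (-1) * P.y 1 * P.x (-1) = P.a⁻¹ := by simp [a, P.x_neg, P.y_neg, mul_assoc]
omit [Finite G] in
theorem hm : HM P.x P.y := P.h_mul
omit [Finite G] in
theorem hm' : HM P.y P.x := by
  have := P.hm.conj D.w
  simp only [← P.y_eq] at this
  convert this using 2
  simp [y, D.w_inv', mul_assoc, mul_mul_self D.w_sq, D.w_sq]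

omit [Finite G] in
theorem a_mem : P.a * D.w ∈ D.T := by simpa [a, y] using P.n_mem 1 one_ne_zero

theorem a_conj (hε : N.ε = 1) (r : F) : P.a * P.x r * P.a⁻¹ = P.y (-r) ∧ P.a * P.y r * P.a⁻¹ = P.x (-r) := by
  obtain ⟨c, hc, h1, h2⟩ := P.T_act _ P.a_mem
  have e1 : ∀ r, P.a * P.x r * P.a⁻¹ = P.y (c⁻¹ * r) := fun r => by
    simpa [mul_assoc, mul_mul_self D.w_sq, D.w_inv', y] using h2 r
  have e2 : ∀ r, P.a * P.y r * P.a⁻¹ = P.x (c * r) := fun r => by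
    simpa [mul_assoc, D.w_inv', y] using h1 r
  have e3 : P.a = P.y (c⁻¹ * 1) * P.x (c * -1) * P.y (c⁻¹ * 1) := by
    rw [← e1, ← e2, conj_mul, conj_mul, ← a]; group
  have e4 : P.a = P.y (c⁻¹ * 1) * P.x 1 * P.y (-1) := by
    rw [← e1]; simp only [a]; group
  have e5 : P.x (-(c * -1) + 1) = D.w * P.x (c⁻¹ * 1 + 1) * D.w := by
    have : P.x (c * -1) * P.y (c⁻¹ * 1) = P.x 1 * P.y (-1) :=
      mul_left_cancel (by rw [← mul_assoc, ← mul_assoc, ← e3, ← e4])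
    rw [P.x_add, P.x_neg, ← y, P.y_add, inv_mul_eq_iff_eq_mul, ← mul_assoc, this, P.y_neg]; group
  have e6 : c = -1 := by
    by_contra h
    refine GD.w_not_B hε (D.mem_B_of_conj D.w_mem (P.x_mem (c⁻¹ * 1 + 1)) (fun e => h ?_) ?_)
    · have := P.x_inj _ e
      rw [← inv_inv c, show c⁻¹ = -1 by linear_combination this]; simp
    · rw [D.w_inv', ← e5]; exact P.x_mem _
  simpa [e6] using And.intro (e1 r) (e2 r)

theorem a_act (hF : D.Full) : D.Act P.a D.t (D.t * D.u) := hF.act_w.2 P.a_mem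

theorem a_sq (hε : N.ε = 1) (hF : D.Full) : P.a * P.a = 1 ∨ P.a * P.a = D.t := by
  have h1 := (P.a_act hF).mul (k := P.a)
  rw [(P.a_act hF).1, (P.a_act hF).tu, D.ttu] at h1
  refine D.Z_inv (D.S_fpf (D.S_eq_T hε ▸ hF.act_T.1 h1) (P.x_mem 1) (fun e => one_ne_zero (P.x_inj _ e)) ?_) ?_
  · rw [← mul_inv_eq_iff_eq_mul, show P.a * P.a * P.x 1 * (P.a * P.a)⁻¹ =
      P.a * (P.a * P.x 1 * P.a⁻¹) * P.a⁻¹ by group, (P.a_conj hε 1).1, (P.a_conj hε _).2, neg_neg]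
  · have := P.hm (-1) (-1) (by simp) (by simp)
    simp only [inv_neg, inv_one, neg_neg, neg_mul, one_mul, P.a_inv] at this
    rw [← a, mul_inv_cancel] at this
    simpa [mul_assoc] using congrArg Inv.inv this

end GL2P

namespace GD

variable {G : Type*} [Group G] [Finite G] {N : NP} {D : GD G N} {F : Type*} [Field F]

theorem Cfg.hexS (h : D.Cfg) (hε : N.ε = 1) (h1 : Cm D.X (D.U D.u D.t)) (h2 : Cm D.X (D.U (D.t * D.u) D.u))
    {g a b c : G} (hg : D.Act g a b) (hc : a * b = c) : Cm (D.U a b) (D.U b a) ∧ Cm (D.U a b) (D.U c b) ∧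
      ∀ x ∈ D.U c b, ∀ y ∈ D.U b a, x * y * x⁻¹ * y⁻¹ ∈ D.U a b := by
  have eX := h.full.U_tu hε
  have h3 := hg.tu.trans hc
  refine ⟨Cm_conj g (eX ▸ h1) hg.1 hg.2 hg.2 hg.1, Cm_conj g (eX ▸ h2) hg.1 hg.2 h3 hg.2, fun x hx y hy => ?_⟩
  have := h.hex hε h1 h2 (U_conj' (ci h3) (ci hg.2) hx) (U_conj' (ci hg.2) (ci hg.1) hy)
  rw [← eX] at this
  simpa [mul_assoc] using U_conj' hg.1 hg.2 this

theorem Cfg.st3 (h : D.Cfg) (hε : N.ε = 1) (P : GL2P D F) (h1 : Cm D.X (D.U D.u D.t))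
    (h2 : Cm D.X (D.U (D.t * D.u) D.u)) : ∃ x : Fin 3 → Fin 3 → F → G, St3 x ∧ x 0 1 1 ≠ 1 := by
  have eX := h.full.U_tu hε
  obtain ⟨g, hg, s23⟩ := h.S_utu
  obtain ⟨g13, hg13, s13⟩ := h.S_tuu
  obtain ⟨g31, hg31, s31⟩ := h.S_tut
  obtain ⟨g32, hg32, s32⟩ := h.S_ut
  obtain ⟨g21, -, s21⟩ := h.exists_Sib D.t_T D.tu_mem D.t_sq D.tu_sq D.t_ne D.tu_ne_one D.tu_ne_t
  obtain ⟨-, c21, -⟩ := h.hexS hε h1 h2 D.act_w D.ttu
  obtain ⟨c13, -, k13⟩ := h.hexS hε h1 h2 hg13 D.tuu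
  obtain ⟨-, -, k23⟩ := h.hexS hε h1 h2 hg D.utu
  obtain ⟨c31, c31', -⟩ := h.hexS hε h1 h2 hg31 D.tut
  have ha := P.a_act h.full
  have a3 : P.a * (D.t * D.u) * P.a⁻¹ = D.u := by rw [ha.tu, D.ttu]
  have g3 : g * (D.t * D.u) * g⁻¹ = D.t := by rw [hg.tu, D.utu]
  have m12 : ∀ r, P.x r ∈ D.U D.t D.u := fun r => eX ▸ P.x_mem r
  have m21 : ∀ r, P.y r ∈ D.U D.t (D.t * D.u) := fun r => P.y_eq r ▸ U_conj' D.act_w.1 D.act_w.2 (m12 r)
  have m23 : ∀ r, g * P.x r * g⁻¹ ∈ D.U D.u (D.t * D.u) := fun r => U_conj' hg.1 hg.2 (m12 r)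
  have m32 : ∀ r, g * P.y r * g⁻¹ ∈ D.U D.u D.t := fun r => U_conj' hg.1 g3 (m21 r)
  have m13 : ∀ r, P.a * (g * P.x r * g⁻¹) * P.a⁻¹ ∈ D.U (D.t * D.u) D.u := fun r => U_conj' ha.2 a3 (m23 r)
  have m31 : ∀ r, P.a * (g * P.y r * g⁻¹) * P.a⁻¹ ∈ D.U (D.t * D.u) D.t := fun r => U_conj' ha.2 ha.1 (m32 r)
  have hT : ∀ τ ∈ D.T, (P.a * g)⁻¹ * τ * (P.a * g) ∈ D.T := fun τ hτ => by
    have e := hg.mul (k := P.a)
    rw [ha.2, a3] at e
    have := e.mul (k := τ)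
    rw [D.T_comm τ hτ _ D.tu_mem, D.T_comm τ hτ _ D.u_mem, mul_inv_cancel_right, mul_inv_cancel_right] at this
    rw [mul_assoc]
    exact e.inv_mul h.full this
  have inj : ∀ {r s : F}, P.a * (g * P.x r * g⁻¹) * P.a⁻¹ = P.a * (g * P.x s * g⁻¹) * P.a⁻¹ → r = s :=
    fun e => P.x_inj' (by simpa using e)
  have Q : ∀ r, ∃ c, (∀ s, P.x r * (g * P.x s * g⁻¹) * (P.x r)⁻¹ * (g * P.x s * g⁻¹)⁻¹ =
      P.a * (g * P.x (c * s) * g⁻¹) * P.a⁻¹) ∧ (r ≠ 0 → ∀ s,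
        P.x r * P.y (-r⁻¹) * P.x r * P.a⁻¹ * (P.a * (g * P.x s * g⁻¹) * P.a⁻¹) *
        (P.x r * P.y (-r⁻¹) * P.x r * P.a⁻¹)⁻¹ = P.a * (g * P.x (c * s) * g⁻¹) * P.a⁻¹) := fun r => by
    by_cases hr : r = 0
    · exact ⟨0, fun s => by simp [hr, P.x_zero], fun e => absurd hr e⟩
    have n1 : D.Act (P.x r * P.y (-r⁻¹) * P.x r) D.t (D.t * D.u) := h.full.act_w.2 (P.n_mem r hr)
    obtain ⟨c, -, e, -⟩ := P.T_act _ (hT (P.x r * P.y (-r⁻¹) * P.x r * P.a⁻¹) (by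
      simpa [mul_assoc, D.w_inv', mul_mul_self D.w_sq, GL2P.y] using mul_mem (P.n_mem r hr) (inv_mem P.a_mem)))
    have e' : ∀ s, P.x r * P.y (-r⁻¹) * P.x r * P.a⁻¹ * (P.a * (g * P.x s * g⁻¹) * P.a⁻¹) *
        (P.x r * P.y (-r⁻¹) * P.x r * P.a⁻¹)⁻¹ = P.a * (g * P.x (c * s) * g⁻¹) * P.a⁻¹ := fun s => by
      rw [← e]; group
    refine ⟨c, fun s => ?_, fun _ => e'⟩
    rw [quad c13 (fun e h1 h2 => eq_one_of_inv (s13.odd hε) D.u_sq h1 (s13.inv hε h1) (s23.cent hε h2))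
      (h2 _ (P.x_mem r)) (k13 _ (m12 r)) (c21 _ (m21 _)) (k23 _ (m21 _)) (m23 s)
      (U_conj' n1.2 (by rw [n1.tu, D.ttu]) (m23 s)), ← e']
    group
  choose σ₀ Q1 Q2 using Q
  have σ1 : σ₀ 1 = 1 := by
    have := Q2 1 one_ne_zero 1
    rw [inv_one, ← GL2P.a, mul_inv_cancel, one_mul, inv_one, mul_one, mul_one] at this
    exact (inj this).symm
  have σa : ∀ r s, σ₀ (r + s) = σ₀ r + σ₀ s := fun r s => inj (by
    have e1 := Q1 r 1
    have e2 := Q1 s 1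
    have e3 := Q1 (r + s) 1
    rw [mul_one] at e1 e2 e3
    rw [← e3, add_comm (σ₀ r), P.x_add (σ₀ s), ← conj_mul (b := g), ← conj_mul (b := P.a), ← e1,
      ← mul_inv_cancel_right (P.a * (g * P.x (σ₀ s) * g⁻¹) * P.a⁻¹) (P.x r), ← h2 _ (P.x_mem r) _ (m13 _),
      ← e2, P.x_add]
    group)
  have σ0 : σ₀ 0 = 0 := by simpa using σa 0 0
  let σ : F →+* F :=
    { toFun := σ₀, map_one' := σ1, map_zero' := σ0, map_add' := σa
      map_mul' := fun r s => by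
        by_cases hr : r = 0
        · simp [hr, σ0]
        by_cases hs : s = 0
        · simp [hs, σ0]
        have e := P.hm r s hr hs
        rw [P.a_inv] at e
        refine inj ?_
        rw [← mul_one (σ₀ (r * s)), ← Q2 _ (mul_ne_zero hr hs), ← e, ← Q2 r hr, ← mul_one (σ₀ s), ← Q2 s hs]
        group }
  have aa : P.a * P.a = D.t := (P.a_sq hε h.full).resolve_left fun e => by
    have := Q2 (-1) (by simp) 1
    rw [inv_neg, inv_one, neg_neg, P.a_inv, ← mul_inv_rev, e, inv_one, one_mul, inv_one, mul_one,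
      show σ₀ (-1) = -1 from (σ.map_neg 1).trans (congrArg Neg.neg σ1)] at this
    have e2 := D.X_sq (P.x_mem 1) (by rw [← P.x_add]; nth_rw 1 [inj this]; simp [P.x_zero])
    exact one_ne_zero (P.x_inj _ e2)
  obtain ⟨x23, e23⟩ : ∃ f : F → G, f = fun s => g * P.x (σ s) * g⁻¹ := ⟨_, rfl⟩
  obtain ⟨x32, e32⟩ : ∃ f : F → G, f = fun s => g * P.y (σ s) * g⁻¹ := ⟨_, rfl⟩
  obtain ⟨x13, e13⟩ : ∃ f : F → G, f = fun s => P.a * x23 s * P.a⁻¹ := ⟨_, rfl⟩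
  obtain ⟨x31, e31⟩ : ∃ f : F → G, f = fun s => P.a * x32 s * P.a⁻¹ := ⟨_, rfl⟩
  have n23 : ∀ s, x23 s ∈ D.U D.u (D.t * D.u) := fun s => e23 ▸ m23 _
  have n32 : ∀ s, x32 s ∈ D.U D.u D.t := fun s => e32 ▸ m32 _
  have n13 : ∀ s, x13 s ∈ D.U (D.t * D.u) D.u := fun s => by rw [e13, e23]; exact m13 _
  have n31 : ∀ s, x31 s ∈ D.U (D.t * D.u) D.t := fun s => by rw [e31, e32]; exact m31 _
  have d23 : ∀ r s, x23 (r + s) = x23 r * x23 s := fun r s => by simp only [e23, map_add, P.x_add, conj_mul]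
  have d32 : ∀ r s, x32 (r + s) = x32 r * x32 s := fun r s => by simp only [e32, map_add, P.y_add, conj_mul]
  have d13 : ∀ r s, x13 (r + s) = x13 r * x13 s := fun r s => by simp only [e13, d23, conj_mul]
  have d31 : ∀ r s, x31 (r + s) = x31 r * x31 s := fun r s => by simp only [e31, d32, conj_mul]
  have i23 : ∀ r, x23 (-r) = (x23 r)⁻¹ := fun r => by simp only [e23, map_neg, P.x_neg, conj_inv]
  have i32 : ∀ r, x32 (-r) = (x32 r)⁻¹ := fun r => by simp only [e32, map_neg, P.y_neg, conj_inv]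
  have i13 : ∀ r, x13 (-r) = (x13 r)⁻¹ := fun r => by simp only [e13, i23, conj_inv]
  have i31 : ∀ r, x31 (-r) = (x31 r)⁻¹ := fun r => by simp only [e31, i32, conj_inv]
  have R123 : ∀ r s, P.x r * x23 s * (P.x r)⁻¹ * (x23 s)⁻¹ = x13 (r * s) := fun r s => by
    simp only [e13, e23, map_mul]; exact Q1 r _
  have A12 := fun r => (P.a_conj hε r).1
  have A21 := fun r => (P.a_conj hε r).2
  have A23 : ∀ r, P.a * x23 r * P.a⁻¹ = x13 r := fun r => by rw [e13]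
  have A32 : ∀ r, P.a * x32 r * P.a⁻¹ = x31 r := fun r => by rw [e31]
  have sq : ∀ {k s x : G}, k * k = s → s * s = 1 → s * x * s = x⁻¹ → k * (k * x * k⁻¹) * k⁻¹ = x⁻¹ :=
    fun {k s x} e1 e2 e3 => by rw [← e3]; nth_rw 2 [← inv_eq_self e2]; rw [← e1]; group
  have A13 : ∀ r, P.a * x13 r * P.a⁻¹ = x23 (-r) := fun r => by
    rw [← A23, i23, sq aa D.t_sq (by simpa only [D.utu] using s23.inv' hε (n23 r))]
  have A31 : ∀ r, P.a * x31 r * P.a⁻¹ = x32 (-r) := fun r => by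
    rw [← A32, i32, sq aa D.t_sq (s32.inv hε (n32 r))]
  obtain ⟨b, eb⟩ : ∃ b, b = g * P.a * g⁻¹ := ⟨_, rfl⟩
  have eb' : b = x23 1 * x32 (-1) * x23 1 := by simp only [eb, e23, e32, map_neg, map_one, conj_mul, GL2P.a]
  have bb : b * b = D.u := by rw [eb, conj_mul, aa, hg.1]
  have b1 : b * D.u * b⁻¹ = D.u := by rw [← bb]; group
  have b2 : b * (D.t * D.u) * b⁻¹ = D.t := by
    rw [eb]; nth_rw 1 [← hg.2]; rw [conj_inv, conj_mul, conj_mul, ha.2, g3]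
  have b3 : b * D.t * b⁻¹ = D.t * D.u := by rw [← D.tuu, ← conj_mul, b1, b2, D.tuu]
  have B23 : ∀ r, b * x23 r * b⁻¹ = x32 (-r) := fun r => by
    simp only [eb, e23, e32, map_neg, ← A12]; group
  have B32 : ∀ r, b * x32 r * b⁻¹ = x23 (-r) := fun r => by
    simp only [eb, e23, e32, map_neg, ← A21]; group
  have B12 : ∀ r, b * P.x r * b⁻¹ = x13 (-r) := fun r => by
    rw [eb', ← quad (eX ▸ h2.symm) (fun e h1 h2 => eq_one_of_inv (s13.odd hε) D.t_sq h1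
        (by simpa only [D.tuu] using s13.inv' hε h1) (D.t_comm (D.X_le (eX ▸ h2)))) (c13.symm _ (n23 1))
      (fun e he => by simpa [mul_assoc] using inv_mem (k13 e he _ (n23 1))) ((eX ▸ h1.symm) _ (n32 _))
      (fun e he => by simpa [mul_assoc, eX] using inv_mem (h.hex hε h1 h2 he (n32 (-1)))) (m12 r)
      (eb' ▸ U_conj' b3 b1 (m12 r)), i13, ← mul_one r, ← R123, mul_one]
    group
  have B13 : ∀ r, b * x13 r * b⁻¹ = P.x r := fun r => by
    rw [← neg_neg r, ← B12, sq bb D.u_sq (inv_u hε (P.x_mem _)), ← P.x_neg]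
  have braid : b * P.a⁻¹ * b⁻¹ = P.a * b * P.a⁻¹ := by
    have t1 := (Act.mul (k := b) (D := D) ⟨ci ha.1, ci a3⟩)
    rw [b3, b2] at t1
    replace t1 := t1.mul (k := P.a)
    rw [a3, ha.1] at t1
    have t2 := (Act.mul (k := P.a⁻¹) (D := D) ⟨ci b2, ci b1⟩)
    rw [ci ha.2, ci a3] at t2
    replace t2 := t2.mul (k := b)
    rw [b1, b2] at t2
    have t3 := t1.inv_mul h.full t2
    have e1 : P.a * (b * P.a⁻¹) = x13 1 * x31 (-1) * x13 1 := by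
      rw [← A23, ← A32, conj_mul, conj_mul, ← eb', mul_assoc]
    have e2 : b * (P.a⁻¹ * b⁻¹) = x13 1 * (b * P.y 1 * b⁻¹) * x13 1 := by
      rw [← neg_neg 1, ← B12, neg_neg, conj_mul, conj_mul, P.a_inv, mul_assoc]
    have e3 := mul_mem (inv_mem (n31 (-1))) (U_conj' b3 b2 (m21 1))
    rw [mul_assoc, mul_assoc, eq_comm, ← inv_mul_eq_one]
    refine eq_one_of_pow D.p_not_dvd_T t3 ?_
    rw [e1, e2, show (x13 1 * x31 (-1) * x13 1)⁻¹ * (x13 1 * (b * P.y 1 * b⁻¹) * x13 1) =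
      (x13 1)⁻¹ * ((x31 (-1))⁻¹ * (b * P.y 1 * b⁻¹)) * (x13 1)⁻¹⁻¹ by group, conj_pow,
      (D.conj g31).X_pow _ (s31.X hε ▸ e3)]
    simp
  have B21 : ∀ r, b * P.y r * b⁻¹ = x31 (-r) := fun r => by
    calc b * P.y r * b⁻¹ = b * P.a⁻¹ * b⁻¹ * (b * (P.a * P.y r * P.a⁻¹) * b⁻¹) * (b * P.a⁻¹ * b⁻¹)⁻¹ := by group
      _ = _ := by rw [braid, A21, B12, neg_neg, ← A32, ← B23, ← A23]; group
  have B31 : ∀ r, b * x31 r * b⁻¹ = P.y r := fun r => by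
    rw [← neg_neg r, ← B21, sq bb D.u_sq (by simpa only [D.ttu] using s21.inv' hε (m21 (-r))), ← P.y_neg]
  have R213 : ∀ r s, P.y r * x13 s * (P.y r)⁻¹ * (x13 s)⁻¹ = x23 (r * s) := fun r s =>
    comm_conj (R123 (-r) s) P.a (by rw [A12, neg_neg]) (A23 s) (by rw [A13, neg_mul, neg_neg])
  have R132 : ∀ r s, x13 r * x32 s * (x13 r)⁻¹ * (x32 s)⁻¹ = P.x (r * s) := fun r s =>
    comm_conj (R123 (-r) (-s)) b (by rw [B12, neg_neg]) (by rw [B23, neg_neg]) (by rw [B13, neg_mul_neg])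
  have R312 : ∀ r s, x31 r * P.x s * (x31 r)⁻¹ * (P.x s)⁻¹ = x32 (r * s) := fun r s =>
    comm_conj (R213 (-r) s) b (by rw [B21, neg_neg]) (B13 s) (by rw [B23, neg_mul, neg_neg])
  have R231 : ∀ r s, x23 r * x31 s * (x23 r)⁻¹ * (x31 s)⁻¹ = P.y (r * s) := fun r s =>
    comm_conj (R132 (-r) s) P.a (by rw [A13, neg_neg]) (A32 s) (by rw [A12, neg_mul, neg_neg])
  have R321 : ∀ r s, x32 r * P.y s * (x32 r)⁻¹ * (P.y s)⁻¹ = x31 (r * s) := fun r s =>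
    comm_conj (R312 (-r) (-s)) P.a (by rw [A31, neg_neg]) (by rw [A12, neg_neg]) (by rw [A32, neg_mul_neg])
  have H23 : HM x23 x32 := e23 ▸ e32 ▸ (P.hm.conj g).twist σ
  have H32 : HM x32 x23 := e23 ▸ e32 ▸ (P.hm'.conj g).twist σ
  have H13 : HM x13 x31 := e13 ▸ e31 ▸ H23.conj P.a
  have H31 : HM x31 x13 := e13 ▸ e31 ▸ H32.conj P.a
  refine ⟨![![1, P.x, x13], ![P.y, 1, x23], ![x31, x32, 1]], ⟨?_, ?_, ?_, ?_, ?_⟩,
    fun e => one_ne_zero (P.x_inj _ e)⟩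
  · intro i j hij
    fin_cases i <;> fin_cases j <;> first | exact absurd rfl hij | skip
    exacts [P.x_add, d13, P.y_add, d23, d31, d32]
  · intro i j k hij hjk hik
    fin_cases i <;> fin_cases j <;> fin_cases k <;>
      first | exact absurd rfl hij | exact absurd rfl hjk | exact absurd rfl hik | skip
    exacts [R123, R132, R213, R231, R312, R321]
  · intro i j k hij hjk hik r s
    fin_cases i <;> fin_cases j <;> fin_cases k <;>
      first | exact absurd rfl hij | exact absurd rfl hjk | exact absurd rfl hik | skip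
    exacts [h2 _ (P.x_mem r) _ (n13 s), h2.symm _ (n13 r) _ (P.x_mem s), c21 _ (m21 r) _ (n23 s),
      c21.symm _ (n23 r) _ (m21 s), c31' _ (n31 r) _ (n32 s), c31'.symm _ (n32 r) _ (n31 s)]
  · intro i j k hij hjk hik r s
    fin_cases i <;> fin_cases j <;> fin_cases k <;>
      first | exact absurd rfl hij | exact absurd rfl hjk | exact absurd rfl hik | skip
    exacts [c13 _ (n13 r) _ (n23 s), h1 _ (P.x_mem r) _ (n32 s), c13.symm _ (n23 r) _ (n13 s),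
      c31.symm _ (m21 r) _ (n31 s), h1.symm _ (n32 r) _ (P.x_mem s), c31 _ (n31 r) _ (m21 s)]
  · intro i j hij
    fin_cases i <;> fin_cases j <;> first | exact absurd rfl hij | skip
    exacts [P.hm, H13, P.hm', H23, H31, H32]

/-- The linear case. -/
theorem Cfg.psl3 [IsSimpleGroup G] [Fintype F] (h : D.Cfg) (hε : N.ε = 1) (hq : N.q = Fintype.card F)
    (P : GL2P D F) (hd : N.m ∣ 3 * Nat.card D.Z) :
    Nonempty (G ≃* Matrix.ProjectiveSpecialLinearGroup (Fin 3) F) ∨ Nat.card G = 7920 := by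
  have hg := h.g_list hd
  rw [hε] at hg
  rcases h.hex_or hε (by simpa using hg) with e | ⟨h1, h2, e⟩
  · exact Or.inr e
  obtain ⟨x, hx, hne⟩ := h.st3 hε P h1 h2
  refine Or.inl (hx.psl3 hne ?_)
  have hN : N.m + 1 = N.q ∧ N.n = N.q + 1 := by have := N.cases; omega
  have h3 := H7.card_sl hq.symm 3 (by decide)
  have h4 := Nat.le_of_dvd (by have := N.two_le_m; omega) D.Z_dvd_m
  have h5 := N.two_le_m
  rw [D.card_eq, e, hN.2]
  simp only [Fin.prod_univ_three, Fin.val_zero, Fin.val_one, Fin.val_two] at h3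
  rw [← hN.1] at h3 ⊢
  generalize N.m = m at h3 h4 h5 ⊢
  rw [show (m + 1) ^ 3 - (m + 1) ^ 0 = m * ((m + 1) ^ 2 + (m + 1) + 1) from Nat.sub_eq_of_eq_add (by ring),
    show (m + 1) ^ 3 - (m + 1) ^ 1 = (m + 1) * m * (m + 2) from Nat.sub_eq_of_eq_add (by ring),
    show (m + 1) ^ 3 - (m + 1) ^ 2 = (m + 1) ^ 2 * m from Nat.sub_eq_of_eq_add (by ring),
    Nat.add_sub_cancel] at h3
  refine Nat.le_of_mul_le_mul_left (c := m) ?_ (by omega)
  rw [h3]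
  calc _ ≤ m * ((m + 1) ^ 2 * ((m + 1) ^ 2 + (m + 1) + 1) * (m * ((m + 1) * m * (m + 1 + 1)))) := by gcongr
    _ = _ := by ring

end GD

end H4
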