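import Cfsg.Agent.H4.GD2

/-!
`H4.GD`: conjugates of the data, the partition of `H \ Z`, involutions, subgroups of odd order.
-/

set_option autoImplicit false

namespace H4

open Subgroup

/-- The subgroup `C ⟨w⟩` for an involution `w` normalising `C`. -/
def ext2 {G : Type*} [Group G] (C : Subgroup G) (w : G) (hw : w * w = 1)
    (h : ∀ y ∈ C, w * y * w ∈ C) : Subgroup G where
  carrier := {g | g ∈ C ∨ g * w ∈ C}
  one_mem' := Or.inl C.one_mem
  mul_mem' := by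
    rintro a b (ha | ha) (hb | hb)
    · exact Or.inl (C.mul_mem ha hb)
    · exact Or.inr (by rw [mul_assoc]; exact C.mul_mem ha hb)
    · refine Or.inr ?_
      simpa [mul_assoc, mul_mul_self hw] using C.mul_mem ha (h b hb)
    · refine Or.inl ?_
      simpa [mul_assoc, mul_mul_self hw, hw] using C.mul_mem ha (h _ hb)
  inv_mem' := by
    rintro a (ha | ha)
    · exact Or.inl (C.inv_mem ha)
    · refine Or.inr ?_
      simpa [mul_assoc, mul_mul_self hw, inv_eq_self hw] using h _ (C.inv_mem ha)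

theorem mem_ext2 {G : Type*} [Group G] {C : Subgroup G} {w : G} {hw : w * w = 1}
    {h : ∀ y ∈ C, w * y * w ∈ C} {g : G} : g ∈ ext2 C w hw h ↔ g ∈ C ∨ g * w ∈ C := Iff.rfl

theorem card_ext2 {G : Type*} [Group G] [Finite G] {C : Subgroup G} {w : G} {hw : w * w = 1}
    {h : ∀ y ∈ C, w * y * w ∈ C} (hwC : w ∉ C) : Nat.card (ext2 C w hw h) = 2 * Nat.card C := by
  have hle : C ≤ ext2 C w hw h := fun g hg => Or.inl hg
  have h1 := (C.subgroupOf (ext2 C w hw h)).card_mul_index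
  rw [Nat.card_congr (subgroupOfEquivOfLe hle).toEquiv] at h1
  rw [← h1, mul_comm, index_eq_two_iff.2]
  refine ⟨⟨w, Or.inr (hw ▸ C.one_mem)⟩, ?_⟩
  rintro ⟨b, hb⟩
  simp only [mem_subgroupOf, coe_mul]
  have : ¬ (b * w ∈ C ∧ b ∈ C) := fun h => hwC (by simpa using C.mul_mem (C.inv_mem h.2) h.1)
  rcases hb with hb | hb <;> tauto

theorem ext2_conj {G : Type*} [Group G] {C : Subgroup G} {w : G} {hw : w * w = 1}
    {h : ∀ y ∈ C, w * y * w ∈ C} {g y : G} (hg : g ∈ ext2 C w hw h) (hy : y ∈ C) : g * y * g⁻¹ ∈ C := by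
  rcases hg with hg | hg
  · exact C.mul_mem (C.mul_mem hg hy) (C.inv_mem hg)
  · simpa [mul_assoc, mul_mul_self hw, inv_eq_self hw] using
      C.mul_mem (C.mul_mem hg (h y hy)) (C.inv_mem hg)

theorem ncard_conj_aux {G : Type*} [Group G] [Finite G] {H C Z M : Subgroup G} (hZC : Z ≤ C)
    (hC : C ≤ H) (hM : M ≤ H) (hZ : ∀ y ∉ Z, ∀ h ∈ H, h * y * h⁻¹ ∉ Z)
    (hN : ∀ g ∈ M, ∀ y ∈ C, g * y * g⁻¹ ∈ C)
    (hTI : ∀ h ∈ H, ∀ y ∈ C, y ∉ Z → h * y * h⁻¹ ∈ C → h ∈ M) :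
    {h : H | (h : G) ∉ Z ∧ ∃ k ∈ H, k⁻¹ * h * k ∈ C}.ncard * Nat.card M =
      Nat.card H * (Nat.card C - Nat.card Z) := by
  have h1 := H2.ncard_conjugatesOfSet_of_TI (M.subgroupOf H) {y : H | (y : G) ∈ C ∧ (y : G) ∉ Z}
    (fun n hn a ha => ⟨hN n hn a ha.1, hZ _ ha.2 _ n.2⟩)
    (fun g a ha h => hTI g g.2 a ha.1 ha.2 h.1)
  have h2 : Group.conjugatesOfSet {y : H | (y : G) ∈ C ∧ (y : G) ∉ Z} =
      {h : H | (h : G) ∉ Z ∧ ∃ k ∈ H, k⁻¹ * h * k ∈ C} := by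
    ext h
    rw [Group.mem_conjugatesOfSet_iff]
    constructor
    · rintro ⟨a, ha, hc⟩
      obtain ⟨c, rfl⟩ := isConj_iff.1 hc
      exact ⟨hZ _ ha.2 _ c.2, c, c.2, by simpa [mul_assoc] using ha.1⟩
    · rintro ⟨h1, k, hk, h2⟩
      refine ⟨⟨k, hk⟩⁻¹ * h * ⟨k, hk⟩, ⟨h2, ?_⟩, isConj_iff.2 ⟨⟨k, hk⟩, by group⟩⟩
      simpa using hZ _ h1 _ (inv_mem hk)
  have h3 : {y : H | (y : G) ∈ C ∧ (y : G) ∉ Z}.ncard = Nat.card C - Nat.card Z := by
    have e : {y : H | (y : G) ∈ C ∧ (y : G) ∉ Z} =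
        (C.subgroupOf H : Set H) \ (Z.subgroupOf H : Set H) := rfl
    rw [e, Set.ncard_sdiff (s := (Z.subgroupOf H : Set H)) (t := (C.subgroupOf H : Set H))
      (fun y hy => hZC hy), ← Nat.card_coe_set_eq, ← Nat.card_coe_set_eq]
    congr 1
    · exact Nat.card_congr (subgroupOfEquivOfLe hC).toEquiv
    · exact Nat.card_congr (subgroupOfEquivOfLe (hZC.trans hC)).toEquiv
  have h4 := (M.subgroupOf H).card_mul_index
  rw [Nat.card_congr (subgroupOfEquivOfLe hM).toEquiv] at h4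
  rw [← h2, h1, h3, ← h4]; ring

theorem card_le_of_cent {G : Type*} [Group G] [Finite G] {H C C' : Subgroup G} {k y : G}
    (hk : k ∈ H) (hC : C ≤ H) (hc : ∀ a ∈ C, ∀ b ∈ C, a * b = b * a) (hy : k * y * k⁻¹ ∈ C)
    (h : ∀ h ∈ H, h * y = y * h → h ∈ C') : Nat.card C ∣ Nat.card C' := by
  rw [← H1.card_conj_smul k⁻¹ C]
  refine card_dvd_of_le fun g hg => ?_
  rw [H1.mem_conj_smul, inv_inv] at hg
  refine h g (by simpa [mul_assoc] using mul_mem (mul_mem (inv_mem hk) (hC hg)) hk) ?_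
  have := hc _ hg _ hy
  calc g * y = k⁻¹ * (k * g * k⁻¹ * (k * y * k⁻¹)) * k := by group
    _ = _ := by rw [this]; group

namespace GD

variable {G : Type*} [Group G] {N : NP} [Finite G] (D : GD G N)

section conj
variable (g : G)
@[simp] theorem conj_t : (D.conj g).t = g * D.t * g⁻¹ := rfl
@[simp] theorem conj_u : (D.conj g).u = g * D.u * g⁻¹ := rfl
@[simp] theorem conj_w : (D.conj g).w = g * D.w * g⁻¹ := rfl
@[simp] theorem conj_v : (D.conj g).v = g * D.v * g⁻¹ := rfl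
variable {g} {x : G}
theorem mem_conj_H : x ∈ (D.conj g).H ↔ g⁻¹ * x * g ∈ D.H := mem_map_conj
theorem mem_conj_Z : x ∈ (D.conj g).Z ↔ g⁻¹ * x * g ∈ D.Z := mem_map_conj
theorem mem_conj_T : x ∈ (D.conj g).T ↔ g⁻¹ * x * g ∈ D.T := mem_map_conj
theorem mem_conj_W : x ∈ (D.conj g).W ↔ g⁻¹ * x * g ∈ D.W := mem_map_conj
theorem mem_conj_X : x ∈ (D.conj g).X ↔ g⁻¹ * x * g ∈ D.X := mem_map_conj
theorem mem_conj_S : x ∈ (D.conj g).S ↔ g⁻¹ * x * g ∈ D.S := mem_map_conj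
theorem mem_conj_A : x ∈ (D.conj g).A ↔ g⁻¹ * x * g ∈ D.A := by
  rw [← mem_map_conj, A, A, Subgroup.map_sup]; rfl
theorem mem_conj_B : x ∈ (D.conj g).B ↔ g⁻¹ * x * g ∈ D.B := by
  rw [← mem_map_conj, B, B, Subgroup.map_sup]; rfl
theorem conj_H_eq (hg : g ∈ D.H) : (D.conj g).H = D.H := by
  ext x; rw [mem_conj_H, mul_mem_cancel_right hg, mul_mem_cancel_left (inv_mem hg)]
theorem conj_Z_eq (hg : g ∈ D.H) : (D.conj g).Z = D.Z := by
  ext x; rw [mem_conj_Z]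
  refine ⟨fun h => ?_, fun h => by
    have := D.conj_Z h (inv_mem hg); rw [inv_inv] at this; rwa [this]⟩
  by_contra h1
  exact D.conj_not_Z h1 (inv_mem hg) (by simpa using h)
theorem conj_t_eq (hg : g ∈ D.H) : (D.conj g).t = D.t := D.conj_Z D.t_mem hg
theorem card_conj_Z : Nat.card (D.conj g).Z = Nat.card D.Z :=
  Nat.card_congr (D.Z.equivMapOfInjective _ (MulAut.conj g).injective).symm.toEquiv
end conj

/-- `N_H(T)`. -/
def NT : Subgroup G := ext2 D.T D.w D.w_sq fun _ => D.w_conj_mem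
/-- `N_H(W)`. -/
def NW : Subgroup G := ext2 D.W D.v D.v_sq fun _ => D.v_conj_mem

omit [Finite G] in
theorem NT_le : D.NT ≤ D.H := by
  rintro g (h | h)
  · exact D.T_le h
  · exact (mul_mem_cancel_right D.w_mem).1 (D.T_le h)
omit [Finite G] in
theorem NW_le : D.NW ≤ D.H := by
  rintro g (h | h)
  · exact D.W_le h
  · exact (mul_mem_cancel_right D.v_mem).1 (D.W_le h)
theorem cNT : Nat.card D.NT = 2 * Nat.card D.T := card_ext2 D.w_not
theorem cNW : Nat.card D.NW = 2 * Nat.card D.W := card_ext2 D.v_not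

theorem not_conj_TW {y k : G} (hk : k ∈ D.H) (hy : y ∈ D.T) (hyZ : y ∉ D.Z) : k * y * k⁻¹ ∉ D.W := by
  intro h
  have h1 := card_le_of_cent hk D.W_le D.W_comm h (D.cent_T y hy hyZ)
  have h2 := card_le_of_cent (inv_mem hk) D.T_le D.T_comm (y := k * y * k⁻¹) (by simpa [mul_assoc] using hy)
    (D.cent_W _ h (D.conj_not_Z hyZ hk))
  have := Nat.dvd_antisymm h1 h2
  rw [D.cW, D.cT] at this
  have := Nat.eq_of_mul_eq_mul_left D.Z_pos this
  have := N.cases; omega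

theorem not_conj_TA {y k : G} (hk : k ∈ D.H) (hy : y ∈ D.T) (hyZ : y ∉ D.Z) : k * y * k⁻¹ ∉ D.A := by
  intro h
  have h1 := card_le_of_cent hk D.A_le D.A_comm h (D.cent_T y hy hyZ)
  exact D.p_not_dvd_T ((D.cA ▸ N.p_dvd_q.mul_left _).trans h1)

theorem not_conj_WA {y k : G} (hk : k ∈ D.H) (hy : y ∈ D.W) (hyZ : y ∉ D.Z) : k * y * k⁻¹ ∉ D.A := by
  intro h
  have h1 := card_le_of_cent hk D.A_le D.A_comm h (D.cent_W y hy hyZ)
  exact D.p_not_dvd_W ((D.cA ▸ N.p_dvd_q.mul_left _).trans h1)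

/-- Every element of `H` is conjugate into `T`, `W` or `A`. -/
theorem cover {h : G} (hh : h ∈ D.H) :
    ∃ k ∈ D.H, k⁻¹ * h * k ∈ D.T ∨ k⁻¹ * h * k ∈ D.W ∨ k⁻¹ * h * k ∈ D.A := by
  by_cases hZ : h ∈ D.Z
  · exact ⟨1, one_mem _, Or.inl (by simpa using D.Z_le_T hZ)⟩
  have hz : ∀ y ∉ D.Z, ∀ h ∈ D.H, h * y * h⁻¹ ∉ D.Z := fun y hy h hh => D.conj_not_Z hy hh
  have h1 := ncard_conj_aux D.Z_le_T D.T_le D.NT_le hz (fun g hg y hy => ext2_conj hg hy) D.norm_T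
  have h2 := ncard_conj_aux D.Z_le_W D.W_le D.NW_le hz (fun g hg y hy => ext2_conj hg hy) D.norm_W
  have h3 := ncard_conj_aux D.Z_le_A D.A_le D.B_le hz (fun g hg y hy => D.B_norm_A hg hy) D.norm_A
  set U₁ := {h : D.H | (h : G) ∉ D.Z ∧ ∃ k ∈ D.H, k⁻¹ * h * k ∈ D.T}
  set U₂ := {h : D.H | (h : G) ∉ D.Z ∧ ∃ k ∈ D.H, k⁻¹ * h * k ∈ D.W}
  set U₃ := {h : D.H | (h : G) ∉ D.Z ∧ ∃ k ∈ D.H, k⁻¹ * h * k ∈ D.A}
  have d : ∀ {C C' : Subgroup G}, (∀ {y k : G}, k ∈ D.H → y ∈ C → y ∉ D.Z → k * y * k⁻¹ ∉ C') →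
      Disjoint {h : D.H | (h : G) ∉ D.Z ∧ ∃ k ∈ D.H, k⁻¹ * h * k ∈ C}
        {h : D.H | (h : G) ∉ D.Z ∧ ∃ k ∈ D.H, k⁻¹ * h * k ∈ C'} := by
    intro C C' hC
    rw [Set.disjoint_left]
    rintro y ⟨hy, k, hk, e⟩ ⟨-, k', hk', e'⟩
    refine hC (mul_mem (inv_mem hk') hk) e (by simpa using hz _ hy _ (inv_mem hk)) ?_
    simpa [mul_assoc] using e'
  have h4 : (U₁ ∪ U₂ ∪ U₃).ncard = U₁.ncard + U₂.ncard + U₃.ncard := by
    rw [Set.ncard_union_eq (Set.disjoint_union_left.2 ⟨d D.not_conj_TA, d D.not_conj_WA⟩),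
      Set.ncard_union_eq (d D.not_conj_TW)]
  have h5 : {h : D.H | (h : G) ∉ D.Z}.ncard = Nat.card D.H - Nat.card D.Z := by
    have e : {h : D.H | (h : G) ∉ D.Z} = (D.Z.subgroupOf D.H : Set D.H)ᶜ := rfl
    rw [e, Set.ncard_compl, ← Nat.card_coe_set_eq]
    congr 1
    exact Nat.card_congr (subgroupOfEquivOfLe D.Z_le).toEquiv
  have h6 : U₁ ∪ U₂ ∪ U₃ = {h : D.H | (h : G) ∉ D.Z} := by
    refine Set.eq_of_subset_of_ncard_le (by rintro y ((h | h) | h) <;> exact h.1) ?_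
    rw [h4, h5]
    rw [D.cNT, D.cH, D.cT] at h1
    rw [D.cNW, D.cH, D.cW] at h2
    rw [D.cB, D.cH, D.cA] at h3
    rw [D.cH]
    have hZ0 := D.Z_pos
    have hq := N.three_le_q
    have hmn := N.m_mul_n
    have hs : N.m + N.n = 2 * N.q := by have := N.cases; omega
    generalize Nat.card D.Z = z at *
    obtain ⟨m, hm⟩ : ∃ m, N.m = m + 1 := ⟨N.m - 1, by have := N.two_le_m; omega⟩
    obtain ⟨n, hn⟩ : ∃ n, N.n = n + 1 := ⟨N.n - 1, by have := N.two_le_n; omega⟩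
    obtain ⟨q, hq'⟩ : ∃ q, N.q = q + 1 := ⟨N.q - 1, by omega⟩
    simp only [hm, hn, hq'] at h1 h2 h3 hq hmn hs ⊢
    rw [show z * (m + 1) - z = z * m by rw [mul_add, mul_one, Nat.add_sub_cancel]] at h1
    rw [show z * (n + 1) - z = z * n by rw [mul_add, mul_one, Nat.add_sub_cancel]] at h2
    rw [show z * (q + 1) - z = z * q by rw [mul_add, mul_one, Nat.add_sub_cancel],
      Nat.add_sub_cancel] at h3
    have e1 : 2 * U₁.ncard = (q + 1) * (n + 1) * (z * m) :=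
      Nat.eq_of_mul_eq_mul_right (show 0 < z * (m + 1) by positivity) (by linarith)
    have e2 : 2 * U₂.ncard = (q + 1) * (m + 1) * (z * n) :=
      Nat.eq_of_mul_eq_mul_right (show 0 < z * (n + 1) by positivity) (by linarith)
    have e3 : U₃.ncard = z * ((m + 1) * (n + 1)) :=
      Nat.eq_of_mul_eq_mul_right (show 0 < (q + 1) * (z * q) by
        have : 0 < q := by omega
        positivity) (by linarith)
    have e4 : m + n = 2 * q := by omega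
    have e5 : 2 * (U₁.ncard + U₂.ncard + U₃.ncard) + 2 * z = 2 * (z * ((q + 1) * (m + 1) * (n + 1))) := by
      rw [mul_add, mul_add, e1, e2, e3]
      zify at hmn e4 ⊢
      linear_combination (2 * z) * hmn - (z * (q + 1)) * e4
    omega
  have : (⟨h, hh⟩ : D.H) ∈ U₁ ∪ U₂ ∪ U₃ := h6 ▸ hZ
  rcases this with (⟨-, k, hk, e⟩ | ⟨-, k, hk, e⟩) | ⟨-, k, hk, e⟩ <;> exact ⟨k, hk, by simp [e]⟩

theorem cover' {h : G} (hh : h ∈ D.H) :
    ∃ k ∈ D.H, h ∈ (D.conj k).T ∨ h ∈ (D.conj k).W ∨ h ∈ (D.conj k).A := by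
  simpa only [mem_conj_T, mem_conj_W, mem_conj_A] using D.cover hh

/-- The non-central involutions of `H` are conjugate to `u`. -/
theorem inv_conj {s : G} (hs : s ∈ D.H) (h : s * s = 1) (h1 : s ≠ 1) (ht : s ≠ D.t) :
    ∃ k ∈ D.H, k * D.u * k⁻¹ = s := by
  obtain ⟨k, hk, e⟩ := D.cover hs
  have h2 : k⁻¹ * s * k * (k⁻¹ * s * k) = 1 := by simp [mul_assoc, mul_mul_self h]
  have h3 : k⁻¹ * s * k ≠ 1 := by simpa [mul_assoc, inv_mul_eq_iff_eq_mul] using h1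
  have h4 : k⁻¹ * s * k ≠ D.t := fun e => ht (by rw [← D.conj_Z D.t_mem hk, ← e]; group)
  rcases e with e | e | e
  · rcases D.T_inv e h2 with e | e | e | e
    · exact absurd e h3
    · exact absurd e h4
    · exact ⟨k, hk, by rw [← e]; group⟩
    · refine ⟨k * D.w, mul_mem hk D.w_mem, ?_⟩
      rw [← D.w_u] at e
      rw [mul_inv_rev, D.w_inv', show s = k * (k⁻¹ * s * k) * k⁻¹ by group, e]; group
  · exact ((D.W_inv e h2).elim h3 h4).elim
  · exact ((D.A_inv e h2).elim h3 h4).elim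

/-- Centralisers in `H` of non-central elements are abelian. -/
theorem cent_comm {y : G} (hy : y ∈ D.H) (hyZ : y ∉ D.Z) {a b : G} (ha : a ∈ D.H) (hb : b ∈ D.H)
    (ea : a * y = y * a) (eb : b * y = y * b) : a * b = b * a := by
  obtain ⟨k, hk, e⟩ := D.cover' hy
  have hH := D.conj_H_eq hk
  have hZ := D.conj_Z_eq hk
  generalize D.conj k = D' at *
  rw [← hH] at ha hb
  rw [← hZ] at hyZ
  rcases e with e | e | e
  · exact D'.T_comm _ (D'.cent_T y e hyZ a ha ea) _ (D'.cent_T y e hyZ b hb eb)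
  · exact D'.W_comm _ (D'.cent_W y e hyZ a ha ea) _ (D'.cent_W y e hyZ b hb eb)
  · exact D'.A_comm _ (D'.cent_A y e hyZ a ha ea) _ (D'.cent_A y e hyZ b hb eb)

omit [Finite G] in
theorem mem_Z_of_comm {z : G} (hz : z ∈ D.H) (h1 : z * D.u = D.u * z) (h2 : z * D.w = D.w * z) :
    z ∈ D.Z := by
  by_contra h
  exact D.w_not (D.cent_T z (D.cent_T _ D.u_mem D.u_not z hz h1) h _ D.w_mem h2.symm)

/-- An element of order `p` of `H` lies in a conjugate of `X`. -/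
theorem exists_conj_X {x : G} (hx : x ∈ D.H) (hp : x ^ N.p = 1) : ∃ k ∈ D.H, x ∈ (D.conj k).X := by
  obtain ⟨k, hk, e | e | e⟩ := D.cover' hx
  · exact ⟨k, hk, eq_one_of_pow (D.conj k).p_not_dvd_T e hp ▸ one_mem _⟩
  · exact ⟨k, hk, eq_one_of_pow (D.conj k).p_not_dvd_W e hp ▸ one_mem _⟩
  · exact ⟨k, hk, (D.conj k).mem_X_of_pow e hp⟩

/-- The involutions of `B` in the unitary case. -/
theorem B_inv (hε : N.ε = -1) {s : G} (hs : s ∈ D.B) (h : s * s = 1) : s = 1 ∨ s = D.t := by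
  by_cases hA : s ∈ D.A
  · exact D.A_inv hA h
  obtain ⟨y, hy, e⟩ := D.B_conj hs hA
  have hS : D.S = D.W := by rcases D.hS with ⟨h1, -⟩ | ⟨-, h1⟩; omega; exact h1
  rcases D.W_inv (hS ▸ e) (by simp [mul_assoc, mul_mul_self h]) with e | e
  · left; simpa [mul_inv_eq_one] using e
  · right; rw [← D.conj_Z D.t_mem (inv_mem (D.X_le hy)), ← e]; group

omit [Finite G] in
theorem S_eq_T (hε : N.ε = 1) : D.S = D.T := by rcases D.hS with ⟨-, h1⟩ | ⟨h1, -⟩; exact h1; omega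
omit [Finite G] in
theorem S_eq_W (hε : N.ε = -1) : D.S = D.W := by rcases D.hS with ⟨h1, -⟩ | ⟨-, h1⟩; omega; exact h1

theorem B_T (hε : N.ε = 1) : D.T ≤ D.B := D.S_eq_T hε ▸ D.S_le_B

theorem T_norm_X (hε : N.ε = 1) {s x : G} (hs : s ∈ D.T) (hx : x ∈ D.X) : s * x * s⁻¹ ∈ D.X :=
  D.B_norm (D.B_T hε hs) hx

theorem conj_X_eq {b : G} (hb : b ∈ D.B) : (D.conj b).X = D.X := by
  ext x; rw [mem_conj_X]
  exact ⟨fun h => by simpa [mul_assoc] using D.B_norm hb h,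
    fun h => by simpa using D.B_norm (inv_mem hb) h⟩

theorem conj_conj_X (g h : G) : ((D.conj g).conj h).X = (D.conj (h * g)).X := by
  ext x; simp [mem_conj_X, mul_assoc]

/-- A conjugate of `X` in `H` normalised by a non-central element of `T` is `X` or `X ^ w`. -/
theorem X_cases {k y : G} (hk : k ∈ D.H) (hy : y ∈ D.T) (hyZ : y ∉ D.Z) (hB : y ∈ (D.conj k).B) :
    N.ε = 1 ∧ ((D.conj k).X = D.X ∨ (D.conj k).X = (D.conj D.w).X) := by
  rw [mem_conj_B] at hB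
  have hA : k⁻¹ * y * k ∉ D.A := by simpa using D.not_conj_TA (inv_mem hk) hy hyZ
  obtain ⟨x, hx, e⟩ := D.B_conj hB hA
  have hkx : x * k⁻¹ ∈ D.H := mul_mem (D.X_le hx) (inv_mem hk)
  have e' : x * k⁻¹ * y * (x * k⁻¹)⁻¹ ∈ D.S := by simpa [mul_assoc] using e
  have hε : N.ε = 1 := by
    rcases N.hε with h | h
    · exact h
    · exact absurd (D.S_eq_W h ▸ e') (D.not_conj_TW hkx hy hyZ)
  refine ⟨hε, ?_⟩
  have hX : (D.conj k).X = (D.conj (k * x⁻¹)).X := by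
    rw [← conj_conj_X]
    ext g; rw [mem_conj_X, mem_conj_X (D.conj x⁻¹), D.conj_X_eq (inv_mem (D.X_le_B hx))]
  rcases inv_mem (show x * k⁻¹ ∈ D.NT from D.norm_T _ hkx y hy hyZ (D.S_eq_T hε ▸ e')) with h | h
  · left
    rw [hX, D.conj_X_eq (D.B_T hε (by simpa using h))]
  · right
    have h1 := D.w_conj_mem h
    rw [hX, show k * x⁻¹ = D.w * (D.w * ((x * k⁻¹)⁻¹ * D.w) * D.w) by
      simp [mul_assoc, mul_mul_self D.w_sq, D.w_sq], ← conj_conj_X]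
    ext g; rw [mem_conj_X (D.conj _), D.conj_X_eq (D.B_T hε h1), mem_conj_X]

/-- A non-central involution of `B` inverts `X`. -/
theorem inv_X {s x : G} (hs : s ∈ D.B) (h : s * s = 1) (hsZ : s ∉ D.Z) (hx : x ∈ D.X) :
    s * x * s = x⁻¹ := by
  have hx' : s * x * s ∈ D.X := by simpa [inv_eq_self h] using D.B_norm hs hx
  by_contra hne
  have h1 : s * x * s * x ≠ 1 := fun e => hne (eq_inv_of_mul_eq_one_left e)
  have h2 : s ∈ D.A := D.mem_A.2 (D.cent_X _ (mul_mem hx' hx) h1 s (D.B_le hs) (by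
    have := D.X_comm _ hx' _ hx
    calc s * (s * x * s * x) = x * (s * x * s) * s := by simp [mul_assoc, mul_mul_self h, h]
      _ = _ := by rw [← this]))
  rcases D.A_inv h2 h with e | e
  · exact hsZ (e ▸ one_mem _)
  · exact hsZ (e ▸ D.t_mem)

end GD

end H4
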