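import Cfsg.Agent.H4.GD3
import Cfsg.Agent.H4.InvAct
import Cfsg.Agent.H27.PF14

/-!
`H4.GD`: subgroups of odd order of `H`.
-/

set_option autoImplicit false

namespace H4

open Subgroup _root_.Cfsg

theorem ext2_sq {G : Type*} [Group G] {C : Subgroup G} {w : G} {hw : w * w = 1}
    {h : ∀ y ∈ C, w * y * w ∈ C} {g : G} (hg : g ∈ ext2 C w hw h) : g * g ∈ C := by
  rcases hg with hg | hg
  · exact C.mul_mem hg hg
  · simpa [mul_assoc, mul_mul_self hw, hw] using C.mul_mem hg (h _ hg)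

theorem mem_of_sq_mem {G : Type*} [Group G] {C : Subgroup G} {g : G} (hg : g * g ∈ C)
    (ho : Odd (orderOf g)) : g ∈ C := by
  obtain ⟨k, hk⟩ := exists_sq_eq ho
  rw [← hk, ← pow_add, ← two_mul, pow_mul, pow_two]
  exact pow_mem hg k

theorem ext2_mul {G : Type*} [Group G] {C : Subgroup G} {w : G} {hw : w * w = 1}
    {h : ∀ y ∈ C, w * y * w ∈ C} {a b : G} (ha : a ∈ ext2 C w hw h) (hb : b ∈ ext2 C w hw h) :
    a ∈ C ∨ b ∈ C ∨ a * b ∈ C := by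
  rcases ha with ha | ha
  · exact Or.inl ha
  rcases hb with hb | hb
  · exact Or.inr (Or.inl hb)
  right; right
  simpa [mul_assoc, mul_mul_self hw, hw] using C.mul_mem ha (h _ hb)

theorem exists_abelian_mod {G : Type*} [Group G] [Finite G] {U Z : Subgroup G} (hU : Odd (Nat.card U))
    (hZ : ¬ U ≤ Z) : ∃ E : Subgroup G, E ≤ U ∧ ¬ E ≤ Z ∧ (∀ a ∈ E, ∀ b ∈ E, a * b * a⁻¹ * b⁻¹ ∈ Z) ∧
      ∀ g : G, (∀ x ∈ U, g * x * g⁻¹ ∈ U) → ∀ x ∈ E, g * x * g⁻¹ ∈ E := by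
  classical
  obtain ⟨n, hn⟩ := (H27.Feit_Thompson U hU).solvable
  have hex : ∃ n, (derivedSeries U n).map U.subtype ≤ Z := ⟨n, by simp [hn]⟩
  have h0 : Nat.find hex ≠ 0 := fun h => by
    have := Nat.find_spec hex
    rw [h, derivedSeries_zero, ← MonoidHom.range_eq_map, range_subtype] at this
    exact hZ this
  obtain ⟨k, hk⟩ := Nat.exists_eq_succ_of_ne_zero h0
  refine ⟨(derivedSeries U k).map U.subtype, map_subtype_le _, Nat.find_min hex (by omega), ?_,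
    fun g hg x hx => conj_mem_of_normalizer (H1.le_normalizer_map_subtype
      (A := normalizer (U : Set G)) le_rfl _ (mem_normalizer_of hg)) hx⟩
  rintro _ ⟨a, ha, rfl⟩ _ ⟨b, hb, rfl⟩
  have := Nat.find_spec hex
  rw [hk, derivedSeries_succ] at this
  exact this ⟨_, commutator_mem_commutator ha hb, rfl⟩

namespace GD

variable {G : Type*} [Group G] {N : NP} [Finite G] (D : GD G N)

theorem odd_sub {U : Subgroup G} (hUH : U ≤ D.H) (hU : Odd (Nat.card U)) (hZ : ¬ U ≤ D.Z) :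
    ∃ k ∈ D.H,
      (U ≤ (D.conj k).T ∧ ∀ g ∈ D.H, (∀ x ∈ U, g * x * g⁻¹ ∈ U) → g ∈ (D.conj k).NT) ∨
      (U ≤ (D.conj k).W ∧ ∀ g ∈ D.H, (∀ x ∈ U, g * x * g⁻¹ ∈ U) → g ∈ (D.conj k).NW) ∨
      ((∃ x ∈ U, x ∈ (D.conj k).X ∧ x ≠ 1) ∧
        ∀ g ∈ D.H, (∀ x ∈ U, g * x * g⁻¹ ∈ U) → g ∈ (D.conj k).B) := by
  obtain ⟨E, hEU, hEZ, hc, hn⟩ := exists_abelian_mod hU hZ
  obtain ⟨y, hy, hyZ⟩ := SetLike.not_le_iff_exists.1 hEZ
  obtain ⟨k, hk, e⟩ := D.cover' (hUH (hEU hy))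
  refine ⟨k, hk, ?_⟩
  have hH := D.conj_H_eq hk
  have hZ := D.conj_Z_eq hk
  generalize D.conj k = D' at *
  rw [← hH] at hUH ⊢
  rw [← hZ] at hyZ hc
  have hUU : ∀ g ∈ U, ∀ x ∈ U, g * x * g⁻¹ ∈ U := fun g hg x hx => mul_mem (mul_mem hg hx) (inv_mem hg)
  rcases e with e | e | e
  · left
    have h1 : E ≤ D'.T := fun g hg => mem_of_sq_mem (ext2_sq (show g ∈ D'.NT from
      D'.norm_T g (hUH (hEU hg)) y e hyZ (by simpa using mul_mem (D'.Z_le_T (hc g hg y hy)) e)))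
      (odd_orderOf hU (hEU hg))
    have h2 : ∀ g ∈ D'.H, (∀ x ∈ U, g * x * g⁻¹ ∈ U) → g ∈ D'.NT := fun g hg h =>
      D'.norm_T g hg y e hyZ (h1 (hn g h y hy))
    exact ⟨fun g hg => mem_of_sq_mem (ext2_sq (h2 g (hUH hg) (hUU g hg))) (odd_orderOf hU hg), h2⟩
  · right; left
    have h1 : E ≤ D'.W := fun g hg => mem_of_sq_mem (ext2_sq (show g ∈ D'.NW from
      D'.norm_W g (hUH (hEU hg)) y e hyZ (by simpa using mul_mem (D'.Z_le_W (hc g hg y hy)) e)))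
      (odd_orderOf hU (hEU hg))
    have h2 : ∀ g ∈ D'.H, (∀ x ∈ U, g * x * g⁻¹ ∈ U) → g ∈ D'.NW := fun g hg h =>
      D'.norm_W g hg y e hyZ (h1 (hn g h y hy))
    exact ⟨fun g hg => mem_of_sq_mem (ext2_sq (h2 g (hUH hg) (hUU g hg))) (odd_orderOf hU hg), h2⟩
  · right; right
    obtain ⟨z, hz, x, hx, rfl⟩ := D'.mem_A.1 e
    have hx1 : x ≠ 1 := by rintro rfl; exact hyZ (by simpa using hz)
    have h1 : E ≤ D'.A := fun g hg => by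
      have hgH := hUH (hEU hg)
      have h3 := hc g hg _ hy
      rw [show g * (z * x) * g⁻¹ * (z * x)⁻¹ = (g * z * g⁻¹) * (g * x * g⁻¹ * x⁻¹) * z⁻¹ by group,
        D'.conj_Z hz hgH, mul_mem_cancel_right (inv_mem hz), mul_mem_cancel_left hz] at h3
      have h4 := D'.eq_of_conj_aux (D'.X_le hx) (D'.X_pow x hx)
        (by rw [conj_pow, D'.X_pow x hx]; simp) h3
      exact D'.mem_A.2 (D'.cent_X x hx hx1 g hgH (mul_inv_eq_iff_eq_mul.1 h4))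
    refine ⟨⟨(z * x) ^ Nat.card D'.Z, pow_mem (hEU hy) _, ?_⟩, fun g hg h =>
      D'.norm_A g hg _ e hyZ (h1 (hn g h _ hy))⟩
    have e1 : Commute z x := D'.Z_comm z hz x (D'.X_le hx)
    have e2 : z ^ Nat.card D'.Z = 1 := orderOf_dvd_iff_pow_eq_one.1 (D'.Z.orderOf_dvd_natCard hz)
    rw [e1.mul_pow, e2, one_mul]
    refine ⟨pow_mem hx _, fun h => hx1 ?_⟩
    rcases (Nat.dvd_prime N.hp).1 (orderOf_dvd_of_pow_eq_one (D'.X_pow x hx)) with h2 | h2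
    · exact orderOf_eq_one_iff.1 h2
    · exact absurd (h2 ▸ orderOf_dvd_of_pow_eq_one h) D'.p_not_dvd_Z

theorem B_congr {D' : GD G N} (hH : D'.H = D.H) (hX : D'.X = D.X) : D'.B = D.B := by
  have h : ∀ {D D' : GD G N}, D'.H = D.H → D'.X = D.X → D'.B ≤ D.B := by
    intro D D' hH hX g hg
    have : Nontrivial D.X := Finite.one_lt_card_iff_nontrivial.1 (by
      rw [D.cX]; have := N.three_le_q; omega)
    obtain ⟨⟨x, hx⟩, hx1⟩ := exists_ne (1 : D.X)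
    exact D.mem_B_of_conj (hH ▸ D'.B_le hg) hx (fun h => hx1 (Subtype.ext h))
      (hX ▸ D'.B_norm hg (hX ▸ hx))
  exact le_antisymm (h hH hX) (h hH.symm hX.symm)

/-- Two tori sharing a non-central element coincide. -/
theorem T_eq_of_mem {D' : GD G N} (hH : D'.H = D.H) (hZ : D'.Z = D.Z) {y : G} (hy : y ∈ D.T)
    (hy' : y ∈ D'.T) (hyZ : y ∉ D.Z) : D'.T = D.T :=
  le_antisymm (fun g hg => D.cent_T y hy hyZ g (hH ▸ D'.T_le hg) (D'.T_comm g hg y hy'))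
    fun g hg => D'.cent_T y hy' (hZ ▸ hyZ) g (hH ▸ D.T_le hg) (D.T_comm g hg y hy)

/-- A subgroup of odd order of `H` normalised by `u` and `r ∈ T \ Z ⟨u⟩`. -/
theorem odd_norm {U : Subgroup G} (hUH : U ≤ D.H) (hU : Odd (Nat.card U)) {r : G} (hr : r ∈ D.T)
    (hrZ : r ∉ D.Z) (hru : r * D.u ∉ D.Z) (hn : ∀ x ∈ U, r * x * r⁻¹ ∈ U)
    (hu : ∀ x ∈ U, D.u * x * D.u⁻¹ ∈ U) :
    U ≤ D.T ∨ (N.ε = 1 ∧ ((U ≤ D.B ∧ ∃ x ∈ U, x ∈ D.X ∧ x ≠ 1) ∨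
      (U ≤ (D.conj D.w).B ∧ ∃ x ∈ U, x ∈ (D.conj D.w).X ∧ x ≠ 1))) := by
  by_cases hZ : U ≤ D.Z
  · exact Or.inl (hZ.trans D.Z_le_T)
  have hUU : ∀ g ∈ U, ∀ x ∈ U, g * x * g⁻¹ ∈ U := fun g hg x hx => mul_mem (mul_mem hg hx) (inv_mem hg)
  obtain ⟨k, hk, ⟨h1, h2⟩ | ⟨h1, h2⟩ | ⟨h1, h2⟩⟩ := D.odd_sub hUH hU hZ
  · left
    have hH := D.conj_H_eq hk
    have hZ := D.conj_Z_eq hk
    rcases ext2_mul (h2 r (D.T_le hr) hn) (h2 _ D.u_H hu) with h | h | h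
    · exact D.T_eq_of_mem hH hZ hr h hrZ ▸ h1
    · exact D.T_eq_of_mem hH hZ D.u_mem h D.u_not ▸ h1
    · exact D.T_eq_of_mem hH hZ (mul_mem hr D.u_mem) h hru ▸ h1
  · exfalso
    have key : ∀ y ∈ D.T, y ∉ D.Z → y ∉ (D.conj k).W := fun y hy hyZ h =>
      D.not_conj_TW (inv_mem hk) hy hyZ (by simpa using D.mem_conj_W.1 h)
    rcases ext2_mul (h2 r (D.T_le hr) hn) (h2 _ D.u_H hu) with h | h | h
    · exact key _ hr hrZ h
    · exact key _ D.u_mem D.u_not h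
    · exact key _ (mul_mem hr D.u_mem) hru h
  · right
    have hB : U ≤ (D.conj k).B := fun g hg => h2 g (hUH hg) (hUU g hg)
    obtain ⟨hε, h | h⟩ := D.X_cases hk D.u_mem D.u_not (h2 _ D.u_H hu)
    · exact ⟨hε, Or.inl ⟨D.B_congr (D.conj_H_eq hk) h ▸ hB, h ▸ h1⟩⟩
    · exact ⟨hε, Or.inr ⟨(D.conj D.w).B_congr ((D.conj_H_eq hk).trans (D.conj_H_eq D.w_mem).symm) h ▸ hB,
        h ▸ h1⟩⟩

theorem conj_w_T : (D.conj D.w).T = D.T := by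
  ext x; rw [mem_conj_T, D.w_inv']
  exact ⟨fun h => by simpa [mul_assoc, mul_mul_self D.w_sq, D.w_sq] using D.w_conj_mem h, D.w_conj_mem⟩

theorem exists_T_mem (hm : N.m ≠ 2) : ∃ r ∈ D.T, r ∉ D.Z ∧ r * D.u ∉ D.Z := by
  by_contra hc
  push Not at hc
  have h1 : D.T ≤ ext2 D.Z D.u D.u_sq fun y hy => by
      have := D.conj_Z hy D.u_H; rw [D.u_inv] at this; rwa [this] := fun r hr => by
    by_cases h : r ∈ D.Z
    exacts [Or.inl h, Or.inr (hc r hr h)]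
  have h2 := Nat.le_of_dvd Nat.card_pos (card_dvd_of_le h1)
  rw [card_ext2 D.u_not, D.cT, mul_comm] at h2
  have := Nat.le_of_mul_le_mul_right h2 D.Z_pos
  have := N.two_le_m
  omega

theorem X_le_of_mem (hε : N.ε = 1) {U : Subgroup G} (hn : ∀ r ∈ D.T, ∀ x ∈ U, r * x * r⁻¹ ∈ U) {x : G}
    (hx : x ∈ U) (hX : x ∈ D.X) (hx1 : x ≠ 1) : D.X ≤ U := by
  intro y hy
  by_cases h : y = 1
  · exact h ▸ one_mem _
  obtain ⟨s, hs, rfl⟩ := D.S_trans hX hx1 hy h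
  exact hn s (D.S_eq_T hε ▸ hs) x hx

/-- `T`-invariant subgroups of odd order of `H` (linear case). -/
theorem odd_T (hε : N.ε = 1) {U : Subgroup G} (hUH : U ≤ D.H) (hU : Odd (Nat.card U))
    (hn : ∀ r ∈ D.T, ∀ x ∈ U, r * x * r⁻¹ ∈ U) :
    U ≤ D.T ∨ (U ≤ D.B ∧ D.X ≤ U) ∨ (U ≤ (D.conj D.w).B ∧ (D.conj D.w).X ≤ U) := by
  have fin : (U ≤ D.B ∧ ∃ x ∈ U, x ∈ D.X ∧ x ≠ 1) ∨
      (U ≤ (D.conj D.w).B ∧ ∃ x ∈ U, x ∈ (D.conj D.w).X ∧ x ≠ 1) →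
      U ≤ D.T ∨ (U ≤ D.B ∧ D.X ≤ U) ∨ (U ≤ (D.conj D.w).B ∧ (D.conj D.w).X ≤ U) := by
    rintro (⟨h1, x, hx, hX, hx1⟩ | ⟨h1, x, hx, hX, hx1⟩)
    · exact Or.inr (Or.inl ⟨h1, D.X_le_of_mem hε hn hx hX hx1⟩)
    · exact Or.inr (Or.inr ⟨h1, (D.conj D.w).X_le_of_mem hε (D.conj_w_T ▸ hn) hx hX hx1⟩)
  by_cases hm : N.m = 2
  swap
  · obtain ⟨r, hr, h1, h2⟩ := D.exists_T_mem hm
    rcases D.odd_norm hUH hU hr h1 h2 (hn r hr) (hn _ D.u_mem) with h | h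
    exacts [Or.inl h, fin h.2]
  by_cases hZ : U ≤ D.Z
  · exact Or.inl (hZ.trans D.Z_le_T)
  have hZ2 : Nat.card D.Z ∣ 2 := hm ▸ D.Z_dvd_m
  have hn4 : N.n = 4 := by have := N.cases; omega
  have two : ∀ {C : Subgroup G}, U ≤ C → Nat.card C ∣ 2 ^ 3 → U ≤ D.T := fun h1 h2 => by
    have := (Nat.coprime_two_right.2 hU).pow_right 3
    rw [card_eq_one.1 (this.eq_one_of_dvd ((card_dvd_of_le h1).trans h2))]
    exact bot_le
  have hUU : ∀ g ∈ U, ∀ x ∈ U, g * x * g⁻¹ ∈ U := fun g hg x hx => mul_mem (mul_mem hg hx) (inv_mem hg)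
  obtain ⟨k, hk, ⟨h1, h2⟩ | ⟨h1, h2⟩ | ⟨h1, h2⟩⟩ := D.odd_sub hUH hU hZ
  · exact Or.inl (two h1 (by
      rw [(D.conj k).cT, card_conj_Z, hm]; exact (mul_dvd_mul_right hZ2 2).trans (by norm_num)))
  · exact Or.inl (two h1 (by
      rw [(D.conj k).cW, card_conj_Z, hn4]; exact (mul_dvd_mul_right hZ2 4).trans (by norm_num)))
  · have hB : U ≤ (D.conj k).B := fun g hg => h2 g (hUH hg) (hUU g hg)
    obtain ⟨-, h | h⟩ := D.X_cases hk D.u_mem D.u_not (h2 _ D.u_H (hn _ D.u_mem))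
    · exact fin (Or.inl ⟨D.B_congr (D.conj_H_eq hk) h ▸ hB, h ▸ h1⟩)
    · exact fin (Or.inr ⟨(D.conj D.w).B_congr
        ((D.conj_H_eq hk).trans (D.conj_H_eq D.w_mem).symm) h ▸ hB, h ▸ h1⟩)

/-- The number of non-central involutions of `H`. -/
theorem ncard_inv : {s | s ∈ D.H ∧ s * s = 1 ∧ s ≠ 1 ∧ s ≠ D.t}.ncard = N.q * N.n := by
  have h1 := ncard_conj_class D.H D.u
  have h2 : D.H ⊓ centralizer {D.u} = D.T := le_antisymm
    (fun g hg => D.cent_T _ D.u_mem D.u_not g hg.1 (mem_cent.1 hg.2))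
    fun g hg => ⟨D.T_le hg, mem_cent.2 (D.T_comm g hg _ D.u_mem)⟩
  have h3 : {x | ∃ g ∈ D.H, g * D.u * g⁻¹ = x} = {s | s ∈ D.H ∧ s * s = 1 ∧ s ≠ 1 ∧ s ≠ D.t} := by
    ext s
    refine ⟨?_, fun h => D.inv_conj h.1 h.2.1 h.2.2.1 h.2.2.2⟩
    rintro ⟨g, hg, rfl⟩
    have := D.conj_not_Z D.u_not hg
    exact ⟨mul_mem (mul_mem hg D.u_H) (inv_mem hg), by simp [mul_assoc, mul_mul_self D.u_sq],
      fun h => this (h ▸ one_mem _), fun h => this (h ▸ D.t_mem)⟩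
  rw [h2, h3, D.cT, D.cH] at h1
  have := N.two_le_m
  exact Nat.eq_of_mul_eq_mul_right (Nat.mul_pos D.Z_pos (by omega)) (h1.trans (by ring))

end GD

end H4
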