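import Cfsg.Agent.H4.GD5
import Cfsg.Agent.H4.LemT

/-!
`H4.GD`: the generalized characters `θ₊`, `θ₋`.
-/

set_option autoImplicit false

open Cfsg H4

namespace H4

open Subgroup H5 _root_.H4.LT Finset
open scoped ComplexConjugate Classical

/-- The elements of an abelian group inverted by an involution. -/
def invSub {G : Type*} [Group G] (C : Subgroup G) (w : G) (hc : ∀ a ∈ C, ∀ b ∈ C, a * b = b * a)
    (h : ∀ y ∈ C, w * y * w ∈ C) (hw : w * w = 1) : Subgroup G where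
  carrier := {y | y ∈ C ∧ y * (w * y * w) = 1}
  one_mem' := ⟨C.one_mem, by simp [hw]⟩
  mul_mem' := by
    rintro a b ⟨ha, ha'⟩ ⟨hb, hb'⟩
    refine ⟨C.mul_mem ha hb, ?_⟩
    calc a * b * (w * (a * b) * w) = a * (b * (w * a * w)) * (w * b * w) := by
          simp [mul_assoc, mul_mul_self hw]
      _ = a * (w * a * w) * (b * (w * b * w)) := by rw [hc b hb _ (h a ha)]; group
      _ = 1 := by rw [ha', hb', one_mul]
  inv_mem' := by
    rintro a ⟨ha, ha'⟩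
    refine ⟨C.inv_mem ha, ?_⟩
    rw [hc _ ha _ (h a ha)] at ha'
    simpa [mul_assoc, inv_eq_self hw] using congrArg Inv.inv ha'

theorem card_invSub {G : Type*} [Group G] [Finite G] {C Z : Subgroup G} {w : G}
    {hc : ∀ a ∈ C, ∀ b ∈ C, a * b = b * a} {h : ∀ y ∈ C, w * y * w ∈ C} {hw : w * w = 1}
    (h1 : ∀ y ∈ C, y * (w * y * w) ∈ Z) (h2 : ∀ z ∈ Z, ∃ y ∈ C, y * (w * y * w) = z) :
    Nat.card (invSub C w hc h hw) * Nat.card Z = Nat.card C := by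
  let φ : C →* G := MonoidHom.mk' (fun y => y * (w * y * w)) fun a b => by
    simp only [Subgroup.coe_mul]
    calc (a : G) * b * (w * (a * b) * w) = a * (b * (w * a * w)) * (w * b * w) := by
          simp [mul_assoc, mul_mul_self hw]
      _ = _ := by rw [hc b b.2 _ (h a a.2)]; group
  have e1 : φ.ker = (invSub C w hc h hw).subgroupOf C := by
    ext ⟨a, ha⟩; exact ⟨fun h => ⟨ha, h⟩, fun h => h.2⟩
  have e2 : φ.range = Z := by
    ext z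
    exact ⟨by rintro ⟨y, rfl⟩; exact h1 y y.2, fun hz => by
      obtain ⟨y, hy, rfl⟩ := h2 z hz; exact ⟨⟨y, hy⟩, rfl⟩⟩
  have h3 := φ.ker.card_mul_index
  rwa [index_ker, e2, e1, Nat.card_congr (subgroupOfEquivOfLe (show invSub C w hc h hw ≤ C from fun y hy => hy.1)).toEquiv] at h3

theorem ncard_J {G : Type*} [Group G] {C : Subgroup G} {w : G}
    (hc : ∀ a ∈ C, ∀ b ∈ C, a * b = b * a) (h : ∀ y ∈ C, w * y * w ∈ C) (hw : w * w = 1) :
    {a | a * a = 1 ∧ a * w ∈ C}.ncard = Nat.card (invSub C w hc h hw) := by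
  rw [← SetLike.coe_sort_coe, Nat.card_coe_set_eq]
  refine Set.ncard_congr (fun a _ => a * w) ?_ (fun a b _ _ h => mul_right_cancel h) ?_
  · exact fun a ha => ⟨ha.2, by simp [mul_assoc, mul_mul_self hw, hw, ha.1]⟩
  · exact fun y hy => ⟨y * w, ⟨by simpa [mul_assoc] using hy.2, by simpa [mul_assoc, hw] using hy.1⟩,
      by simp [mul_assoc, hw]⟩

theorem sum_cl_pairs {G : Type*} [Group G] [Fintype G] {t : G} (ht : ∀ s, s ∈ cl t ↔ s * s = 1 ∧ s ≠ 1)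
    (C : Subgroup G) (F : G → ℂ) :
    ∑ a ∈ cl t, ∑ b ∈ cl t, (if a * b ∈ C then F (a * b) else 0) =
      ∑ c ∈ fs C, F c * ({a | a * a = 1 ∧ a ≠ 1 ∧ a ≠ c ∧ a * c * a = c⁻¹}.ncard : ℂ) := by
  have h1 : ∀ a ∈ cl t, ∑ b ∈ cl t, (if a * b ∈ C then F (a * b) else 0) =
      ∑ c ∈ fs C, if a ≠ c ∧ a * c * a = c⁻¹ then F c else 0 := by
    intro a ha
    have ha2 := ((ht a).1 ha).1
    rw [← sum_filter, ← sum_filter]
    refine sum_bij' (fun b _ => a * b) (fun c _ => a * c) ?_ ?_ ?_ ?_ fun _ _ => rfl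
    · intro b hb
      rw [mem_filter, ht] at hb
      refine mem_filter.2 ⟨mem_fs.2 hb.2, fun e => hb.1.2 (by simpa using e), ?_⟩
      rw [mul_mul_self ha2, mul_inv_rev, inv_eq_self ha2, inv_eq_self hb.1.1]
    · intro c hc
      rw [mem_filter, mem_fs] at hc
      refine mem_filter.2 ⟨(ht _).2 ⟨by rw [← mul_assoc, hc.2.2, inv_mul_cancel], fun e => hc.2.1 ?_⟩,
        by rw [mul_mul_self ha2]; exact hc.1⟩
      rw [← inv_eq_self ha2]; exact inv_eq_of_mul_eq_one_right e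
    · exact fun b _ => mul_mul_self ha2 b
    · exact fun b _ => mul_mul_self ha2 b
  rw [sum_congr rfl h1, sum_comm]
  refine sum_congr rfl fun c _ => ?_
  rw [← sum_filter, sum_const, nsmul_eq_mul, mul_comm, ← Set.ncard_coe_finset]
  congr 3
  ext a
  simp [ht, and_assoc]

theorem LT.Lin.sum_mul_conj {G : Type*} [Group G] [Fintype G] {C : Subgroup G} {a b : G → ℂ}
    (ha : Lin C a) (hb : Lin C b) {y : G} (hy : y ∈ C) (h : a y ≠ b y) :
    ∑ c ∈ fs C, a c * conj (b c) = 0 := by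
  rw [sum_congr rfl fun c hc => by rw [hb.conj_eq (mem_fs.1 hc)]]
  exact (ha.mul' hb.inv').sum_eq_zero hy fun e => h ((mul_inv_eq_one₀ (hb.ne_zero hy)).1 e)

namespace GD

variable {G : Type*} [Group G] {N : NP} (D : GD G N)

theorem exists_gen [Finite G] : ∃ ω ∈ D.W, (∀ y ∈ D.W, ∃ k : ℕ, y = ω ^ k) ∧
    orderOf ω = Nat.card D.Z * N.n ∧ ∀ k : ℕ, ω ^ k ∈ D.Z ↔ N.n ∣ k := by
  obtain ⟨ω, hω, h⟩ := D.cycW
  have h1 : orderOf ω = Nat.card D.Z * N.n := by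
    rw [← D.cW, ← Nat.card_zpowers]
    congr 3
    exact le_antisymm (zpowers_le.2 hω) fun y hy => by obtain ⟨k, rfl⟩ := h y hy; exact npow_mem_zpowers _ _
  refine ⟨ω, hω, h, h1, fun k => ?_⟩
  rw [← Nat.mul_dvd_mul_iff_left D.Z_pos, ← h1, orderOf_dvd_iff_pow_eq_one, mul_comm, pow_mul]
  refine ⟨fun h => orderOf_dvd_iff_pow_eq_one.1 (D.Z.orderOf_dvd_natCard h), fun h2 => ?_⟩
  haveI := D.isCyclic_W
  haveI : IsCyclic D.Z := isCyclic_of_le D.Z_le_W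
  obtain ⟨⟨z, hz⟩, hz'⟩ := IsCyclic.exists_ofOrder_eq_natCard (α := D.Z)
  rw [← orderOf_injective D.Z.subtype D.Z.subtype_injective] at hz'
  exact zpowers_le.2 hz (mem_zpowers_of_cyc D.isCyclic_W (pow_mem hω k) (D.Z_le_W hz) (by
    rw [← hz'] at h2; exact h2))

/-- The elements of `W` inverted by `v`. -/
def Wm : Subgroup G := invSub D.W D.v D.W_comm (fun _ => D.v_conj_mem) D.v_sq
/-- The elements of `T` inverted by `w`. -/
def Tm : Subgroup G := invSub D.T D.w D.T_comm (fun _ => D.w_conj_mem) D.w_sq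

theorem cWm [Finite G] : Nat.card D.Wm = N.n :=
  Nat.eq_of_mul_eq_mul_right D.Z_pos ((card_invSub D.v_inv D.v_onto).trans (D.cW.trans (mul_comm _ _)))
theorem cTm [Finite G] : Nat.card D.Tm = N.m :=
  Nat.eq_of_mul_eq_mul_right D.Z_pos ((card_invSub D.w_inv D.w_onto).trans (D.cT.trans (mul_comm _ _)))

theorem index_W [Finite G] : D.W.index = D.H.index * (N.q * N.m) := by
  have h1 := D.W.index_mul_card
  rw [← D.H.index_mul_card, D.cW, D.cH] at h1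
  have := N.two_le_n
  exact Nat.eq_of_mul_eq_mul_right (Nat.mul_pos D.Z_pos (by omega)) (h1.trans (by ring))

theorem index_A [Finite G] : D.A.index = D.H.index * (N.m * N.n) := by
  have h1 := D.A.index_mul_card
  rw [← D.H.index_mul_card, D.cA, D.cH] at h1
  have := N.three_le_q
  exact Nat.eq_of_mul_eq_mul_right (Nat.mul_pos D.Z_pos (by omega)) (h1.trans (by ring))

theorem index_T [Finite G] : D.T.index = D.H.index * (N.q * N.n) := by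
  have h1 := D.T.index_mul_card
  rw [← D.H.index_mul_card, D.cT, D.cH] at h1
  have := N.two_le_m
  exact Nat.eq_of_mul_eq_mul_right (Nat.mul_pos D.Z_pos (by omega)) (h1.trans (by ring))

theorem four_dvd_n [Finite G] (hZ : Nat.card D.Z = 2) : 4 ∣ N.n := by
  obtain ⟨d, hd, e⟩ := D.cZ
  rw [hZ] at e
  have := N.cases
  have := Nat.odd_iff.1 hd
  have := Nat.odd_iff.1 N.q_odd
  omega

variable {D}

theorem Cfg.mem_cl [Fintype G] (h : D.Cfg) (s : G) : s ∈ cl D.t ↔ s * s = 1 ∧ s ≠ 1 := by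
  rw [H5.mem_cl, isConj_iff]
  refine ⟨?_, fun hs => h.inv_conj hs.1 hs.2⟩
  rintro ⟨g, rfl⟩
  exact ⟨by simp [mul_assoc, mul_mul_self D.t_sq], by simpa [mul_inv_eq_one] using D.t_ne⟩

theorem Cfg.card_cl [Fintype G] (h : D.Cfg) : (cl D.t).card = D.H.index := by
  rw [H5.card_cl, h.full.H_eq]

theorem Cfg.exists_plus [Finite G] (h : D.Cfg) (hn : N.n ≠ 2) : ∃ lam, THyp D.W D.v lam ∧
    (∀ z ∈ D.Z, lam z = 1) ∧ ∀ y ∈ D.W, lam y ≠ 1 → ∀ g, g * y = y * g → g ∈ D.H := by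
  obtain ⟨ω, hω, hgen, ho, hZ⟩ := D.exists_gen
  have hc : ∀ K : Subgroup G, ∀ a ∈ D.W, ∀ b ∈ D.W, a * b * a⁻¹ * b⁻¹ ∈ K := fun K a ha b hb => by
    rw [D.W_comm a ha b hb]; simp
  obtain ⟨lam, h1, h2, h3, h4⟩ : ∃ lam, Lin D.W lam ∧ (∀ z ∈ D.Z, lam z = 1) ∧ lam (ω ^ 2) ≠ 1 ∧
      ∀ y ∈ D.W, lam y ≠ 1 → ∀ g, g * y = y * g → g ∈ D.H := by
    by_cases h2 : 2 < Nat.card D.Z
    · obtain ⟨lam, h1, h3, h4⟩ := exists_lin D.Z_le_W (hc _) (pow_mem hω 2) (by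
        rw [hZ]; intro e; have := Nat.le_of_dvd two_pos e; have := N.two_le_n; omega)
      exact ⟨lam, h1, h3, h4, fun y hy hl g => h.cent_W (Or.inl h2) hy (by rintro rfl; exact hl h1.one)⟩
    have h4 := D.four_dvd_n (le_antisymm (not_lt.1 h2) (Nat.le_of_dvd D.Z_pos D.two_dvd_Z))
    have h5 : ∀ k : ℕ, ω ^ k ∈ zpowers (ω ^ 4) ↔ 4 ∣ k := fun k => by
      refine ⟨?_, by rintro ⟨c, rfl⟩; rw [pow_mul]; exact npow_mem_zpowers _ _⟩
      intro hk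
      obtain ⟨j, hj⟩ := (mem_powers_iff_mem_zpowers.2 hk)
      simp only [← pow_mul, pow_eq_pow_iff_modEq, ho] at hj
      exact (Nat.modEq_zero_iff_dvd.1 ((hj.of_dvd (h4.mul_left _)).symm.trans
        (Nat.modEq_zero_iff_dvd.2 (Dvd.intro _ rfl))))
    obtain ⟨lam, h1, h3, h6⟩ := exists_lin (zpowers_le.2 (pow_mem hω 4)) (hc _) (pow_mem hω 2)
      (by rw [h5]; decide)
    refine ⟨lam, h1, fun z hz => ?_, h6, fun y hy hl g =>
      h.full.cent_of_even (fun y => D.W_inv) hy ?_⟩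
    · obtain ⟨k, rfl⟩ := hgen z (D.Z_le_W hz)
      exact h3 _ ((h5 k).2 (h4.trans ((hZ k).1 hz)))
    · by_contra h7
      obtain ⟨k, rfl⟩ := hgen y hy
      refine hl (h3 _ ((h5 k).2 ?_))
      have h8 : 4 ∣ k * orderOf (ω ^ k) := (h4.mul_left _).trans (ho ▸ orderOf_dvd_of_pow_eq_one (by
        rw [pow_mul, pow_orderOf_eq_one]))
      exact Nat.Coprime.dvd_of_dvd_mul_right
        (((Nat.prime_two.coprime_iff_not_dvd).2 h7).pow_left 2) h8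
  refine ⟨lam, ⟨D.v_sq, fun _ => D.v_conj_mem, D.v_not, h1, fun c hc => ?_,
    ⟨ω, hω, by rwa [← h1.pow hω]⟩, fun c hc hl g hc' hl' => ?_, fun a ha c hc ha2 e => ?_⟩, h2, h4⟩
  · exact eq_inv_of_mul_eq_one_right (by rw [← h1.mul c hc _ (D.v_conj_mem hc), h2 _ (D.v_inv c hc)])
  · have e1 : g⁻¹ * D.t * g * (g⁻¹ * c * g) = g⁻¹ * c * g * (g⁻¹ * D.t * g) := by
      simp [mul_assoc, ← mul_assoc D.t c, D.t_comm (D.W_le hc)]
    have e2 := D.cent_W _ hc' (fun e => hl' (h2 _ e)) _ (h4 _ hc' hl' _ e1) e1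
    have e3 : g ∈ D.H := by
      rcases D.W_inv e2 (by simp [mul_assoc, mul_mul_self D.t_sq]) with e | e
      · exact absurd (by simpa [mul_assoc, inv_mul_eq_iff_eq_mul] using e) D.t_ne
      · exact h.full g (by rw [← e]; nth_rw 2 [e]; group)
    exact (show g ∈ D.NW from (Subgroup.inv_mem_iff _).1 (show g⁻¹ ∈ D.NW from
      D.norm_W _ (inv_mem e3) c hc (fun e => hl (h2 _ e)) (by simpa using hc')))
  · rw [D.W_comm a ha c hc, mul_assoc, ha2, mul_one] at e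
    rcases D.W_inv hc (by nth_rw 1 [e]; simp) with e | e
    · rw [e, h1.one]
    · exact h2 _ (e ▸ D.t_mem)

theorem Cfg.sum_plus [Fintype G] (h : D.Cfg) {lam : G → ℂ} (hl : THyp D.W D.v lam) :
    ∑ a ∈ cl D.t, ∑ b ∈ cl D.t, ind D.W (fun g => 1 - lam g) (a * b) =
      D.H.index * ((N.q * N.m * N.n ^ 2 : ℤ) : ℂ) := by
  rw [hl.sum_cl h.mem_cl, ncard_J D.W_comm (fun _ => D.v_conj_mem) D.v_sq, D.index_W]
  change _ * ((Nat.card D.Wm : ℕ) : ℂ) ^ 2 = _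
  rw [D.cWm]; push_cast; ring

/-- Data for `θ₋`. -/
structure Nu (D : GD G N) (ν μ ψ : G → ℂ) : Prop where
  lin : Lin D.W ν
  t : ν D.t = -1
  odd : ∀ y ∈ D.W, ¬ 2 ∣ orderOf y → ν y = 1
  linμ : Lin D.A μ
  μ_eq : ∀ z ∈ D.Z, ∀ x ∈ D.X, μ (z * x) = ν z
  linψ : Lin D.A ψ
  ψ_Z : ∀ z ∈ D.Z, ψ z = 1
  ψ_ne : ∃ x ∈ D.X, ψ x ≠ 1

theorem exists_nu [Finite G] : ∃ ν, Lin D.W ν ∧ ν D.t = -1 ∧ ∀ y ∈ D.W, ¬ 2 ∣ orderOf y → ν y = 1 := by
  let K : Subgroup G :=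
    { carrier := {y | y ∈ D.W ∧ ¬ 2 ∣ orderOf y}
      one_mem' := ⟨one_mem _, by simp⟩
      mul_mem' := fun {a b} ha hb => ⟨mul_mem ha.1 hb.1, fun h => by
        have := h.trans (Commute.orderOf_mul_dvd_mul_orderOf (D.W_comm a ha.1 b hb.1))
        exact ((Nat.prime_two.dvd_mul).1 this).elim ha.2 hb.2⟩
      inv_mem' := fun {a} ha => ⟨inv_mem ha.1, by simpa using ha.2⟩ }
  obtain ⟨ν, h1, h2, h3⟩ := exists_lin (C := D.W) (K := K) (fun y hy => hy.1)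
    (fun a ha b hb => by rw [D.W_comm a ha b hb]; simp) D.t_W (fun h => h.2 (D.orderOf_t ▸ dvd_rfl))
  refine ⟨ν, h1, (mul_self_eq_one_iff.1 ?_).resolve_left h3, fun y hy ho => h2 y ⟨hy, ho⟩⟩
  rw [← h1.mul _ D.t_W _ D.t_W, D.t_sq, h1.one]

theorem exists_Nu [Finite G] {ν : G → ℂ} (h1 : Lin D.W ν) (h2 : ν D.t = -1)
    (h3 : ∀ y ∈ D.W, ¬ 2 ∣ orderOf y → ν y = 1) : ∃ μ ψ, Nu D ν μ ψ := by
  have : Nontrivial D.X := Finite.one_lt_card_iff_nontrivial.1 (by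
    rw [D.cX]; have := N.three_le_q; omega)
  obtain ⟨⟨x, hx⟩, hx1⟩ := exists_ne (1 : D.X)
  obtain ⟨ψ, h4, h5, h6⟩ := exists_lin D.Z_le_A (fun a ha b hb => by rw [D.A_comm a ha b hb]; simp)
    (D.X_le_A hx) (fun h => hx1 (Subtype.ext (D.eq_one_of_mem_X_Z hx h)))
  have h7 : ∀ z ∈ D.Z, ∀ x ∈ D.X, (z * x) ^ N.p ^ (Nat.card D.Z).totient = z := fun z hz x hx => by
    have e := Nat.ModEq.pow_totient ((N.hp.coprime_iff_not_dvd).2 D.p_not_dvd_Z)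
    obtain ⟨k, hk⟩ := Nat.exists_eq_succ_of_ne_zero (Nat.totient_pos.2 D.Z_pos).ne'
    rw [Commute.mul_pow (D.Z_comm z hz x (D.X_le hx)),
      pow_eq_pow_iff_modEq.2 (e.of_dvd (D.Z.orderOf_dvd_natCard hz)), pow_one, hk, pow_succ', pow_mul,
      D.X_pow x hx]
    simp
  refine ⟨fun a => ν (a ^ N.p ^ (Nat.card D.Z).totient), ψ, h1, h2, h3, h1.comp (one_pow _)
    (fun a ha => ?_) fun a ha b hb => Commute.mul_pow (D.A_comm a ha b hb) _,
    fun z hz x hx => by rw [h7 z hz x hx], h4, h5, x, hx, h6⟩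
  obtain ⟨z, hz, x, hx, rfl⟩ := D.mem_A.1 ha
  rw [h7 z hz x hx]; exact D.Z_le_W hz

theorem Full.loc [Finite G] (h : D.Full) {y x : G} (hy : y ∈ D.W ∨ y ∈ D.A)
    (hy' : x⁻¹ * y * x ∈ D.W ∨ x⁻¹ * y * x ∈ D.A) (he : 2 ∣ orderOf (x⁻¹ * y * x)) : x ∈ D.H := by
  have key : ∀ {a : G}, a ∈ D.W ∨ a ∈ D.A → ∀ k : ℕ, orderOf (a ^ k) = 2 → a ^ k = D.t := fun ha k hk =>
    (ha.elim (fun ha => D.W_inv (pow_mem ha k) (sq_of_orderOf_two hk))
      fun ha => D.A_inv (pow_mem ha k) (sq_of_orderOf_two hk)).resolve_left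
      (ne_one_of_orderOf hk (by decide))
  obtain ⟨k, hk⟩ := exists_pow_prime he
  have e : (x⁻¹ * y * x) ^ k = x⁻¹ * y ^ k * x := by simpa using conj_pow (a := x⁻¹) (b := y) (i := k)
  have h1 := key hy' k hk
  have h2 := key hy k (by
    rw [← hk, e]; exact (SemiconjBy.orderOf_eq x⁻¹ (by simp [SemiconjBy])))
  rw [e, h2] at h1
  exact h x (by nth_rw 1 [← h1]; group)

theorem sum_A [Fintype G] (F : G → ℂ) : ∑ a ∈ fs D.A, F a = ∑ z ∈ fs D.Z, ∑ x ∈ fs D.X, F (z * x) := by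
  rw [← sum_product']
  refine (sum_bij (fun p _ => p.1 * p.2) ?_ ?_ ?_ fun _ _ => rfl).symm
  · intro p hp
    rw [mem_product, mem_fs, mem_fs] at hp
    exact mem_fs.2 (D.mem_A.2 ⟨_, hp.1, _, hp.2, rfl⟩)
  · rintro ⟨z, x⟩ hp ⟨z', x'⟩ hp' e
    simp only [mem_product, mem_fs] at hp hp' e
    have e1 : x * x'⁻¹ = z⁻¹ * z' := by rw [eq_inv_mul_iff_mul_eq, ← mul_assoc, e]; group
    have e2 := D.eq_one_of_mem_X_Z (mul_mem hp.2 (inv_mem hp'.2)) (e1 ▸ mul_mem (inv_mem hp.1) hp'.1)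
    obtain rfl := mul_inv_eq_one.1 e2
    rw [mul_right_cancel e]
  · intro a ha
    obtain ⟨z, hz, x, hx, rfl⟩ := D.mem_A.1 (mem_fs.1 ha)
    exact ⟨(z, x), mem_product.2 ⟨mem_fs.2 hz, mem_fs.2 hx⟩, rfl⟩

theorem sum_B [Fintype G] (F : G → ℂ) {x : G} (hx : x ∈ D.X) (hx1 : x ≠ 1) :
    ∑ b ∈ fs D.B, F (b⁻¹ * x * b) = Nat.card D.A * ∑ y ∈ (fs D.X).erase 1, F y := by
  rw [← sum_fiberwise_of_maps_to (g := fun b => b⁻¹ * x * b) (t := (fs D.X).erase 1) fun b hb =>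
    mem_erase.2 ⟨by simpa [mul_assoc, inv_mul_eq_iff_eq_mul] using hx1,
      mem_fs.2 (by simpa using D.B_norm (inv_mem (mem_fs.1 hb)) hx)⟩, mul_sum]
  refine sum_congr rfl fun y hy => ?_
  rw [sum_congr rfl (g := fun _ => F y) fun b hb => by rw [(mem_filter.1 hb).2], sum_const,
    nsmul_eq_mul, ← card_fs]
  obtain ⟨s, hs, rfl⟩ := D.S_trans hx hx1 (mem_fs.1 (mem_erase.1 hy).2) (mem_erase.1 hy).1
  congr 2
  refine card_bij' (fun b _ => b * s) (fun a _ => a * s⁻¹) ?_ ?_ (by simp) (by simp)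
  · intro b hb
    rw [mem_filter, mem_fs] at hb
    refine mem_fs.2 (D.mem_A.2 (D.cent_X x hx hx1 _ (mul_mem (D.B_le hb.1) (D.S_le hs)) ?_))
    calc b * s * x = b * (s * x * s⁻¹) * s := by group
      _ = _ := by rw [← hb.2]; group
  · intro a ha
    rw [mem_fs] at ha
    refine mem_filter.2 ⟨mem_fs.2 (mul_mem (D.A_le_B ha) (inv_mem (D.S_le_B hs))), ?_⟩
    calc (a * s⁻¹)⁻¹ * x * (a * s⁻¹) = s * (a⁻¹ * (x * a)) * s⁻¹ := by group
      _ = _ := by rw [← D.A_comm a ha x (D.X_le_A hx)]; group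

theorem ncard_B_inv [Finite G] : ({a | a ∈ D.B ∧ a * a = 1 ∧ a ∉ D.Z}.ncard : ℤ) = N.q * (1 + N.ε) := by
  rcases N.hε with hε | hε
  swap
  · rw [hε, Set.eq_empty_of_forall_notMem (s := {a | a ∈ D.B ∧ a * a = 1 ∧ a ∉ D.Z}) fun a ha =>
      ha.2.2 ((D.B_inv hε ha.1 ha.2.1).elim (fun e => e ▸ one_mem _) fun e => e ▸ D.t_mem)]
    simp
  have key : ∀ s ∈ D.T, s ∉ D.Z → {x | ∃ g ∈ D.X, g * s * g⁻¹ = x}.ncard = N.q := fun s hs hsZ => by
    have h1 := ncard_conj_class D.X s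
    have h2 : D.X ⊓ centralizer {s} = ⊥ := eq_bot_iff.2 fun x hx => by
      by_contra h; exact hsZ (D.S_fpf (D.S_eq_T hε ▸ hs) hx.1 h (mem_cent.1 hx.2).symm)
    rwa [h2, card_bot, mul_one, D.cX] at h1
  have e : {a | a ∈ D.B ∧ a * a = 1 ∧ a ∉ D.Z} =
      {x | ∃ g ∈ D.X, g * D.u * g⁻¹ = x} ∪ {x | ∃ g ∈ D.X, g * (D.t * D.u) * g⁻¹ = x} := by
    ext a
    constructor
    · rintro ⟨h1, h2, h3⟩
      obtain ⟨y, hy, e⟩ := D.B_conj h1 fun h => h3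
        ((D.A_inv h h2).elim (fun e => e ▸ one_mem _) fun e => e ▸ D.t_mem)
      have h4 := D.conj_not_Z h3 (D.X_le hy)
      rcases D.T_inv (D.S_eq_T hε ▸ e) (by simp [mul_assoc, mul_mul_self h2]) with e | e | e | e
      · exact absurd (e ▸ one_mem _) h4
      · exact absurd (e ▸ D.t_mem) h4
      · exact Or.inl ⟨y⁻¹, inv_mem hy, by rw [← e]; group⟩
      · exact Or.inr ⟨y⁻¹, inv_mem hy, by rw [← e]; group⟩
    · rintro (⟨g, hg, rfl⟩ | ⟨g, hg, rfl⟩)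
      · exact ⟨mul_mem (mul_mem (D.X_le_B hg) (D.B_T hε D.u_mem)) (inv_mem (D.X_le_B hg)),
          by simp [mul_assoc, mul_mul_self D.u_sq], D.conj_not_Z D.u_not (D.X_le hg)⟩
      · exact ⟨mul_mem (mul_mem (D.X_le_B hg) (D.B_T hε D.tu_mem)) (inv_mem (D.X_le_B hg)),
          by rw [conj_mul, D.tu_sq]; simp, D.conj_not_Z D.tu_not (D.X_le hg)⟩
  rw [e, Set.ncard_union_eq, key _ D.u_mem D.u_not, key _ D.tu_mem D.tu_not, hε]
  · push_cast; ring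
  rw [Set.disjoint_left]
  rintro _ ⟨g, hg, rfl⟩ ⟨g', hg', e⟩
  have h1 := mul_mem (inv_mem hg') hg
  have h2 := mul_mem h1 (D.T_norm_X hε D.u_mem (inv_mem h1))
  rw [show g'⁻¹ * g * (D.u * (g'⁻¹ * g)⁻¹ * D.u⁻¹) = g'⁻¹ * (g * D.u * g⁻¹) * g' * D.u⁻¹ by group,
    ← e] at h2
  exact D.t_ne (D.eq_one_of_mem_X_Z (by simpa [mul_assoc] using h2) D.t_mem)

end GD

end H4
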