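import Cfsg.Agent.H4.GD6

/-!
`H4.GD`: the generalized character `θ₋` and the order formula.
-/

set_option autoImplicit false

open Cfsg H4

namespace H4

open Subgroup H5 _root_.H4.LT Finset
open scoped ComplexConjugate Classical

namespace GD

variable {G : Type*} [Group G] [Fintype G] {N : NP} {D : GD G N} {ν μ ψ ν' μ' ψ' : G → ℂ}

/-- `θ₋`. -/
noncomputable def Th (D : GD G N) (ν μ ψ : G → ℂ) : G → ℂ :=
  ind D.W (fun g => 1 - ν g) - ind D.A (fun g => (1 - μ g) * ψ g)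

namespace Nu

variable (h : Nu D ν μ ψ)
include h

theorem evenW {y : G} (hy : y ∈ D.W) (h1 : 1 - ν y ≠ 0) : 2 ∣ orderOf y := by
  by_contra h2; exact h1 (by simp [h.odd y hy h2])

theorem μ_Z {z : G} (hz : z ∈ D.Z) : μ z = ν z := by simpa using h.μ_eq z hz 1 (one_mem _)

theorem ψ_mul {z x : G} (hz : z ∈ D.Z) (hx : x ∈ D.X) : ψ (z * x) = ψ x := by
  rw [h.linψ.mul z (D.Z_le_A hz) x (D.X_le_A hx), h.ψ_Z z hz, one_mul]

theorem evenA {y : G} (hy : y ∈ D.A) (h1 : (1 - μ y) * ψ y ≠ 0) : 2 ∣ orderOf y := by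
  obtain ⟨z, hz, x, hx, rfl⟩ := D.mem_A.1 hy
  rw [h.μ_eq z hz x hx] at h1
  have e : (z * x) ^ N.p = z ^ N.p := by
    rw [Commute.mul_pow (D.Z_comm z hz x (D.X_le hx)), D.X_pow x hx, mul_one]
  have := orderOf_pow_dvd (x := z * x) N.p
  rw [e, Nat.Coprime.orderOf_pow ((N.hp.coprime_iff_not_dvd.2 fun h =>
    D.p_not_dvd_Z (h.trans (D.Z.orderOf_dvd_natCard hz))).symm)] at this
  exact (h.evenW (D.Z_le_W hz) (left_ne_zero_of_mul h1)).trans this

theorem linv : Lin D.W fun y => ν (D.v * y * D.v) :=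
  h.lin.comp (by simp [D.v_sq]) (fun _ => D.v_conj_mem) fun a _ b _ => by
    simp [mul_assoc, mul_mul_self D.v_sq]

theorem sumX : ∑ x ∈ (fs D.X).erase 1, ψ x = -1 := by
  obtain ⟨x, hx, h1⟩ := h.ψ_ne
  have := (h.linψ.mono D.X_le_A).sum_eq_zero hx h1
  rw [← add_sum_erase _ _ (mem_fs.2 (one_mem _)), h.linψ.one] at this
  linear_combination this

theorem gen : IsGeneralizedCharacter G (Th D ν μ ψ) := by
  refine H4.Cfsg.IsGeneralizedCharacter.sub ?_ ?_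
  · rw [ind_sub]; exact (Lin.const _).gen.sub h.lin.gen
  · simp only [sub_mul, one_mul]
    rw [ind_sub]; exact h.linψ.gen.sub (h.linμ.mul' h.linψ).gen

variable (hF : D.Full)
include hF

theorem locW {y x : G} (hy : y ∈ D.W ∨ y ∈ D.A) (hx : x⁻¹ * y * x ∈ D.W) (h1 : 1 - ν (x⁻¹ * y * x) ≠ 0) :
    x ∈ D.H := hF.loc hy (Or.inl hx) (h.evenW hx h1)

theorem locA {y x : G} (hy : y ∈ D.W ∨ y ∈ D.A) (hx : x⁻¹ * y * x ∈ D.A)
    (h1 : (1 - μ (x⁻¹ * y * x)) * ψ (x⁻¹ * y * x) ≠ 0) : x ∈ D.H :=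
  hF.loc hy (Or.inr hx) (h.evenA hx h1)

theorem apply_W {y : G} (hy : y ∈ D.W) (hyZ : y ∉ D.Z) :
    Th D ν μ ψ y = 2 - ν y - ν (D.v * y * D.v) := by
  rw [Th, Pi.sub_apply, ind_eq_zero (C := D.A) fun x hx => by_contra fun h1 =>
      D.not_conj_WA (inv_mem (h.locA hF (Or.inl hy) hx h1)) hy hyZ (by simpa using hx),
    ind_loc (M := D.NW) (fun x hx h1 => (Subgroup.inv_mem_iff _).1 (show x⁻¹ ∈ D.NW from
      D.norm_W _ (inv_mem (h.locW hF (Or.inl hy) hx h1)) y hy hyZ (by simpa using hx)))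
      (fun x hx => by simpa using ext2_conj (inv_mem hx) hy), NW, sum_ext2 D.v_not,
    sum_congr (f := fun x => 1 - ν (x⁻¹ * y * x)) rfl (g := fun _ => 1 - ν y) fun x hx => by
      rw [h.lin.conj_mem (mem_fs.1 hx) hy],
    sum_congr (f := fun x => 1 - ν ((x * D.v)⁻¹ * y * (x * D.v))) rfl
      (g := fun _ => 1 - ν (D.v * y * D.v)) fun x hx => by
      rw [mul_inv_rev, D.v_inv', show D.v * x⁻¹ * y * (x * D.v) = D.v * (x⁻¹ * (y * x)) * D.v by group,
        D.W_comm y hy x (mem_fs.1 hx), inv_mul_cancel_left],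
    sum_fs_const, sum_fs_const]
  field_simp [card_ne_zero D.W]; ring

theorem apply_Z {z : G} (hz : z ∈ D.Z) : Th D ν μ ψ z = (1 - N.ε * N.q) * (1 - ν z) := by
  have e : ∀ x ∈ D.H, x⁻¹ * z * x = z := fun x hx => by simpa using D.conj_Z hz (inv_mem hx)
  have hZ : (Nat.card D.Z : ℂ) ≠ 0 := card_ne_zero _
  have hq : (N.q : ℂ) ≠ 0 := by have := N.three_le_q; exact_mod_cast (by omega)
  have hn0 : (N.n : ℂ) ≠ 0 := by have := N.two_le_n; exact_mod_cast (by omega)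
  have hm : (N.m : ℂ) = N.q - N.ε := by exact_mod_cast N.hm
  have hn : (N.n : ℂ) = N.q + N.ε := by exact_mod_cast N.hn
  have hε : (N.ε : ℂ) * N.ε = 1 := by exact_mod_cast N.ε_sq
  rw [Th, Pi.sub_apply, ind_loc (M := D.H) (fun x => h.locW hF (Or.inl (D.Z_le_W hz)))
      fun x hx => (e x hx).symm ▸ D.Z_le_W hz,
    ind_loc (M := D.H) (fun x => h.locA hF (Or.inl (D.Z_le_W hz)))
      fun x hx => (e x hx).symm ▸ D.Z_le_A hz,
    sum_congr (f := fun x => 1 - ν (x⁻¹ * z * x)) rfl (g := fun _ => 1 - ν z) fun x hx => by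
      rw [e x (mem_fs.1 hx)],
    sum_congr (f := fun x => (1 - μ (x⁻¹ * z * x)) * ψ (x⁻¹ * z * x)) rfl (g := fun _ => 1 - ν z)
      fun x hx => by
      rw [e x (mem_fs.1 hx), h.μ_Z hz, h.ψ_Z z hz, mul_one],
    sum_fs_const, D.cW, D.cA, D.cH]
  push_cast
  have e1 : ((Nat.card D.Z : ℂ) * N.n)⁻¹ * (Nat.card D.Z * (N.q * N.m * N.n) * (1 - ν z)) =
      N.q * N.m * (1 - ν z) := by field_simp
  have e2 : ((Nat.card D.Z : ℂ) * N.q)⁻¹ * (Nat.card D.Z * (N.q * N.m * N.n) * (1 - ν z)) =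
      N.m * N.n * (1 - ν z) := by field_simp
  rw [e1, e2, hm, hn]
  linear_combination (1 - ν z) * hε

theorem apply_A {z x : G} (hz : z ∈ D.Z) (hx : x ∈ D.X) (hx1 : x ≠ 1) :
    Th D ν μ ψ (z * x) = 1 - ν z := by
  have hA : z * x ∈ D.A := D.mem_A.2 ⟨z, hz, x, hx, rfl⟩
  have hZ : z * x ∉ D.Z := fun h => hx1 (D.eq_one_of_mem_X_Z hx ((mul_mem_cancel_left hz).1 h))
  rw [Th, Pi.sub_apply, ind_eq_zero (C := D.W) fun g hg => by_contra fun h1 => by
      have := h.locW hF (Or.inr hA) hg h1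
      exact D.not_conj_WA this hg (by simpa using D.conj_not_Z hZ (inv_mem this))
        (by simpa [mul_assoc] using hA),
    ind_loc (M := D.B) (fun g hg h1 => (Subgroup.inv_mem_iff _).1
      (D.norm_A _ (inv_mem (h.locA hF (Or.inr hA) hg h1)) _ hA hZ (by simpa using hg)))
      (fun g hg => by simpa using D.B_norm_A (inv_mem hg) hA),
    sum_congr rfl (g := fun g => (1 - ν z) * ψ (g⁻¹ * x * g)) fun g hg => by
      have hg := mem_fs.1 hg
      have h1 : g⁻¹ * x * g ∈ D.X := by simpa using D.B_norm (inv_mem hg) hx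
      rw [show g⁻¹ * (z * x) * g = z * (g⁻¹ * x * g) by
        rw [← mul_assoc, ← D.Z_comm z hz _ (inv_mem (D.B_le hg))]; group,
        h.μ_eq z hz _ h1, h.ψ_mul hz h1],
    ← mul_sum, sum_B ψ hx hx1, h.sumX]
  field_simp [card_ne_zero D.A]; ring

theorem apply_one : Th D ν μ ψ 1 = 0 := by simp [h.apply_Z hF (one_mem _), h.lin.one]

theorem apply_W' {y : G} (hy : y ∈ D.W) : Th D ν μ ψ y = 2 - ν y - ν (D.v * y * D.v) +
    if y ∈ D.Z then (-1 - N.ε * N.q) * (1 - ν y) else 0 := by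
  split_ifs with hz
  · rw [h.apply_Z hF hz, ← D.Z_comm y hz _ D.v_mem, mul_assoc, D.v_sq, mul_one]; ring
  · rw [h.apply_W hF hy hz, add_zero]

theorem inner (h' : Nu D ν' μ' ψ') : classInner (Th D ν μ ψ) (Th D ν' μ' ψ') =
    (Nat.card D.W : ℂ)⁻¹ * ∑ y ∈ fs D.W, (1 - ν y) * conj (2 - ν' y - ν' (D.v * y * D.v)) := by
  have hZ : (Nat.card D.Z : ℂ) ≠ 0 := card_ne_zero _
  have hq : (N.q : ℂ) ≠ 0 := by have := N.three_le_q; exact_mod_cast (by omega)
  have hn0 : (N.n : ℂ) ≠ 0 := by have := N.two_le_n; exact_mod_cast (by omega)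
  have hn : (N.n : ℂ) = N.q + N.ε := by exact_mod_cast N.hn
  have hε : (N.ε : ℂ) * N.ε = 1 := by exact_mod_cast N.ε_sq
  have e1 : ∑ y ∈ fs D.W, (1 - ν y) * conj (Th D ν' μ' ψ' y) =
      ∑ y ∈ fs D.W, (1 - ν y) * conj (2 - ν' y - ν' (D.v * y * D.v)) +
        (-1 - N.ε * N.q) * ∑ z ∈ fs D.Z, (1 - ν z) * conj (1 - ν' z) := by
    rw [show fs D.Z = (fs D.W).filter (· ∈ D.Z) by ext; simpa using fun h => D.Z_le_W h,
      sum_filter, mul_sum, ← sum_add_distrib]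
    refine sum_congr rfl fun y hy => ?_
    rw [h'.apply_W' hF (mem_fs.1 hy)]
    split_ifs <;> simp <;> ring
  have e2 : ∑ y ∈ fs D.A, (1 - μ y) * ψ y * conj (Th D ν' μ' ψ' y) =
      (-N.ε * N.q) * ∑ z ∈ fs D.Z, (1 - ν z) * conj (1 - ν' z) := by
    rw [sum_A, mul_sum]
    refine sum_congr rfl fun z hz => ?_
    have hz := mem_fs.1 hz
    rw [← add_sum_erase _ _ (mem_fs.2 (one_mem D.X)), mul_one, h'.apply_Z hF hz, h.μ_Z hz, h.ψ_Z z hz,
      sum_congr rfl (g := fun x => (1 - ν z) * conj (1 - ν' z) * ψ x) fun x hx => by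
        have h1 := mem_fs.1 (mem_erase.1 hx).2
        rw [h'.apply_A hF hz h1 (mem_erase.1 hx).1, h.μ_eq z hz x h1, h.ψ_mul hz h1]; ring,
      ← mul_sum, h.sumX]
    simp; ring
  nth_rw 1 [Th]
  rw [classInner_sub_left, inner_ind _ _ h'.gen.classFun, inner_ind _ _ h'.gen.classFun,
    e1, e2, D.cA, mul_add, add_sub_assoc, add_eq_left, D.cW]
  push_cast
  field_simp
  rw [hn]
  linear_combination (∑ z ∈ fs D.Z, (1 - ν z) * conj (1 - ν' z)) * hε

end Nu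

omit [Fintype G] in
theorem conj_Z' (D : GD G N) {z h : G} (hz : z ∈ D.Z) (hh : h ∈ D.H) : z * h * z⁻¹ = h := by
  rw [D.Z_comm z hz h hh, mul_inv_cancel_right]

theorem exists_vt (D : GD G N) : ∃ y ∈ D.W, D.v * y * D.v = D.t * y := by
  obtain ⟨ω, hω, -, -, hZ⟩ := D.exists_gen
  obtain ⟨k, hk⟩ := N.n_even
  have h2 := N.two_le_n
  have hy := pow_mem hω k
  have hyZ : ω ^ k ∉ D.Z := fun h => by have := Nat.le_of_dvd (by omega) ((hZ k).1 h); omega
  have hy2 : ω ^ k * ω ^ k ∈ D.Z := by rw [← pow_add, hZ, hk]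
  generalize ω ^ k = y at *
  have hc : (y * y)⁻¹ * (y * (D.v * y * D.v)) ∈ D.Z := mul_mem (inv_mem hy2) (D.v_inv y hy)
  have e : D.v * y * D.v = (y * y)⁻¹ * (y * (D.v * y * D.v)) * y := by
    rw [D.Z_comm _ hc y (D.W_le hy)]; group
  generalize (y * y)⁻¹ * (y * (D.v * y * D.v)) = c at *
  have h1 : c * c = 1 := by
    have : y = c * (D.v * y * D.v) := by
      calc y = D.v * (D.v * y * D.v) * D.v := by simp [mul_assoc, mul_mul_self D.v_sq, D.v_sq]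
        _ = _ := by nth_rw 1 [e]; rw [← mul_assoc, ← D.Z_comm c hc _ D.v_mem]; group
    rw [e, ← mul_assoc] at this
    exact (mul_eq_right.1 this.symm)
  rcases D.Z_inv hc h1 with rfl | rfl
  · exact absurd (D.cent_W y hy hyZ _ D.v_mem (by
      nth_rw 2 [← one_mul y]; rw [← e, mul_assoc, D.v_sq, mul_one])) D.v_not
  · exact ⟨y, hy, e⟩

namespace Nu

variable (h : Nu D ν μ ψ)
include h

theorem t_ne : ν D.t ≠ 1 := by rw [h.t]; norm_num

theorem sumW : ∑ y ∈ fs D.W, ν y = 0 := h.lin.sum_eq_zero D.t_W h.t_ne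

theorem vtv : ν (D.v * D.t * D.v) = -1 := by
  rw [← D.t_comm D.v_mem, mul_assoc, D.v_sq, mul_one, h.t]

theorem inner_one : classInner (Th D ν μ ψ) (fun _ => 1) = 1 := by
  obtain ⟨x, hx, h1⟩ := h.ψ_ne
  rw [Th, classInner_sub_left, inner_ind _ _ (isClassFunction_const 1),
    inner_ind _ _ (isClassFunction_const 1)]
  simp only [map_one, mul_one, sub_mul, one_mul, sum_sub_distrib, h.sumW, sum_fs_const,
    h.linψ.sum_eq_zero (D.X_le_A hx) h1, (h.linμ.mul' h.linψ).sum_eq_zero (D.X_le_A hx) (by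
      simpa [h.lin.one] using (one_mul x ▸ h.μ_eq 1 (one_mem _) x hx) ▸ by simpa [h.lin.one] using h1)]
  field_simp [card_ne_zero D.W]; ring

/-- The general inner product with `2 - ν - ν^v`. -/
theorem sum_aux {lam : G → ℂ} (hl : Lin D.W lam) (h1 : ∃ y ∈ D.W, lam y ≠ 1)
    (h2 : ∃ y ∈ D.W, lam y ≠ ν (D.v * y * D.v)) :
    ∑ y ∈ fs D.W, (1 - lam y) * conj (2 - ν y - ν (D.v * y * D.v)) =
      2 * Nat.card D.W + ∑ y ∈ fs D.W, lam y * conj (ν y) := by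
  obtain ⟨a, ha, h1⟩ := h1
  obtain ⟨b, hb, h2⟩ := h2
  rw [sum_congr rfl (g := fun y => 2 - 1 * conj (ν y) - 1 * conj (ν (D.v * y * D.v)) - 2 * lam y +
    lam y * conj (ν y) + lam y * conj (ν (D.v * y * D.v))) fun y _ => by simp only [map_sub, map_ofNat]; ring]
  simp only [sum_add_distrib, sum_sub_distrib, ← mul_sum (a := (2 : ℂ)), hl.sum_eq_zero ha h1,
    hl.sum_mul_conj h.linv hb h2, sum_fs_const,
    (Lin.const D.W).sum_mul_conj h.lin D.t_W h.t_ne.symm,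
    (Lin.const D.W).sum_mul_conj h.linv D.t_W (by rw [h.vtv]; norm_num)]
  ring

variable (hF : D.Full)
include hF

theorem inner_self : classInner (Th D ν μ ψ) (Th D ν μ ψ) = 3 := by
  obtain ⟨y, hy, e⟩ := D.exists_vt
  rw [h.inner hF h, h.sum_aux h.lin ⟨_, D.t_W, h.t_ne⟩ ⟨y, hy, by
      rw [e, h.lin.mul _ D.t_W y hy, h.t]
      exact fun e => h.lin.ne_zero hy (by linear_combination e / 2)⟩,
    sum_congr rfl (g := fun _ => 1) fun y hy => by
      rw [h.lin.conj_eq (mem_fs.1 hy), mul_inv_cancel₀ (h.lin.ne_zero (mem_fs.1 hy))], sum_fs_const]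
  field_simp [card_ne_zero D.W]; ring

theorem inner_plus {lam : G → ℂ} (hl : THyp D.W D.v lam) (hZ : ∀ z ∈ D.Z, lam z = 1) :
    classInner (ind D.W fun g => 1 - lam g) (Th D ν μ ψ) = 2 := by
  obtain ⟨c, hc, h1⟩ := hl.ne
  rw [inner_ind _ _ h.gen.classFun, sum_congr rfl
    (g := fun y => (1 - lam y) * conj (2 - ν y - ν (D.v * y * D.v))) fun y hy => by
      by_cases hz : y ∈ D.Z
      · simp [hZ y hz]
      · rw [h.apply_W hF (mem_fs.1 hy) hz],
    h.sum_aux hl.lin ⟨c, hc, fun e => h1 (by simp [e])⟩ ⟨_, D.t_W, by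
      rw [h.vtv, hZ _ D.t_mem]; norm_num⟩,
    hl.lin.sum_mul_conj h.lin D.t_W (by rw [hZ _ D.t_mem]; exact h.t_ne.symm)]
  field_simp [card_ne_zero D.W]; ring

omit hF in
theorem sum_cl (hC : D.Cfg) : ∑ a ∈ cl D.t, ∑ b ∈ cl D.t, Th D ν μ ψ (a * b) =
    D.H.index * ((N.q * N.m * N.n ^ 2 : ℤ) : ℂ) := by
  have hF := hC.full
  have loc : ∀ {a c : G}, c ∈ D.W ∨ c ∈ D.A → 2 ∣ orderOf c → a * a = 1 → a * c * a = c⁻¹ → a ∈ D.H :=
    fun {a c} hc ho ha e => by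
      rw [← inv_eq_self ha] at e
      nth_rw 2 [inv_eq_self ha] at e
      exact hF.loc hc (e ▸ hc.imp inv_mem inv_mem) (by rwa [e, orderOf_inv])
  have cZ : ∀ z ∈ D.Z, (1 - ν z) * ({a | a * a = 1 ∧ a ≠ 1 ∧ a ≠ z ∧ a * z * a = z⁻¹}.ncard : ℂ) =
      if z = D.t then 2 * ((N.q : ℂ) * N.n) else 0 := fun z hz => by
    split_ifs with e
    · rw [e, h.t, ← Nat.cast_mul, ← D.ncard_inv]
      congr 3
      · norm_num
      ext a
      refine ⟨fun ha => ⟨loc (Or.inl D.t_W) (D.orderOf_t ▸ dvd_rfl) ha.1 ha.2.2.2, ha.1, ha.2.1, ha.2.2.1⟩,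
        fun ha => ⟨ha.2.1, ha.2.2.1, ha.2.2.2, by
          rw [← D.t_comm ha.1, mul_assoc, ha.2.1, mul_one, D.t_inv]⟩⟩
    · by_contra h1
      obtain ⟨a, ha⟩ := Set.nonempty_of_ncard_ne_zero (Nat.cast_ne_zero.1 (right_ne_zero_of_mul h1))
      have h2 := left_ne_zero_of_mul h1
      have h3 := ha.2.2.2
      rw [← D.Z_comm z hz a (loc (Or.inl (D.Z_le_W hz)) (h.evenW (D.Z_le_W hz) h2) ha.1 h3), mul_assoc,
        ha.1, mul_one] at h3
      rcases D.Z_inv hz (by nth_rw 1 [h3]; simp) with e' | e'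
      · exact h2 (by simp [e', h.lin.one])
      · exact e e'
  have tWm : D.t ∈ D.Wm := ⟨D.t_W, by rw [← D.t_comm D.v_mem, mul_assoc D.t D.v, D.v_sq, mul_one, D.t_sq]⟩
  have cW : ∀ c ∈ D.W, (1 - ν c) * ({a | a * a = 1 ∧ a ≠ 1 ∧ a ≠ c ∧ a * c * a = c⁻¹}.ncard : ℂ) =
      (if c = D.t then 2 * ((N.q : ℂ) * N.n) - 2 * N.n else 0) +
        if c ∈ D.Wm then N.n * (1 - ν c) else 0 := fun c hc => by
    by_cases hz : c ∈ D.Z
    · rw [cZ c hz]
      split_ifs with e1 e2 e2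
      · rw [e1, h.t]; ring
      · exact absurd (e1 ▸ tWm) e2
      · have := e2.2
        rw [← D.Z_comm c hz _ D.v_mem, mul_assoc c D.v, D.v_sq, mul_one] at this
        simp [(D.Z_inv hz this).resolve_right e1, h.lin.one]
      · simp
    rw [if_neg fun e : c = D.t => hz (e ▸ D.t_mem), zero_add]
    by_cases h1 : 1 - ν c = 0
    · simp [h1]
    have h2 : ∀ a, a * D.v ∈ D.W → a * a = 1 → a * c * a = D.v * c * D.v := fun a ha ha2 => by
      have := D.W_comm _ ha _ (D.v_conj_mem hc)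
      calc a * c * a = a * D.v * (D.v * c * D.v) * (a * D.v)⁻¹ := by
            simp [mul_assoc, mul_mul_self D.v_sq, D.v_inv', inv_eq_self ha2]
        _ = _ := by rw [this]; group
    have h3 : ∀ a, a * a = 1 → a * c * a = c⁻¹ → a * D.v ∈ D.W := fun a ha e =>
      (D.norm_W a (loc (Or.inl hc) (h.evenW hc h1) ha e) c hc hz (by
        rw [inv_eq_self ha, e]; exact inv_mem hc)).resolve_left fun hW => by
        rw [D.W_comm a hW c hc, mul_assoc, ha, mul_one] at e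
        rcases D.W_inv hc (by nth_rw 1 [e]; simp) with e' | e'
        exacts [hz (e' ▸ one_mem _), hz (e' ▸ D.t_mem)]
    split_ifs with e
    · rw [mul_comm, ← D.cWm, Wm, ← ncard_J]
      congr 3
      ext a
      refine ⟨fun ha => ⟨ha.1, h3 a ha.1 ha.2.2.2⟩, fun ha => ⟨ha.1, ?_, ?_, ?_⟩⟩
      · rintro rfl; exact D.v_not (by simpa using ha.2)
      · rintro rfl; exact D.v_not ((mul_mem_cancel_left hc).1 ha.2)
      · rw [h2 a ha.2 ha.1]; exact eq_inv_of_mul_eq_one_right e.2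
    · rw [Set.eq_empty_of_forall_notMem (s := {a | a * a = 1 ∧ a ≠ 1 ∧ a ≠ c ∧ a * c * a = c⁻¹})
        fun a ha => e ⟨hc, by rw [← h2 a (h3 a ha.1 ha.2.2.2) ha.1, ha.2.2.2, mul_inv_cancel]⟩]
      simp
  have cA : ∀ z ∈ D.Z, ∀ x ∈ (fs D.X).erase 1, (1 - μ (z * x)) * ψ (z * x) *
      ({a | a * a = 1 ∧ a ≠ 1 ∧ a ≠ z * x ∧ a * (z * x) * a = (z * x)⁻¹}.ncard : ℂ) =
      (if z = D.t then 2 * ((N.q : ℂ) * (1 + N.ε)) else 0) * ψ x := fun z hz x hx => by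
    obtain ⟨hx1, hx⟩ := mem_erase.1 hx
    rw [mem_fs] at hx
    have hA : z * x ∈ D.A := D.mem_A.2 ⟨z, hz, x, hx, rfl⟩
    have hZ : z * x ∉ D.Z := fun h => hx1 (D.eq_one_of_mem_X_Z hx ((mul_mem_cancel_left hz).1 h))
    by_cases h1 : (1 - μ (z * x)) * ψ (z * x) = 0
    · rw [h1, zero_mul, if_neg, zero_mul]
      rintro rfl
      rw [h.μ_eq _ hz x hx, h.t] at h1
      exact mul_ne_zero (by norm_num) (h.linψ.ne_zero hA) h1
    have h3 : ∀ a, a * a = 1 → a * (z * x) * a = (z * x)⁻¹ → a ∈ D.B := fun a ha e =>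
      D.norm_A a (loc (Or.inr hA) (h.evenA hA h1) ha e) _ hA hZ (by
        rw [inv_eq_self ha, e]; exact inv_mem hA)
    have h4 : ∀ a ∈ D.H, a * (z * x) * a = z * (a * x * a) := fun a ha => by
      rw [← mul_assoc, ← D.Z_comm z hz a ha]; group
    have h5 : z * x * (z * x) ≠ 1 := fun e => by
      rcases D.A_inv hA e with e | e
      exacts [hZ (e ▸ one_mem _), hZ (e ▸ D.t_mem)]
    split_ifs with e
    · subst e
      rw [h.μ_eq _ hz x hx, h.t, h.ψ_mul hz hx, show (N.q : ℂ) * (1 + N.ε) =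
        ((N.q * (1 + N.ε) : ℤ) : ℂ) by push_cast; ring, ← ncard_B_inv (D := D), Int.cast_natCast,
        show {a | a * a = 1 ∧ a ≠ 1 ∧ a ≠ D.t * x ∧ a * (D.t * x) * a = (D.t * x)⁻¹} =
          {a | a ∈ D.B ∧ a * a = 1 ∧ a ∉ D.Z} from ?_]
      · ring
      ext a
      refine ⟨fun ha => ⟨h3 a ha.1 ha.2.2.2, ha.1, fun haZ => h5 ?_⟩, fun ha => ⟨ha.2.1, ?_, ?_, ?_⟩⟩
      · have := ha.2.2.2
        rw [D.Z_comm a haZ _ (D.A_le hA), mul_assoc, ha.1, mul_one] at this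
        nth_rw 1 [this]; simp
      · rintro rfl; exact ha.2.2 (one_mem _)
      · rintro rfl; exact h5 ha.2.1
      · rw [h4 a (D.B_le ha.1), D.inv_X ha.1 ha.2.1 ha.2.2 hx, mul_inv_rev, D.t_inv,
          D.t_comm (inv_mem (D.X_le hx))]
    · rw [Set.eq_empty_of_forall_notMem
        (s := {a | a * a = 1 ∧ a ≠ 1 ∧ a ≠ z * x ∧ a * (z * x) * a = (z * x)⁻¹}) fun a ha => ?_]
      · simp
      have h6 := h3 a ha.1 ha.2.2.2
      have h7 := ha.2.2.2
      rw [h4 a (D.B_le h6)] at h7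
      have h8 : a * x * a * x = (z * z)⁻¹ := by
        rw [eq_inv_iff_mul_eq_one, ← D.Z_comm _ (mul_mem hz hz) _ (mul_mem (mul_mem (mul_mem
          (D.B_le h6) (D.X_le hx)) (D.B_le h6)) (D.X_le hx))]
        calc z * z * (a * x * a * x) = z * (z * (a * x * a)) * x := by group
          _ = z * x⁻¹ * z⁻¹ * x := by rw [h7]; group
          _ = 1 := by rw [D.conj_Z' hz (inv_mem (D.X_le hx)), inv_mul_cancel]
      have h9 := D.eq_one_of_mem_X_Z (mul_mem (by simpa [inv_eq_self ha.1] using D.B_norm h6 hx) hx)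
        (h8 ▸ inv_mem (mul_mem hz hz))
      rcases D.Z_inv hz (inv_eq_one.1 (h8 ▸ h9)) with e' | e'
      · exact h1 (by rw [h.μ_eq z hz x hx, e', h.lin.one, sub_self, zero_mul])
      · exact e e'
  have hm : (N.m : ℂ) = N.q - N.ε := by exact_mod_cast N.hm
  have hn : (N.n : ℂ) = N.q + N.ε := by exact_mod_cast N.hn
  simp only [Th, Pi.sub_apply, sum_sub_distrib]
  rw [sum_cl_ind, sum_cl_ind, sum_cl_pairs hC.mem_cl D.W fun g => 1 - ν g,
    sum_cl_pairs hC.mem_cl D.A fun g => (1 - μ g) * ψ g, sum_congr rfl fun c hc => cW c (mem_fs.1 hc),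
    sum_A, sum_congr (s₁ := fs D.Z) rfl (g := fun z => if z = D.t then
      2 * ((N.q : ℂ) * N.n) - 2 * ((N.q : ℂ) * (1 + N.ε)) else 0) fun z hz => by
        have hz := mem_fs.1 hz
        rw [← add_sum_erase _ _ (mem_fs.2 (one_mem D.X)), sum_congr rfl (cA z hz), ← mul_sum, h.sumX,
          mul_one, h.μ_Z hz, h.ψ_Z z hz, mul_one, cZ z hz]
        split_ifs <;> ring,
    sum_add_distrib, ← sum_filter (· ∈ D.Wm),
    show (fs D.W).filter (· ∈ D.Wm) = fs D.Wm by ext; simpa using fun h => h.1, ← mul_sum,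
    sum_sub_distrib, sum_fs_const, (h.lin.mono (K := D.Wm) fun y hy => hy.1).sum_eq_zero tWm h.t_ne, D.cWm,
    D.index_W, D.index_A]
  simp only [sum_ite_eq', mem_fs, D.t_W, D.t_mem, if_true]
  push_cast
  rw [hn]; ring

end Nu

theorem _root_.H4.LT.Dec.ints {Θ α β : G → ℂ} (h : Dec Θ α β) {t : G} (ht : t * t = 1) :
    ∃ x a b : ℤ, α 1 = -x ∧ α t = -a ∧ β t = b := by
  obtain ⟨x, hx⟩ := h.sa.exists_int_inv (one_mul 1)
  obtain ⟨a, ha⟩ := h.sa.exists_int_inv ht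
  obtain ⟨b, hb⟩ := h.sb.exists_int_inv ht
  exact ⟨-x, -a, b, by simp [hx], by simp [ha], hb⟩

theorem plus_t {lam : G → ℂ} (hl : Lin D.W lam) (hZ : ∀ z ∈ D.Z, lam z = 1) :
    ind D.W (fun g => 1 - lam g) D.t = 0 := ind_eq_zero fun x hx => by
  rcases D.W_inv hx (by simp [mul_assoc, mul_mul_self D.t_sq]) with e | e <;>
    simp [e, hl.one, hZ _ D.t_mem]

theorem index_ne (D : GD G N) : D.H.index ≠ 0 := index_ne_zero_of_finite

/-- The order formula. -/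
theorem Cfg.order_formula (h : D.Cfg) (hn : N.n ≠ 2) : ∃ x : ℤ, x ≠ 0 ∧ x ≠ 1 ∧
    (D.H.index : ℤ) * (x - N.ε * N.q) ^ 2 = N.q * N.m * N.n ^ 2 * (x * (x - 1)) := by
  obtain ⟨lam, hl, hZ, -⟩ := h.exists_plus hn
  obtain ⟨ν, h1, h2, h3⟩ := D.exists_nu
  obtain ⟨μ, ψ, hν⟩ := exists_Nu h1 h2 h3
  obtain ⟨α, β, d1⟩ := exists_dec hl.gen hl.inner_self hl.inner_one
  obtain ⟨α', β', d2⟩ := exists_dec hν.gen (hν.inner_self h.full) hν.inner_one
  obtain ⟨a, b, c, e1, e2⟩ := d1.common d2 (hν.inner_plus h.full hl hZ)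
  obtain ⟨x, a', b', hx, ha, hb⟩ := e1.ints D.t_sq
  obtain ⟨c', hc⟩ := e2.sb.exists_int_inv D.t_sq
  obtain ⟨hx0, hx1, f1⟩ := e1.formula hl.apply_one hx ha hb h.card_cl D.index_ne (h.sum_plus hl)
  obtain ⟨-, -, f2⟩ := e2.formula (hν.apply_one h.full) hx ha hc h.card_cl D.index_ne (hν.sum_cl h)
  have g1 := e1.apply D.t
  have g2 := e2.apply D.t
  rw [plus_t hl.lin hZ, ha, hb] at g1
  rw [hν.apply_Z h.full D.t_mem, hν.t, ha, hc] at g2
  have g1' : 0 = 1 + -a' + b' := by exact_mod_cast g1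
  have g2' : (1 - N.ε * N.q) * (1 - -1) = 1 + -a' + c' := by exact_mod_cast g2
  have g3 : b' ^ 2 = c' ^ 2 := by
    have := mul_left_cancel₀ (by exact_mod_cast D.index_ne) (f1.trans f2.symm)
    exact mul_right_cancel₀ hx0 (by linear_combination this)
  have hq := N.three_le_q
  have g4 : a' = N.ε * N.q := by
    rcases sq_eq_sq_iff_eq_or_eq_neg.1 g3 with e | e <;> rcases N.hε with e' | e' <;> rw [e'] at g2' ⊢ <;>
      omega
  refine ⟨x, hx0, hx1, ?_⟩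
  rw [← f1, ← g4, show b' = a' - 1 by omega]; ring

/-- The case `GU₂(3)`. -/
theorem Cfg.order_three (h : D.Cfg) (hn : N.n = 2) : ∃ x a : ℤ, x ≠ 0 ∧ x ≠ 1 ∧
    (D.H.index : ℤ) * (x ^ 2 + (14 * a + 48) * x + a ^ 2) = 48 * (x * (x - 1)) ∧
    1 + a ^ 2 + 2 * (a + 7) ^ 2 ≤ 96 := by
  obtain ⟨hε, hq, hm⟩ : N.ε = -1 ∧ N.q = 3 ∧ N.m = 4 := by
    have := N.cases; have := N.three_le_q; omega
  have hZ : Nat.card D.Z = 4 := by
    obtain ⟨d, hd, e⟩ := D.cZ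
    rw [hm] at e
    have : d = 1 := by
      have := Nat.le_of_dvd (by decide) (Dvd.intro _ e)
      have := Dvd.intro _ e
      have := Nat.odd_iff.1 hd
      interval_cases d <;> omega
    simpa [this] using e
  obtain ⟨ν, h1, h2, h3⟩ := D.exists_nu
  obtain ⟨μ, ψ, hν⟩ := exists_Nu h1 h2 h3
  obtain ⟨μ', ψ', hν'⟩ := exists_Nu h1.inv' (by simp [h2]) fun y hy ho => by simp [h3 y hy ho]
  obtain ⟨α, β, d1⟩ := exists_dec hν.gen (hν.inner_self h.full) hν.inner_one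
  obtain ⟨α', β', d2⟩ := exists_dec hν'.gen (hν'.inner_self h.full) hν'.inner_one
  have hi : classInner (Th D ν μ ψ) (Th D (fun g => (ν g)⁻¹) μ' ψ') = 2 := by
    obtain ⟨y, hy, e⟩ := D.v_onto _ D.t_mem
    haveI := D.isCyclic_W
    haveI : IsCyclic D.Z := isCyclic_of_le D.Z_le_W
    obtain ⟨⟨z, hz⟩, hz'⟩ := IsCyclic.exists_ofOrder_eq_natCard (α := D.Z)
    rw [← orderOf_injective D.Z.subtype D.Z.subtype_injective, hZ] at hz'
    have hz2 : z * z = D.t := (D.Z_inv (mul_mem hz hz) (by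
      rw [← pow_two z, ← pow_add]; exact orderOf_dvd_iff_pow_eq_one.1 (hz' ▸ dvd_rfl : orderOf z ∣ 4))).resolve_left fun e => by
        have := orderOf_dvd_of_pow_eq_one (x := z) (n := 2) (by rw [pow_two, e])
        exact absurd (hz' ▸ this : 4 ∣ 2) (by decide)
    rw [hν.inner h.full hν', hν'.sum_aux h1 ⟨_, D.t_W, hν.t_ne⟩ ⟨y, hy, fun e' => hν.t_ne (by
        rw [← e, h1.mul y hy _ (D.v_conj_mem hy), e', inv_mul_cancel₀ (h1.ne_zero (D.v_conj_mem hy))])⟩,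
      h1.sum_mul_conj h1.inv' (D.Z_le_W hz) fun e' => hν.t_ne (by
        rw [← hz2, h1.mul z (D.Z_le_W hz) z (D.Z_le_W hz)]
        nth_rw 1 [e']; exact inv_mul_cancel₀ (h1.ne_zero (D.Z_le_W hz)))]
    field_simp [card_ne_zero D.W]; ring
  obtain ⟨a, b, c, e1, e2⟩ := d1.common d2 hi
  obtain ⟨x, a', b', hx, ha, hb⟩ := e1.ints D.t_sq
  obtain ⟨hx0, hx1, f1⟩ := e1.formula (hν.apply_one h.full) hx ha hb h.card_cl D.index_ne (hν.sum_cl h)
  have g1 := e1.apply D.t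
  have g2 := e2.apply D.t
  rw [hν.apply_Z h.full D.t_mem, hν.t, ha, hb, hε, hq] at g1
  rw [hν'.apply_Z h.full D.t_mem, hν'.t, ha, hε, hq] at g2
  have g3 : b' = a' + 7 := by
    have : (b' : ℂ) = a' + 7 := by push_cast at g1; linear_combination -g1
    exact_mod_cast this
  have g4 : c D.t = (a' + 7 : ℤ) := by push_cast at g2 ⊢; linear_combination -g2
  have bc : classInner b c = 0 := by
    rw [e1.inner e2, e1.sa.norm, e2.ab, classInner_comm_of_eq_zero e1.ab] at hi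
    linear_combination hi
  have := sq_le_card ![fun _ => 1, a, b, c] (by
      intro i; fin_cases i
      exacts [sirr_one, e1.sa, e1.sb, e2.sb]) (by
      have s := @classInner_comm_of_eq_zero G _ _
      intro i j hij
      fin_cases i <;> fin_cases j <;> first | exact absurd rfl hij | skip
      exacts [s e1.a1, s e1.b1, s e2.b1, e1.a1, e1.ab, e2.ab, e1.b1, s e1.ab, bc, e2.b1, s e2.ab, s bc]) D.t
  rw [← h.full.H_eq, D.cH, hZ, hq, hm, hn, Fin.sum_univ_four] at this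
  simp only [Matrix.cons_val, ha, hb, g4, g3, norm_neg, Complex.norm_intCast, sq_abs, norm_one] at this
  refine ⟨x, a', hx0, hx1, ?_, ?_⟩
  · rw [hq, hm, hn, g3] at f1; push_cast at f1; linear_combination f1
  · have h5 : ((1 + a' ^ 2 + 2 * (a' + 7) ^ 2 : ℤ) : ℝ) ≤ 96 := by push_cast at this ⊢; linarith
    exact_mod_cast h5

/-- Comparison of `θ₊` with a second character of the same kind. -/
theorem Cfg.beta (h : D.Cfg) (hn : N.n ≠ 2) {C : Subgroup G} {w : G} {lam' : G → ℂ}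
    (hβ : THyp C w lam') (ht : ∀ s ∈ C, s * s = 1 → lam' s = 1)
    (ho : ∀ y ∈ D.W, y ∉ D.Z → (∀ g, g * y = y * g → g ∈ D.H) → ∀ g, g⁻¹ * y * g ∈ C →
      lam' (g⁻¹ * y * g) = 1) {c : ℕ}
    (hc : C.index * {a | a * a = 1 ∧ a * w ∈ C}.ncard ^ 2 = D.H.index * c) :
    ∃ x : ℤ, N.q * N.m * N.n ^ 2 * (x - 1) = c * (x + 1) := by
  obtain ⟨lam, hl, hZ, hW⟩ := h.exists_plus hn
  obtain ⟨α, β, d1⟩ := exists_dec hl.gen hl.inner_self hl.inner_one
  obtain ⟨α', β', d2⟩ := exists_dec hβ.gen hβ.inner_self hβ.inner_one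
  obtain ⟨a, b, c', e1, e2⟩ := d1.opp d2 (by
    rw [inner_ind _ _ hβ.gen.classFun, sum_eq_zero, mul_zero]
    intro y hy
    by_cases e : lam y = 1
    · simp [e]
    rw [ind_eq_zero fun g hg => by
      rw [ho y (mem_fs.1 hy) (fun hz => e (hZ y hz)) (hW y (mem_fs.1 hy) e) g hg, sub_self]]
    simp)
  obtain ⟨x, a', b', hx, ha, hb⟩ := e1.ints D.t_sq
  obtain ⟨c'', hc'⟩ := e2.sb.exists_int_inv D.t_sq
  obtain ⟨hx0, -, f1⟩ := e1.formula hl.apply_one hx ha hb h.card_cl D.index_ne (h.sum_plus hl)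
  obtain ⟨-, -, f2⟩ := e2.formula (x := -x) (a := -a') (c := c) hβ.apply_one (by simp [hx]) (by simp [ha])
    hc' h.card_cl D.index_ne (by rw [hβ.sum_cl h.mem_cl]; exact_mod_cast hc)
  have g1 := e1.apply D.t
  have g2 := e2.apply D.t
  rw [plus_t hl.lin hZ, ha, hb] at g1
  rw [ind_eq_zero fun g hg => by
    rw [ht _ hg (by simp [mul_assoc, mul_mul_self D.t_sq]), sub_self], Pi.neg_apply, ha, hc'] at g2
  have g1' : 0 = 1 + -a' + b' := by exact_mod_cast g1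
  have g2' : 0 = 1 + - -a' + c'' := by exact_mod_cast g2
  rw [show b' = a' - 1 by omega] at f1
  rw [show c'' = -a' - 1 by omega] at f2
  exact ⟨x, mul_left_cancel₀ hx0 (by linear_combination f2 - f1)⟩

end GD

end H4
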