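import Cfsg.Agent.H4.GD7

/-!
`H4.GD`: a denominator-free form of `Cfg.beta`.
-/

set_option autoImplicit false

open Cfsg H4

namespace H4

open Subgroup H5 _root_.H4.LT Finset
open scoped ComplexConjugate Classical

variable {G : Type*} [Group G] [Fintype G]

theorem LT.Dec.formulaC {Θ α β : G → ℂ} (h : Dec Θ α β) (h1 : Θ 1 = 0) {t : G} {x a b c : ℂ}
    (hx : α 1 = -x) (ha : α t = -a) (hb : β t = b) {g : ℕ} (hg : (cl t).card = g) (hg0 : g ≠ 0)
    (hs : ∑ u ∈ cl t, ∑ v ∈ cl t, Θ (u * v) = g * c) :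
    g * (x * (x - 1) - a ^ 2 * (x - 1) + b ^ 2 * x) = c * (x * (x - 1)) := by
  have hβ : β 1 = x - 1 := by rw [h.apply, hx] at h1; linear_combination h1
  have hx0 : x ≠ 0 := fun e => h.sa.apply_one_ne_zero (by rw [hx, e, neg_zero])
  have hx1 : x - 1 ≠ 0 := hβ ▸ h.sb.apply_one_ne_zero
  simp only [h.apply, sum_add_distrib, h.sa.sum_cl_cl, h.sb.sum_cl_cl, sum_const, nsmul_eq_mul, hg, hx,
    ha, hb, hβ] at hs
  have hg0' : (g : ℂ) ≠ 0 := by exact_mod_cast hg0
  field_simp at hs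
  linear_combination hs

namespace GD

variable {N : NP} {D : GD G N}

/-- Comparison of `θ₊` with a second character of the same kind. -/
theorem Cfg.beta' (h : D.Cfg) (hn : N.n ≠ 2) {C : Subgroup G} {w : G} {lam' : G → ℂ}
    (hβ : THyp C w lam') (ht : ∀ s ∈ C, s * s = 1 → lam' s = 1)
    (ho : ∀ y ∈ D.W, y ∉ D.Z → (∀ g, g * y = y * g → g ∈ D.H) → ∀ g, g⁻¹ * y * g ∈ C →
      lam' (g⁻¹ * y * g) = 1) {e : ℕ} (he : D.T.relIndex C = e) (hT : D.T ≤ C) :
    ∃ x : ℤ, e * N.m * N.n * (x - 1) = ({a | a * a = 1 ∧ a * w ∈ C}.ncard : ℤ) ^ 2 * (x + 1) := by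
  obtain ⟨lam, hl, hZ, hW⟩ := h.exists_plus hn
  obtain ⟨α, β, d1⟩ := exists_dec hl.gen hl.inner_self hl.inner_one
  obtain ⟨α', β', d2⟩ := exists_dec hβ.gen hβ.inner_self hβ.inner_one
  obtain ⟨a, b, c', e1, e2⟩ := d1.opp d2 (by
    rw [inner_ind _ _ hβ.gen.classFun, sum_eq_zero, mul_zero]
    intro y hy
    by_cases e : lam y = 1
    · simp [e]
    rw [ind_eq_zero fun g hg => by
      rw [ho y (mem_fs.1 hy) (fun hz => e (hZ y hz)) (hW y (mem_fs.1 hy) e) g hg, sub_self]]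
    simp)
  obtain ⟨x, a', b', hx, ha, hb⟩ := e1.ints D.t_sq
  have hi := relIndex_mul_index hT
  rw [he, D.index_T] at hi
  have he0 : (e : ℂ) ≠ 0 := by rw [← he]; exact_mod_cast index_ne_zero_of_finite
  have hq : (N.q : ℂ) ≠ 0 := by have := N.three_le_q; exact_mod_cast (by omega)
  have hn0 : (N.n : ℂ) ≠ 0 := by have := N.two_le_n; exact_mod_cast (by omega)
  have f1 := e1.formulaC hl.apply_one hx ha hb h.card_cl D.index_ne (h.sum_plus hl)
  have f2 := e2.formulaC (x := -x) (a := -a')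
    (c := N.q * N.n * ({a | a * a = 1 ∧ a * w ∈ C}.ncard : ℂ) ^ 2 / e) hβ.apply_one (by simp [hx])
    (by simp [ha]) rfl h.card_cl D.index_ne (by
      have : (e : ℂ) * C.index = D.H.index * (N.q * N.n) := by exact_mod_cast hi
      rw [hβ.sum_cl h.mem_cl]; field_simp; linear_combination
        ({a | a * a = 1 ∧ a * w ∈ C}.ncard : ℂ) ^ 2 * this)
  have g1 := e1.apply D.t
  have g2 := e2.apply D.t
  rw [plus_t hl.lin hZ, ha, hb] at g1
  rw [ind_eq_zero fun g hg => by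
    rw [ht _ hg (by simp [mul_assoc, mul_mul_self D.t_sq]), sub_self], Pi.neg_apply, ha] at g2
  rw [show (b' : ℂ) = a' - 1 by linear_combination -g1] at f1
  rw [show c' D.t = -a' - 1 by linear_combination -g2] at f2
  have hx0 : (x : ℂ) ≠ 0 := fun e => e1.sa.apply_one_ne_zero (by rw [hx, e, neg_zero])
  refine ⟨x, Int.cast_injective (α := ℂ) (mul_left_cancel₀ (mul_ne_zero hx0 (mul_ne_zero hq hn0)) ?_)⟩
  push_cast at f1 ⊢
  field_simp at f2
  linear_combination f2 - e * f1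

end GD

end H4
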