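import Cfsg.Agent.H4.GD

/-! Pure arithmetic for the `GD` configuration (written by helper17). -/

set_option autoImplicit false

namespace H17.GDA

theorem eq_zero_of_dvd {a b : ℤ} (h : a ∣ b) (hlt : |b| < |a|) : b = 0 :=
  Int.eq_zero_of_abs_lt_dvd ((abs_dvd _ _).mpr h) hlt

theorem sq_le {s t : ℤ} (h : s ∣ t) (ht : t ≠ 0) : s ^ 2 ≤ |s * t| := by
  rw [abs_mul, ← sq_abs, sq]
  exact mul_le_mul_of_nonneg_left (Int.le_of_dvd (abs_pos.mpr ht) (by simpa using h)) (abs_nonneg _)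

theorem core2 {Q g s t y e : ℤ} (hQ : 3 ≤ |Q|) (ho : Odd Q) (hst : s * t = Q) (hd : s ∣ t ∨ t ∣ s)
    (he : e = 1 ∨ e = 3) (hy : y * e = Q - 1) (hg : g = t * e * ((Q + 1) * y + t) * ((Q + 1) * s + e))
    (hmod : 2 * (Q + 1) ∣ g - 1 - Q * (Q + 1)) :
    g = Q * (Q ^ 2 + Q - 1) * (Q + 2) ∨ g = Q ^ 2 * (Q ^ 2 - Q - 1) ∨
      g = Q ^ 2 * (Q ^ 2 + Q + 1) ∨ g = (Q ^ 2 - 2) * (Q ^ 2 + Q - 1) ∨
      (Q = -5 ∧ (g = 45 ∨ g = 357 ∨ g = 621 ∨ g = 1365)) := by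
  obtain ⟨hs, ht⟩ := Int.odd_mul.mp (hst ▸ ho)
  have s0 : s ≠ 0 := by rintro rfl; simp at hs
  have t0 : t ≠ 0 := by rintro rfl; simp at ht
  have s1 : 0 < s ^ 2 := by positivity
  have t1 : 0 < t ^ 2 := by positivity
  have hN : |Q| - 1 ≤ |Q + 1| := by simpa using abs_sub_abs_le_abs_sub Q (-1)
  have h1 : 2 * (Q + 1) ∣ (e * t) ^ 2 - 1 := by
    obtain ⟨c, hc⟩ := hmod
    obtain ⟨q, hq⟩ := ho
    obtain ⟨s', hs⟩ := hs
    obtain ⟨t', ht⟩ := ht
    obtain ⟨y', hy'⟩ : ∃ y', y = 2 * y' := ⟨y / 2, by rcases he with rfl | rfl <;> omega⟩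
    obtain ⟨e', he'⟩ : ∃ e', e = 2 * e' + 1 := ⟨e / 2, by omega⟩
    refine ⟨c + q - t * e * y' * ((Q + 1) * s + e) - (t * t * e * s' + t * t * e' + t * t' + t'), ?_⟩
    rw [hg, hy'] at hc
    linear_combination hc + (Q + 1) * hq - (Q + 1) * (t * t * e * hs + t * t * he' + t * ht + ht)
  have h2 : 2 * (Q + 1) ∣ s ^ 2 - e ^ 2 := by
    obtain ⟨c, hc⟩ := h1
    obtain ⟨q, hq⟩ := ho
    exact ⟨e ^ 2 * q - s ^ 2 * c, by
      linear_combination (-s ^ 2) * hc + e ^ 2 * (s * t + Q) * hst + e ^ 2 * (Q + 1) * hq⟩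
  have a2 : |2 * (Q + 1)| = 2 * |Q + 1| := by rw [abs_mul]; rfl
  have h8 : 2 * (Q + 1) ∣ 8 → e = 3 → Q = -5 := fun h8 h3 => by
    have := Int.le_of_dvd (by norm_num) ((abs_dvd _ _).mpr h8)
    have : -5 ≤ Q ∧ Q ≤ 3 := by rw [a2] at this; constructor <;> cases abs_cases (Q + 1) <;> omega
    obtain ⟨a, b⟩ := this
    subst h3
    interval_cases Q <;> first | rfl | omega | simp at hQ
  rcases he with rfl | rfl
  · obtain rfl : y = Q - 1 := by omega
    rcases hd with hd | hd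
    · have := sq_le hd t0
      rw [hst] at this
      have := eq_zero_of_dvd h2 (by rw [a2, abs_lt]; constructor <;> omega)
      rcases mul_self_eq_one_iff.mp (show s * s = 1 by linarith) with rfl | rfl
      · obtain rfl : t = Q := by omega
        exact Or.inl (by rw [hg]; ring)
      · obtain rfl : t = -Q := by omega
        exact Or.inr (Or.inl (by rw [hg]; ring))
    · have := sq_le hd s0
      rw [mul_comm, hst] at this
      rw [one_mul] at h1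
      have := eq_zero_of_dvd h1 (by rw [a2, abs_lt]; constructor <;> omega)
      rcases mul_self_eq_one_iff.mp (show t * t = 1 by linarith) with rfl | rfl
      · obtain rfl : s = Q := by omega
        exact Or.inr (Or.inr (Or.inl (by rw [hg]; ring)))
      · obtain rfl : s = -Q := by omega
        exact Or.inr (Or.inr (Or.inr (Or.inl (by rw [hg]; ring))))
  refine Or.inr (Or.inr (Or.inr (Or.inr ?_)))
  have fin : s * s = 1 ∨ t * t = 1 → Q = -5 ∧ (g = 45 ∨ g = 357 ∨ g = 621 ∨ g = 1365) := fun h => by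
    obtain rfl := h8 (h.elim (fun e => by
      rw [sq, e] at h2; exact dvd_neg.mp (show 2 * (Q + 1) ∣ -8 from h2)) fun e => by rwa [mul_pow, sq t, e] at h1) rfl
    obtain rfl : y = -2 := by omega
    rcases h with h | h <;> rcases mul_self_eq_one_iff.mp h with rfl | rfl
    · obtain rfl : t = -5 := by omega
      omega
    · obtain rfl : t = 5 := by omega
      omega
    · obtain rfl : s = -5 := by omega
      omega
    · obtain rfl : s = 5 := by omega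
      omega
  have h3 : ∀ u, u ∣ Q → Odd u → u * u = 1 ∨ 25 ≤ u ^ 2 := fun u hu ⟨k, hk⟩ => by
    have : ¬ 3 ∣ u := fun e => by have := e.trans hu; omega
    rcases (by omega : u = 1 ∨ u = -1 ∨ 5 ≤ u ∨ u ≤ -5) with rfl | rfl | h | h
    exacts [Or.inl rfl, Or.inl rfl, Or.inr (by nlinarith), Or.inr (by nlinarith)]
  rcases hd with hd | hd
  · have := sq_le hd t0
    rw [hst] at this
    refine fin (Or.inl ((h3 s (Dvd.intro _ hst) hs).resolve_right fun h => ?_))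
    have := eq_zero_of_dvd h2 (by rw [a2, abs_lt]; constructor <;> omega)
    omega
  · have a3 := sq_le hd s0
    rw [mul_comm, hst] at a3
    refine fin (Or.inr ((h3 t (Dvd.intro_left _ hst) ht).resolve_right fun h => ?_))
    obtain ⟨c, hc⟩ := h1
    obtain ⟨u, rfl⟩ := hd
    have a4 := Int.le_of_dvd (abs_pos.mpr (by omega : 2 * c + 1 ≠ 0)) ((dvd_abs _ _).mpr
      (show t ^ 2 ∣ 2 * c + 1 from ⟨9 - 2 * u * c, by linear_combination -hc + 2 * c * hst⟩))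
    have a5 : 12 ≤ |c| := by cases abs_cases c <;> cases abs_cases (2 * c + 1) <;> omega
    have a6 := congrArg abs hc
    rw [abs_mul, a2, abs_of_pos (by nlinarith)] at a6
    nlinarith

theorem core {Q g x : ℤ} (hQ : 3 ≤ |Q|) (ho : Odd Q) (hd : ∀ s t, s * t = Q → s ∣ t ∨ t ∣ s)
    (hx0 : x ≠ 0) (hx1 : x ≠ 1) (h : g * (x - Q) ^ 2 = Q * (Q - 1) * (Q + 1) ^ 2 * (x * (x - 1)))
    (hmod : 2 * (Q + 1) ∣ g - 1 - Q * (Q + 1)) (he : ∀ e, e ∣ Q - 1 → e ∣ g → |e| = 1 ∨ |e| = 3) :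
    g = Q * (Q ^ 2 + Q - 1) * (Q + 2) ∨ g = Q ^ 2 * (Q ^ 2 - Q - 1) ∨
      g = Q ^ 2 * (Q ^ 2 + Q + 1) ∨ g = (Q ^ 2 - 2) * (Q ^ 2 + Q - 1) ∨
      (Q = -5 ∧ (g = 45 ∨ g = 357 ∨ g = 621 ∨ g = 1365)) := by
  have q : Q ≠ 0 ∧ Q - 1 ≠ 0 ∧ Q + 1 ≠ 0 := by cases abs_cases Q <;> omega
  have c1 : IsCoprime (Q + 1) g := by
    obtain ⟨c, hc⟩ := hmod
    exact ⟨-Q - 2 * c, 1, by linear_combination hc⟩
  obtain ⟨y, hy⟩ := (Int.pow_dvd_pow_iff two_ne_zero).mp ((c1.pow_left (m := 2)).dvd_of_dvd_mul_left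
    (z := (x - Q) ^ 2) ⟨Q * (Q - 1) * (x * (x - 1)), by linear_combination h⟩)
  obtain rfl : x = (Q + 1) * y + Q := by linarith
  have h1 : g * y ^ 2 = Q * (Q - 1) * (((Q + 1) * y + Q) * ((Q + 1) * y + Q - 1)) :=
    mul_left_cancel₀ (pow_ne_zero 2 q.2.2) (by linear_combination h)
  have y0 : y ≠ 0 := by
    rintro rfl
    exact mul_ne_zero (mul_ne_zero q.1 q.2.1) (mul_ne_zero hx0 (sub_ne_zero.mpr hx1))
      (by linear_combination -h1)
  have h2 : y ∣ Q * (Q - 1) := by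
    obtain ⟨d, y', c, d0, hc, rfl, e⟩ := Int.exists_gcd_one' (Int.gcd_pos_of_ne_zero_left (Q * (Q - 1)) y0)
    have d1 : (d : ℤ) ≠ 0 := by omega
    have a1 : y' ∣ c ^ 2 := ⟨g * y' - c * (Q + 1) ^ 2 * y' * d - c * (Q + 1) * (2 * Q - 1),
      mul_left_cancel₀ (pow_ne_zero 2 d1) (by
        linear_combination -h1 - (c * d + ((Q + 1) * (y' * d) + Q) * ((Q + 1) * (y' * d) + Q - 1)) * e)⟩
    rw [e]
    exact mul_dvd_mul_right (((Int.isCoprime_iff_gcd_eq_one.mpr hc).pow_right (n := 2)).isUnit_of_dvd'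
      dvd_rfl a1).dvd _
  obtain ⟨s, w, ⟨t, ht⟩, ⟨e, hw⟩, rfl⟩ := exists_dvd_and_dvd_of_dvd_mul h2
  have hg : g = t * e * ((Q + 1) * w + t) * ((Q + 1) * s + e) := by
    refine mul_left_cancel₀ (pow_ne_zero 2 y0) ?_
    have a1 : (Q + 1) * (s * w) + Q = s * ((Q + 1) * w + t) := by linear_combination ht
    have a2 : (Q + 1) * (s * w) + Q - 1 = w * ((Q + 1) * s + e) := by linear_combination hw
    rw [a2, a1, hw] at h1
    linear_combination h1 + w * e * (s * ((Q + 1) * w + t) * (w * ((Q + 1) * s + e))) * ht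
  rcases he e (Dvd.intro_left _ hw.symm) ⟨t * ((Q + 1) * w + t) * ((Q + 1) * s + e), by
    linear_combination hg⟩ with f | f <;> rcases abs_cases e with ⟨f', -⟩ | ⟨f', -⟩
  · exact core2 hQ ho ht.symm (hd _ _ ht.symm) (Or.inl (by omega)) hw.symm hg hmod
  · exact core2 (s := -s) (t := -t) (y := -w) (e := -e) hQ ho (by linarith) (hd _ _ (by linarith))
      (Or.inl (by omega)) (by linarith) (by linear_combination hg) hmod
  · exact core2 hQ ho ht.symm (hd _ _ ht.symm) (Or.inr (by omega)) hw.symm hg hmod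
  · exact core2 (s := -s) (t := -t) (y := -w) (e := -e) hQ ho (by linarith) (hd _ _ (by linarith))
      (Or.inr (by omega)) (by linarith) (by linear_combination hg) hmod

/-- bounded conjunction -/
def allLt (n : ℕ) (f : ℕ → Bool) : Bool := Nat.rec true (fun i ih => f i && ih) n

theorem of_allLt {n : ℕ} {f : ℕ → Bool} (h : allLt n f = true) {i : ℕ} (hi : i < n) : f i = true := by
  induction n with
  | zero => omega
  | succ n ih =>
    obtain ⟨h1, h2⟩ := Bool.and_eq_true_iff.mp (show (f n && allLt n f) = true from h)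
    rcases Nat.lt_succ_iff_lt_or_eq.mp hi with e | rfl
    exacts [ih h2 e, h1]

/-- the check for one pair -/
def chk (D R : ℕ) : Bool :=
  cond (Nat.beq (Nat.mod R D) 0) (decide (R / D % 8 = 7 → R / D ∈ [7, 15, 47, 55, 63, 119, 287])) true

theorem of_chk {D R g : ℕ} (h : chk D R = true) (hR : R ≠ 0) (e : g * D = R) (hg : g % 8 = 7) :
    g = 7 ∨ g = 15 ∨ g = 47 ∨ g = 55 ∨ g = 63 ∨ g = 119 ∨ g = 287 := by
  subst e
  have h1 : Nat.beq (Nat.mod (g * D) D) 0 = true := Nat.beq_eq ▸ Nat.mul_mod_left g D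
  simpa [chk, h1, Nat.mul_div_cancel _ (Nat.pos_of_ne_zero (right_ne_zero_of_mul hR)), hg] using h

theorem chk_all : allLt 10 (fun b => allLt 40 fun i => allLt 100 fun j =>
    (fun y => chk (Nat.sub (Nat.add (Nat.mul y (Nat.add y 48)) (Nat.mul b b)) (Nat.mul (Nat.mul 14 b) y))
      (Nat.mul (Nat.mul 48 y) (Nat.sub y 1)) &&
    chk (Nat.sub (Nat.add (Nat.mul y (Nat.add y (Nat.mul 14 b))) (Nat.mul b b)) (Nat.mul 48 y))
      (Nat.mul (Nat.mul 48 y) (Nat.add y 1))) (Nat.add (Nat.mul 100 i) j)) = true := by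
  decide +kernel

end H17.GDA

namespace H4

theorem NP.g_cases (N : NP) (g : ℕ) (x : ℤ) (hx0 : x ≠ 0) (hx1 : x ≠ 1)
    (h : (g : ℤ) * (x - N.ε * N.q) ^ 2 = N.q * N.m * N.n ^ 2 * (x * (x - 1)))
    (hmod : (g : ℤ) ≡ 1 + N.q * N.n [ZMOD 2 * N.n])
    (h5 : ∀ r : ℕ, r.Prime → 5 ≤ r → r ∣ N.m → ¬ r ∣ g) (h3 : 9 ∣ N.m → ¬ 9 ∣ g) :
    let Q : ℤ := N.ε * N.q
    (g : ℤ) = Q * (Q ^ 2 + Q - 1) * (Q + 2) ∨ (g : ℤ) = Q ^ 2 * (Q ^ 2 - Q - 1) ∨
      (g : ℤ) = Q ^ 2 * (Q ^ 2 + Q + 1) ∨ (g : ℤ) = (Q ^ 2 - 2) * (Q ^ 2 + Q - 1) ∨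
      (Q = -5 ∧ (g = 45 ∨ g = 357 ∨ g = 621 ∨ g = 1365)) := by
  intro Q
  have hm := N.hm
  have hn := N.hn
  have ho : Odd N.q := N.hq ▸ (N.hp.odd_of_ne_two N.p_ne).pow
  have h3q : 3 ≤ N.q := by
    have := N.hp.two_le
    have := N.p_ne
    exact N.hq ▸ le_trans (by omega) (Nat.le_self_pow N.f_pos.ne' N.p)
  have hQ : Q.natAbs = N.q := by rcases N.hε with e | e <;> simp [Q, e]
  have hM : (Q - 1).natAbs = N.m := by rcases N.hε with e | e <;> simp only [Q, e] at * <;> omega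
  obtain ⟨c, hc⟩ := hmod.dvd
  have := H17.GDA.core (Q := Q) (g := g) (x := x) (by rw [← Int.natCast_natAbs, hQ]; omega)
    (by rwa [← Int.natAbs_odd, hQ]) (fun s t e => ?_) hx0 hx1 ?_ ?_ fun e e1 e2 => ?_
  · exact_mod_cast this
  · have := congrArg Int.natAbs e
    rw [Int.natAbs_mul, hQ, N.hq] at this
    obtain ⟨a, -, ha⟩ := (Nat.dvd_prime_pow N.hp).mp (Dvd.intro _ this)
    obtain ⟨b, -, hb⟩ := (Nat.dvd_prime_pow N.hp).mp (Dvd.intro_left _ this)
    simp only [← Int.natAbs_dvd_natAbs (a := s), ← Int.natAbs_dvd_natAbs (a := t), ha, hb]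
    exact (le_total a b).imp (pow_dvd_pow _) (pow_dvd_pow _)
  · rw [hm, hn] at h
    rcases N.hε with e | e <;> simp only [Q, e] at h ⊢ <;> linear_combination h
  · rw [hn] at hc
    refine ⟨-N.ε * c, ?_⟩
    rcases N.hε with e | e <;> simp only [Q, e] at hc ⊢ <;> linear_combination -hc
  · rw [← Int.natAbs_dvd_natAbs, hM] at e1
    rw [← Int.natAbs_dvd_natAbs, Int.natAbs_natCast] at e2
    have hg : ¬ 2 ∣ g := by
      obtain ⟨k, hk⟩ := ho
      obtain ⟨n', hn'⟩ : ∃ n' : ℤ, (N.n : ℤ) = 2 * n' := ⟨N.n / 2, by rcases N.hε with e | e <;> omega⟩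
      have : (g : ℤ) = 2 * (N.q * n' - N.n * c) + 1 := by linear_combination -hc + N.q * hn'
      omega
    have e0 : e.natAbs ≠ 0 := fun e0 => hg ((dvd_zero 2).trans (e0 ▸ e2))
    have := Nat.eq_prime_pow_of_unique_prime_dvd (p := 3) e0 fun {d} hd h1 => by
      have a1 := mt (h5 d hd · (h1.trans e1)) (not_not.mpr (h1.trans e2))
      have a2 : d ≠ 2 := by rintro rfl; exact hg (h1.trans e2)
      have a3 : d ≠ 4 := by rintro rfl; norm_num at hd
      have := hd.two_le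
      omega
    generalize e.natAbs.primeFactorsList.length = k at this
    rw [← Int.natCast_natAbs, this]
    rcases k with _ | _ | k
    · simp
    · simp
    · have h9 : 9 ∣ e.natAbs := ⟨3 ^ k, by rw [this]; ring⟩
      exact absurd (h9.trans e2) (h3 (h9.trans e1))

theorem g_three (g : ℕ) (x a : ℤ) (hx0 : x ≠ 0) (hx1 : x ≠ 1)
    (h : (g : ℤ) * (x ^ 2 + (14 * a + 48) * x + a ^ 2) = 48 * (x * (x - 1)))
    (ha : 1 + a ^ 2 + 2 * (a + 7) ^ 2 ≤ 96) (hg : g % 8 = 7) :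
    g = 7 ∨ g = 15 ∨ g = 47 ∨ g = 55 ∨ g = 63 ∨ g = 119 ∨ g = 287 := by
  have a1 : -9 ≤ a := by nlinarith
  have a2 : a ≤ -1 := by nlinarith
  have b : -4000 < x ∧ x < 4000 := by
    by_contra hc
    have c1 : (48 - g : ℤ) * (x ^ 2 + (14 * a + 48) * x + a ^ 2) = 48 * ((14 * a + 49) * x + a ^ 2) := by
      linear_combination -h
    have c2 : 0 < x ^ 2 + (14 * a + 48) * x + a ^ 2 := by
      rcases (by omega : x ≤ -4000 ∨ 4000 ≤ x) with e | e <;> nlinarith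
    rcases (by omega : (1 : ℤ) ≤ 48 - g ∨ 48 - (g : ℤ) ≤ -1) with f | f <;>
      rcases (by omega : x ≤ -4000 ∨ 4000 ≤ x) with e | e <;> nlinarith
  obtain ⟨c, rfl⟩ : ∃ c : ℕ, a = -c := ⟨a.natAbs, by omega⟩
  have := Bool.and_eq_true_iff.mp (H17.GDA.of_allLt (H17.GDA.of_allLt (H17.GDA.of_allLt H17.GDA.chk_all
    (i := c) (by omega)) (i := x.natAbs / 100) (by omega)) (i := x.natAbs % 100) (by omega))
  simp only [Nat.add_eq, Nat.mul_eq, Nat.sub_eq, Nat.div_add_mod] at this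
  have hD : 0 < x ^ 2 + (14 * -c + 48) * x + (-c) ^ 2 := by
    have : 0 < x * (x - 1) := by rcases (by omega : x ≤ -1 ∨ 2 ≤ x) with e | e <;> nlinarith
    exact (pos_iff_pos_of_mul_pos (a := (g : ℤ)) (by rw [h]; linarith)).mp (by omega)
  obtain ⟨y, rfl | rfl⟩ := x.eq_nat_or_neg
  · rw [Int.natAbs_natCast] at this
    refine H17.GDA.of_chk this.1 (mul_ne_zero (by omega) (by omega)) ?_ hg
    zify [show 14 * c * y ≤ y * (y + 48) + c * c by nlinarith, show 1 ≤ y by omega]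
    linear_combination h
  · rw [Int.natAbs_neg, Int.natAbs_natCast] at this
    refine H17.GDA.of_chk this.2 (mul_ne_zero (by omega) (by omega)) ?_ hg
    zify [show 48 * y ≤ y * (y + 14 * c) + c * c by nlinarith]
    linear_combination h

end H4
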