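import Cfsg.Agent.H4.GD8
import Cfsg.Agent.H4.GDArith
import Cfsg.Agent.H18.Sieve2

/-!
`H4.GD`: the possible values of `|G : H|`.
-/

set_option autoImplicit false

open Cfsg H4

namespace H4

open Subgroup

theorem exists_central_of_pgroup {G : Type*} [Group G] [Finite G] {p : ℕ} [Fact p.Prime] {P : Subgroup G}
    (hP : IsPGroup p P) (hne : P ≠ ⊥) : ∃ z ∈ P, z ≠ 1 ∧ ∀ x ∈ P, x * z = z * x := by
  haveI := (nontrivial_iff_ne_bot P).2 hne
  haveI := hP.center_nontrivial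
  obtain ⟨⟨⟨z, hz⟩, hc⟩, h1⟩ := exists_ne (1 : center P)
  exact ⟨z, hz, fun e => h1 (Subtype.ext (Subtype.ext e)),
    fun x hx => congrArg Subtype.val (mem_center_iff.1 hc ⟨x, hx⟩)⟩

namespace GD

variable {G : Type*} [Group G] [Finite G] {N : NP} {D : GD G N}

theorem index_conj_H (D : GD G N) (g : G) : (D.conj g).H.index = D.H.index := by
  have h1 := (D.conj g).H.index_mul_card
  rw [← D.H.index_mul_card, (D.conj g).cH, D.card_conj_Z, ← D.cH] at h1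
  exact Nat.eq_of_mul_eq_mul_right Nat.card_pos h1

theorem small_Z (hd : N.m ∣ 3 * Nat.card D.Z) (hZ : Nat.card D.Z ∣ 2) :
    Nat.card D.Z = 2 ∧ ((N.ε = 1 ∧ N.q = 3) ∨ (N.ε = 1 ∧ N.q = 7) ∨ (N.ε = -1 ∧ N.q = 5)) := by
  have h1 := Nat.dvd_antisymm hZ D.two_dvd_Z
  rw [h1] at hd
  have h2 := Nat.le_of_dvd (by decide) hd
  have := N.cases
  have := N.three_le_q
  have := Nat.even_iff.1 N.m_even
  refine ⟨h1, ?_⟩
  generalize N.m = m at *
  interval_cases m <;> omega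

theorem Cfg.cent_W' (h : D.Cfg) (hd : N.m ∣ 3 * Nat.card D.Z) :
    ∀ y ∈ D.W, y ≠ 1 → ∀ g, g * y = y * g → g ∈ D.H := fun y hy hy1 g hg => by
  refine h.cent_W ?_ hy hy1 hg
  by_cases h2 : 2 < Nat.card D.Z
  · exact Or.inl h2
  have h3 : Nat.card D.Z = 2 := le_antisymm (not_lt.1 h2) (Nat.le_of_dvd D.Z_pos D.two_dvd_Z)
  have h4 := (small_Z hd (h3 ▸ dvd_rfl)).2
  have := N.cases
  refine Or.inr fun r hr hn => (Nat.prime_dvd_prime_iff_eq hr Nat.prime_two).1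
    (hr.dvd_of_dvd_pow (n := 3) (hn.trans ?_))
  have : N.n = 4 ∨ N.n = 8 := by omega
  rcases this with e | e <;> rw [e] <;> decide

theorem Cfg.not_fifteen (h : D.Cfg) {r : ℕ} (hr : r.Prime) (hr2 : r ≠ 2) (hZ : r ∣ Nat.card D.Z) {ρ : G}
    (h1 : ρ * D.t * ρ⁻¹ = D.u) : ¬ ∀ x ∈ D.T, Odd (orderOf x) → ρ * x = x * ρ := fun hc => by
  haveI := Fact.mk hr
  obtain ⟨⟨z, hz⟩, hz'⟩ := exists_prime_orderOf_dvd_card' (G := D.Z) r hZ
  have ho : orderOf z = r := by rwa [← orderOf_injective D.Z.subtype D.Z.subtype_injective] at hz'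
  exact D.u_ne_t (h1.symm.trans (D.conj_Z D.t_mem (h.cent_Z hz (ne_one_of_orderOf ho hr.one_lt.ne')
    (hc z (D.Z_le_T hz) (ho ▸ hr.odd_of_ne_two hr2)))))

theorem Cfg.prime_Z (h : D.Cfg) {r : ℕ} (hr : r.Prime) (hr2 : r ≠ 2) (hZ : r ∣ Nat.card D.Z) :
    ∃ c, ¬ r ∣ c ∧ D.H.index ∣ 3 * c := by
  haveI := Fact.mk hr
  let K : Subgroup G :=
    { carrier := {y | y ∈ D.T ∧ y ^ r = 1}
      one_mem' := ⟨one_mem _, one_pow _⟩
      mul_mem' := fun {a b} ha hb => ⟨mul_mem ha.1 hb.1, by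
        rw [Commute.mul_pow (D.T_comm a ha.1 b hb.1), ha.2, hb.2, one_mul]⟩
      inv_mem' := fun {a} ha => ⟨inv_mem ha.1, by rw [inv_pow, ha.2, inv_one]⟩ }
  obtain ⟨P, hP⟩ := IsPGroup.exists_le_sylow (p := r) (P := K) fun y => ⟨1, Subtype.ext (by simpa using y.2.2)⟩
  have key : ∀ E : GD G N, E.Cfg → E.T = D.T → Nat.card E.Z = Nat.card D.Z →
      (P : Subgroup G) ≠ ⊥ ∧ ∀ z, (∀ x ∈ P, x * z = z * x) → z * E.t = E.t * z := fun E hE hT hc => by
    obtain ⟨⟨y, hy⟩, hy'⟩ := exists_prime_orderOf_dvd_card' (G := E.Z) r (hc ▸ hZ)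
    have ho : orderOf y = r := by rwa [← orderOf_injective E.Z.subtype E.Z.subtype_injective] at hy'
    have h1 := ne_one_of_orderOf ho hr.one_lt.ne'
    have h2 : y ∈ P := hP ⟨hT ▸ E.Z_le_T hy, ho ▸ pow_orderOf_eq_one y⟩
    exact ⟨fun e => h1 (by simpa [e] using (show y ∈ (P : Subgroup G) from h2)),
      fun z hz => hE.full.mem_H.1 (hE.cent_Z hy h1 (hz y h2).symm)⟩
  obtain ⟨D', a⟩ := h.exists_adj
  obtain ⟨z, -, hz1, hz⟩ := exists_central_of_pgroup P.2 (key D h rfl rfl).1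
  have hT : z ∈ D.T := h.full.mem_T.2 ⟨(key D h rfl rfl).2 z hz, a.t ▸ (key D' a.cfg a.T a.cZ).2 z hz⟩
  refine ⟨(centralizer {z}).index, fun e => P.not_dvd_index
    (e.trans (index_dvd_of_le fun x hx => mem_cent.2 (hz x hx))), ?_⟩
  by_cases hg : ∃ g, z ∈ (D.conj g).Z
  · obtain ⟨g, hg⟩ := hg
    rw [show centralizer {z} = (D.conj g).H from le_antisymm
      (fun x hx => (h.conj g).cent_Z hg hz1 (mem_cent.1 hx))
      fun x hx => mem_cent.2 ((D.conj g).Z_comm z hg x hx).symm, index_conj_H]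
    exact Dvd.intro_left _ rfl
  have hi := relIndex_mul_index (show D.T ≤ centralizer {z} from fun y hy => mem_cent.2 (D.T_comm y hy z hT))
  rw [D.index_T] at hi
  rcases h.abc' hT fun g _ e => hg ⟨g, e⟩ with e | ⟨⟨ρ, hρ, h1, -⟩, e | e⟩
  · rw [e, D.index_T]; exact (Dvd.intro _ rfl).mul_left _
  · rw [← e.1, hi]; exact Dvd.intro _ rfl
  · exact absurd (fun x hx ho => e.2.2 x hx ho ρ hρ) (h.not_fifteen hr hr2 hZ h1)

theorem Cfg.three_dvd (h : D.Cfg) : 3 ∣ D.H.index * (N.q * N.n) := by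
  rw [← D.index_T, ← relIndex_mul_index h.full.T_le_C0, h.relIndex_C0]; exact Dvd.intro _ rfl

theorem card_eq (D : GD G N) : Nat.card G = D.H.index * (Nat.card D.Z * (N.q * N.m * N.n)) := by
  rw [← D.cH, index_mul_card]

theorem Cfg.g_list [IsSimpleGroup G] (h : D.Cfg) (hd : N.m ∣ 3 * Nat.card D.Z) :
    (D.H.index : ℤ) = N.q ^ 2 * (N.q ^ 2 + N.ε * N.q + 1) ∨
    (D.H.index : ℤ) = N.q * (N.q ^ 2 + N.ε * N.q - 1) * (N.q + 2 * N.ε) ∨
    (N.ε = -1 ∧ N.q = 5 ∧ (D.H.index = 45 ∨ D.H.index = 357 ∨ D.H.index = 621 ∨ D.H.index = 1365)) := by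
  haveI := Fintype.ofFinite G
  obtain ⟨k, hk⟩ := h.index_mod (h.cent_W' hd)
  have hc := D.card_eq
  have hN := N.cases
  rw [D.cW] at hk
  by_cases hn : N.n = 2
  · obtain ⟨hε, hq, hm⟩ : N.ε = -1 ∧ N.q = 3 ∧ N.m = 4 := by have := N.three_le_q; omega
    have hZ : Nat.card D.Z = 4 := Nat.dvd_antisymm (hm ▸ D.Z_dvd_m)
      (Nat.Coprime.dvd_of_dvd_mul_left (by decide) (hm ▸ hd))
    obtain ⟨x, a, h0, h1, h2, h3⟩ := h.order_three hn
    rw [hZ, hq, hn] at hk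
    rw [hZ, hq, hn, hm] at hc
    left
    rw [hε, hq]
    rcases g_three _ x a h0 h1 h2 h3 (by omega) with e | e | e | e | e | e | e <;> rw [e] at hc ⊢
    any_goals rfl
    all_goals exact absurd hc (H18.Sv.card_ne 200 (by norm_num) (by decide +kernel))
  obtain ⟨x, h0, h1, h2⟩ := h.order_formula hn
  obtain ⟨l, hl⟩ := D.two_dvd_Z
  have h3 := h.three_dvd
  have hq := N.ε_sq
  have fin : Nat.card D.Z ∣ 2 → ((D.H.index : ℤ) = (N.ε * N.q) ^ 2 * ((N.ε * N.q) ^ 2 - N.ε * N.q - 1) ∨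
      (D.H.index : ℤ) = ((N.ε * N.q) ^ 2 - 2) * ((N.ε * N.q) ^ 2 + N.ε * N.q - 1)) → False := by
    intro hZ e
    obtain ⟨hZ, ⟨hε, hq⟩ | ⟨hε, hq⟩ | ⟨hε, hq⟩⟩ := small_Z hd hZ <;> rw [hε, hq] at e <;> norm_num at e
    · rw [hZ, hq, show N.m = 2 by omega, show N.n = 4 by omega] at hc
      rcases e with e | e
      · exact H18.Sv.card_ne (n := 2160) 200 (by norm_num) (by decide +kernel) (by rw [hc]; omega)
      · exact H18.Sv.card_ne (n := 3696) 200 (by norm_num) (by decide +kernel) (by rw [hc]; omega)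
    · rw [hq, show N.n = 8 by omega] at h3; omega
    · rw [hq, show N.n = 4 by omega] at h3; omega
  have hn0 : (N.n : ℤ) ≠ 0 := by have := N.two_le_n; omega
  have hk' : (D.H.index : ℤ) = 1 + N.q * N.n + Nat.card D.Z * N.n * k := by exact_mod_cast hk
  obtain ⟨c, hc'⟩ := D.Z_dvd_m
  have hm : (N.q : ℤ) - N.ε = Nat.card D.Z * c := by rw [← N.hm]; exact_mod_cast hc'
  have hn' := N.hn
  rcases N.g_cases _ x h0 h1 h2 (Int.modEq_iff_dvd.2 ⟨-(l * k), by rw [hk', hl]; push_cast; ring⟩)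
    (fun r hr h5 hm e => by
      have h6 : ¬ r ∣ 3 := fun e => by have := Nat.le_of_dvd (by decide) e; omega
      obtain ⟨c, h7, h8⟩ := h.prime_Z hr (by omega) ((hr.dvd_mul.1 (hm.trans hd)).resolve_left h6)
      exact (hr.dvd_mul.1 (e.trans h8)).elim h6 h7)
    (fun hm e => by
      obtain ⟨c, h7, h8⟩ := h.prime_Z Nat.prime_three (by decide)
        (Nat.dvd_of_mul_dvd_mul_left (by decide : 0 < 3) (hm.trans hd))
      exact h7 (Nat.dvd_of_mul_dvd_mul_left (by decide : 0 < 3) (e.trans h8))) with e | e | e | e | e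
  · exact Or.inr (Or.inl (by rcases N.hε with e' | e' <;> rw [e, e'] <;> ring))
  · refine (fin (Int.natCast_dvd_natCast.1 ⟨c * (N.ε * N.q ^ 2 - N.q - N.ε) - N.ε * k, ?_⟩)
      (Or.inl e)).elim
    refine mul_left_cancel₀ hn0 ?_
    rw [hk'] at e
    rw [hn'] at e ⊢
    rcases N.hε with e' | e' <;> rw [e'] at e hm ⊢
    · linear_combination e + (N.q + 1) * (N.q ^ 2 - N.q - 1) * hm
    · linear_combination -e + (N.q - 1) * (-N.q ^ 2 - N.q + 1) * hm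
  · exact Or.inl (by rcases N.hε with e' | e' <;> rw [e, e'] <;> ring)
  · refine (fin (Int.natCast_dvd_natCast.1 ⟨c * (N.ε * N.q ^ 2 + N.q - 3 * N.ε) - N.ε * k, ?_⟩)
      (Or.inr e)).elim
    refine mul_left_cancel₀ hn0 ?_
    rw [hk'] at e
    rw [hn'] at e ⊢
    rcases N.hε with e' | e' <;> rw [e'] at e hm ⊢
    · linear_combination e + (N.q + 1) * (N.q ^ 2 + N.q - 3) * hm
    · linear_combination -e + (N.q - 1) * (-N.q ^ 2 + N.q + 3) * hm
  · have := N.three_le_q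
    rcases N.hε with e' | e' <;> rw [e'] at e
    · omega
    · exact Or.inr (Or.inr ⟨e', by omega, e.2⟩)

end GD

end H4
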