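import Mathlib
import Cfsg.Agent.H19.Z0
import Cfsg.Agent.H4.LR1

/-! Rigidity of the even cocode. -/

set_option autoImplicit false
set_option linter.all false

open Cfsg H9 H10 H10.Mon H10.Mon.MG
open scoped symmDiff Pointwise

namespace H4.LR

theorem lrw (f : C → C) (add : ∀ c d, c.1 = 0 → d.1 = 0 → Eo (f (c + d)) (f c + f d))
    (inj : ∀ c, c.1 = 0 → Eo (f c) 0 → Eo c 0) (sh : ∀ c, Sh0 c → Sh0 (f c)) :
    ∃ h ∈ N0, ∀ c, c.1 = 0 → Eo (f c) (h • c) := by
  let F : C →+ C := AddMonoidHom.mk' (fun c => pr (f (0, c.2))) fun c d => by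
    rw [← map_add, ← pr_or (add (0, c.2) (0, d.2) rfl rfl)]
    exact congrArg (fun c => pr (f c)) (Prod.ext (add_zero _).symm rfl)
  have e : ∀ {c : C}, c.1 = 0 → F c = pr (f c) := fun {c} h =>
    congrArg (fun c => pr (f c)) (Prod.ext h.symm rfl)
  have ns : ∀ {c : C}, Sh0 c → pr c ≠ 0 := fun {c} h k => (pr_zero k).elim (S_ne_zero (toS _ h.1))
    fun l => not_isS_Om (l ▸ h.1)
  have hO : F Om = 0 := by
    by_contra n
    have p1 : ∀ c, (pr c).1 = c.1 := fun c => by
      change c.1 + c.2 11 • Om.1 = _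
      rw [Om_fst, smul_zero, add_zero]
    have p2 : ∀ c, (pr c).2 11 = 0 := fun c => by
      change c.2 11 + c.2 11 * Om.2 11 = _
      rw [show Om.2 11 = 1 by rw [Om_eq]; rfl, mul_one, zz2]
    have f0 : ∀ u : K, (F (0, u)).1 = 0 := fun u => span_sh0 ((AddMonoidHom.fst K K).comp F).ker
      (fun c hc => show (F c).1 = 0 by rw [e hc.2, p1, (sh c hc).2]) rfl
    obtain ⟨u, hu⟩ := Finite.injective_iff_surjective.1
      (show Function.Injective fun u : K => (F (0, u)).2 from fun u v l => by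
        have k : F ((0, u) + (0, v)) = 0 := by
          rw [map_add, show F (0, u) = F (0, v) from Prod.ext ((f0 u).trans (f0 v).symm) l, cc2]
        have z : (((0, u) : C) + (0, v)).1 = 0 := add_zero _
        rcases inj _ z (pr_eq ((e z).symm.trans (k.trans (map_zero _).symm))) with m | m
        · exact congrArg Prod.snd (add_eq_zero_C.1 m)
        · rw [m, zero_add] at k; exact absurd k n) 1
    exact zero_ne_one ((p2 _).symm.trans (congrFun hu 11))
  have pair : ∀ {p q : P}, p ≠ q → ∃ T : Finset P, T.card = 2 ∧ F (D p q) = SM T := fun h => by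
    obtain ⟨r, s, n, k⟩ := sh0_ex (sh _ (sh0_D h))
    exact ⟨{r, s}, Finset.card_pair n, by rw [e (D_fst _ _), pr_or k, SM_pair n]⟩
  have pF : ∀ p q, F (D p q) = F (D p none) + F (D q none) := fun p q => by
    rw [D_eq, map_add, map_add, hO, add_zero]
  choose! T T1 T2 using fun p (h : p ≠ none) => pair h
  obtain ⟨o, ho⟩ := common T T1 fun p q h1 h2 h3 => by
    obtain ⟨U, U1, U2⟩ := pair h3
    have k := card_symmDiff_add (T p) (T q)
    rw [T1 p h1, T1 q h2] at k
    rw [pF, T2 p h1, T2 q h2, ← SM_symmDiff] at U2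
    rw [SM_inj (by omega) (by omega) U2] at k
    omega
  have ex : ∀ p, ∃ r, (p = none → r = o) ∧ F (D p none) = dl r + dl o := fun p => by
    by_cases h : p = none
    · exact ⟨o, fun _ => rfl, by rw [h, D_self, hO, cc2]⟩
    obtain ⟨a, b, n, k⟩ := Finset.card_eq_two.1 (T1 p h)
    have := ho p h
    rw [k, Finset.mem_insert, Finset.mem_singleton] at this
    rw [T2 p h, k, SM, Finset.sum_pair n]
    rcases this with rfl | rfl
    exacts [⟨b, fun e => absurd e h, add_comm _ _⟩, ⟨a, fun e => absurd e h, rfl⟩]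
  choose π π1 π2 using ex
  have ij : Function.Injective π := fun p q l => by_contra fun n =>
    ns (sh _ (sh0_D n)) (by rw [← e (D_fst _ _), pF, π2, π2, l, cc2])
  have hM : Equiv.ofBijective π (Finite.injective_iff_bijective.1 ij) ∈ M24 :=
    mem_M24_iff.2 fun S hS => by
      have hc : S.card % 2 = 0 := by have := card_of_mem_GC hS; omega
      refine mem_GC_of (by rwa [Finset.card_smul_finset]) ?_
      have k := congrArg F (sum_D hS)
      simp only [map_sum, map_zero, π2, Finset.sum_add_distrib, Finset.sum_const] at k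
      rw [show S.card = 2 * (S.card / 2) by omega, mul_nsmul, two_nsmul, cc2, nsmul_zero,
        add_zero] at k
      exact (Finset.sum_image fun a _ b _ e => ij e).trans k
  have hs : permHom ⟨_, hM⟩ • Om = Om := fix_Om.2 (LFt.perm_mem _)
  have k2 : ∀ p q, F (D p q) = pr (permHom ⟨_, hM⟩ • D p q) := fun p q => by
    rw [perm_D, pr_D, pF, π2, π2, add_add_add_comm, cc2, add_zero]; rfl
  refine ⟨permHom ⟨_, hM⟩, LFt.perm_mem _, fun c hc => pr_eq ((e hc).symm.trans (span_sh0
    (F.eqLocus (pr.comp (DistribSMul.toAddMonoidHom C (permHom ⟨_, hM⟩)))) (fun c hc => ?_) hc))⟩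
  change F c = pr (permHom ⟨_, hM⟩ • c)
  obtain ⟨p, q, -, rfl | rfl⟩ := sh0_ex hc
  · exact k2 p q
  · rw [map_add, smul_add, map_add, k2, hO, hs, pr_Om]

end H4.LR
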