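import Mathlib
import Cfsg.Agent.H27.PF4
import Cfsg.Agent.H27.PF8a

/-!
# Bridges from the frozen vocabulary of Peterfalvi §3, §4 to the ambient vocabulary
-/

set_option autoImplicit false
set_option linter.unusedSectionVars false

namespace H4
namespace PFW

open _root_.Cfsg H24 H27

universe u

variable {G : Type u} [Group G] [Finite G] {W W₁ W₂ K : Subgroup G}

/-- a linear character as a function on the ambient group. -/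
noncomputable def lc (ω : W →* ℂˣ) : G → ℂ := extendByZero W (fun x => (ω x : ℂ))

@[simp] theorem lc_coe (ω : W →* ℂˣ) (w : W) : lc ω w = ω w := ext0_coe _ w
theorem lc_of_mem (ω : W →* ℂˣ) {x : G} (hx : x ∈ W) : lc ω x = ω ⟨x, hx⟩ := ext0_of_mem _ hx
theorem lc_lin (ω : W →* ℂˣ) : IsLin W (lc ω) := isLin_ext0 ω
theorem lc_irr (ω : W →* ℂˣ) : lc ω ∈ Irr W := (lc_lin ω).irr
theorem lc_inj {ω ω' : W →* ℂˣ} : lc ω = lc ω' ↔ ω = ω' :=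
  ⟨fun h => MonoidHom.ext fun w => Units.ext (by rw [← lc_coe, ← lc_coe, h]), fun h => by rw [h]⟩
theorem lc_mul (ω ω' : W →* ℂˣ) : lc (ω * ω') = lc ω * lc ω' :=
  CF_ext (irr_CF (lc_irr _)) (mul_mem_CF (irr_CF (lc_irr _)) (irr_CF (lc_irr _))) fun x hx => by
    simp [lc_of_mem _ hx]
theorem lc_one : lc (1 : W →* ℂˣ) = cfOne W :=
  CF_ext (irr_CF (lc_irr _)) (cfOne_mem_CF W) fun x hx => by
    simp [lc_of_mem _ hx, cfOne_of_mem hx]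
theorem lc_ne_one {ω : W →* ℂˣ} (h : ω ≠ 1) : lc ω ≠ cfOne W := by
  rw [← lc_one]; exact fun e => h (lc_inj.mp e)
theorem exists_lc (ha : Abl W) {χ : G → ℂ} (hχ : χ ∈ Irr W) : ∃ ω : W →* ℂˣ, χ = lc ω :=
  (irr_lin_of_abl ha hχ).exists_hom
theorem lc_mem_irrK (hK : K ≤ W) {ω : W →* ℂˣ} :
    lc ω ∈ irrK W K ↔ ∀ w : W, (w : G) ∈ K → ω w = 1 := by
  rw [mem_irrK]
  constructor
  · intro h w hw
    have := ((lc_lin ω).mem_cfker.mp (h.2 hw)).2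
    rw [lc_coe] at this
    exact Units.ext this
  · intro h
    exact ⟨lc_irr ω, fun x hx => (lc_lin ω).mem_cfker.mpr ⟨hK hx, by
      rw [lc_of_mem _ (hK hx), h _ hx]; rfl⟩⟩

theorem cfInd_top_eq {G : Type u} [Group G] [Fintype G] {W : Subgroup G} {φ : G → ℂ} {f : W → ℂ}
    (h : ∀ w : W, φ w = f w) : cfInd ⊤ W φ = indFun W f := by
  rw [cfInd_top]; congr 1; exact funext h

theorem alpha_apply (φ ψ : W →* ℂˣ) (w : W) :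
    (cfOne W - lc φ - lc ψ + lc φ * lc ψ) w = 1 - (φ w : ℂ) - (ψ w : ℂ) + (φ w : ℂ) * (ψ w : ℂ) := by
  simp [cfOne_of_mem w.2]

theorem cfOne_top : cfOne (⊤ : Subgroup G) = fun _ => 1 := funext cfOne_top_apply

theorem isDirr_top {φ : G → ℂ} : IsDirr ⊤ φ ↔ IsIrrCharacter G φ ∨ IsIrrCharacter G (-φ) := by
  rw [IsDirr, mem_Irr_top, mem_Irr_top]

theorem snc_dp (h : IsSelfNormalizingCyclic W₁ W₂) : DP W₁ W₂ (W₁ ⊔ W₂) :=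
  DP.mk_sup (fun b hb => mem_C.2 fun a ha => h.2.2.2.1 a ha b hb) h.2.2.1

theorem snc_abl (h : IsSelfNormalizingCyclic W₁ W₂) : Abl (W₁ ⊔ W₂) := Cyc.abl h.2.2.2.2.1

theorem snc_nti (h : IsSelfNormalizingCyclic W₁ W₂) : NTI ⊤ (W₁ ⊔ W₂) (cycV (W₁ ⊔ W₂) W₁ W₂) :=
  nti_of_normedTI ((cycV_eq_Zhat (snc_dp h)).symm ▸ selfNorm_normedTI h)

theorem snc_cyclicTI (h : IsSelfNormalizingCyclic W₁ W₂) (hodd : Odd (Nat.card ↥(W₁ ⊔ W₂))) :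
    CyclicTI ⊤ (W₁ ⊔ W₂) W₁ W₂ :=
  ⟨snc_dp h, h.2.2.2.2.1, hodd, h.1, h.2.1, le_top, (snc_nti h).ti⟩

/-- the isometry attached to a family. -/
theorem family_iso {G : Type u} [Group G] [Fintype G] {W₁ W₂ : Subgroup G}
    (h : IsSelfNormalizingCyclic W₁ W₂) {χ : (↥(W₁ ⊔ W₂) →* ℂˣ) → (G → ℂ)}
    (hχ : IsCyclicTIFamily W₁ W₂ χ) :
    ∃ σ, IsCycIso ⊤ (W₁ ⊔ W₂) (cycV (W₁ ⊔ W₂) W₁ W₂) σ ∧ ∀ ω, σ (lc ω) = χ ω := by
  classical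
  choose! p hp using fun ω (hω : ω ∈ Irr (W₁ ⊔ W₂)) => exists_lc (snc_abl h) hω
  let σ := orthMap (W₁ ⊔ W₂) (Irr (W₁ ⊔ W₂)) (fun ω => χ (p ω))
  have hσ : ∀ ω, σ (lc ω) = χ ω := fun ω => by
    rw [orthMap_apply (irr_orthon _).2 _ (lc_irr ω)
      (by rw [irr_dot_self (lc_irr ω)]; exact one_ne_zero), ← lc_inj.mp (hp _ (lc_irr ω))]
  refine ⟨σ, ⟨ZIsom.of_gen (fun a ha b hb => ?_) fun a ha => ?_, ?_, fun a ha x hx => ?_⟩, hσ⟩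
  · obtain ⟨a, rfl⟩ := exists_lc (snc_abl h) ha
    obtain ⟨b, rfl⟩ := exists_lc (snc_abl h) hb
    rw [hσ, hσ, cfdot_top, hχ.orthonormal, irr_dot ha hb]
    simp only [lc_inj]; congr
  · obtain ⟨a, rfl⟩ := exists_lc (snc_abl h) ha
    rw [hσ]; exact (isDirr_top.mpr (hχ.irr_or_neg a)).vchar
  · rw [← lc_one, hσ, hχ.map_one, cfOne_top]
  · obtain ⟨a, rfl⟩ := exists_lc (snc_abl h) ha
    rw [hσ, lc_of_mem _ hx.1]
    exact hχ.eq_on a ⟨x, hx.1⟩ hx.2.1 hx.2.2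

theorem family_eq {G : Type u} [Group G] [Fintype G] {W₁ W₂ : Subgroup G}
    (h : IsSelfNormalizingCyclic W₁ W₂) (hodd : Odd (Nat.card ↥(W₁ ⊔ W₂)))
    {χ : (↥(W₁ ⊔ W₂) →* ℂˣ) → (G → ℂ)} (hχ : IsCyclicTIFamily W₁ W₂ χ) (ω : ↥(W₁ ⊔ W₂) →* ℂˣ) :
    χ ω = cycIso ⊤ (W₁ ⊔ W₂) W₁ W₂ (lc ω) :=
  (snc_cyclicTI h hodd).eq_in_iso (lc_irr ω) (isDirr_top.mpr (hχ.irr_or_neg ω)) fun x hx => by
    rw [lc_of_mem _ hx.1]; exact hχ.eq_on ω ⟨x, hx.1⟩ hx.2.1 hx.2.2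

theorem primeTI_top {K W₁ W₂ : Subgroup G} [hK : K.Normal] (hKW₁ : K ⊓ W₁ = ⊥)
    (hKW₁' : K ⊔ W₁ = ⊤) (hW₁ : W₁ ≠ ⊥) (hW₁c : IsCyclic W₁)
    (hHall : Nat.Coprime (Nat.card W₁) W₁.index) (hW₂ : W₂ ≠ ⊥) (hW₂c : IsCyclic W₂)
    (hW₂K : W₂ ≤ K) (hC : ∀ x ∈ W₁, x ≠ 1 → K ⊓ Subgroup.centralizer ({x} : Set G) = W₂)
    (hodd : Odd (Nat.card ↥(W₁ ⊔ W₂))) : PrimeTI ⊤ K (W₁ ⊔ W₂) W₁ W₂ :=
  ⟨⟨norm_of_normal W₁ K, hKW₁, hKW₁'⟩, hW₁, ⟨le_top, by rwa [Subgroup.relIndex_top_right]⟩, hW₁c,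
    hW₂, hW₂K, hW₂c, hC, DP.mk_sup (fun b hb => mem_C.2 fun a ha => by
      by_cases h1 : a = 1
      · simp [h1]
      · exact (mem_C1.mp ((hC a ha h1).ge hb).2).symm)
      (eq_bot_of_le hKW₁ fun x hx => ⟨hW₂K hx.2, hx.1⟩), hodd⟩

theorem cfConj_ext0_eq_iff {K : Subgroup G} [hK : K.Normal] (θ : K → ℂ) (x : G) :
    cfConj x (extendByZero K θ) = extendByZero K θ ↔
      (fun k : K => θ ⟨x * k * x⁻¹, hK.conj_mem (k : G) k.2 x⟩) = θ := by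
  constructor
  · intro h; funext k
    have := congrFun h k
    rwa [cfConj_apply, ext0_coe, ext0_of_mem _ (hK.conj_mem (k : G) k.2 x)] at this
  · intro h; funext y
    by_cases hy : y ∈ K
    · rw [cfConj_apply, ext0_of_mem _ hy, ext0_of_mem _ (hK.conj_mem y hy x)]
      exact congrFun h ⟨y, hy⟩
    · rw [cfConj_apply, ext0_of_not_mem _ hy, ext0_of_not_mem]
      intro h2
      exact hy (by simpa [mul_assoc] using hK.conj_mem _ h2 x⁻¹)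

end PFW
end H4
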